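import Groth.Prelude.Def_HopfRep
import Groth.Prelude.Def_Hoch
import Groth.Prelude.Def_ComodSub
import Mathlib.RingTheory.Coalgebra.Convolution
import Mathlib.RingTheory.SimpleModule.Basic
import Mathlib.LinearAlgebra.TensorProduct.Finiteness
import Mathlib.RingTheory.Noetherian.Basic

/-!
# Comodules as modules over the dual convolution algebra

A right comodule `V` over a coalgebra `A` is a left module over `Dual k A = WithConv (A →ₗ[k] k)`;
for `A` free, subcomodules are the same as submodules and comodule maps are the same as linear maps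
over `Dual k A`.
-/

universe u v w w'

noncomputable section

open TensorProduct WithConv

namespace Groth.Agent.Comod

open HopfRep

section General

variable {k : Type u} [CommRing k] {A : Type v} [AddCommGroup A] [Module k A]
variable {V : Type w} [AddCommGroup V] [Module k V] {W : Type w'} [AddCommGroup W] [Module k W]

/-- `id ⊗ φ` followed by `V ⊗ k ≅ V`. -/
def slice (φ : A →ₗ[k] k) : V ⊗[k] A →ₗ[k] V :=
  (TensorProduct.rid k V).toLinearMap ∘ₗ φ.lTensor V

@[simp] theorem slice_tmul (φ : A →ₗ[k] k) (v : V) (a : A) : slice φ (v ⊗ₜ a) = φ a • v := by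
  simp [slice]

theorem slice_rTensor (φ : A →ₗ[k] k) (f : V →ₗ[k] W) (x : V ⊗[k] A) :
    slice φ (f.rTensor A x) = f (slice φ x) := by
  induction x using TensorProduct.induction_on with
  | zero => simp
  | tmul v a => simp
  | add x y hx hy => simp [hx, hy]

theorem slice_mem_of_mem_range (φ : A →ₗ[k] k) (U : Submodule k V) {x : V ⊗[k] A}
    (hx : x ∈ LinearMap.range (U.subtype.rTensor A)) : slice φ x ∈ U := by
  obtain ⟨y, rfl⟩ := hx
  rw [slice_rTensor]
  exact Subtype.prop _

theorem eq_zero_of_slice [Module.Free k A] (x : V ⊗[k] A) (h : ∀ φ : A →ₗ[k] k, slice φ x = 0) :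
    x = 0 := by
  classical
  let b := Module.Free.chooseBasis k A
  apply (TensorProduct.equivFinsuppOfBasisRight b).injective
  ext i
  have key : ∀ y : V ⊗[k] A, TensorProduct.equivFinsuppOfBasisRight b y i = slice (b.coord i) y := by
    intro y
    induction y using TensorProduct.induction_on with
    | zero => simp
    | tmul v a => simp
    | add x y hx hy => simp [hx, hy]
  simp [key, h]

theorem mem_range_iff_slice [Module.Free k A] (U : Submodule k V) (x : V ⊗[k] A) :
    x ∈ LinearMap.range (U.subtype.rTensor A) ↔ ∀ φ : A →ₗ[k] k, slice φ x ∈ U := by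
  refine ⟨fun hx φ => slice_mem_of_mem_range φ U hx, fun h => ?_⟩
  have hex : Function.Exact U.subtype U.mkQ := LinearMap.exact_subtype_mkQ U
  have := rTensor_exact A hex U.mkQ_surjective
  refine (this x).1 (eq_zero_of_slice _ fun φ => ?_)
  rw [slice_rTensor]
  exact (Submodule.Quotient.mk_eq_zero U).2 (h φ)

variable [Coalgebra k A] [HopfRep.Comod k A V] [HopfRep.Comod k A W]

/-- The coaction contracted with a linear form. -/
def contract (φ : A →ₗ[k] k) : V →ₗ[k] V := slice φ ∘ₗ HopfRep.Comod.coact (k := k) (A := A)

theorem contract_apply (φ : A →ₗ[k] k) (v : V) :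
    contract φ v = slice φ (HopfRep.Comod.coact (k := k) (A := A) v) := rfl

theorem contract_counit (v : V) : contract (Coalgebra.counit (R := k) (A := A)) v = v := by
  have h := LinearMap.congr_fun (HopfRep.Comod.counit_comp (k := k) (A := A) (V := V)) v
  simp only [LinearMap.comp_apply, LinearMap.flip_apply, TensorProduct.mk_apply] at h
  simp [contract, slice, h]

theorem contract_contract (φ ψ : A →ₗ[k] k) (v : V) :
    contract φ (contract ψ v) = contract (toConv φ * toConv ψ).ofConv v := by
  have h := LinearMap.congr_fun (HopfRep.Comod.coassoc (k := k) (A := A) (V := V)) v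
  simp only [LinearMap.comp_apply, LinearEquiv.coe_coe] at h
  have h1 : ∀ x : V ⊗[k] A, HopfRep.Comod.coact (k := k) (A := A) (slice ψ x) =
      slice ψ ((HopfRep.Comod.coact (k := k) (A := A) (V := V)).rTensor A x) := by
    intro x; rw [slice_rTensor]
  have h2 : ∀ y : (V ⊗[k] A) ⊗[k] A, slice φ (slice ψ y) =
      slice (LinearMap.mul' k k ∘ₗ TensorProduct.map φ ψ) (TensorProduct.assoc k V A A y) := by
    intro y
    induction y using TensorProduct.induction_on with
    | zero => simp
    | add x y hx hy => simp [hx, hy]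
    | tmul z b =>
      induction z using TensorProduct.induction_on with
      | zero => simp
      | add x y hx hy =>
        simp only [TensorProduct.add_tmul, map_add, hx, hy]
      | tmul v a => simp [mul_smul, smul_comm (φ a)]
  rw [contract_apply, contract_apply, h1, h2, h, contract_apply, slice, slice]
  simp only [LinearMap.comp_apply]
  rw [← LinearMap.lTensor_comp_apply]
  rfl

variable (k A) in
/-- The dual algebra of a coalgebra. -/
abbrev Dual : Type max u v := WithConv (A →ₗ[k] k)

instance dualModule : Module (Dual k A) V where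
  smul φ v := contract φ.ofConv v
  one_smul v := by
    change contract _ v = v
    have h : (1 : Dual k A).ofConv = Coalgebra.counit (R := k) (A := A) := by
      ext a
      simp
    rw [h, contract_counit]
  mul_smul φ ψ v := (contract_contract φ.ofConv ψ.ofConv v).symm
  smul_zero φ := map_zero _
  smul_add φ := map_add _
  add_smul φ ψ v := by
    change contract _ v = contract _ v + contract _ v
    simp [contract, slice, LinearMap.lTensor_add]
  zero_smul v := by
    change contract _ v = 0
    simp [contract, slice]

theorem smul_def (φ : Dual k A) (v : V) : φ • v = contract φ.ofConv v := rfl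

instance dualTower : IsScalarTower k (Dual k A) V where
  smul_assoc c φ v := by
    simp [smul_def, contract, slice, LinearMap.lTensor_smul]

/-- a comodule map is linear over the dual algebra -/
theorem map_contract {f : V →ₗ[k] W} (hf : Hoch.IsComodHom A f) (φ : A →ₗ[k] k) (v : V) :
    f (contract φ v) = contract φ (f v) := by
  have h := LinearMap.congr_fun hf v
  simp only [LinearMap.comp_apply] at h
  rw [contract_apply, contract_apply, h, slice_rTensor]

theorem isComodHom_iff [Module.Free k A] {f : V →ₗ[k] W} :
    Hoch.IsComodHom A f ↔ ∀ (φ : A →ₗ[k] k) (v : V), f (contract φ v) = contract φ (f v) := by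
  refine ⟨map_contract, fun h => LinearMap.ext fun v => ?_⟩
  rw [← sub_eq_zero]
  refine eq_zero_of_slice _ fun φ => ?_
  rw [map_sub, sub_eq_zero, LinearMap.comp_apply, LinearMap.comp_apply, slice_rTensor]
  exact (h φ v).symm

/-- A comodule map as a linear map over the dual algebra. -/
def homToDual (f : V →ₗ[k] W) (hf : Hoch.IsComodHom A f) : V →ₗ[Dual k A] W where
  toFun := f
  map_add' := map_add f
  map_smul' φ v := map_contract hf φ.ofConv v

@[simp] theorem homToDual_apply (f : V →ₗ[k] W) (hf : Hoch.IsComodHom A f) (v : V) :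
    homToDual f hf v = f v := rfl

theorem isComodHom_restrictScalars [Module.Free k A] (f : V →ₗ[Dual k A] W) :
    Hoch.IsComodHom A (f.restrictScalars k) :=
  isComodHom_iff.2 fun φ v => f.map_smul (toConv φ) v

theorem contract_mem {U : Submodule k V} (hU : IsSubcomod (k := k) (A := A) U) (φ : A →ₗ[k] k)
    {v : V} (hv : v ∈ U) : contract φ v ∈ U :=
  slice_mem_of_mem_range φ U (hU v hv)

theorem isSubcomod_iff [Module.Free k A] {U : Submodule k V} :
    IsSubcomod (k := k) (A := A) U ↔ ∀ (φ : A →ₗ[k] k), ∀ v ∈ U, contract φ v ∈ U :=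
  ⟨fun h φ _ hv => contract_mem h φ hv, fun h v hv => (mem_range_iff_slice U _).2 fun φ => h φ v hv⟩

/-- A subcomodule as a submodule over the dual algebra. -/
def toSub (U : Submodule k V) (hU : IsSubcomod (k := k) (A := A) U) : Submodule (Dual k A) V where
  carrier := U
  add_mem' := U.add_mem
  zero_mem' := U.zero_mem
  smul_mem' φ _ hv := contract_mem hU φ.ofConv hv

@[simp] theorem mem_toSub (U : Submodule k V) (hU : IsSubcomod (k := k) (A := A) U) (v : V) :
    v ∈ toSub U hU ↔ v ∈ U := Iff.rfl

@[simp] theorem restrictScalars_toSub (U : Submodule k V) (hU : IsSubcomod (k := k) (A := A) U) :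
    (toSub U hU).restrictScalars k = U := rfl

section Free

variable [Module.Free k A]

theorem isSubcomod_restrictScalars (M : Submodule (Dual k A) V) :
    IsSubcomod (k := k) (A := A) (M.restrictScalars k) :=
  isSubcomod_iff.2 fun φ _ hv => M.smul_mem (toConv φ) hv

theorem isSubcomod_iff_exists {U : Submodule k V} :
    IsSubcomod (k := k) (A := A) U ↔ ∃ M : Submodule (Dual k A) V, M.restrictScalars k = U :=
  ⟨fun h => ⟨toSub U h, rfl⟩, fun ⟨M, hM⟩ => hM ▸ isSubcomod_restrictScalars M⟩

theorem isSubcomod_bot : IsSubcomod (k := k) (A := A) (⊥ : Submodule k V) :=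
  isSubcomod_iff_exists.2 ⟨⊥, by simp⟩

theorem isSubcomod_top : IsSubcomod (k := k) (A := A) (⊤ : Submodule k V) :=
  isSubcomod_iff_exists.2 ⟨⊤, by simp⟩

theorem isSubcomod_iSup {ι : Sort*} {U : ι → Submodule k V}
    (h : ∀ i, IsSubcomod (k := k) (A := A) (U i)) : IsSubcomod (k := k) (A := A) (⨆ i, U i) := by
  refine isSubcomod_iff.2 fun φ v hv => ?_
  induction hv using Submodule.iSup_induction' with
  | mem i x hx => exact Submodule.mem_iSup_of_mem i (contract_mem (h i) φ hx)
  | zero => simp
  | add x y _ _ hx hy => rw [map_add]; exact add_mem hx hy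

theorem isSubcomod_sup {U U' : Submodule k V} (h : IsSubcomod (k := k) (A := A) U)
    (h' : IsSubcomod (k := k) (A := A) U') : IsSubcomod (k := k) (A := A) (U ⊔ U') :=
  isSubcomod_iff_exists.2 ⟨toSub U h ⊔ toSub U' h', by simp [Submodule.restrictScalars_sup]⟩

theorem isSubcomod_inf {U U' : Submodule k V} (h : IsSubcomod (k := k) (A := A) U)
    (h' : IsSubcomod (k := k) (A := A) U') : IsSubcomod (k := k) (A := A) (U ⊓ U') :=
  isSubcomod_iff.2 fun φ _ hv => ⟨contract_mem h φ hv.1, contract_mem h' φ hv.2⟩

theorem isSubcomod_ker {f : V →ₗ[k] W} (hf : Hoch.IsComodHom A f) :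
    IsSubcomod (k := k) (A := A) (LinearMap.ker f) :=
  isSubcomod_iff.2 fun φ v hv => by
    rw [LinearMap.mem_ker] at hv ⊢
    rw [map_contract hf, hv, map_zero]

theorem isSubcomod_range {f : V →ₗ[k] W} (hf : Hoch.IsComodHom A f) :
    IsSubcomod (k := k) (A := A) (LinearMap.range f) :=
  isSubcomod_iff.2 fun φ _ ⟨v, hv⟩ => ⟨contract φ v, by rw [map_contract hf, hv]⟩

theorem isSubcomod_map {f : V →ₗ[k] W} (hf : Hoch.IsComodHom A f) {U : Submodule k V}
    (hU : IsSubcomod (k := k) (A := A) U) : IsSubcomod (k := k) (A := A) (U.map f) :=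
  isSubcomod_iff.2 fun φ _ ⟨v, hv, hv'⟩ => ⟨contract φ v, contract_mem hU φ hv, by
    rw [map_contract hf, hv']⟩

theorem isSubcomod_comap {f : V →ₗ[k] W} (hf : Hoch.IsComodHom A f) {U : Submodule k W}
    (hU : IsSubcomod (k := k) (A := A) U) : IsSubcomod (k := k) (A := A) (U.comap f) :=
  isSubcomod_iff.2 fun φ v hv => by
    rw [Submodule.mem_comap] at hv ⊢
    rw [map_contract hf]
    exact contract_mem hU φ hv

variable (k A V) in
theorem isSimpleComod_iff : IsSimpleComod k A V ↔ IsSimpleModule (Dual k A) V := by
  constructor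
  · rintro ⟨hnt, h⟩
    exact
      { eq_bot_or_eq_top := fun M =>
          (h _ (isSubcomod_restrictScalars M)).imp (fun e => by simpa using e) fun e => by simpa using e }
  · intro h
    refine ⟨IsSimpleModule.nontrivial (Dual k A) V, fun U hU => ?_⟩
    refine (eq_bot_or_eq_top (toSub U hU)).imp (fun e => ?_) fun e => ?_
    · rw [← restrictScalars_toSub U hU, e, Submodule.restrictScalars_bot]
    · rw [← restrictScalars_toSub U hU, e, Submodule.restrictScalars_top]

variable (k A V) in
theorem isSemisimpleComod_iff : IsSemisimpleComod k A V ↔ IsSemisimpleModule (Dual k A) V := by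
  constructor
  · intro h
    refine (isSemisimpleModule_iff _ _).2 ⟨fun M => ?_⟩
    obtain ⟨U', hU', hc⟩ := h _ (isSubcomod_restrictScalars M)
    refine ⟨toSub U' hU', ?_, ?_⟩
    · rw [disjoint_iff, ← Submodule.restrictScalars_inj k, Submodule.restrictScalars_inf]
      simpa using hc.inf_eq_bot
    · rw [codisjoint_iff, ← Submodule.restrictScalars_inj k, Submodule.restrictScalars_sup]
      simpa using hc.sup_eq_top
  · intro h U hU
    obtain ⟨M', hM'⟩ := exists_isCompl (toSub U hU)
    refine ⟨M'.restrictScalars k, isSubcomod_restrictScalars M', ?_, ?_⟩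
    · rw [disjoint_iff, ← restrictScalars_toSub U hU, ← Submodule.restrictScalars_inf, hM'.inf_eq_bot,
        Submodule.restrictScalars_bot]
    · rw [codisjoint_iff, ← restrictScalars_toSub U hU, ← Submodule.restrictScalars_sup, hM'.sup_eq_top,
        Submodule.restrictScalars_top]

end Free

theorem dual_span_le (v : V) : ∃ s : Finset V,
    (Submodule.span (Dual k A) {v}).restrictScalars k ≤ Submodule.span k (s : Set V) := by
  classical
  obtain ⟨S, hS⟩ := TensorProduct.exists_finset (HopfRep.Comod.coact (k := k) (A := A) v)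
  refine ⟨S.image Prod.fst, fun x hx => ?_⟩
  obtain ⟨φ, rfl⟩ := Submodule.mem_span_singleton.1 hx
  rw [smul_def, contract_apply, hS, map_sum]
  exact Submodule.sum_mem _ fun p hp => by
    rw [slice_tmul]
    exact Submodule.smul_mem _ _ (Submodule.subset_span (by simp only [Finset.coe_image]; exact ⟨p, hp, rfl⟩))

theorem fg_span [IsNoetherianRing k] (S : Finset V) :
    ((Submodule.span (Dual k A) (S : Set V)).restrictScalars k).FG := by
  classical
  induction S using Finset.induction_on with
  | empty => simp [Submodule.fg_bot]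
  | @insert v S _ ih =>
    rw [Finset.coe_insert, Submodule.span_insert, Submodule.restrictScalars_sup]
    refine Submodule.FG.sup ?_ ih
    obtain ⟨T, hT⟩ := dual_span_le (k := k) (A := A) v
    exact Submodule.FG.of_le (Submodule.fg_span (T.finite_toSet)) hT

/-- every vector lies in a finitely generated subcomodule -/
theorem exists_finite_subcomod [IsNoetherianRing k] [Module.Free k A] (S : Finset V) :
    ∃ U : Submodule k V, Module.Finite k U ∧ (S : Set V) ⊆ U ∧ IsSubcomod (k := k) (A := A) U :=
  ⟨(Submodule.span (Dual k A) (S : Set V)).restrictScalars k,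
    Module.Finite.iff_fg.2 (fg_span S), fun _ hx => Submodule.subset_span hx,
    isSubcomod_restrictScalars _⟩

/-- fixed vectors: where contraction is evaluation at one -/
theorem eq_tmul_iff_contract [Module.Free k A] (v : V) (a : A) :
    HopfRep.Comod.coact (k := k) (A := A) v = v ⊗ₜ a ↔ ∀ φ : A →ₗ[k] k, contract φ v = φ a • v := by
  refine ⟨fun h φ => by rw [contract_apply, h, slice_tmul], fun h => ?_⟩
  rw [← sub_eq_zero]
  refine eq_zero_of_slice _ fun φ => ?_
  rw [map_sub, slice_tmul, ← contract_apply, h, sub_self]

end General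

end Groth.Agent.Comod
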