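import Groth.Agent.Comod.Basic
import Groth.Prelude.Def_GLin
import Groth.Prelude.Def_W4c1tameactTame
import Mathlib.RingTheory.HopfAlgebra.Convolution

/-!
# Total integrals and the Reynolds operator
-/

universe u v w w' w''

noncomputable section

open TensorProduct WithConv

namespace Groth.Agent.Comod

open HopfRep

section Antipode

variable (k : Type u) [CommRing k] (A : Type v) [CommRing A] [HopfAlgebra k A]

variable {k A} in
theorem conv_comp_antipode {C : Type*} [CommRing C] [Algebra k C] (f : A →ₐ[k] C) :
    toConv f * toConv (f.comp (HopfAlgebra.antipodeAlgHom k A)) = 1 := by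
  ext a
  rw [AlgHom.convMul_apply, AlgHom.convOne_apply]
  have : ∀ w : A ⊗[k] A, LinearMap.mul' k C (TensorProduct.map f.toLinearMap
      (f.comp (HopfAlgebra.antipodeAlgHom k A)).toLinearMap w) =
      f (LinearMap.mul' k A ((HopfAlgebra.antipode k).lTensor A w)) := by
    intro w
    induction w using TensorProduct.induction_on with
    | zero => simp
    | tmul x y => simp
    | add x y hx hy => simp only [map_add, hx, hy]
  refine Eq.trans ?_ ((this (Coalgebra.comul (R := k) a)).trans ?_)
  · induction Coalgebra.comul (R := k) a using TensorProduct.induction_on with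
    | zero => simp
    | tmul x y => rfl
    | add x y hx hy => simp only [map_add, hx, hy]
  · rw [HopfAlgebra.mul_antipode_lTensor_comul_apply, AlgHom.commutes]

variable {k A} in
theorem antipode_comp_conv {C : Type*} [CommRing C] [Algebra k C] (f : A →ₐ[k] C) :
    toConv (f.comp (HopfAlgebra.antipodeAlgHom k A)) * toConv f = 1 := by
  ext a
  rw [AlgHom.convMul_apply, AlgHom.convOne_apply]
  have : ∀ w : A ⊗[k] A, LinearMap.mul' k C (TensorProduct.map
      (f.comp (HopfAlgebra.antipodeAlgHom k A)).toLinearMap f.toLinearMap w) =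
      f (LinearMap.mul' k A ((HopfAlgebra.antipode k).rTensor A w)) := by
    intro w
    induction w using TensorProduct.induction_on with
    | zero => simp
    | tmul x y => simp
    | add x y hx hy => simp only [map_add, hx, hy]
  refine Eq.trans ?_ ((this (Coalgebra.comul (R := k) a)).trans ?_)
  · induction Coalgebra.comul (R := k) a using TensorProduct.induction_on with
    | zero => simp
    | tmul x y => rfl
    | add x y hx hy => simp only [map_add, hx, hy]
  · rw [HopfAlgebra.mul_antipode_rTensor_comul_apply, AlgHom.commutes]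

theorem convInr_mul_inv : (toConv (Algebra.TensorProduct.includeRight : A →ₐ[k] A ⊗[k] A)) *
    toConv ((Bialgebra.comulAlgHom k A).comp (HopfAlgebra.antipodeAlgHom k A)) =
      toConv ((Algebra.TensorProduct.includeLeft : A →ₐ[k] A ⊗[k] A).comp
        (HopfAlgebra.antipodeAlgHom k A)) := by
  have h : toConv (Bialgebra.comulAlgHom k A) =
      toConv (Algebra.TensorProduct.includeLeft : A →ₐ[k] A ⊗[k] A) *
        toConv (Algebra.TensorProduct.includeRight : A →ₐ[k] A ⊗[k] A) := by
    apply WithConv.ofConv_injective
    ext a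
    change Coalgebra.comul (R := k) a = (toConv (Algebra.TensorProduct.includeLeft : A →ₐ[k] A ⊗[k] A) *
        toConv (Algebra.TensorProduct.includeRight : A →ₐ[k] A ⊗[k] A)) a
    rw [AlgHom.convMul_apply]
    induction Coalgebra.comul (R := k) a using TensorProduct.induction_on with
    | zero => simp
    | tmul x y => simp
    | add x y hx hy => simp only [map_add, ← hx, ← hy]
  refine left_inv_eq_right_inv (M := WithConv (A →ₐ[k] A ⊗[k] A))
    (a := toConv (Algebra.TensorProduct.includeLeft : A →ₐ[k] A ⊗[k] A))
    (antipode_comp_conv _) ?_ |>.symm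
  rw [← mul_assoc, ← h]
  exact conv_comp_antipode _

variable {k A}

/-- `Σ Δ(S x₂) (1 ⊗ x₁) = S x ⊗ 1` -/
theorem comul_antipode_mul (x : A) :
    LinearMap.mul' k (A ⊗[k] A) (TensorProduct.map
      (Algebra.TensorProduct.includeRight : A →ₐ[k] A ⊗[k] A).toLinearMap
      ((Bialgebra.comulAlgHom k A).comp (HopfAlgebra.antipodeAlgHom k A)).toLinearMap
      (Coalgebra.comul (R := k) x)) = HopfAlgebra.antipode k x ⊗ₜ[k] (1 : A) := by
  have h : (toConv (Algebra.TensorProduct.includeRight : A →ₐ[k] A ⊗[k] A) *
    toConv ((Bialgebra.comulAlgHom k A).comp (HopfAlgebra.antipodeAlgHom k A))) x =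
      toConv ((Algebra.TensorProduct.includeLeft : A →ₐ[k] A ⊗[k] A).comp
        (HopfAlgebra.antipodeAlgHom k A)) x := by
    rw [convInr_mul_inv]
  rw [AlgHom.convMul_apply] at h
  refine Eq.trans ?_ (h.trans ?_)
  · induction Coalgebra.comul (R := k) x using TensorProduct.induction_on with
    | zero => simp
    | tmul y z => rfl
    | add y z hy hz => simp only [map_add, hy, hz]
  · rfl

end Antipode

section Lam

variable {k : Type u} [CommRing k] {A : Type v} [CommRing A] [HopfAlgebra k A]
variable {B : Type w} [CommRing B] [Algebra k B]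
variable {M : Type w'} [AddCommGroup M] [Module k M] [Module B M] [IsScalarTower k B M]

/-- `m ⊗ b ↦ b • m` -/
def smulL : M ⊗[k] B →ₗ[k] M :=
  TensorProduct.lift (Algebra.lsmul k k M : B →ₐ[k] Module.End k M).toLinearMap.flip

@[simp] theorem smulL_tmul (m : M) (b : B) : smulL (k := k) (m ⊗ₜ b) = b • m := by
  simp [smulL]

/-- `x ⊗ a ↦ α (S x * a)` -/
def kap (α : A →ₗ[k] B) : A ⊗[k] A →ₗ[k] B :=
  α ∘ₗ LinearMap.mul' k A ∘ₗ (HopfAlgebra.antipode k).rTensor A

@[simp] theorem kap_tmul (α : A →ₗ[k] B) (x a : A) :
    kap α (x ⊗ₜ[k] a) = α (HopfAlgebra.antipode k x * a) := by simp [kap]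

variable [HopfRep.Comod k A B] [HopfRep.Comod k A M]

/-- `m ⊗ a ↦ Σ α (S m₁ * a) • m₀`: the retraction of the coaction attached to `α`. -/
def lam (α : A →ₗ[k] B) : M ⊗[k] A →ₗ[k] M :=
  smulL ∘ₗ (kap α).lTensor M ∘ₗ (TensorProduct.assoc k M A A).toLinearMap ∘ₗ
    (HopfRep.Comod.coact (k := k) (A := A) (V := M)).rTensor A

omit [HopfRep.Comod k A B] in
theorem lam_coact {α : A →ₗ[k] B} (h1 : α 1 = 1) (m : M) :
    lam α (HopfRep.Comod.coact (k := k) (A := A) m) = m := by
  have h := LinearMap.congr_fun (HopfRep.Comod.coassoc (k := k) (A := A) (V := M)) m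
  have hc := LinearMap.congr_fun (HopfRep.Comod.counit_comp (k := k) (A := A) (V := M)) m
  simp only [LinearMap.comp_apply, LinearEquiv.coe_coe, LinearMap.flip_apply, TensorProduct.mk_apply] at h hc
  have hk : kap α ∘ₗ Coalgebra.comul = Algebra.linearMap k B ∘ₗ Coalgebra.counit := by
    ext a
    simp only [LinearMap.comp_apply, kap, HopfAlgebra.mul_antipode_rTensor_comul_apply,
      Algebra.linearMap_apply, Algebra.algebraMap_eq_smul_one, map_smul, h1]
  simp only [lam, LinearMap.comp_apply, LinearEquiv.coe_coe]
  rw [h, ← LinearMap.lTensor_comp_apply, hk, LinearMap.lTensor_comp_apply, hc]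
  simp

omit [HopfRep.Comod k A B] in
theorem reynolds_eq_lam (α : A →ₗ[k] B) (m : M) :
    TameAct.reynolds k A B M α m = lam α (m ⊗ₜ[k] (1 : A)) := by
  simp only [TameAct.reynolds, lam, LinearMap.comp_apply, LinearMap.rTensor_tmul, LinearEquiv.coe_coe]
  induction HopfRep.Comod.coact (k := k) (A := A) m using TensorProduct.induction_on with
  | zero => simp
  | tmul n x => simp
  | add y z hy hz => simp only [TensorProduct.add_tmul, map_add, hy, hz]

variable [TameAct.IsHopfMod k A B M]

theorem coact_lam {α : A →ₗ[k] B} (hα : Hoch.IsComodHom A α) (z : M ⊗[k] A) :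
    HopfRep.Comod.coact (k := k) (A := A) (lam α z) =
      (lam α).rTensor A (Hoch.Ind.coactAux k A M z) := by
  induction z using TensorProduct.induction_on with
  | zero => simp
  | add y z hy hz => simp only [map_add, hy, hz]
  | tmul m a =>
    -- both sides are linear functions of the coaction of `m`
    let Θ : (M ⊗[k] A) ⊗[k] A →ₗ[k] M ⊗[k] A :=
      TensorProduct.lift ((TameAct.hmSMul k A B M ∘ₗ α.rTensor A ∘ₗ Coalgebra.comul ∘ₗ
        (LinearMap.mulRight k a) ∘ₗ HopfAlgebra.antipode k).flip)
    have hα' : ∀ y, HopfRep.Comod.coact (k := k) (A := A) (α y) = α.rTensor A (Coalgebra.comul y) :=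
      fun y => LinearMap.congr_fun hα y
    have hL : ∀ y : M ⊗[k] A, HopfRep.Comod.coact (k := k) (A := A)
        (smulL ((kap α).lTensor M (TensorProduct.assoc k M A A (y ⊗ₜ[k] a)))) =
        Θ ((HopfRep.Comod.coact (k := k) (A := A) (V := M)).rTensor A y) := by
      intro y
      induction y using TensorProduct.induction_on with
      | zero => simp
      | add y z hy hz => simp only [TensorProduct.add_tmul, map_add, hy, hz]
      | tmul n x =>
        simp [Θ, TameAct.IsHopfMod.coact_smul, hα']
    have hR : ∀ y : M ⊗[k] A, Θ ((TensorProduct.assoc k M A A).symm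
        ((CoalgebraStruct.comul (R := k) (A := A)).lTensor M y)) =
        (smulL ∘ₗ (kap α).lTensor M ∘ₗ (TensorProduct.assoc k M A A).toLinearMap).rTensor A
          ((TensorProduct.assoc k (M ⊗[k] A) A A).symm (y ⊗ₜ[k] Coalgebra.comul (R := k) a)) := by
      intro y
      induction y using TensorProduct.induction_on with
      | zero => simp
      | add y z hy hz => simp only [TensorProduct.add_tmul, map_add, hy, hz]
      | tmul n x =>
        let F : A ⊗[k] A →ₗ[k] M ⊗[k] A :=
          ((LinearMap.toSpanSingleton B M n).restrictScalars k ∘ₗ α).rTensor A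
        have e1 : ∀ w : A ⊗[k] A, Θ ((TensorProduct.assoc k M A A).symm (n ⊗ₜ[k] w)) =
            F (LinearMap.mul' k (A ⊗[k] A) (TensorProduct.map
              (Algebra.TensorProduct.includeRight : A →ₐ[k] A ⊗[k] A).toLinearMap
              ((Bialgebra.comulAlgHom k A).comp (HopfAlgebra.antipodeAlgHom k A)).toLinearMap w)
              * Coalgebra.comul a) := by
          intro w
          induction w using TensorProduct.induction_on with
          | zero => simp
          | add y z hy hz => simp only [TensorProduct.tmul_add, add_mul, map_add, hy, hz]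
          | tmul x1 x2 =>
            simp only [Θ, TensorProduct.assoc_symm_tmul, TensorProduct.lift.tmul, LinearMap.flip_apply,
              LinearMap.comp_apply, LinearMap.mulRight_apply, Bialgebra.comul_mul,
              TensorProduct.map_tmul, LinearMap.mul'_apply, AlgHom.toLinearMap_apply,
              AlgHom.comp_apply, HopfAlgebra.antipodeAlgHom_apply, Bialgebra.comulAlgHom_apply,
              Algebra.TensorProduct.includeRight_apply]
            rw [mul_assoc]
            induction Coalgebra.comul (R := k) (HopfAlgebra.antipode k x2) * Coalgebra.comul a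
              using TensorProduct.induction_on with
            | zero => simp
            | tmul y z => simp [F, mul_comm]
            | add y z hy hz => simp only [map_add, LinearMap.add_apply, mul_add, hy, hz]
        have e2 : ∀ w : A ⊗[k] A,
            (smulL ∘ₗ (kap α).lTensor M ∘ₗ (TensorProduct.assoc k M A A).toLinearMap).rTensor A
              ((TensorProduct.assoc k (M ⊗[k] A) A A).symm ((n ⊗ₜ[k] x) ⊗ₜ[k] w)) =
            F ((HopfAlgebra.antipode k x ⊗ₜ[k] (1 : A)) * w) := by
          intro w
          induction w using TensorProduct.induction_on with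
          | zero => simp
          | add y z hy hz => simp only [TensorProduct.tmul_add, mul_add, map_add, hy, hz]
          | tmul y z => simp [F]
        rw [LinearMap.lTensor_tmul, e1, comul_antipode_mul, e2]
    have h := LinearMap.congr_fun (HopfRep.Comod.coassoc (k := k) (A := A) (V := M)) m
    simp only [LinearMap.comp_apply, LinearEquiv.coe_coe] at h
    simp only [lam, LinearMap.comp_apply, LinearMap.rTensor_tmul, LinearEquiv.coe_coe]
    rw [hL, ← LinearEquiv.symm_apply_apply (TensorProduct.assoc k M A A)
        ((HopfRep.Comod.coact (k := k) (A := A) (V := M)).rTensor A _), h, hR, Hoch.Ind.coactAux_tmul]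
    induction Coalgebra.comul (R := k) a using TensorProduct.induction_on with
    | zero => simp
    | tmul y z => simp
    | add y z hy hz => simp only [TensorProduct.tmul_add, map_add, hy, hz]

theorem isComodHom_lam {α : A →ₗ[k] B} (hα : Hoch.IsComodHom A α) :
    Hoch.IsComodHom A (lam α ∘ₗ (Hoch.Ind.equiv k A M).symm.toLinearMap) :=
  LinearMap.ext fun z => coact_lam hα z

theorem reynolds_mem_fixedPts {α : A →ₗ[k] B} (hα : Hoch.IsComodHom A α) (m : M) :
    TameAct.reynolds k A B M α m ∈ HopfRep.fixedPts k A M := by
  change _ = _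
  rw [reynolds_eq_lam, coact_lam hα]
  simp [Bialgebra.comul_one, Algebra.TensorProduct.one_def]

omit [HopfRep.Comod k A B] [TameAct.IsHopfMod k A B M] in
theorem reynolds_eq_self {α : A →ₗ[k] B} (h1 : α 1 = 1) {m : M}
    (hm : m ∈ HopfRep.fixedPts k A M) : TameAct.reynolds k A B M α m = m := by
  have := lam_coact h1 m
  rwa [show HopfRep.Comod.coact (k := k) (A := A) m = m ⊗ₜ[k] (1 : A) from hm,
    ← reynolds_eq_lam] at this

variable {N : Type w''} [AddCommGroup N] [Module k N] [Module B N] [IsScalarTower k B N]
  [HopfRep.Comod k A N]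

omit [HopfRep.Comod k A B] [TameAct.IsHopfMod k A B M] in
theorem map_lam (α : A →ₗ[k] B) (f : M →ₗ[B] N) (hf : Hoch.IsComodHom A (f.restrictScalars k))
    (z : M ⊗[k] A) : f (lam α z) = lam α ((f.restrictScalars k).rTensor A z) := by
  induction z using TensorProduct.induction_on with
  | zero => simp
  | add y z hy hz => simp only [map_add, hy, hz]
  | tmul m a =>
    have h := LinearMap.congr_fun hf m
    simp only [LinearMap.comp_apply, LinearMap.coe_restrictScalars] at h
    simp only [lam, LinearMap.comp_apply, LinearMap.rTensor_tmul, LinearMap.coe_restrictScalars,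
      LinearEquiv.coe_coe, h]
    induction HopfRep.Comod.coact (k := k) (A := A) m using TensorProduct.induction_on with
    | zero => simp
    | tmul n x => simp
    | add y z hy hz => simp only [TensorProduct.add_tmul, map_add, hy, hz]

omit [HopfRep.Comod k A B] [TameAct.IsHopfMod k A B M] in
theorem map_reynolds (α : A →ₗ[k] B) (f : M →ₗ[B] N) (hf : Hoch.IsComodHom A (f.restrictScalars k))
    (m : M) : f (TameAct.reynolds k A B M α m) = TameAct.reynolds k A B N α (f m) := by
  rw [reynolds_eq_lam, reynolds_eq_lam, map_lam α f hf, LinearMap.rTensor_tmul]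
  rfl

omit [TameAct.IsHopfMod k A B M] in
theorem fixedPts_surjective [TameAct.IsHopfMod k A B M] {α : A →ₗ[k] B} (hα : Hoch.IsComodHom A α)
    (h1 : α 1 = 1) (f : M →ₗ[B] N) (hf : Hoch.IsComodHom A (f.restrictScalars k))
    (hs : Function.Surjective f) :
    ∀ n ∈ HopfRep.fixedPts k A N, ∃ m ∈ HopfRep.fixedPts k A M, f m = n := by
  intro n hn
  obtain ⟨m, rfl⟩ := hs n
  exact ⟨_, reynolds_mem_fixedPts hα m, by rw [map_reynolds α f hf, reynolds_eq_self h1 hn]⟩

end Lam

section Self

variable {k : Type u} [CommRing k] {A : Type v} [CommRing A] [Bialgebra k A]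
variable {B : Type w} [CommRing B] [Algebra k B] [HopfRep.Comod k A B] [GLin.IsCoactAlg k A B]

instance isHopfMod_self : TameAct.IsHopfMod k A B B where
  coact_smul b m := by
    rw [smul_eq_mul, GLin.IsCoactAlg.coact_mul]
    induction HopfRep.Comod.coact (k := k) (A := A) b using TensorProduct.induction_on with
    | zero => simp
    | add y z hy hz => simp only [add_mul, hy, hz, map_add, LinearMap.add_apply]
    | tmul x a =>
      induction HopfRep.Comod.coact (k := k) (A := A) m using TensorProduct.induction_on with
      | zero => simp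
      | add y z hy hz => simp only [mul_add, hy, hz, map_add]
      | tmul y c => simp

theorem isComodHom_ind_map {P : Type w'} {Q : Type w''} [AddCommGroup P] [Module k P] [AddCommGroup Q]
    [Module k Q] (f : P →ₗ[k] Q) :
    Hoch.IsComodHom A ((Hoch.Ind.equiv k A Q).toLinearMap ∘ₗ f.rTensor A ∘ₗ
      (Hoch.Ind.equiv k A P).symm.toLinearMap) := by
  refine LinearMap.ext fun z => ?_
  change Hoch.Ind.coactAux k A Q (f.rTensor A z) = (f.rTensor A).rTensor A (Hoch.Ind.coactAux k A P z)
  induction z using TensorProduct.induction_on with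
  | zero => exact by simp
  | add y z hy hz => exact (by simp only [map_add]; exact congrArg₂ (· + ·) hy hz)
  | tmul p a =>
    simp only [LinearMap.rTensor_tmul, Hoch.Ind.coactAux_tmul]
    induction Coalgebra.comul (R := k) a using TensorProduct.induction_on with
    | zero => simp
    | add y z hy hz => simp only [TensorProduct.tmul_add, map_add, hy, hz]
    | tmul x y => simp

theorem isComodHom_toInd {P : Type w'} [AddCommGroup P] [Module k P] [HopfRep.Comod k A P] :
    Hoch.IsComodHom A (Hoch.toInd k A P) := by
  refine LinearMap.ext fun v => ?_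
  have h := LinearMap.congr_fun (HopfRep.Comod.coassoc (k := k) (A := A) (V := P)) v
  simp only [LinearMap.comp_apply, LinearEquiv.coe_coe] at h
  change (TensorProduct.assoc k P A A).symm
    ((CoalgebraStruct.comul (R := k) (A := A)).lTensor P (HopfRep.Comod.coact (k := k) (A := A) v)) =
    (HopfRep.Comod.coact (k := k) (A := A) (V := P)).rTensor A (HopfRep.Comod.coact (k := k) (A := A) v)
  rw [← h, LinearEquiv.symm_apply_apply]

theorem isComodHom_comp {P Q S : Type*} [AddCommGroup P] [Module k P] [AddCommGroup Q] [Module k Q]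
    [AddCommGroup S] [Module k S] [HopfRep.Comod k A P] [HopfRep.Comod k A Q] [HopfRep.Comod k A S]
    {g : Q →ₗ[k] S} {f : P →ₗ[k] Q} (hg : Hoch.IsComodHom A g) (hf : Hoch.IsComodHom A f) :
    Hoch.IsComodHom A (g ∘ₗ f) := by
  unfold Hoch.IsComodHom at *
  rw [← LinearMap.comp_assoc, hg, LinearMap.comp_assoc, hf, ← LinearMap.comp_assoc,
    ← LinearMap.rTensor_comp]

end Self

end Groth.Agent.Comod
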