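import Groth.Agent.Comod.Matrix
import Groth.Prelude.Def_ComodSub
import Mathlib.RingTheory.FiniteType
import Mathlib.RingTheory.HopfAlgebra.Quotient
import Mathlib.LinearAlgebra.Matrix.Determinant.Basic
import Mathlib.LinearAlgebra.Matrix.Adjugate
import Mathlib.LinearAlgebra.Basis.VectorSpace
import Mathlib.LinearAlgebra.FiniteDimensional.Basic

/-!
# Chevalley: a Hopf ideal cuts out the stabiliser of a line

The line is given by the Plücker coordinates of `I ⊓ U`, `U` a finite subcomodule containing generators.
-/

universe u v w w'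

noncomputable section

open TensorProduct

namespace Groth.Agent.Comod

section Basic

variable {k : Type u} [CommRing k] {A : Type v} [CommRing A] [HopfAlgebra k A]
variable {R : Type w'} [CommRing R] [Algebra k R] {ι : Type w} [Fintype ι] [DecidableEq ι]

/-- `(g v) i` for the matrix `a`, the point `g` and the vector `v` -/
def actPt (a : ι → ι → A) (g : A →ₐ[k] R) (v : ι → k) (i : ι) : R :=
  ∑ j, v j • g (a i j)

/-- `g` stabilises the line through `v` -/
def StabLine (a : ι → ι → A) (g : A →ₐ[k] R) (v : ι → k) : Prop :=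
  ∃ c : R, ∀ i, actPt a g v i = v i • c

/-- tensor powers of a matrix corepresentation -/
theorem isMat_pi {σ : Type*} [Fintype σ] [DecidableEq σ] {a : ι → ι → A} (h : IsMat k a) :
    IsMat k fun (I J : σ → ι) => ∏ s, a (I s) (J s) := by
  constructor
  · intro I J
    change Bialgebra.comulAlgHom k A (∏ s, a (I s) (J s)) = _
    rw [map_prod]
    simp only [Bialgebra.comulAlgHom_apply, h.comul]
    rw [Fintype.prod_sum]
    refine Finset.sum_congr rfl fun L _ => ?_
    induction (Finset.univ : Finset σ) using Finset.induction with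
    | empty => simp [Algebra.TensorProduct.one_def]
    | insert s t hs ih => simp [Finset.prod_insert hs, ih]
  · intro I J
    change Bialgebra.counitAlgHom k A (∏ s, a (I s) (J s)) = _
    rw [map_prod]
    simp only [Bialgebra.counitAlgHom_apply, h.counit, funext_iff]
    exact Fintype.prod_boole

/-- a stabilised line is scaled by a unit -/
theorem isUnit_of_actPt {a : ι → ι → A} (h : IsMat k a) {g : A →ₐ[k] R} {v : ι → k} {c : R} {i₀ : ι}
    (hv : v i₀ = 1) (hc : ∀ i, actPt a g v i = v i • c) : IsUnit c := by
  refine IsUnit.of_mul_eq_one (∑ i, v i • g (HopfAlgebra.antipode k (a i₀ i))) ?_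
  have key : ∀ j, ∑ i, g (HopfAlgebra.antipode k (a i₀ i)) * g (a i j) = if i₀ = j then 1 else 0 := fun j => by
    rw [← Finset.sum_congr rfl fun i _ => map_mul g _ _, ← map_sum, antipode_mul_mat h]
    split_ifs <;> simp
  calc c * ∑ i, v i • g (HopfAlgebra.antipode k (a i₀ i))
      = ∑ i, g (HopfAlgebra.antipode k (a i₀ i)) * (v i • c) := by
        rw [Finset.mul_sum]
        exact Finset.sum_congr rfl fun i _ => by rw [mul_smul_comm, mul_smul_comm, mul_comm c]
    _ = ∑ i, ∑ j, v j • (g (HopfAlgebra.antipode k (a i₀ i)) * g (a i j)) := by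
        refine Finset.sum_congr rfl fun i _ => ?_
        rw [← hc i, actPt, Finset.mul_sum]
        exact Finset.sum_congr rfl fun j _ => mul_smul_comm _ _ _
    _ = 1 := by
        rw [Finset.sum_comm]
        simp only [← Finset.smul_sum, key]
        simp [hv]

variable {V : Type*} [AddCommGroup V] [Module k V] [HopfRep.Comod k A V]

theorem actPt_mat_eq (b : Module.Basis ι k V) (g : A →ₐ[k] R) (v : V) :
    LinearMap.lTensor V g.toLinearMap (HopfRep.Comod.coact (k := k) (A := A) v) =
      ∑ i, b i ⊗ₜ[k] actPt (mat A b) g (fun j => b.repr v j) i := by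
  conv_lhs => rw [← b.sum_repr v, coact_sum]
  simp [actPt, map_sum]

theorem eq_tmul_iff (b : Module.Basis ι k V) (g : A →ₐ[k] R) (v : V) (c : R) :
    LinearMap.lTensor V g.toLinearMap (HopfRep.Comod.coact (k := k) (A := A) v) = v ⊗ₜ[k] c ↔
      ∀ i, actPt (mat A b) g (fun j => b.repr v j) i = b.repr v i • c := by
  rw [actPt_mat_eq b]
  have hv : v ⊗ₜ[k] c = ∑ i, b i ⊗ₜ[k] (b.repr v i • c) := by
    conv_lhs => rw [← b.sum_repr v, TensorProduct.sum_tmul]
    simp [TensorProduct.smul_tmul]
  rw [hv]
  exact ⟨fun h i => by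
      have := congrArg ((TensorProduct.lid k R).toLinearMap ∘ₗ (b.coord i).rTensor R) h
      simpa [Finsupp.single_apply, ite_smul] using this,
    fun h => Finset.sum_congr rfl fun i _ => by rw [h i]⟩

end Basic

section Field

variable {k : Type u} [Field k] {A : Type v} [CommRing A] [HopfAlgebra k A]

/-- a Hopf ideal is generated by the block of a matrix corepresentation -/
theorem exists_block [Algebra.FiniteType k A] (I : Ideal A) [I.IsHopfIdeal k] :
    ∃ (d e : ℕ) (a : (Fin d ⊕ Fin e) → (Fin d ⊕ Fin e) → A), IsMat k a ∧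
      I = Ideal.span (Set.range fun p : Fin e × Fin d => a (.inr p.1) (.inl p.2)) := by
  classical
  haveI : IsNoetherianRing A := Algebra.FiniteType.isNoetherianRing k A
  obtain ⟨s, hs⟩ := IsNoetherian.noetherian I
  obtain ⟨U, hfin, hsU, hU⟩ := exists_finite_subcomod (k := k) (A := A) s
  letI cU := ComodSub.Comod.restr (inferInstance : HopfRep.Comod k A A) U hU
  let W : Submodule k U := (I.restrictScalars k).comap U.subtype
  haveI : Module.Free k W := Module.Free.of_divisionRing k W
  obtain ⟨Q, hQ⟩ := W.exists_isCompl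
  haveI : Module.Free k Q := Module.Free.of_divisionRing k Q
  let b := ((Module.finBasis k W).prod (Module.finBasis k Q)).map (Submodule.prodEquivOfIsCompl W Q hQ)
  have hl : ∀ t, (b (.inl t) : A) ∈ I := fun t => by
    have : b (.inl t) = (Module.finBasis k W t : U) := by simp [b]
    rw [this]
    exact (Module.finBasis k W t).2
  have hcomul : ∀ j, Coalgebra.comul (R := k) (b j : A) = ∑ i, (b i : A) ⊗ₜ[k] mat A b i j := fun j => by
    refine (ComodSub.restr_coact_coe (inferInstance : HopfRep.Comod k A A) U hU (b j)).symm.trans ?_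
    erw [coact_basis b j]
    simp
  refine ⟨_, _, mat A b, isMat_mat b, le_antisymm ?_ (Ideal.span_le.2 ?_)⟩
  · rw [← hs]
    refine Submodule.span_le.2 fun y hy => ?_
    have hyI : y ∈ I := hs ▸ Submodule.subset_span hy
    -- `y` is in the span of the `b (inl t)`
    have hy' : (⟨y, hsU hy⟩ : U) ∈ W := hyI
    suffices H : ∀ z : W, ((z : U) : A) ∈ Ideal.span (Set.range fun p : Fin _ × Fin _ =>
        mat A b (.inr p.1) (.inl p.2)) from H ⟨_, hy'⟩
    intro z
    rw [← (Module.finBasis k W).sum_repr z]
    simp only [Submodule.coe_sum, Submodule.coe_smul]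
    refine Submodule.sum_mem _ fun t _ => Submodule.smul_of_tower_mem _ _ ?_
    have hb : ((Module.finBasis k W t : U) : A) = (b (.inl t) : A) := by simp [b]
    rw [hb]
    have h2 := congrArg (fun z => TensorProduct.lid k A ((CoalgebraStruct.counit (R := k) (A := A)).rTensor A z))
      (hcomul (.inl t))
    simp only [Coalgebra.rTensor_counit_comul, map_sum, LinearMap.rTensor_tmul, TensorProduct.lid_tmul,
      one_smul] at h2
    rw [h2]
    refine Submodule.sum_mem _ fun i _ => ?_
    rcases i with t' | m
    · have := Submodule.IsCoideal.counit_eq_zero (R := k) (I := I.restrictScalars k) (hl t')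
      rw [this, zero_smul]
      exact Submodule.zero_mem _
    · exact Submodule.smul_of_tower_mem _ _ (Ideal.subset_span ⟨(m, t), rfl⟩)
  · rintro _ ⟨⟨m, t⟩, rfl⟩
    let q : A →ₗ[k] A ⧸ I.restrictScalars k := (I.restrictScalars k).mkQ
    have h0 := Submodule.IsCoideal.map_mkQ_comul_eq_zero (R := k) (I := I.restrictScalars k) (hl t)
    rw [hcomul, map_sum] at h0
    simp only [TensorProduct.map_tmul] at h0
    -- a functional dual to `q (b (inr m))`
    let F : Q →ₗ[k] A ⧸ I.restrictScalars k := q ∘ₗ U.subtype ∘ₗ Q.subtype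
    have hker : LinearMap.ker F = ⊥ := by
      refine LinearMap.ker_eq_bot'.2 fun z hz => ?_
      have hzW : (z : U) ∈ W := (Submodule.Quotient.mk_eq_zero (I.restrictScalars k)).1 hz
      exact Subtype.ext (Submodule.disjoint_def.1 hQ.disjoint _ hzW z.2)
    obtain ⟨r, hr⟩ := LinearMap.exists_leftInverse_of_injective (K := k) (V := ↥Q) (V' := A ⧸ I.restrictScalars k) F hker
    have hq : ∀ i, (Module.finBasis k Q).coord m (r (q (b i : A))) = if i = .inr m then 1 else 0 := by
      rintro (t' | m')
      · have : q (b (.inl t') : A) = 0 := (Submodule.Quotient.mk_eq_zero _).2 (hl t')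
        simp [this]
      · have : (b (.inr m') : U) = (Module.finBasis k Q m' : U) := by simp [b]
        rw [this]
        have h := LinearMap.congr_fun hr (Module.finBasis k Q m')
        simp only [F, LinearMap.comp_apply, Submodule.subtype_apply, LinearMap.id_apply] at h
        rw [h]
        simp [Finsupp.single_apply]
    have h1 := congrArg (sliceL ((Module.finBasis k Q).coord m ∘ₗ r)) h0
    simp only [map_sum, sliceL_tmul, LinearMap.comp_apply, map_zero] at h1
    change (∑ i, (Module.finBasis k Q).coord m (r (q (b i : A))) • q (mat A b i (.inl t))) = 0 at h1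
    rw [Finset.sum_eq_single (Sum.inr m) (fun i _ hi => by rw [hq, if_neg hi, zero_smul]) (by simp), hq,
      if_pos rfl, one_smul] at h1
    exact (Submodule.Quotient.mk_eq_zero _).1 h1

/-- a Hopf ideal is the stabiliser of a line in a matrix corepresentation -/
theorem exists_stabLine [Algebra.FiniteType k A] (I : Ideal A) [I.IsHopfIdeal k] :
    ∃ (ι : Type) (_ : Fintype ι) (_ : DecidableEq ι) (a : ι → ι → A) (v : ι → k) (i₀ : ι),
      IsMat k a ∧ v i₀ = 1 ∧
      ∀ (R : Type w') [CommRing R] [Algebra k R] (g : A →ₐ[k] R), (∀ x ∈ I, g x = 0) ↔ StabLine a g v := by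
  classical
  obtain ⟨d, e, a, ha, hI⟩ := exists_block (k := k) I
  let v : (Fin d → Fin d ⊕ Fin e) → k := fun J =>
    Matrix.det (Matrix.of fun t s => if Sum.inl t = J s then (1 : k) else 0)
  refine ⟨Fin d → Fin d ⊕ Fin e, inferInstance, inferInstance, fun I J => ∏ s, a (I s) (J s), v,
    fun s => .inl s, isMat_pi ha, ?_, fun R _ _ g => ?_⟩
  · have : (Matrix.of fun t s : Fin d => if (Sum.inl t : Fin d ⊕ Fin e) = Sum.inl s then (1 : k) else 0) = 1 := by
      ext t s; simp [Matrix.one_apply]
    simp only [v, this, Matrix.det_one]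
  let Y : Fin d → (Fin d ⊕ Fin e) → R := fun t i => g (a i (.inl t))
  have hact : ∀ J : Fin d → Fin d ⊕ Fin e, actPt (fun I J => ∏ s, a (I s) (J s)) g v J =
      Matrix.det (Matrix.of fun t s => Y t (J s)) := by
    intro J
    simp only [actPt, v, Matrix.det_apply', Matrix.of_apply, Fintype.prod_boole, map_prod, Finset.sum_smul, Y]
    rw [Finset.sum_comm]
    refine Finset.sum_congr rfl fun σ _ => ?_
    rw [Finset.sum_eq_single (fun s => Sum.inl (σ s))]
    · simp [Int.cast_smul_eq_zsmul]
    · intro L _ hL
      rw [if_neg fun h => hL (funext fun s => (h s).symm), mul_zero, zero_smul]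
    · simp
  have hvcast : ∀ J : Fin d → Fin d ⊕ Fin e, algebraMap k R (v J) =
      Matrix.det (Matrix.of fun t s => if Sum.inl t = J s then (1 : R) else 0) := by
    intro J
    simp only [v, RingHom.map_det]
    congr 1
    ext t s
    simp only [RingHom.mapMatrix_apply, Matrix.map_apply, Matrix.of_apply]
    split_ifs <;> simp
  let C : Matrix (Fin d) (Fin d) R := Matrix.of fun t s => Y t (.inl s)
  constructor
  · intro hg
    have h0 : ∀ m t, Y t (.inr m) = 0 := fun m t =>
      hg _ (hI ▸ Ideal.subset_span ⟨(m, t), rfl⟩)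
    refine ⟨C.det, fun J => ?_⟩
    have hf : (Matrix.of fun t s => Y t (J s)) =
        C * Matrix.of fun t s => if Sum.inl t = J s then (1 : R) else 0 := by
      ext t s
      rw [Matrix.mul_apply]
      rcases hJ : J s with s' | m <;> simp [C, hJ, h0]
    rw [hact, hf, Matrix.det_mul, ← hvcast, Algebra.smul_def, mul_comm]
  · rintro ⟨c, hc⟩
    have hc' : ∀ J : Fin d → Fin d ⊕ Fin e, Matrix.det (Matrix.of fun t s => Y t (J s)) = algebraMap k R (v J) * c :=
      fun J => by rw [← hact, hc, Algebra.smul_def]
    have hv0 : v (fun s => .inl s) = 1 := by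
      have : (Matrix.of fun t s : Fin d => if (Sum.inl t : Fin d ⊕ Fin e) = Sum.inl s then (1 : k) else 0) = 1 := by
        ext t s; simp [Matrix.one_apply]
      simp only [v, this, Matrix.det_one]
    have hcu : IsUnit c := isUnit_of_actPt (isMat_pi ha) hv0 hc
    have hC : C.det = c := by
      have := hc' (fun s => .inl s)
      rwa [hv0, map_one, one_mul] at this
    have hzero : ∀ m t, Y t (.inr m) = 0 := by
      intro m
      let y : Fin d → R := fun t => Y t (.inr m)
      have hcr : Matrix.cramer C y = 0 := by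
        ext s
        rw [Matrix.cramer_apply]
        have hM : C.updateCol s y = Matrix.of fun t s' => Y t (Function.update (fun s => Sum.inl s) s (Sum.inr m) s') := by
          ext t s'
          rcases eq_or_ne s' s with rfl | h <;> simp [C, y, *]
        rw [hM, hc', hvcast, Matrix.det_eq_zero_of_column_eq_zero s (fun t => by simp)]
        simp
      have h1 := Matrix.mulVec_cramer C y
      rw [hcr, Matrix.mulVec_zero, hC] at h1
      intro t
      have h2 := congrFun h1 t
      simp only [Pi.zero_apply, Pi.smul_apply, smul_eq_mul] at h2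
      exact hcu.mul_right_eq_zero.1 h2.symm
    intro x hx
    have : I ≤ RingHom.ker g := by
      rw [hI, Ideal.span_le]
      rintro _ ⟨⟨m, t⟩, rfl⟩
      exact hzero m t
    exact this hx

end Field

end Groth.Agent.Comod

namespace Groth.Agent.Comod

section OfMatrix

variable {k : Type u} [CommRing k] {A : Type v} [CommRing A] [HopfAlgebra k A]
variable {R : Type w'} [CommRing R] [Algebra k R] {ι : Type w} [Fintype ι] [DecidableEq ι]

/-- stabilised lines in the comodule of a matrix -/
theorem stabLine_iff {a : ι → ι → A} (ha : IsMat k a) (g : A →ₐ[k] R) (v : ι → k) (c : R) :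
    LinearMap.lTensor (ι → k) g.toLinearMap ((ofMatrix (Pi.basisFun k ι) a ha).coact v) = v ⊗ₜ[k] c ↔
      ∀ i, actPt a g v i = v i • c := by
  letI := ofMatrix (Pi.basisFun k ι) a ha
  have hmat : mat A (Pi.basisFun k ι) = a := by
    funext i j
    change sliceL _ ((ofMatrix (Pi.basisFun k ι) a ha).coact (Pi.basisFun k ι j)) = _
    rw [ofMatrix_coact, sliceL_sum]
  rw [eq_tmul_iff (Pi.basisFun k ι), hmat]
  simp

end OfMatrix

end Groth.Agent.Comod
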