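import Groth.Agent.Comod.ExactSeq
import Groth.Prelude.Def_CoactBr
import Groth.Prelude.Def_RedSub
import Mathlib.AlgebraicGeometry.Morphisms.Affine
import Mathlib.AlgebraicGeometry.Sites.Fpqc
import Mathlib.RingTheory.Jacobson.Ring

/-!
# The quotient of an affine group by a linearly reductive subgroup is affine

The invariant functions separate a closed orbit from a closed saturated set, so the quotient is covered
by the affine loci of finitely many of its global functions generating the unit ideal.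
-/

set_option autoImplicit false
set_option linter.style.haveILetI false
set_option backward.isDefEq.respectTransparency false

universe u

noncomputable section

open TensorProduct CategoryTheory MonoidalCategory CartesianMonoidalCategory MonObj GrpObj AlgebraicGeometry WithConv

namespace Groth.Agent.Comod.QuotAffine

section Avg

variable {k : Type u} [Field k] {AG AH : Type u} [CommRing AG] [HopfAlgebra k AG] [CommRing AH] [HopfAlgebra k AH]
  (ψ : AG →ₐc[k] AH) (β : AH →ₗ[k] k)

/-- averaging over the subgroup -/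
def avg : AG →ₗ[k] AG := slice β ∘ₗ (ExactSeq.rho ψ).toLinearMap

theorem avg_one (h1 : β 1 = 1) : avg ψ β 1 = 1 := by
  simp [avg, Algebra.TensorProduct.one_def, h1]

theorem slice_rho (χ : AH →ₗ[k] k) (a : AG) :
    slice χ (ExactSeq.rho ψ a) = contract (χ ∘ₗ (ψ : AG →ₐ[k] AH).toLinearMap) a := by
  rw [ExactSeq.rho, AlgHom.comp_apply, Bialgebra.comulAlgHom_apply, contract_apply]
  change _ = slice _ (Coalgebra.comul (R := k) a)
  induction Coalgebra.comul (R := k) a using TensorProduct.induction_on with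
  | zero => simp
  | tmul x y => simp
  | add x y hx hy => simp only [map_add, hx, hy]

theorem rho_avg (hβ : IsIntegral k β) (a : AG) : ExactSeq.rho ψ (avg ψ β a) = avg ψ β a ⊗ₜ[k] (1 : AH) := by
  have hE : avg ψ β a = contract (β ∘ₗ (ψ : AG →ₐ[k] AH).toLinearMap) a := slice_rho ψ β a
  rw [← sub_eq_zero]
  refine eq_zero_of_slice _ fun χ => ?_
  rw [map_sub, slice_tmul, sub_eq_zero, slice_rho, hE, contract_contract,
    show (toConv (χ ∘ₗ (ψ : AG →ₐ[k] AH).toLinearMap) * toConv (β ∘ₗ (ψ : AG →ₐ[k] AH).toLinearMap)).ofConv =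
      χ 1 • (β ∘ₗ (ψ : AG →ₐ[k] AH).toLinearMap) from ?_]
  · simp [contract, slice, LinearMap.lTensor_smul]
  refine LinearMap.ext fun x => ?_
  rw [LinearMap.convMul_apply]
  have key : ∀ z : AG ⊗[k] AG,
      LinearMap.mul' k k (TensorProduct.map (χ ∘ₗ (ψ : AG →ₐ[k] AH).toLinearMap)
        (β ∘ₗ (ψ : AG →ₐ[k] AH).toLinearMap) z) =
        χ (slice β (TensorProduct.map (ψ : AG →ₗ[k] AH) (ψ : AG →ₗ[k] AH) z)) := by
    intro z
    induction z using TensorProduct.induction_on with
    | zero => simp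
    | tmul x y => simp [mul_comm]
    | add x y hx hy => simp only [map_add, hx, hy]
  rw [key, CoalgHomClass.map_comp_comul_apply, hβ.slice_comul]
  simp [mul_comm]

theorem avg_mul (a f : AG) (hf : ExactSeq.rho ψ f = f ⊗ₜ[k] (1 : AH)) :
    avg ψ β (a * f) = avg ψ β a * f := by
  simp only [avg, LinearMap.comp_apply, AlgHom.toLinearMap_apply, map_mul, hf]
  induction ExactSeq.rho ψ a using TensorProduct.induction_on with
  | zero => simp
  | tmul x y => simp
  | add x y hx hy => simp only [map_add, add_mul, hx, hy]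

theorem map_avg_eq_zero {C : Type u} [CommRing C] [Algebra k C] (π : AG →ₐ[k] C) (a : AG)
    (h : Algebra.TensorProduct.map π (AlgHom.id k AH) (ExactSeq.rho ψ a) = 0) : π (avg ψ β a) = 0 := by
  have key : ∀ z : AG ⊗[k] AH, π (slice β z) = slice β (Algebra.TensorProduct.map π (AlgHom.id k AH) z) := by
    intro z
    induction z using TensorProduct.induction_on with
    | zero => simp
    | tmul x y => simp
    | add x y hx hy => simp only [map_add, hx, hy]
  simp only [avg, LinearMap.comp_apply, AlgHom.toLinearMap_apply]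
  rw [key, h, map_zero]

end Avg

section Scheme

local instance braidedAlgSpecOf (R : Type u) [CommRing R] : (algSpec (CommRingCat.of R)).Braided := braidedAlgSpec

variable {k : Type u} [Field k] [IsAlgClosed k] {AG AH : Type u} [CommRing AG] [HopfAlgebra k AG]
  [Algebra.FiniteType k AG] [CommRing AH] [HopfAlgebra k AH]
  (ψ : AG →ₐc[k] AH) {Q : Over (Spec (CommRingCat.of k))} (q : CoactBr.sp k AG ⟶ Q)
  (hpb : IsPullback (fst (CoactBr.sp k AG) (CoactBr.sp k AH))
    ((CoactBr.sp k AG ◁ CoactBr.pt (ψ : AG →ₐ[k] AH)) ≫ μ[CoactBr.sp k AG]) q q)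

omit [IsAlgClosed k] [Algebra.FiniteType k AG] in
theorem pt_rho : CoactBr.pt (ExactSeq.rho ψ) =
    lift (CoactBr.pt (Algebra.TensorProduct.includeLeft : AG →ₐ[k] AG ⊗[k] AH))
      (CoactBr.pt (Algebra.TensorProduct.includeRight : AH →ₐ[k] AG ⊗[k] AH)) ≫
      (CoactBr.sp k AG ◁ CoactBr.pt (ψ : AG →ₐ[k] AH)) ≫ μ[CoactBr.sp k AG] := by
  rw [lift_whiskerLeft_assoc, ← Hom.mul_def, ← CoactBr.pt_comp, CoactBr.pt_mul_pt]
  congr 1
  ext a
  simp only [ExactSeq.rho, AlgHom.comp_apply, Bialgebra.comulAlgHom_apply]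
  induction Coalgebra.comul (R := k) a using TensorProduct.induction_on with
  | zero => simp
  | tmul x y => simp
  | add x y hx hy => simp only [map_add, hx, hy]

include hpb in
omit [IsAlgClosed k] [Algebra.FiniteType k AG] in
theorem rho_comp : CoactBr.pt (ExactSeq.rho ψ) ≫ q =
    CoactBr.pt (Algebra.TensorProduct.includeLeft : AG →ₐ[k] AG ⊗[k] AH) ≫ q := by
  rw [pt_rho, Category.assoc, ← hpb.w, lift_fst_assoc]

omit [IsAlgClosed k] [Algebra.FiniteType k AG] in
theorem isIso_lift : IsIso (lift (CoactBr.pt (Algebra.TensorProduct.includeLeft : AG →ₐ[k] AG ⊗[k] AH))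
      (CoactBr.pt (Algebra.TensorProduct.includeRight : AH →ₐ[k] AG ⊗[k] AH))) := by
  have h := CoactBr.lift_pt_pt (R := k) (Algebra.TensorProduct.includeLeft : AG →ₐ[k] AG ⊗[k] AH)
    (Algebra.TensorProduct.includeRight : AH →ₐ[k] AG ⊗[k] AH)
  have e : Algebra.TensorProduct.lift (Algebra.TensorProduct.includeLeft : AG →ₐ[k] AG ⊗[k] AH)
      (Algebra.TensorProduct.includeRight : AH →ₐ[k] AG ⊗[k] AH) (fun _ _ => .all _ _) = AlgHom.id k _ :=
    Algebra.TensorProduct.ext' fun a b => by simp
  rw [e, CoactBr.pt_id] at h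
  refine (isIso_comp_right_iff _ (Functor.LaxMonoidal.μ (algSpec (CommRingCat.of k)) (Opposite.op (.of k AG))
    (Opposite.op (.of k AH)))).1 ?_
  rw [h]
  infer_instance

/-- ring `ℤ[X]` in the universe -/
abbrev Pol : Type u := Polynomial (ULift.{u} ℤ)

/-- the map to the line given by a global function -/
def secHom {X : Scheme.{u}} (a : Γ(X, ⊤)) : X ⟶ Spec (CommRingCat.of Pol.{u}) :=
  X.toSpecΓ ≫ Spec.map (CommRingCat.ofHom
    (Polynomial.eval₂RingHom ((Int.castRingHom Γ(X, ⊤)).comp (ULift.ringEquiv : ULift.{u} ℤ ≃+* ℤ).toRingHom) a))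

/-- the coordinate of a map to the line -/
def coord {X : Scheme.{u}} (m : X ⟶ Spec (CommRingCat.of Pol.{u})) : Γ(X, ⊤) :=
  m.appTop ((Scheme.ΓSpecIso (CommRingCat.of Pol.{u})).inv (Polynomial.X : Pol.{u}))

theorem coord_secHom {X : Scheme.{u}} (a : Γ(X, ⊤)) : coord (secHom a) = a := by
  simp only [coord, secHom, Scheme.Hom.comp_appTop, CommRingCat.comp_apply]
  rw [← CommRingCat.comp_apply, ← CommRingCat.comp_apply, ← Category.assoc,
    ← Scheme.ΓSpecIso_inv_naturality, Category.assoc, Scheme.toSpecΓ_appTop, Iso.inv_hom_id, Category.comp_id]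
  simp

theorem comp_secHom {X Y : Scheme.{u}} (g : X ⟶ Y) (a : Γ(Y, ⊤)) : g ≫ secHom a = secHom (g.appTop a) := by
  simp only [secHom]
  rw [← Category.assoc, Scheme.toSpecΓ_naturality, Category.assoc, ← Spec.map_comp]
  congr 2
  ext : 1
  refine Polynomial.ringHom_ext (fun r => ?_) ?_
  · simp [map_intCast]
  · simp

theorem coord_comp {X Y : Scheme.{u}} (g : X ⟶ Y) (m : Y ⟶ Spec (CommRingCat.of Pol.{u})) :
    coord (g ≫ m) = g.appTop (coord m) := by
  simp [coord]

theorem appTop_injective {X Y : Scheme.{u}} (g : X ⟶ Y) [Epi g] : Function.Injective g.appTop := by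
  intro a b h
  rw [← coord_secHom a, ← coord_secHom b]
  congr 1
  rw [← cancel_epi g, comp_secHom, comp_secHom, h]

/-- a ring element as a global function on the spectrum -/
abbrev glob {R : Type u} [CommRing R] (a : R) : Γ(Spec (CommRingCat.of R), ⊤) :=
  (Scheme.ΓSpecIso (CommRingCat.of R)).inv a

omit [IsAlgClosed k] in
theorem appTop_glob {R R' : Type u} [CommRing R] [CommRing R'] (g : R →+* R') (a : R) :
    (Spec.map (CommRingCat.ofHom g)).appTop (glob a) = glob (g a) := by
  exact (DFunLike.congr_fun (congrArg CommRingCat.Hom.hom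
    (Scheme.ΓSpecIso_inv_naturality (CommRingCat.ofHom g))) a).symm

variable [Surjective q.left] [Flat q.left] [LocallyOfFinitePresentation q.left]

include hpb in
omit [IsAlgClosed k] [Algebra.FiniteType k AG] in
/-- invariant functions descend to the quotient -/
theorem exists_descend (f : AG) (hf : ExactSeq.rho ψ f = f ⊗ₜ[k] (1 : AH)) :
    ∃ c : Γ(Q.left, ⊤), q.left.appTop c = glob f := by
  let g := secHom (X := (CoactBr.sp k AG).left) (glob f)
  have hcomp : ∀ {Z : Scheme.{u}} (g₁ g₂ : Z ⟶ (CoactBr.sp k AG).left),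
      g₁ ≫ q.left = g₂ ≫ q.left → g₁ ≫ g = g₂ ≫ g := by
    intro Z g₁ g₂ h
    let T : Over (Spec (CommRingCat.of k)) := Over.mk (g₁ ≫ (CoactBr.sp k AG).hom)
    have hw : g₂ ≫ (CoactBr.sp k AG).hom = g₁ ≫ (CoactBr.sp k AG).hom := by
      rw [← Over.w q, ← Category.assoc, ← Category.assoc, h]
    let a₁ : T ⟶ CoactBr.sp k AG := Over.homMk g₁ rfl
    let a₂ : T ⟶ CoactBr.sp k AG := Over.homMk g₂ hw
    have ha : a₁ ≫ q = a₂ ≫ q := Over.OverMorphism.ext h
    let l := hpb.lift a₁ a₂ ha
    let j := lift (CoactBr.pt (Algebra.TensorProduct.includeLeft : AG →ₐ[k] AG ⊗[k] AH))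
      (CoactBr.pt (Algebra.TensorProduct.includeRight : AH →ₐ[k] AG ⊗[k] AH))
    haveI : IsIso j := isIso_lift
    have e1 : a₁ = (l ≫ inv j) ≫ CoactBr.pt (Algebra.TensorProduct.includeLeft : AG →ₐ[k] AG ⊗[k] AH) := by
      rw [← hpb.lift_fst a₁ a₂ ha, Category.assoc]
      congr 1
      rw [IsIso.eq_inv_comp, lift_fst]
    have e2 : a₂ = (l ≫ inv j) ≫ CoactBr.pt (ExactSeq.rho ψ) := by
      rw [pt_rho, Category.assoc, IsIso.inv_hom_id_assoc, hpb.lift_snd a₁ a₂ ha]
    have hg : (CoactBr.pt (Algebra.TensorProduct.includeLeft : AG →ₐ[k] AG ⊗[k] AH)).left ≫ g =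
        (CoactBr.pt (ExactSeq.rho ψ)).left ≫ g := by
      simp only [g, CoactBr.pt_left, comp_secHom]
      exact ((congrArg secHom (appTop_glob _ f)).trans (congrArg (fun t => secHom (glob t)) hf.symm)).trans
        (congrArg secHom (appTop_glob _ f)).symm
    calc g₁ ≫ g = ((l ≫ inv j) ≫ CoactBr.pt (Algebra.TensorProduct.includeLeft : AG →ₐ[k] AG ⊗[k] AH)).left ≫ g := by
          rw [← e1]; rfl
      _ = ((l ≫ inv j) ≫ CoactBr.pt (ExactSeq.rho ψ)).left ≫ g := by
          simp only [Over.comp_left, Category.assoc, hg]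
      _ = g₂ ≫ g := by rw [← e2]; rfl
  refine ⟨coord (EffectiveEpi.desc q.left g fun g₁ g₂ h => hcomp g₁ g₂ h), ?_⟩
  rw [← coord_comp, EffectiveEpi.fac, coord_secHom]

include hpb in
theorem isAffine (hH : HopfRep.IsLinearlyReductive k AH) : IsAffine Q.left := by
  obtain ⟨β, hβ⟩ := exists_integral_of_linRed hH
  haveI : IsJacobsonRing AG := isJacobsonRing_of_finiteType (A := k)
  let qs : PrimeSpectrum AG → Q.left := fun P => q.left.base P
  have hqs : Continuous qs := q.left.continuous
  have hqsurj : Function.Surjective qs := q.left.surjective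
  haveI : CompactSpace Q.left := ⟨(Set.range_eq_univ.2 hqsurj) ▸ isCompact_range hqs⟩
  let ρ := ExactSeq.rho ψ
  have hrho : ∀ P : PrimeSpectrum (AG ⊗[k] AH), qs (PrimeSpectrum.comap ρ.toRingHom P) =
      qs (PrimeSpectrum.comap (Algebra.TensorProduct.includeLeft : AG →ₐ[k] AG ⊗[k] AH).toRingHom P) :=
    fun P => congrArg (fun m => m.left.base P) (rho_comp ψ q hpb)
  -- separation: closed points of the quotient have affine neighbourhoods cut out by functions
  have main : ∀ y : Q.left, IsClosed ({y} : Set Q.left) →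
      ∃ c : Γ(Q.left, ⊤), IsAffineOpen (Q.left.basicOpen c) ∧ y ∈ Q.left.basicOpen c := by
    intro y hy
    obtain ⟨U, hU, hyU, -⟩ := AlgebraicGeometry.exists_isAffineOpen_mem_and_subset
      (X := Q.left) (x := y) (U := ⊤) trivial
    let Z : Set (PrimeSpectrum AG) := qs ⁻¹' (U : Set Q.left)ᶜ
    have hZ : IsClosed Z := U.isOpen.isClosed_compl.preimage hqs
    obtain ⟨x0, hx0, hx0c⟩ := (hy.preimage hqs).exists_closed_singleton (hqsurj y)
    haveI hmax : x0.asIdeal.IsMaximal := (PrimeSpectrum.isClosed_singleton_iff_isMaximal x0).1 hx0c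
    letI : Field (AG ⧸ x0.asIdeal) := Ideal.Quotient.field _
    haveI : Algebra.FiniteType k (AG ⧸ x0.asIdeal) :=
      Algebra.FiniteType.of_surjective (Ideal.Quotient.mkₐ k x0.asIdeal) (Ideal.Quotient.mkₐ_surjective k _)
    haveI : Module.Finite k (AG ⧸ x0.asIdeal) := finite_of_finite_type_of_isJacobsonRing k _
    have hbij := IsAlgClosed.algebraMap_bijective_of_isIntegral (k := k) (K := AG ⧸ x0.asIdeal)
    let x : AG →ₐ[k] k := ((AlgEquiv.ofBijective (Algebra.ofId k _) hbij).symm : _ →ₐ[k] k).comp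
      (Ideal.Quotient.mkₐ k x0.asIdeal)
    have hx : RingHom.ker x.toRingHom = x0.asIdeal := by
      ext a
      simp [x, RingHom.mem_ker, Ideal.Quotient.eq_zero_iff_mem]
    -- the ideal of the orbit closure
    let ω : AG →ₐ[k] AH :=
      (Algebra.TensorProduct.lift ((Algebra.ofId k AH).comp x) (AlgHom.id k AH) fun _ _ => .all _ _).comp ρ
    let K := RingHom.ker ω.toRingHom
    have hK : PrimeSpectrum.zeroLocus (K : Set AG) ⊆ qs ⁻¹' {y} := by
      rw [← PrimeSpectrum.closure_range_comap]
      refine closure_minimal ?_ (hy.preimage hqs)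
      rintro _ ⟨P, rfl⟩
      show qs _ = y
      have h1 := hrho (PrimeSpectrum.comap
        (Algebra.TensorProduct.lift ((Algebra.ofId k AH).comp x) (AlgHom.id k AH) fun _ _ => .all _ _).toRingHom P)
      refine h1.trans ?_
      have : PrimeSpectrum.comap (Algebra.TensorProduct.includeLeft : AG →ₐ[k] AG ⊗[k] AH).toRingHom
          (PrimeSpectrum.comap (Algebra.TensorProduct.lift ((Algebra.ofId k AH).comp x) (AlgHom.id k AH)
            fun _ _ => .all _ _).toRingHom P) = x0 := by
        apply PrimeSpectrum.ext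
        ext a
        rw [← hx]
        simp only [PrimeSpectrum.comap_asIdeal, Ideal.mem_comap, RingHom.mem_ker, AlgHom.toRingHom_eq_coe,
          RingHom.coe_coe, Algebra.TensorProduct.includeLeft_apply, Algebra.TensorProduct.lift_tmul, map_one,
          mul_one, AlgHom.comp_apply, Algebra.ofId_apply]
        constructor
        · intro h
          by_contra h0
          exact P.isPrime.ne_top (Ideal.eq_top_of_isUnit_mem _ h (((Ne.isUnit h0).map (algebraMap k AH)).mul isUnit_one))
        · intro h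
          rw [h, map_zero, zero_mul]
          exact zero_mem _
      rw [this]
      exact hx0
    -- the ideal of the saturated closed set
    let π : AG →ₐ[k] AG ⧸ PrimeSpectrum.vanishingIdeal Z := Ideal.Quotient.mkₐ k _
    let μ' : AG →ₐ[k] (AG ⧸ PrimeSpectrum.vanishingIdeal Z) ⊗[k] AH :=
      (Algebra.TensorProduct.map π (AlgHom.id k AH)).comp ρ
    let J := RingHom.ker μ'.toRingHom
    have hJ : PrimeSpectrum.zeroLocus (J : Set AG) ⊆ Z := by
      rw [← PrimeSpectrum.closure_range_comap]
      refine closure_minimal ?_ hZ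
      rintro _ ⟨P, rfl⟩
      show qs _ ∈ (U : Set Q.left)ᶜ
      have h1 := hrho (PrimeSpectrum.comap (Algebra.TensorProduct.map π (AlgHom.id k AH)).toRingHom P)
      refine (show qs _ = _ from h1) ▸ ?_
      have h2 : PrimeSpectrum.comap (Algebra.TensorProduct.includeLeft : AG →ₐ[k] AG ⊗[k] AH).toRingHom
          (PrimeSpectrum.comap (Algebra.TensorProduct.map π (AlgHom.id k AH)).toRingHom P) ∈
          PrimeSpectrum.zeroLocus (PrimeSpectrum.vanishingIdeal Z : Set AG) := by
        intro a ha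
        simp only [PrimeSpectrum.comap_asIdeal, SetLike.mem_coe, Ideal.mem_comap, AlgHom.toRingHom_eq_coe,
          RingHom.coe_coe, Algebra.TensorProduct.includeLeft_apply, Algebra.TensorProduct.map_tmul]
        rw [show π a = 0 from Ideal.Quotient.eq_zero_iff_mem.2 ha, TensorProduct.zero_tmul]
        exact zero_mem _
      rw [PrimeSpectrum.zeroLocus_vanishingIdeal_eq_closure, hZ.closure_eq] at h2
      exact h2
    have htop : K ⊔ J = ⊤ := by
      rw [← PrimeSpectrum.zeroLocus_empty_iff_eq_top, PrimeSpectrum.zeroLocus_sup, Set.eq_empty_iff_forall_notMem]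
      rintro P ⟨hP1, hP2⟩
      exact (hJ hP2) ((hK hP1 : qs P = y).symm ▸ hyU)
    obtain ⟨a, ha, b, hb, hab⟩ := Submodule.mem_sup.1 ((Ideal.eq_top_iff_one _).1 htop)
    obtain ⟨c, hc⟩ := exists_descend ψ q hpb (avg ψ β b) (rho_avg ψ β hβ b)
    have hxb : x (avg ψ β b) = 1 := by
      have h0 : x (avg ψ β a) = 0 := by
        refine map_avg_eq_zero ψ β x a ?_
        apply (Algebra.TensorProduct.lid k AH).injective
        rw [map_zero]
        refine Eq.trans ?_ (RingHom.mem_ker.1 ha)
        simp only [ω, ρ, AlgHom.toRingHom_eq_coe, RingHom.coe_coe, AlgHom.comp_apply]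
        induction ExactSeq.rho ψ a using TensorProduct.induction_on with
        | zero => simp
        | tmul u v => simp [Algebra.smul_def]
        | add u v hu hv => simp only [map_add, hu, hv]
      have := congrArg (fun t => x (avg ψ β t)) hab
      simpa [map_add, h0, avg_one ψ β hβ.map_one] using this
    have hsub : ∀ P : PrimeSpectrum AG, avg ψ β b ∉ P.asIdeal → qs P ∈ U := by
      intro P hP
      by_contra hPU
      apply hP
      have hPZ : P ∈ PrimeSpectrum.zeroLocus (PrimeSpectrum.vanishingIdeal Z : Set AG) :=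
        PrimeSpectrum.subset_zeroLocus_vanishingIdeal Z hPU
      exact hPZ (Ideal.Quotient.eq_zero_iff_mem.1 (map_avg_eq_zero ψ β π b (RingHom.mem_ker.1 hb)))
    have hmem : ∀ P : PrimeSpectrum AG, qs P ∈ Q.left.basicOpen c ↔ avg ψ β b ∉ P.asIdeal := by
      intro P
      show P ∈ q.left ⁻¹ᵁ Q.left.basicOpen c ↔ _
      rw [Scheme.preimage_basicOpen_top, hc]
      exact Iff.of_eq (congrArg (P ∈ ·) (basicOpen_eq_of_affine (R := CommRingCat.of AG) (avg ψ β b)))
    refine ⟨c, ?_, ?_⟩
    · have hle : Q.left.basicOpen c ≤ U := by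
        intro z hz
        obtain ⟨P, rfl⟩ := hqsurj z
        exact hsub P ((hmem P).1 hz)
      have : Q.left.basicOpen c = Q.left.basicOpen (Q.left.presheaf.map (homOfLE (le_top : U ≤ (⊤ : Q.left.Opens))).op c) := by
        rw [Scheme.basicOpen_res]
        exact (inf_eq_right.2 hle).symm
      rw [this]
      exact hU.basicOpen _
    · rw [show y = qs x0 from hx0.symm]
      refine (hmem x0).2 fun h => one_ne_zero (α := k) ?_
      rw [← hxb]
      exact RingHom.mem_ker.1 (hx.symm ▸ h : avg ψ β b ∈ RingHom.ker x.toRingHom)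
  -- the functions generate the unit ideal
  let s : Set Γ(Q.left, ⊤) := {c | IsAffineOpen (Q.left.basicOpen c)}
  refine isAffine_of_isAffineOpen_basicOpen s ?_ fun c hc => hc
  haveI : Epi q.left := inferInstance
  let e : AG ≃+* Γ((CoactBr.sp k AG).left, ⊤) := (Scheme.ΓSpecIso (CommRingCat.of AG)).symm.commRingCatIsoToRingEquiv
  let toAG : Γ(Q.left, ⊤) →+* AG := e.symm.toRingHom.comp q.left.appTop.hom
  have htoAG : ∀ c f, q.left.appTop c = glob f ↔ toAG c = f := by
    intro c f
    show q.left.appTop c = e f ↔ e.symm (q.left.appTop c) = f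
    rw [RingEquiv.symm_apply_eq]
  have hinj : Function.Injective toAG := e.symm.injective.comp (appTop_injective q.left)
  have hinv : ∀ c, ρ (toAG c) = toAG c ⊗ₜ[k] (1 : AH) := by
    intro c
    have h := congrArg (fun m => (m.left.appTop) c) (rho_comp ψ q hpb)
    simp only [Over.comp_left, Scheme.Hom.comp_appTop, CommRingCat.comp_apply, CoactBr.pt_left] at h
    rw [(htoAG c _).2 rfl] at h
    replace h := (appTop_glob _ (toAG c)).symm.trans (h.trans (appTop_glob _ (toAG c)))
    exact (Scheme.ΓSpecIso (CommRingCat.of (AG ⊗[k] AH))).symm.commRingCatIsoToRingEquiv.injective h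
  have hgen : Ideal.map toAG (Ideal.span s) = ⊤ := by
    by_contra hne
    obtain ⟨M, hM, hle⟩ := Ideal.exists_le_maximal _ hne
    obtain ⟨y, hy, hyc⟩ := (isClosed_closure (s := {qs ⟨M, hM.isPrime⟩})).exists_closed_singleton
      ⟨_, subset_closure rfl⟩
    obtain ⟨c, hc, hyc'⟩ := main y hyc
    have h1 : qs ⟨M, hM.isPrime⟩ ∈ Q.left.basicOpen c :=
      (specializes_iff_mem_closure.2 hy).mem_open (Q.left.basicOpen c).isOpen hyc'
    have h2 : (⟨M, hM.isPrime⟩ : PrimeSpectrum AG) ∈ q.left ⁻¹ᵁ Q.left.basicOpen c := h1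
    rw [Scheme.preimage_basicOpen_top, (htoAG c _).2 rfl] at h2
    have h3 : (⟨M, hM.isPrime⟩ : PrimeSpectrum AG) ∈ PrimeSpectrum.basicOpen (toAG c) :=
      (Iff.of_eq (congrArg ((⟨M, hM.isPrime⟩ : PrimeSpectrum AG) ∈ ·)
        (basicOpen_eq_of_affine (R := CommRingCat.of AG) (toAG c)))).1 h2
    exact h3 (hle (Ideal.mem_map_of_mem toAG (Ideal.subset_span hc)))
  have key : ∀ z ∈ Ideal.map toAG (Ideal.span s), ∃ d ∈ Ideal.span s, toAG d = avg ψ β z := by
    rw [Ideal.map_span]
    intro z hz
    induction hz using Submodule.span_induction with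
    | mem z hz =>
      obtain ⟨c, hc, rfl⟩ := hz
      refine ⟨c, Ideal.subset_span hc, ?_⟩
      conv_rhs => rw [← _root_.one_mul (toAG c), avg_mul ψ β _ _ (hinv c), avg_one ψ β hβ.map_one, _root_.one_mul]
    | zero => exact ⟨0, zero_mem _, by simp⟩
    | add z w _ _ hz hw =>
      obtain ⟨d, hd, hd'⟩ := hz
      obtain ⟨d', hd1, hd2⟩ := hw
      exact ⟨d + d', add_mem hd hd1, by rw [map_add, map_add, hd', hd2]⟩
    | smul r z hzs hz =>
      -- write `z` through the generators before averaging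
      clear hz
      induction hzs using Submodule.span_induction generalizing r with
      | mem z hz =>
        obtain ⟨c, hc, rfl⟩ := hz
        obtain ⟨d, hd⟩ := exists_descend ψ q hpb (avg ψ β r) (rho_avg ψ β hβ r)
        refine ⟨d * c, Ideal.mul_mem_left _ _ (Ideal.subset_span hc), ?_⟩
        rw [smul_eq_mul, map_mul, avg_mul ψ β _ _ (hinv c), (htoAG d _).1 hd]
      | zero => exact ⟨0, zero_mem _, by simp⟩
      | add z w _ _ hz hw =>
        obtain ⟨d, hd, hd'⟩ := hz r
        obtain ⟨d', hd1, hd2⟩ := hw r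
        exact ⟨d + d', add_mem hd hd1, by rw [smul_add, map_add, map_add, hd', hd2]⟩
      | smul r' z _ hz =>
        rw [smul_smul]
        exact hz (r * r')
  obtain ⟨d, hd, hd'⟩ := key 1 (hgen ▸ Submodule.mem_top)
  rw [avg_one ψ β hβ.map_one, ← map_one toAG] at hd'
  rw [Ideal.eq_top_iff_one, ← hinj hd']
  exact hd

end Scheme

end Groth.Agent.Comod.QuotAffine
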