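import Groth.Agent.Comod.LinRed
import Mathlib.RingTheory.MvPolynomial.Homogeneous
import Mathlib.RingTheory.Polynomial.Basic

/-!
# Invariants of linearly reductive actions: Reynolds operator and finiteness
-/

universe u v w w'

noncomputable section

open TensorProduct

namespace Groth.Agent.Comod

open HopfRep

section Comm

variable {k : Type u} [CommRing k] {A : Type v} [CommRing A] [Bialgebra k A]
variable {R : Type w} [CommRing R] [Algebra k R] [HopfRep.Comod k A R]
variable {M : Type w'} [AddCommGroup M] [Module k M] [Module R M] [IsScalarTower k R M]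
  [HopfRep.Comod k A M] [TameAct.IsHopfMod k A R M]

theorem isComodHom_smul_of_fixed {c : R} (hc : c ∈ HopfRep.fixedPts k A R) :
    Hoch.IsComodHom A (Algebra.lsmul k k M c) := by
  refine LinearMap.ext fun m => ?_
  simp only [LinearMap.comp_apply, Algebra.lsmul_coe]
  rw [TameAct.IsHopfMod.coact_smul (k := k) (A := A),
    show HopfRep.Comod.coact (k := k) (A := A) c = c ⊗ₜ[k] (1 : A) from hc]
  induction HopfRep.Comod.coact (k := k) (A := A) m using TensorProduct.induction_on with
  | zero => simp
  | tmul x y => simp
  | add x y hx hy => simp only [map_add, hx, hy]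

theorem isComodHom_toSpanSingleton_fixed {y : M} (hy : y ∈ HopfRep.fixedPts k A M) :
    Hoch.IsComodHom A ((LinearMap.toSpanSingleton R M y).restrictScalars k) := by
  refine LinearMap.ext fun r => ?_
  simp only [LinearMap.comp_apply, LinearMap.coe_restrictScalars, LinearMap.toSpanSingleton_apply]
  rw [TameAct.IsHopfMod.coact_smul (k := k) (A := A),
    show HopfRep.Comod.coact (k := k) (A := A) y = y ⊗ₜ[k] (1 : A) from hy]
  induction HopfRep.Comod.coact (k := k) (A := A) r using TensorProduct.induction_on with
  | zero => simp
  | tmul a b => simp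
  | add a b ha hb => simp only [map_add, LinearMap.add_apply, ha, hb]

theorem smul_mem_fixedPts {c : R} (hc : c ∈ HopfRep.fixedPts k A R) {m : M}
    (hm : m ∈ HopfRep.fixedPts k A M) : c • m ∈ HopfRep.fixedPts k A M := by
  have h := LinearMap.congr_fun (isComodHom_smul_of_fixed (M := M) hc) m
  simp only [LinearMap.comp_apply, Algebra.lsmul_coe] at h
  change _ = _
  rw [h, show HopfRep.Comod.coact (k := k) (A := A) m = m ⊗ₜ[k] (1 : A) from hm]
  rfl

end Comm

section Avg

variable {k : Type u} [CommRing k] {A : Type v} [CommRing A] [HopfAlgebra k A]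
variable {V : Type w} [AddCommGroup V] [Module k V] [HopfRep.Comod k A V]
variable {W : Type w'} [AddCommGroup W] [Module k W] [HopfRep.Comod k A W]
variable {α : A →ₗ[k] k}

/-- averaging with respect to an integral -/
def avg (α : A →ₗ[k] k) : V →ₗ[k] V := TameAct.reynolds k A k V α

theorem avg_mem (h : IsIntegral k α) (v : V) : avg α v ∈ HopfRep.fixedPts k A V := by
  letI := HopfRep.Comod.trivial k A k
  haveI := isHopfMod_base (k := k) (A := A) (V := V)
  exact reynolds_mem_fixedPts h.isComodHom v

theorem avg_eq_self (h : IsIntegral k α) {v : V} (hv : v ∈ HopfRep.fixedPts k A V) : avg α v = v :=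
  reynolds_eq_self h.map_one hv

theorem map_avg (α : A →ₗ[k] k) {f : V →ₗ[k] W} (hf : Hoch.IsComodHom A f) (v : V) :
    f (avg α v) = avg α (f v) :=
  map_reynolds α f hf v

variable {R : Type w} [CommRing R] [Algebra k R] [HopfRep.Comod k A R]
variable {M : Type w'} [AddCommGroup M] [Module k M] [Module R M] [IsScalarTower k R M]
  [HopfRep.Comod k A M] [TameAct.IsHopfMod k A R M]

theorem avg_smul_of_fixed (α : A →ₗ[k] k) {c : R} (hc : c ∈ HopfRep.fixedPts k A R) (m : M) :
    avg α (c • m) = c • avg α m :=
  (map_avg α (isComodHom_smul_of_fixed hc) m).symm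

theorem avg_smul_fixed (α : A →ₗ[k] k) (r : R) {y : M} (hy : y ∈ HopfRep.fixedPts k A M) :
    avg α (r • y) = avg α r • y :=
  (map_avg α (isComodHom_toSpanSingleton_fixed hy) r).symm

theorem exists_fixed_generators (h : IsIntegral k α) [IsNoetherianRing R] [Module.Finite R M] :
    ∃ s : Finset M, (↑s : Set M) ⊆ (HopfRep.fixedPts k A M : Set M) ∧
      ∀ m ∈ HopfRep.fixedPts k A M, ∃ c : M → R,
        (∀ y, c y ∈ HopfRep.fixedPts k A R) ∧ m = ∑ y ∈ s, c y • y := by
  classical
  have hfg : (Submodule.span R (HopfRep.fixedPts k A M : Set M)).FG := IsNoetherian.noetherian _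
  obtain ⟨s, hsF, hs⟩ := (Submodule.fg_span_iff_fg_span_finset_subset _).1 hfg
  refine ⟨s, hsF, fun m hm => ?_⟩
  have : m ∈ Submodule.span R (s : Set M) := hs ▸ Submodule.subset_span hm
  obtain ⟨c, -, hc⟩ := Submodule.mem_span_finset.1 this
  refine ⟨fun y => avg α (c y), fun y => avg_mem h _, ?_⟩
  conv_lhs => rw [← avg_eq_self h hm, ← hc, map_sum]
  exact Finset.sum_congr rfl fun y hy => avg_smul_fixed α (c y) (hsF hy)

variable [GLin.IsCoactAlg k A R]

theorem avg_mul_fixed (α : A →ₗ[k] k) (r : R) {y : R} (hy : y ∈ HopfRep.fixedPts k A R) :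
    avg α (r * y) = avg α r * y := by
  have := avg_smul_fixed (M := R) α r hy
  simpa only [smul_eq_mul] using this

theorem isNoetherianRing_invariants (h : IsIntegral k α) [IsNoetherianRing R] :
    IsNoetherianRing (GLin.invariants k A R) := by
  let f := algebraMap (GLin.invariants k A R) R
  have hc : ∀ c : Ideal (GLin.invariants k A R), (c.map f).comap f = c := by
    intro c
    refine le_antisymm (fun x hx => ?_) Ideal.le_comap_map
    rw [Ideal.mem_comap, Ideal.map] at hx
    obtain ⟨l, hl⟩ := (Finsupp.mem_span_image_iff_linearCombination R).1 hx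
    have h1 : avg α (x : R) = (x : R) := avg_eq_self h x.2
    rw [show (x : R) = f x from rfl, ← hl.2, Finsupp.linearCombination_apply, Finsupp.sum, map_sum] at h1
    have key : x = ∑ i ∈ l.support, (⟨avg α (l i), avg_mem h _⟩ : GLin.invariants k A R) * i := by
      refine Subtype.ext ?_
      refine ((hl.2.symm.trans (Finsupp.linearCombination_apply R l)).trans h1.symm).trans ?_
      rw [AddSubmonoidClass.coe_finset_sum]
      exact Finset.sum_congr rfl fun i _ => avg_smul_fixed α (l i) i.2
    rw [key]
    exact c.sum_mem fun i hi => c.mul_mem_left _ (hl.1 hi)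
  refine isNoetherianRing_iff.2 (isNoetherian_iff'.2 (StrictMono.wellFoundedGT (f := Ideal.map f) ?_))
  exact fun c c' hlt => lt_of_le_of_ne (Ideal.map_mono hlt.le) fun e => hlt.ne (by rw [← hc c, ← hc c', e])

end Avg

section Poly

variable {k : Type u} [CommRing k] {H : Type v} [CommRing H] [Bialgebra k H]
variable (A : Type w) [CommRing A] [Algebra k A] [HopfRep.Comod k H A] [GLin.IsCoactAlg k H A]
variable {ι : Type*} [Fintype ι] [DecidableEq ι] (a : ι → ι → H)

/-- coaction on a polynomial ring over `A` given by a matrix -/
def polyCoact : MvPolynomial ι A →ₐ[k] MvPolynomial ι A ⊗[k] H :=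
  { MvPolynomial.eval₂Hom
      (((Algebra.TensorProduct.map (IsScalarTower.toAlgHom k A (MvPolynomial ι A)) (AlgHom.id k H)).comp
        (GLin.coactAlgHom k H A)).toRingHom)
      (fun j => ∑ i, (MvPolynomial.X i : MvPolynomial ι A) ⊗ₜ[k] a i j) with
    commutes' := fun c => by
      change MvPolynomial.eval₂Hom _ _ (algebraMap k (MvPolynomial ι A) c) = _
      rw [IsScalarTower.algebraMap_apply k A (MvPolynomial ι A), MvPolynomial.algebraMap_eq,
        MvPolynomial.eval₂Hom_C, AlgHom.toRingHom_eq_coe, RingHom.coe_coe, AlgHom.commutes] }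

@[simp] theorem polyCoact_C (x : A) : polyCoact A a (MvPolynomial.C x) =
    Algebra.TensorProduct.map (IsScalarTower.toAlgHom k A (MvPolynomial ι A)) (AlgHom.id k H)
      (HopfRep.Comod.coact (k := k) (A := H) x) := by
  simp [polyCoact]

@[simp] theorem polyCoact_X (j : ι) : polyCoact A a (MvPolynomial.X j) =
    ∑ i, (MvPolynomial.X i : MvPolynomial ι A) ⊗ₜ[k] a i j := by
  simp [polyCoact]

variable {a} in
/-- The polynomial comodule algebra. -/
@[reducible] def polyComod (ha : IsMat k a) : HopfRep.Comod k H (MvPolynomial ι A) where
  coact := (polyCoact A a).toLinearMap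
  coassoc := by
    have key : (((Algebra.TensorProduct.assoc k k k (MvPolynomial ι A) H H).toAlgHom.comp
        (Algebra.TensorProduct.map (polyCoact A a) (AlgHom.id k H))).comp (polyCoact A a)).toRingHom =
        ((Algebra.TensorProduct.map (AlgHom.id k (MvPolynomial ι A)) (Bialgebra.comulAlgHom k H)).comp
          (polyCoact A a)).toRingHom := by
      refine MvPolynomial.ringHom_ext (fun x => ?_) (fun j => ?_)
      · simp only [AlgHom.toRingHom_eq_coe, RingHom.coe_coe, AlgHom.comp_apply, polyCoact_C]
        have h := LinearMap.congr_fun (HopfRep.Comod.coassoc (k := k) (A := H) (V := A)) x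
        simp only [LinearMap.comp_apply, LinearEquiv.coe_coe] at h
        let ι' := IsScalarTower.toAlgHom k A (MvPolynomial ι A)
        have e1 : ∀ w : A ⊗[k] H, (Algebra.TensorProduct.assoc k k k (MvPolynomial ι A) H H).toAlgHom
            (Algebra.TensorProduct.map (polyCoact A a) (AlgHom.id k H)
              (Algebra.TensorProduct.map ι' (AlgHom.id k H) w)) =
            ι'.toLinearMap.rTensor (H ⊗[k] H) ((TensorProduct.assoc k A H H)
              ((HopfRep.Comod.coact (k := k) (A := H) (V := A)).rTensor H w)) := by
          intro w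
          induction w using TensorProduct.induction_on with
          | zero => simp
          | add p q hp hq => simp only [map_add, hp, hq]
          | tmul y b =>
            simp only [ι', Algebra.TensorProduct.map_tmul, AlgHom.id_apply, IsScalarTower.coe_toAlgHom',
              MvPolynomial.algebraMap_eq, polyCoact_C, LinearMap.rTensor_tmul]
            induction HopfRep.Comod.coact (k := k) (A := H) y using TensorProduct.induction_on with
            | zero => simp
            | add p q hp hq => simp only [map_add, TensorProduct.add_tmul, hp, hq]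
            | tmul p q => simp
        have e2 : ∀ w : A ⊗[k] H, (Algebra.TensorProduct.map (AlgHom.id k (MvPolynomial ι A))
            (Bialgebra.comulAlgHom k H)) (Algebra.TensorProduct.map ι' (AlgHom.id k H) w) =
            ι'.toLinearMap.rTensor (H ⊗[k] H) ((CoalgebraStruct.comul (R := k) (A := H)).lTensor A w) := by
          intro w
          induction w using TensorProduct.induction_on with
          | zero => simp
          | add p q hp hq => simp only [map_add, hp, hq]
          | tmul y b => simp [ι']
        rw [e1, e2, h]
      · simp only [AlgHom.toRingHom_eq_coe, RingHom.coe_coe, AlgHom.comp_apply, polyCoact_X, map_sum,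
          Algebra.TensorProduct.map_tmul, AlgHom.id_apply, TensorProduct.sum_tmul,
          Bialgebra.comulAlgHom_apply, ha.comul, TensorProduct.tmul_sum]
        exact Finset.sum_comm
    exact LinearMap.ext fun x => RingHom.congr_fun key x
  counit_comp := by
    have key : ((Algebra.TensorProduct.map (AlgHom.id k (MvPolynomial ι A)) (Bialgebra.counitAlgHom k H)).comp
          (polyCoact A a)).toRingHom =
        (Algebra.TensorProduct.includeLeftRingHom : MvPolynomial ι A →+* MvPolynomial ι A ⊗[k] k) := by
      refine MvPolynomial.ringHom_ext (fun x => ?_) (fun j => ?_)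
      · simp only [AlgHom.toRingHom_eq_coe, RingHom.coe_coe, AlgHom.comp_apply, polyCoact_C,
          Algebra.TensorProduct.includeLeftRingHom_apply]
        have h := LinearMap.congr_fun (HopfRep.Comod.counit_comp (k := k) (A := H) (V := A)) x
        simp only [LinearMap.comp_apply, LinearMap.flip_apply, TensorProduct.mk_apply] at h
        let ι' := IsScalarTower.toAlgHom k A (MvPolynomial ι A)
        have e2 : ∀ w : A ⊗[k] H, (Algebra.TensorProduct.map (AlgHom.id k (MvPolynomial ι A))
            (Bialgebra.counitAlgHom k H)) (Algebra.TensorProduct.map ι' (AlgHom.id k H) w) =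
            ι'.toLinearMap.rTensor k ((CoalgebraStruct.counit (R := k) (A := H)).lTensor A w) := by
          intro w
          induction w using TensorProduct.induction_on with
          | zero => simp
          | add p q hp hq => simp only [map_add, hp, hq]
          | tmul y b => simp [ι']
        rw [e2, h]
        simp [ι']
      · simp only [AlgHom.toRingHom_eq_coe, RingHom.coe_coe, AlgHom.comp_apply, polyCoact_X, map_sum,
          Algebra.TensorProduct.map_tmul, AlgHom.id_apply, Bialgebra.counitAlgHom_apply, ha.counit,
          Algebra.TensorProduct.includeLeftRingHom_apply]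
        rw [Finset.sum_eq_single j] <;> simp +contextual
    exact LinearMap.ext fun x => RingHom.congr_fun key x

end Poly

section Hilbert

variable {k : Type u} [Field k] {H : Type v} [CommRing H] [HopfAlgebra k H] {α : H →ₗ[k] k}
variable {A : Type w} [CommRing A] [Algebra k A] [HopfRep.Comod k H A] [GLin.IsCoactAlg k H A]
variable {ι : Type*} [Fintype ι] [DecidableEq ι] {a : ι → ι → H}

theorem polyCoact_mem (d : ℕ) {p : MvPolynomial ι A} (hp : p.IsHomogeneous d) :
    polyCoact A a p ∈ LinearMap.range
      (((MvPolynomial.homogeneousSubmodule ι A d).restrictScalars k).subtype.rTensor H) := by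
  classical
  rw [p.as_sum, map_sum]
  refine Submodule.sum_mem _ fun s hs => ?_
  have hsd : s.degree = d := by
    have := hp (MvPolynomial.mem_support_iff.1 hs)
    rwa [Finsupp.degree_eq_weight_one]
  rw [MvPolynomial.monomial_eq, map_mul, ← Nat.zero_add d, ← hsd]
  have hmul : ∀ {m n : ℕ} {x y : MvPolynomial ι A ⊗[k] H},
      x ∈ LinearMap.range (((MvPolynomial.homogeneousSubmodule ι A m).restrictScalars k).subtype.rTensor H) →
      y ∈ LinearMap.range (((MvPolynomial.homogeneousSubmodule ι A n).restrictScalars k).subtype.rTensor H) →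
      x * y ∈ LinearMap.range (((MvPolynomial.homogeneousSubmodule ι A (m + n)).restrictScalars k).subtype.rTensor H) := by
    rintro m n _ _ ⟨x, rfl⟩ ⟨y, rfl⟩
    induction x using TensorProduct.induction_on with
    | zero => simp
    | add p q hp hq => rw [map_add, add_mul]; exact add_mem hp hq
    | tmul p b =>
      induction y using TensorProduct.induction_on with
      | zero => simp
      | add y z hy hz => rw [map_add, mul_add]; exact add_mem hy hz
      | tmul q c => exact ⟨⟨p.1 * q.1, p.2.mul q.2⟩ ⊗ₜ (b * c), by simp⟩
  refine hmul ?_ ?_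
  · rw [polyCoact_C]
    induction HopfRep.Comod.coact (k := k) (A := H) (MvPolynomial.coeff s p) using TensorProduct.induction_on with
    | zero => simp
    | add p q hp hq => rw [map_add]; exact add_mem hp hq
    | tmul x b => exact ⟨⟨MvPolynomial.C x, MvPolynomial.isHomogeneous_C _ _⟩ ⊗ₜ b, by simp⟩
  · clear hsd hs
    induction s using Finsupp.induction with
    | zero => exact ⟨⟨1, MvPolynomial.isHomogeneous_one _ _⟩ ⊗ₜ 1, by simp [Algebra.TensorProduct.one_def]⟩
    | @single_add i e f hi he ih =>
      rw [Finsupp.prod_add_index' (fun _ => pow_zero _) (fun _ _ _ => pow_add _ _ _),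
        Finsupp.prod_single_index (h := fun x n => (MvPolynomial.X x : MvPolynomial ι A) ^ n) (pow_zero _), map_mul, map_add, Finsupp.degree_single]
      refine hmul ?_ ih
      clear ih he
      induction e with
      | zero => exact ⟨⟨1, MvPolynomial.isHomogeneous_one _ _⟩ ⊗ₜ 1, by simp [Algebra.TensorProduct.one_def]⟩
      | succ e ihe =>
        rw [pow_succ, map_mul]
        refine hmul ihe ?_
        rw [polyCoact_X]
        exact Submodule.sum_mem _ fun j _ => ⟨⟨MvPolynomial.X j, MvPolynomial.isHomogeneous_X _ _⟩ ⊗ₜ a j i, rfl⟩

set_option maxHeartbeats 1000000 in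
/-- Hilbert's finiteness theorem for a polynomial comodule algebra over a noetherian comodule algebra -/
theorem exists_generators_poly [IsNoetherianRing A] (ha : IsMat k a) (h : IsIntegral k α) :
    letI := polyComod A ha
    ∃ s : Finset (MvPolynomial ι A), (∀ x ∈ s, x ∈ HopfRep.fixedPts k H (MvPolynomial ι A)) ∧
      ∀ x ∈ HopfRep.fixedPts k H (MvPolynomial ι A),
        x ∈ Algebra.adjoin k (MvPolynomial.C '' (HopfRep.fixedPts k H A : Set A) ∪ ↑s) := by
  classical
  letI := polyComod A ha
  haveI : GLin.IsCoactAlg k H (MvPolynomial ι A) :=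
    ⟨map_one (polyCoact A a), map_mul (polyCoact A a)⟩
  let comp : ℕ → MvPolynomial ι A →ₗ[k] MvPolynomial ι A := fun d =>
    (MvPolynomial.homogeneousComponent (σ := ι) (R := A) d).restrictScalars k
  have hcomp : ∀ d, Hoch.IsComodHom H (comp d) := by
    intro d
    refine LinearMap.ext fun p => ?_
    simp only [LinearMap.comp_apply]
    conv_rhs => rw [← MvPolynomial.sum_homogeneousComponent p]
    conv_lhs => rw [← MvPolynomial.sum_homogeneousComponent p]
    simp only [map_sum]
    refine Finset.sum_congr rfl fun e _ => ?_
    have hq := MvPolynomial.homogeneousComponent_isHomogeneous e p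
    generalize MvPolynomial.homogeneousComponent e p = q at hq ⊢
    obtain ⟨z, hz⟩ := polyCoact_mem (k := k) (a := a) e hq
    change polyCoact A a (MvPolynomial.homogeneousComponent d q) = (comp d).rTensor H (polyCoact A a q)
    rw [← hz, MvPolynomial.homogeneousComponent_of_mem hq, ← LinearMap.rTensor_comp_apply]
    by_cases hde : d = e
    · subst hde
      have : comp d ∘ₗ ((MvPolynomial.homogeneousSubmodule ι A d).restrictScalars k).subtype =
          ((MvPolynomial.homogeneousSubmodule ι A d).restrictScalars k).subtype := LinearMap.ext fun x => by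
        simp [comp, MvPolynomial.homogeneousComponent_of_mem x.2]
      rw [this, if_pos rfl, hz]
    · have : comp d ∘ₗ ((MvPolynomial.homogeneousSubmodule ι A e).restrictScalars k).subtype = 0 :=
        LinearMap.ext fun x => by simp [comp, MvPolynomial.homogeneousComponent_of_mem x.2, hde]
      rw [this, if_neg hde]
      simp
  have hcfix : ∀ d, ∀ x ∈ HopfRep.fixedPts k H (MvPolynomial ι A),
      comp d x ∈ HopfRep.fixedPts k H (MvPolynomial ι A) := fun d x hx => by
    have := LinearMap.congr_fun (hcomp d) x
    change _ = _
    rw [← LinearMap.comp_apply, this, LinearMap.comp_apply,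
      show HopfRep.Comod.coact (k := k) (A := H) x = x ⊗ₜ[k] (1 : H) from hx]
    rfl
  let S : Set (MvPolynomial ι A) :=
    {x | x ∈ HopfRep.fixedPts k H (MvPolynomial ι A) ∧ ∃ d, 0 < d ∧ x.IsHomogeneous d}
  obtain ⟨s, hsS, hs⟩ := (Submodule.fg_span_iff_fg_span_finset_subset (R := MvPolynomial ι A) S).1
    (IsNoetherian.noetherian (Submodule.span (MvPolynomial ι A) S))
  choose! deg hdeg0 hdeg using fun x (hx : x ∈ s) => (hsS hx).2
  refine ⟨s, fun x hx => (hsS hx).1, ?_⟩
  let T := Algebra.adjoin k (MvPolynomial.C '' (HopfRep.fixedPts k H A : Set A) ∪ (↑s : Set (MvPolynomial ι A)))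
  suffices key : ∀ d, ∀ x ∈ HopfRep.fixedPts k H (MvPolynomial ι A), x.IsHomogeneous d → x ∈ T by
    intro x hx
    rw [← MvPolynomial.sum_homogeneousComponent x]
    exact T.sum_mem fun d _ => key d _ (hcfix d x hx) (MvPolynomial.homogeneousComponent_isHomogeneous d x)
  intro d
  induction d using Nat.strong_induction_on with
  | _ d ih =>
    intro x hx hxd
    rcases Nat.eq_zero_or_pos d with rfl | hd
    · have hC : x = MvPolynomial.C (MvPolynomial.coeff 0 x) := by
        rw [← MvPolynomial.homogeneousComponent_zero, MvPolynomial.homogeneousComponent_of_mem hxd, if_pos rfl]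
      refine Algebra.subset_adjoin (Or.inl ⟨MvPolynomial.coeff 0 x, ?_, hC.symm⟩)
      let ι' : A →ₗ[k] MvPolynomial ι A := (IsScalarTower.toAlgHom k A (MvPolynomial ι A)).toLinearMap
      let c0 : MvPolynomial ι A →ₗ[k] A := (MvPolynomial.lcoeff A 0).restrictScalars k
      have h1 : c0.rTensor H (polyCoact A a (MvPolynomial.C (MvPolynomial.coeff 0 x))) =
          HopfRep.Comod.coact (k := k) (A := H) (MvPolynomial.coeff 0 x) := by
        rw [polyCoact_C]
        induction HopfRep.Comod.coact (k := k) (A := H) (MvPolynomial.coeff 0 x) using TensorProduct.induction_on with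
        | zero => simp
        | add p q hp hq => simp only [map_add, hp, hq]
        | tmul p q => simp [c0]
      change _ = _
      rw [← h1, ← hC, show polyCoact A a x = x ⊗ₜ[k] (1 : H) from hx]
      rfl
    · obtain ⟨l, -, hl⟩ := Submodule.mem_span_finset.1
        (show x ∈ Submodule.span _ (s : Set (MvPolynomial ι A)) from by rw [← hs]; exact Submodule.subset_span ⟨hx, d, hd, hxd⟩)
      have hx' : x = ∑ g ∈ s, (if deg g ≤ d then avg α (comp (d - deg g) (l g)) * g else 0) := by
        have hd' : comp d x = x := by
          simp [comp, MvPolynomial.homogeneousComponent_of_mem hxd]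
        conv_lhs => rw [← avg_eq_self h hx, ← hd', ← hl]
        simp only [map_sum]
        refine Finset.sum_congr rfl fun g hg => ?_
        have hcd : comp d (l g • g) = if deg g ≤ d then comp (d - deg g) (l g) * g else 0 := by
          have hsum := MvPolynomial.sum_homogeneousComponent (l g)
          conv_lhs => rw [smul_eq_mul, ← hsum, Finset.sum_mul, map_sum]
          have hterm : ∀ e, comp d (MvPolynomial.homogeneousComponent e (l g) * g) =
              if d = e + deg g then MvPolynomial.homogeneousComponent e (l g) * g else 0 := fun e => by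
            simp only [comp, LinearMap.coe_restrictScalars]
            exact MvPolynomial.homogeneousComponent_of_mem
              ((MvPolynomial.homogeneousComponent_isHomogeneous e _).mul (hdeg g hg))
          simp only [hterm]
          split_ifs with hle
          · rw [Finset.sum_eq_single (d - deg g)]
            · rw [if_pos (by omega)]; rfl
            · intro e _ he; rw [if_neg (by omega)]
            · intro he
              rw [if_pos (by omega), MvPolynomial.homogeneousComponent_eq_zero _ _
                (by simp only [Finset.mem_range, not_lt] at he; omega), zero_mul]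
          · exact Finset.sum_eq_zero fun e _ => if_neg (by omega)
        rw [hcd]
        split_ifs
        · exact avg_mul_fixed α _ (hsS hg).1
        · rw [map_zero]
      rw [hx']
      refine T.sum_mem fun g hg => ?_
      split_ifs with hle
      · refine T.mul_mem (ih (d - deg g) (by have := hdeg0 g hg; omega) _ (avg_mem h _) ?_)
          (Algebra.subset_adjoin (Or.inr hg))
        have hh : (comp (d - deg g) (avg α (comp (d - deg g) (l g)))).IsHomogeneous (d - deg g) :=
          MvPolynomial.homogeneousComponent_isHomogeneous _ _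
        rw [map_avg α (hcomp _)] at hh
        have : comp (d - deg g) (comp (d - deg g) (l g)) = comp (d - deg g) (l g) := by
          simp [comp, MvPolynomial.homogeneousComponent_of_mem
            (MvPolynomial.homogeneousComponent_isHomogeneous (d - deg g) (l g))]
        rwa [this] at hh
      · exact T.zero_mem

end Hilbert

end Groth.Agent.Comod
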