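import Groth.Agent.Comod.Matrix
import Groth.Agent.S12926
import Mathlib.LinearAlgebra.FreeModule.Finite.Basic

/-!
# Linearly reductive groups: integrals, semisimplicity of all comodules, criteria
-/

universe u v w w' w''

noncomputable section

open TensorProduct WithConv

namespace Groth.Agent.Comod

open HopfRep

/-- An invariant integral: a form `α` with `Σ α(a₁) a₂ = α(a) 1` and `α 1 = 1`. -/
structure IsIntegral (k : Type u) {A : Type v} [CommRing k] [CommRing A] [Bialgebra k A]
    (α : A →ₗ[k] k) : Prop where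
  invariant : ∀ a, α.rTensor A (Coalgebra.comul (R := k) a) = α a ⊗ₜ[k] (1 : A)
  map_one : α 1 = 1

section General

variable {k : Type u} [CommRing k] {A : Type v} [CommRing A] [HopfAlgebra k A]
variable {V : Type w} [AddCommGroup V] [Module k V] [HopfRep.Comod k A V]
variable {W : Type w'} [AddCommGroup W] [Module k W] [HopfRep.Comod k A W]

theorem IsIntegral.isComodHom {α : A →ₗ[k] k} (h : IsIntegral k α) :
    @Hoch.IsComodHom k _ A _ _ _ A _ _ _ k _ _ (HopfRep.Comod.trivial k A k) α :=
  LinearMap.ext fun a => (h.invariant a).symm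

theorem isIntegral_iff {α : A →ₗ[k] k} :
    IsIntegral k α ↔
      @Hoch.IsComodHom k _ A _ _ _ A _ _ _ k _ _ (HopfRep.Comod.trivial k A k) α ∧ α 1 = 1 :=
  ⟨fun h => ⟨h.isComodHom, h.map_one⟩,
    fun ⟨h, h1⟩ => ⟨fun a => (LinearMap.congr_fun h a).symm, h1⟩⟩

theorem isHopfMod_base : @TameAct.IsHopfMod k _ A _ _ k _ _ V _ _ _ _ (HopfRep.Comod.trivial k A k) _ :=
  @TameAct.IsHopfMod.mk k _ A _ _ k _ _ V _ _ _ _ (HopfRep.Comod.trivial k A k) _ fun c m => by
    rw [map_smul]
    change _ = TameAct.hmSMul k A k V (c ⊗ₜ[k] (1 : A)) _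
    induction HopfRep.Comod.coact (k := k) (A := A) m using TensorProduct.induction_on with
    | zero => simp
    | tmul x y => simp [TensorProduct.smul_tmul']
    | add x y hx hy => simp only [map_add, smul_add, hx, hy]

/-- with an integral, every coaction has a natural retraction by comodule maps -/
theorem IsIntegral.exists_retraction {α : A →ₗ[k] k} (h : IsIntegral k α) (i : W →ₗ[k] V)
    (hi : Hoch.IsComodHom A i) (p : V →ₗ[k] W) (hp : p ∘ₗ i = LinearMap.id) :
    ∃ r : V →ₗ[k] W, Hoch.IsComodHom A r ∧ r ∘ₗ i = LinearMap.id := by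
  letI := HopfRep.Comod.trivial k A k
  haveI := isHopfMod_base (k := k) (A := A) (V := W)
  refine ⟨(lam α ∘ₗ (Hoch.Ind.equiv k A W).symm.toLinearMap) ∘ₗ
    (((Hoch.Ind.equiv k A W).toLinearMap ∘ₗ p.rTensor A ∘ₗ (Hoch.Ind.equiv k A V).symm.toLinearMap) ∘ₗ
      Hoch.toInd k A V),
    isComodHom_comp (isComodHom_lam h.isComodHom) (isComodHom_comp (isComodHom_ind_map p) isComodHom_toInd),
    LinearMap.ext fun w => ?_⟩
  have hw := LinearMap.congr_fun hi w
  simp only [LinearMap.comp_apply] at hw
  change lam α (p.rTensor A (HopfRep.Comod.coact (k := k) (A := A) (i w))) = w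
  rw [hw, ← LinearMap.rTensor_comp_apply, hp, LinearMap.rTensor_id, LinearMap.id_apply]
  exact lam_coact h.map_one w

theorem IsIntegral.fixedPts_surjective {α : A →ₗ[k] k} (h : IsIntegral k α) (f : V →ₗ[k] W)
    (hf : Hoch.IsComodHom A f) (hs : Function.Surjective f) :
    ∀ n ∈ HopfRep.fixedPts k A W, ∃ m ∈ HopfRep.fixedPts k A V, f m = n := by
  letI := HopfRep.Comod.trivial k A k
  haveI := isHopfMod_base (k := k) (A := A) (V := W)
  haveI := isHopfMod_base (k := k) (A := A) (V := V)
  exact Comod.fixedPts_surjective h.isComodHom h.map_one f hf hs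

end General

section Field

variable {k : Type u} [Field k] {A : Type v} [CommRing A] [HopfAlgebra k A]

theorem IsIntegral.isSemisimpleComod {α : A →ₗ[k] k} (h : IsIntegral k α)
    (V : Type w) [AddCommGroup V] [Module k V] [c : HopfRep.Comod k A V] :
    IsSemisimpleComod k A V := by
  intro U hU
  let cU := ComodSub.Comod.restr c U hU
  have hs : Hoch.IsComodHom A U.subtype := (ComodSub.rTensor_subtype_comp_restrCoact c U hU).symm
  obtain ⟨p, hp⟩ := LinearMap.exists_leftInverse_of_injective U.subtype U.ker_subtype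
  obtain ⟨r, hr, hri⟩ := h.exists_retraction U.subtype hs p hp
  exact ⟨LinearMap.ker r, isSubcomod_ker hr,
    LinearMap.isCompl_of_proj fun x => LinearMap.congr_fun hri x⟩

theorem isSemisimpleComod_of_linRed (hA : IsLinearlyReductive k A)
    (V : Type v) [AddCommGroup V] [Module k V] [c : HopfRep.Comod k A V] :
    IsSemisimpleComod k A V := by
  rw [isSemisimpleComod_iff]
  refine IsSemisimpleModule.of_sSup_simples_eq_top (eq_top_iff.2 fun v hv0 => ?_)
  clear hv0
  obtain ⟨U, hfin, hvU, hU⟩ := exists_finite_subcomod (k := k) (A := A) ({v} : Finset V)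
  let cU := ComodSub.Comod.restr c U hU
  have hs : Hoch.IsComodHom A U.subtype := (ComodSub.rTensor_subtype_comp_restrCoact c U hU).symm
  have := (isSemisimpleComod_iff k A U).1 (hA U hfin)
  let f := homToDual (A := A) U.subtype hs
  have hv : (⟨v, hvU (by simp)⟩ : U) ∈ sSup {m : Submodule (Dual k A) U | IsSimpleModule (Dual k A) m} := by
    rw [IsSemisimpleModule.sSup_simples_eq_top]; trivial
  rw [sSup_eq_iSup'] at hv
  have hmem : ∀ x ∈ (⨆ m : {m : Submodule (Dual k A) U | IsSimpleModule (Dual k A) m}, (m : Submodule (Dual k A) U)),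
      f x ∈ sSup {m : Submodule (Dual k A) V | IsSimpleModule (Dual k A) m} := by
    intro x hx
    induction hx using Submodule.iSup_induction' with
    | mem m y hy =>
      have : IsSimpleModule (Dual k A) (m.1.map f) := by
        have : IsSimpleModule (Dual k A) ↥(m.1) := m.2
        exact IsSimpleModule.congr (N := ↥(m.1)) (Submodule.equivMapOfInjective f Subtype.val_injective m.1).symm
      exact le_sSup (show m.1.map f ∈ {m : Submodule (Dual k A) V | IsSimpleModule (Dual k A) m} from this)
        (Submodule.mem_map_of_mem hy)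
    | zero => simp
    | add y z _ _ hy hz => rw [map_add]; exact add_mem hy hz
  exact hmem _ hv

theorem exists_integral_of_linRed (hA : IsLinearlyReductive k A) :
    ∃ α : A →ₗ[k] k, IsIntegral k α := by
  have h1 : IsSubcomod (k := k) (A := A) (Submodule.span k {(1 : A)}) := isSubcomod_iff.2 fun φ v hv => by
    obtain ⟨c, rfl⟩ := Submodule.mem_span_singleton.1 hv
    refine Submodule.mem_span_singleton.2 ⟨c * φ 1, ?_⟩
    have : contract φ (1 : A) = φ 1 • (1 : A) := by
      rw [contract_apply]
      exact (congrArg (slice φ) (Bialgebra.comul_one (R := k) (A := A))).trans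
        (by simp [Algebra.TensorProduct.one_def])
    rw [map_smul, this, mul_smul]
  obtain ⟨H, hH, hc⟩ := isSemisimpleComod_of_linRed hA A _ h1
  obtain ⟨α, hα, hα1⟩ := S12926.result k A H hH hc
  exact ⟨α, isIntegral_iff.2 ⟨hα, hα1⟩⟩

theorem linRed_iff_exists_integral :
    IsLinearlyReductive k A ↔ ∃ α : A →ₗ[k] k, IsIntegral k α := by
  refine ⟨exists_integral_of_linRed, fun ⟨α, h⟩ => ?_⟩
  intro V _ _ _ _
  exact h.isSemisimpleComod V

variable (k A) in
/-- The lifting criterion: fixed vectors lift along invariant functionals. -/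
def LiftCrit : Prop :=
  ∀ (V : Type v) [AddCommGroup V] [Module k V] [HopfRep.Comod k A V], Module.Finite k V →
    ∀ π : V →ₗ[k] k, Function.Surjective π →
      LinearMap.rTensor A π ∘ₗ HopfRep.Comod.coact (k := k) (A := A) (V := V) =
        (TensorProduct.mk k k A).flip (1 : A) ∘ₗ π →
      ∃ v ∈ HopfRep.fixedPts k A V, π v ≠ 0

set_option maxHeartbeats 1000000 in
open scoped Classical in
/-- the criterion splits off a simple subcomodule -/
theorem exists_splitting (hA : LiftCrit k A) {V : Type v} [AddCommGroup V] [Module k V] [c : HopfRep.Comod k A V]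
    [Module.Finite k V] (S : Submodule (Dual k A) V) (hS : IsAtom S) :
    ∃ S' : Submodule (Dual k A) V, IsCompl S S' := by
  let S₀ : Submodule k V := S.restrictScalars k
  have hS₀ : IsSubcomod (k := k) (A := A) S₀ := isSubcomod_restrictScalars S
  let cS := ComodSub.Comod.restr c S₀ hS₀
  have hs : Hoch.IsComodHom A S₀.subtype := (ComodSub.rTensor_subtype_comp_restrCoact c S₀ hS₀).symm
  let bV := Module.finBasis k V
  let bW := Module.finBasis k S₀
  let a := mat A bV
  let m := mat A bW
  have ha : IsMat k a := isMat_mat bV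
  have hM : IsMat k fun (p q : Fin (Module.finrank k V) × Fin (Module.finrank k S₀)) => HopfAlgebra.antipode k (a q.1 p.1) * m p.2 q.2 :=
    isMat_kron (isMat_dual ha) (isMat_mat bW)
  let bT := bV.tensorProduct bW
  letI cT : HopfRep.Comod k A (V ⊗[k] S₀) := ofMatrix bT _ hM
  -- the trace of the restriction
  let e : Fin _ × Fin _ → k := fun p => bV.coord p.1 (bW p.2 : V)
  let π : V ⊗[k] S₀ →ₗ[k] k := bT.constr k e
  have hrel : ∀ j l, ∑ i, bV.coord i (bW l : V) • a j i = ∑ p, bV.coord j (bW p : V) • m p l := by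
    intro j l
    have h := congrArg (sliceL (A := A) (bV.coord j)) (LinearMap.congr_fun hs (bW l))
    simp only [LinearMap.comp_apply, Submodule.subtype_apply, coact_basis, map_sum,
      LinearMap.rTensor_tmul, sliceL_tmul] at h
    conv_lhs at h => rw [← bV.sum_repr (bW l : V)]
    simp only [map_sum, map_smul, coact_basis, sliceL_tmul] at h
    rw [← h]
    refine Finset.sum_congr rfl fun i _ => ?_
    simp [a, m, Finsupp.single_apply, ite_smul]
  have hinv : LinearMap.rTensor A π ∘ₗ cT.coact = (TensorProduct.mk k k A).flip (1 : A) ∘ₗ π := by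
    refine bT.ext fun q => ?_
    simp only [LinearMap.comp_apply, LinearMap.flip_apply, TensorProduct.mk_apply]
    rw [ofMatrix_coact, map_sum]
    simp only [LinearMap.rTensor_tmul, π, Module.Basis.constr_basis]
    calc ∑ p, e p ⊗ₜ[k] (HopfAlgebra.antipode k (a q.1 p.1) * m p.2 q.2)
        = (1 : k) ⊗ₜ[k] ∑ i, HopfAlgebra.antipode k (a q.1 i) * ∑ p, bV.coord i (bW p : V) • m p q.2 := by
          simp only [Fintype.sum_prod_type, TensorProduct.tmul_sum, Finset.mul_sum, mul_smul_comm,
            TensorProduct.tmul_smul, TensorProduct.smul_tmul', smul_eq_mul, mul_one, e]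
      _ = (1 : k) ⊗ₜ[k] ∑ r, bV.coord r (bW q.2 : V) • (if q.1 = r then (1 : A) else 0) := by
          simp only [← hrel, Finset.mul_sum, mul_smul_comm, ← antipode_mul_mat ha, Finset.smul_sum]
          rw [Finset.sum_comm]
      _ = e q ⊗ₜ[k] 1 := by simp [smul_ite, TensorProduct.tmul_smul, TensorProduct.smul_tmul', e]
  have hπ : Function.Surjective π := by
    refine LinearMap.surjective (fun h0 => hS.1 ?_)
    refine (Submodule.eq_bot_iff _).2 fun x hx => ?_
    have hb : ∀ l, (bW l : V) = 0 := fun l => bV.ext_elem fun i => by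
      have := LinearMap.congr_fun h0 (bT (i, l))
      simpa [π, e] using this
    have := bW.sum_repr ⟨x, hx⟩
    have h := (congrArg Subtype.val this).symm
    rw [Submodule.coe_sum] at h
    simpa [hb] using h
  obtain ⟨t, ht, ht0⟩ := hA (V ⊗[k] S₀) inferInstance π hπ hinv
  let y : Fin _ × Fin _ → k := fun p => bT.repr t p
  have hfix : ∀ p : Fin _ × Fin _,
      ∑ q, y q • (HopfAlgebra.antipode k (a q.1 p.1) * m p.2 q.2) = y p • (1 : A) := by
    intro p
    have h : cT.coact t = t ⊗ₜ[k] (1 : A) := ht
    nth_rewrite 1 [← bT.sum_repr t] at h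
    have h' := congrArg (sliceL (A := A) (bT.coord p)) h
    simp only [map_sum, map_smul] at h'
    rw [sliceL_tmul, Module.Basis.coord_apply] at h'
    refine Eq.trans ?_ h'
    refine Finset.sum_congr rfl fun q _ => ?_
    rw [ofMatrix_coact, sliceL_sum]
  let f : V →ₗ[k] S₀ := bV.constr k fun j => ∑ p, y (j, p) • bW p
  have hkey : ∀ p j, ∑ l, y (j, l) • m p l = ∑ i, y (i, p) • a i j := by
    intro p j
    calc ∑ l, y (j, l) • m p l
        = ∑ r, (∑ l, y (r, l) • m p l) * (if r = j then (1 : A) else 0) := by simp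
      _ = ∑ r, (∑ l, y (r, l) • m p l) * ∑ i, HopfAlgebra.antipode k (a r i) * a i j := by
          simp only [antipode_mul_mat ha]
      _ = ∑ i, (∑ q : _ × _, y q • (HopfAlgebra.antipode k (a q.1 i) * m p q.2)) * a i j := by
          simp only [Fintype.sum_prod_type, Finset.mul_sum, Finset.sum_mul]
          conv_rhs => rw [Finset.sum_comm]
          refine Finset.sum_congr rfl fun r _ => Finset.sum_congr rfl fun i _ =>
            Finset.sum_congr rfl fun l _ => ?_
          simp only [smul_mul_assoc]
          ring_nf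
      _ = ∑ i, y (i, p) • a i j := by
          refine Finset.sum_congr rfl fun i _ => ?_
          rw [hfix (i, p), smul_mul_assoc, one_mul]
  have hf : Hoch.IsComodHom A f := by
    refine bV.ext fun j => ?_
    simp only [LinearMap.comp_apply, coact_basis, map_sum, LinearMap.rTensor_tmul, f,
      Module.Basis.constr_basis, map_smul, Finset.smul_sum, TensorProduct.sum_tmul,
      TensorProduct.smul_tmul]
    rw [Finset.sum_comm]
    conv_rhs => rw [Finset.sum_comm]
    refine Finset.sum_congr rfl fun p _ => ?_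
    simp only [← TensorProduct.tmul_smul, ← TensorProduct.tmul_sum]
    rw [hkey p j]
  have hg0 : f ∘ₗ S₀.subtype ≠ 0 := by
    intro h0
    apply ht0
    have hz : ∀ l, ∑ i, bV.coord i (bW l : V) * y (i, l) = 0 := by
      intro l
      have h := congrArg (bW.coord l) (LinearMap.congr_fun h0 (bW l))
      simp only [LinearMap.comp_apply, Submodule.subtype_apply, LinearMap.zero_apply, map_zero] at h
      conv_lhs at h => rw [← bV.sum_repr (bW l : V)]
      simpa [f, Finsupp.single_apply, Module.Basis.coord_apply] using h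
    rw [← bT.sum_repr t]
    simp only [map_sum, map_smul, π, Module.Basis.constr_basis, smul_eq_mul, Fintype.sum_prod_type]
    rw [Finset.sum_comm]
    refine Finset.sum_eq_zero fun l _ => Eq.trans ?_ (hz l)
    exact Finset.sum_congr rfl fun i _ => mul_comm _ _
  let g : V →ₗ[Dual k A] S₀ := homToDual (A := A) f hf
  let ι₀ : S₀ →ₗ[Dual k A] V := homToDual (A := A) S₀.subtype hs
  have : IsSimpleModule (Dual k A) S₀ := by
    have e : S₀ ≃ₗ[Dual k A] S :=
      LinearEquiv.ofBijective (ι₀.codRestrict S fun x => x.2)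
        ⟨fun x y h => Subtype.ext (congrArg (fun z : S => (z : V)) h), fun x => ⟨⟨x, x.2⟩, rfl⟩⟩
    have := isSimpleModule_iff_isAtom.2 hS
    exact IsSimpleModule.congr (N := ↥S) e
  have hne : g ∘ₗ ι₀ ≠ 0 := fun h => hg0 (LinearMap.ext fun x => LinearMap.congr_fun h x)
  have hbij := LinearMap.bijective_of_ne_zero hne
  refine ⟨LinearMap.ker g, ⟨?_, ?_⟩⟩
  · rw [disjoint_iff, Submodule.eq_bot_iff]
    rintro x ⟨hx, hx'⟩
    have : (g ∘ₗ ι₀) ⟨x, hx⟩ = 0 := hx'
    exact congrArg Subtype.val (hbij.1 (this.trans (map_zero _).symm))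
  · rw [codisjoint_iff, eq_top_iff]
    intro x _
    obtain ⟨s, hs'⟩ := hbij.2 (g x)
    refine Submodule.mem_sup.2 ⟨(s : V), s.2, x - s, ?_, by abel⟩
    rw [LinearMap.mem_ker, map_sub, sub_eq_zero]
    exact hs'.symm

theorem linRed_of_liftCrit (hA : LiftCrit k A) : IsLinearlyReductive k A := by
  intro V _ _ c hfin
  rw [isSemisimpleComod_iff]
  have : IsArtinian (Dual k A) V := isArtinian_of_tower k inferInstance
  refine IsSemisimpleModule.of_sSup_simples_eq_top (eq_top_iff.2 ?_)
  suffices ∀ T : Submodule (Dual k A) V, T ≤ sSup {m : Submodule (Dual k A) V | IsSimpleModule (Dual k A) m} from this ⊤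
  intro T
  induction T using WellFoundedLT.induction with
  | ind T ih =>
    rcases eq_bot_or_exists_atom_le T with rfl | ⟨S, hS, hST⟩
    · exact bot_le
    obtain ⟨S', hc⟩ := exists_splitting hA S hS
    have hT : T = S ⊔ S' ⊓ T := by
      rw [← sup_inf_assoc_of_le S' hST, hc.sup_eq_top, top_inf_eq]
    rw [hT]
    refine sup_le (le_sSup (show S ∈ {m : Submodule (Dual k A) V | IsSimpleModule (Dual k A) m} from isSimpleModule_iff_isAtom.2 hS)) (ih _ (inf_le_right.lt_of_ne fun he => hS.1 ?_))
    exact eq_bot_iff.2 (hc.inf_eq_bot ▸ le_inf le_rfl (hST.trans (inf_eq_right.1 he)))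

end Field

end Groth.Agent.Comod
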