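import Groth.Agent.Comod.Invariants
import Groth.Prelude.Def_ComodTens
import Mathlib.RingTheory.FiniteType

/-!
# Finite generation of invariants of finitely generated comodule algebras
-/

universe u v w w'

noncomputable section

open TensorProduct

namespace Groth.Agent.Comod

open HopfRep

variable {k : Type u} [Field k] {H : Type v} [CommRing H] [HopfAlgebra k H] {α : H →ₗ[k] k}
variable {A : Type w} [CommRing A] [Algebra k A] [HopfRep.Comod k H A] [GLin.IsCoactAlg k H A]

set_option maxHeartbeats 800000 in
theorem exists_generators [IsNoetherianRing A] (h : IsIntegral k α)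
    {C : Type w'} [CommRing C] [Algebra k C] [cC : HopfRep.Comod k H C] [GLin.IsCoactAlg k H C]
    [Algebra A C] [IsScalarTower k A C] [Algebra.FiniteType A C]
    (hAC : Hoch.IsComodHom H (IsScalarTower.toAlgHom k A C).toLinearMap) :
    ∃ s : Finset C, (∀ x ∈ s, x ∈ GLin.invariants k H C) ∧
      GLin.invariants k H C =
        Algebra.adjoin k (⇑(algebraMap A C) '' ↑(GLin.invariants k H A) ∪ ↑s) := by
  classical
  obtain ⟨t, ht⟩ := Algebra.FiniteType.out (R := A) (A := C)
  obtain ⟨U, hfin, htU, hU⟩ := exists_finite_subcomod (k := k) (A := H) t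
  letI cU := ComodSub.Comod.restr cC U hU
  have hs : Hoch.IsComodHom H U.subtype := (ComodSub.rTensor_subtype_comp_restrCoact cC U hU).symm
  let b := Module.finBasis k U
  let a := mat H b
  have ha : IsMat k a := isMat_mat b
  letI cP := polyComod A ha
  let Φ : MvPolynomial (Fin (Module.finrank k U)) A →ₐ[k] C :=
    (MvPolynomial.aeval fun i => (b i : C)).restrictScalars k
  have hΦ : Hoch.IsComodHom H Φ.toLinearMap := by
    have key : ((GLin.coactAlgHom k H C).comp Φ).toRingHom =
        ((Algebra.TensorProduct.map Φ (AlgHom.id k H)).comp (polyCoact A a)).toRingHom := by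
      refine MvPolynomial.ringHom_ext (fun x => ?_) (fun j => ?_)
      · have h1 := LinearMap.congr_fun hAC x
        simp only [LinearMap.comp_apply, AlgHom.toLinearMap_apply, IsScalarTower.coe_toAlgHom'] at h1
        simp only [AlgHom.toRingHom_eq_coe, RingHom.coe_coe, AlgHom.comp_apply, GLin.coactAlgHom_apply,
          polyCoact_C, Φ, AlgHom.restrictScalars_apply, MvPolynomial.aeval_C, h1]
        induction HopfRep.Comod.coact (k := k) (A := H) x using TensorProduct.induction_on with
        | zero => simp
        | add p q hp hq => simp only [map_add, hp, hq]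
        | tmul p q => simp
      · simp only [AlgHom.toRingHom_eq_coe, RingHom.coe_coe, AlgHom.comp_apply, GLin.coactAlgHom_apply,
          polyCoact_X, Φ, AlgHom.restrictScalars_apply, MvPolynomial.aeval_X]
        have h1 := LinearMap.congr_fun hs (b j)
        simp only [LinearMap.comp_apply, Submodule.subtype_apply, coact_basis, map_sum,
          LinearMap.rTensor_tmul] at h1
        rw [h1, map_sum]
        simp [a]
    exact LinearMap.ext fun x => RingHom.congr_fun key x
  have hsurj : Function.Surjective Φ := by
    intro c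
    have hc : c ∈ Algebra.adjoin A (t : Set C) := ht ▸ Algebra.mem_top
    refine Algebra.adjoin_induction (fun x hx => ?_) (fun r => ⟨MvPolynomial.C r, by simp [Φ]⟩)
      (fun x y _ _ hx hy => ?_) (fun x y _ _ hx hy => ?_) hc
    · refine ⟨∑ i, MvPolynomial.C (algebraMap k A (b.repr ⟨x, htU hx⟩ i)) * MvPolynomial.X i, ?_⟩
      have := congrArg (fun u : U => (u : C)) (b.sum_repr ⟨x, htU hx⟩)
      simp only [Submodule.coe_sum, Submodule.coe_smul] at this
      simp only [map_sum, map_mul, Φ, AlgHom.restrictScalars_apply, MvPolynomial.aeval_C,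
        MvPolynomial.aeval_X, ← IsScalarTower.algebraMap_apply k A C, ← Algebra.smul_def]
      exact this
    · obtain ⟨p, rfl⟩ := hx; obtain ⟨q, rfl⟩ := hy; exact ⟨p + q, map_add _ _ _⟩
    · obtain ⟨p, rfl⟩ := hx; obtain ⟨q, rfl⟩ := hy; exact ⟨p * q, map_mul _ _ _⟩
  obtain ⟨s, hs', hgen⟩ := exists_generators_poly (a := a) ha h (A := A)
  have hfix : ∀ x, x ∈ HopfRep.fixedPts k H (MvPolynomial (Fin (Module.finrank k U)) A) →
      Φ x ∈ GLin.invariants k H C := fun x hx => by
    have h1 := LinearMap.congr_fun hΦ x
    simp only [LinearMap.comp_apply, AlgHom.toLinearMap_apply] at h1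
    rw [GLin.mem_invariants_iff, h1,
      show HopfRep.Comod.coact (k := k) (A := H) x = x ⊗ₜ[k] (1 : H) from hx, LinearMap.rTensor_tmul]
    rfl
  refine ⟨s.image Φ, fun x hx => ?_, le_antisymm ?_ ?_⟩
  · obtain ⟨y, hy, rfl⟩ := Finset.mem_image.1 hx
    exact hfix y (hs' y hy)
  · intro c hc
    obtain ⟨x, hx, rfl⟩ := h.fixedPts_surjective Φ.toLinearMap hΦ hsurj c hc
    have hx' := hgen x hx
    have hmap := Subalgebra.mem_map (f := Φ) (y := Φ x) |>.2 ⟨x, hx', rfl⟩
    rw [AlgHom.map_adjoin] at hmap
    refine Algebra.adjoin_mono ?_ hmap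
    rintro _ ⟨y, hy, rfl⟩
    rcases hy with ⟨r, hr, rfl⟩ | hy
    · exact Or.inl ⟨r, hr, by simp [Φ]⟩
    · exact Or.inr (Finset.mem_coe.2 (Finset.mem_image_of_mem _ hy))
  · refine Algebra.adjoin_le (Set.union_subset ?_ fun x hx => ?_)
    · rintro _ ⟨r, hr, rfl⟩
      have h1 := LinearMap.congr_fun hAC r
      simp only [LinearMap.comp_apply, AlgHom.toLinearMap_apply, IsScalarTower.coe_toAlgHom'] at h1
      rw [SetLike.mem_coe, GLin.mem_invariants_iff, h1,
        (GLin.mem_invariants_iff k H A r).1 hr, LinearMap.rTensor_tmul]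
      rfl
    · obtain ⟨y, hy, rfl⟩ := Finset.mem_image.1 (Finset.mem_coe.1 hx)
      exact hfix y (hs' y hy)

set_option maxHeartbeats 800000 in
theorem finiteType_over_invariants [IsNoetherianRing A] [Algebra.FiniteType k H] (h : IsIntegral k α) :
    Algebra.FiniteType ↥(GLin.invariants k H A) A := by
  classical
  letI cC : HopfRep.Comod k H (A ⊗[k] H) :=
    ComodTens.Comod.tensor ‹HopfRep.Comod k H A› (HopfRep.Comod.regular k H)
  let F : A ⊗[k] H →ₐ[k] (A ⊗[k] H) ⊗[k] H :=
    Algebra.TensorProduct.lift
      ((Algebra.TensorProduct.map Algebra.TensorProduct.includeLeft (AlgHom.id k H)).comp (GLin.coactAlgHom k H A))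
      ((Algebra.TensorProduct.map Algebra.TensorProduct.includeRight (AlgHom.id k H)).comp (Bialgebra.comulAlgHom k H))
      (fun _ _ => Commute.all _ _)
  have hF : ∀ z : A ⊗[k] H, HopfRep.Comod.coact (k := k) (A := H) z = F z := by
    intro z
    induction z using TensorProduct.induction_on with
    | zero => simp
    | add p q hp hq => simp only [map_add, hp, hq]
    | tmul x y =>
      refine (ComodTens.tensor_coact_tmul _ _ x y).trans ?_
      simp only [F, Algebra.TensorProduct.lift_tmul, AlgHom.comp_apply, GLin.coactAlgHom_apply,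
        Bialgebra.comulAlgHom_apply]
      change TensorProduct.map LinearMap.id (LinearMap.mul' k H) (AlgebraTensorModule.tensorTensorTensorComm k k k k A H H H
        (HopfRep.Comod.coact (k := k) (A := H) x ⊗ₜ[k] Coalgebra.comul (R := k) y)) = _
      generalize HopfRep.Comod.coact (k := k) (A := H) x = p
      generalize Coalgebra.comul (R := k) y = q
      induction p using TensorProduct.induction_on with
      | zero => simp
      | add p p' hp hp' => simp only [TensorProduct.add_tmul, map_add, add_mul, hp, hp']
      | tmul u v =>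
        induction q using TensorProduct.induction_on with
        | zero => simp
        | add q q' hq hq' => simp only [TensorProduct.tmul_add, map_add, mul_add, hq, hq']
        | tmul s t => simp
  haveI : GLin.IsCoactAlg k H (A ⊗[k] H) :=
    ⟨by rw [hF, map_one], fun f g => by rw [hF, hF, hF, map_mul]⟩
  have hAC : Hoch.IsComodHom H (IsScalarTower.toAlgHom k A (A ⊗[k] H)).toLinearMap := by
    refine LinearMap.ext fun x => ?_
    simp only [LinearMap.comp_apply, AlgHom.toLinearMap_apply, IsScalarTower.coe_toAlgHom',
      Algebra.TensorProduct.algebraMap_apply, Algebra.algebraMap_self, RingHom.id_apply, hF, F,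
      Algebra.TensorProduct.lift_tmul, AlgHom.comp_apply, GLin.coactAlgHom_apply, map_one, mul_one]
    induction HopfRep.Comod.coact (k := k) (A := H) x using TensorProduct.induction_on with
    | zero => simp
    | add p q hp hq => simp only [map_add, hp, hq]
    | tmul u v => simp
  haveI : Algebra.FiniteType A (A ⊗[k] H) := inferInstance
  obtain ⟨s, -, hs⟩ := exists_generators (A := A) (C := A ⊗[k] H) h hAC
  let p : A ⊗[k] H →ₐ[k] A :=
    Algebra.TensorProduct.lift (AlgHom.id k A) ((Algebra.ofId k A).comp (Bialgebra.counitAlgHom k H))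
      (fun _ _ => Commute.all _ _)
  let j : A →ₗ[k] A ⊗[k] H := (HopfAlgebra.antipode k).lTensor A ∘ₗ HopfRep.Comod.coact (k := k) (A := H)
  have hpj : ∀ x, p (j x) = x := by
    intro x
    have hc := LinearMap.congr_fun (HopfRep.Comod.counit_comp (k := k) (A := H) (V := A)) x
    simp only [LinearMap.comp_apply, LinearMap.flip_apply, TensorProduct.mk_apply] at hc
    have : ∀ w : A ⊗[k] H, p ((HopfAlgebra.antipode k).lTensor A w) =
        TensorProduct.rid k A ((CoalgebraStruct.counit (R := k) (A := H)).lTensor A w) := by
      intro w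
      induction w using TensorProduct.induction_on with
      | zero => simp
      | add u v hu hv => simp only [map_add, hu, hv]
      | tmul u v => simp [p, HopfAlgebra.counit_antipode, Algebra.smul_def, mul_comm]
    exact (this _).trans (by rw [hc]; simp)
  have hj : ∀ x, j x ∈ GLin.invariants k H (A ⊗[k] H) := by
    intro x
    have h0 := LinearMap.congr_fun (HopfRep.Comod.coassoc (k := k) (A := H) (V := A)) x
    have hc := LinearMap.congr_fun (HopfRep.Comod.counit_comp (k := k) (A := H) (V := A)) x
    simp only [LinearMap.comp_apply, LinearEquiv.coe_coe, LinearMap.flip_apply, TensorProduct.mk_apply] at h0 hc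
    let G : A ⊗[k] (H ⊗[k] H) →ₗ[k] (A ⊗[k] H) ⊗[k] H :=
      (TensorProduct.assoc k A H H).symm.toLinearMap ∘ₗ
        (LinearMap.mul' k (H ⊗[k] H) ∘ₗ TensorProduct.map
          (Algebra.TensorProduct.includeRight : H →ₐ[k] H ⊗[k] H).toLinearMap
          ((Bialgebra.comulAlgHom k H).comp (HopfAlgebra.antipodeAlgHom k H)).toLinearMap).lTensor A
    have e1 : ∀ w : A ⊗[k] H, F ((HopfAlgebra.antipode k).lTensor A w) =
        G (TensorProduct.assoc k A H H ((HopfRep.Comod.coact (k := k) (A := H) (V := A)).rTensor H w)) := by
      intro w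
      induction w using TensorProduct.induction_on with
      | zero => simp
      | add u v hu hv => simp only [map_add, hu, hv]
      | tmul u v =>
        simp only [LinearMap.lTensor_tmul, LinearMap.rTensor_tmul, F, Algebra.TensorProduct.lift_tmul,
          AlgHom.comp_apply, GLin.coactAlgHom_apply, Bialgebra.comulAlgHom_apply]
        induction HopfRep.Comod.coact (k := k) (A := H) u using TensorProduct.induction_on with
        | zero => simp
        | add p q hp hq => simp only [map_add, add_mul, TensorProduct.add_tmul, hp, hq]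
        | tmul p q =>
          simp only [G, LinearMap.comp_apply, LinearEquiv.coe_coe, TensorProduct.assoc_tmul, LinearMap.lTensor_tmul,
            TensorProduct.map_tmul, LinearMap.mul'_apply, AlgHom.toLinearMap_apply, AlgHom.comp_apply,
            HopfAlgebra.antipodeAlgHom_apply, Bialgebra.comulAlgHom_apply,
            Algebra.TensorProduct.includeRight_apply, Algebra.TensorProduct.map_tmul]
          induction Coalgebra.comul (R := k) (HopfAlgebra.antipode k v) using TensorProduct.induction_on with
          | zero => simp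
          | add m n hm hn => simp only [map_add, mul_add, TensorProduct.tmul_add, hm, hn]
          | tmul m n => simp
    rw [GLin.mem_invariants_iff, hF]
    refine (e1 _).trans ?_
    rw [h0]
    simp only [G, LinearMap.comp_apply, LinearEquiv.coe_coe, ← LinearMap.lTensor_comp_apply]
    have e2 : (LinearMap.mul' k (H ⊗[k] H) ∘ₗ TensorProduct.map
          (Algebra.TensorProduct.includeRight : H →ₐ[k] H ⊗[k] H).toLinearMap
          ((Bialgebra.comulAlgHom k H).comp (HopfAlgebra.antipodeAlgHom k H)).toLinearMap) ∘ₗ
        (CoalgebraStruct.comul (R := k) (A := H)) = (TensorProduct.mk k H H).flip 1 ∘ₗ HopfAlgebra.antipode k :=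
      LinearMap.ext fun y => comul_antipode_mul y
    rw [e2]
    change (TensorProduct.assoc k A H H).symm
      (((TensorProduct.mk k H H).flip 1 ∘ₗ HopfAlgebra.antipode k).lTensor A
        (HopfRep.Comod.coact (k := k) (A := H) x)) = j x ⊗ₜ[k] (1 : H)
    simp only [j, LinearMap.comp_apply]
    induction HopfRep.Comod.coact (k := k) (A := H) x using TensorProduct.induction_on with
    | zero => simp
    | add u v hu hv => simp only [map_add, TensorProduct.add_tmul, hu, hv]
    | tmul u v => simp
  refine ⟨s.image p, eq_top_iff.2 fun x _ => ?_⟩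
  have hx : j x ∈ Algebra.adjoin k (⇑(algebraMap A (A ⊗[k] H)) '' ↑(GLin.invariants k H A) ∪ ↑s) := hs ▸ hj x
  let B : Subalgebra k A := (Algebra.adjoin ↥(GLin.invariants k H A) (↑(s.image p) : Set A)).restrictScalars k
  have hle : Algebra.adjoin k (⇑(algebraMap A (A ⊗[k] H)) '' ↑(GLin.invariants k H A) ∪ ↑s) ≤
      B.comap p := by
    refine Algebra.adjoin_le (Set.union_subset ?_ fun y hy => ?_)
    · rintro _ ⟨r, hr, rfl⟩
      have : p (algebraMap A (A ⊗[k] H) r) = r := by simp [p]
      simp only [SetLike.mem_coe, Subalgebra.mem_comap, B, Subalgebra.mem_restrictScalars]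
      rw [this]
      exact Subalgebra.algebraMap_mem (Algebra.adjoin ↥(GLin.invariants k H A) (↑(s.image p) : Set A)) ⟨r, hr⟩
    · simp only [SetLike.mem_coe, Subalgebra.mem_comap, B, Subalgebra.mem_restrictScalars]
      exact Algebra.subset_adjoin (Finset.mem_coe.2 (Finset.mem_image_of_mem _ hy))
  have := hle hx
  rw [Subalgebra.mem_comap, hpj] at this
  exact this

end Groth.Agent.Comod
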