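import Groth.Agent.Comod.Luna
import Groth.Agent.Comod.InvFinite
import Groth.Agent.EtStruct.Unibranch
import Groth.Agent.S2136
import Mathlib.RingTheory.Etale.Locus

/-!
# Luna's lemma: the induced map on invariants is étale
-/

universe u

noncomputable section

open TensorProduct

namespace Groth.Agent.Comod

theorem isGeomUnibranch_of_normal (A : Type u) [CommRing A] [IsLocalRing A] [IsDomain A] [IsIntegrallyClosed A] :
    CAlg2.IsGeomUnibranch A := by
  rw [EtStruct.isGeomUnibranch_iff A (FractionRing A)]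
  have hs : Function.Surjective (algebraMap A (integralClosure A (FractionRing A))) := fun ⟨z, hz⟩ => by
    obtain ⟨a, ha⟩ := IsIntegrallyClosed.isIntegral_iff.1 hz
    exact ⟨a, Subtype.ext ha⟩
  refine ⟨IsLocalRing.of_surjective' _ hs, fun m hm z => ?_⟩
  obtain ⟨a, ha⟩ := hs z
  exact ⟨0, a, by rw [ha, pow_zero, pow_one]⟩

theorem le_of_le_sup_pow {Q : Type u} [CommRing Q] [IsNoetherianRing Q] [IsLocalRing Q] {I E : Ideal Q} (hI : I ≠ ⊤)
    {c : Q} (h : ∀ j : ℕ, c ∈ E ⊔ I ^ j) : c ∈ E := by
  have h0 : Submodule.mkQ E c ∈ (⨅ i : ℕ, I ^ i • ⊤ : Submodule Q (Q ⧸ E)) := by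
    refine (Submodule.mem_iInf _).2 fun j => ?_
    obtain ⟨e, he, w, hw, rfl⟩ := Submodule.mem_sup.1 (h j)
    rw [map_add, show Submodule.mkQ E e = 0 from (Submodule.Quotient.mk_eq_zero E).2 he, zero_add,
      show Submodule.mkQ E w = w • Submodule.mkQ E 1 by rw [← map_smul, smul_eq_mul, mul_one]]
    exact Submodule.smul_mem_smul hw Submodule.mem_top
  rw [I.iInf_pow_smul_eq_bot_of_isLocalRing hI] at h0
  exact (Submodule.Quotient.mk_eq_zero E).1 h0

variable {k : Type u} [Field k] {A : Type u} [CommRing A] [HopfAlgebra k A]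
variable {R : Type u} [CommRing R] [Algebra k R] [HopfRep.Comod k A R] [GLin.IsCoactAlg k A R]

theorem invariants_finiteType [Algebra.FiniteType k R] {α : A →ₗ[k] k} (hα : IsIntegral k α) :
    Algebra.FiniteType k (GLin.invariants k A R) := by
  classical
  letI := HopfRep.Comod.trivial k A k
  haveI : GLin.IsCoactAlg k A k := ⟨rfl, fun a b => by
    change (a * b) ⊗ₜ[k] (1 : A) = (a ⊗ₜ[k] (1 : A)) * (b ⊗ₜ[k] (1 : A))
    rw [Algebra.TensorProduct.tmul_mul_tmul, one_mul]⟩
  obtain ⟨s, hs, h⟩ := exists_generators (A := k) (C := R) hα (by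
    refine LinearMap.ext fun c => ?_
    change HopfRep.Comod.coact (k := k) (A := A) (algebraMap k R c) = _
    rw [Algebra.algebraMap_eq_smul_one, map_smul, GLin.IsCoactAlg.coact_one (k := k) (A := A) (R := R)]
    change _ = algebraMap k R c ⊗ₜ[k] (1 : A)
    rw [Algebra.algebraMap_eq_smul_one, Algebra.TensorProduct.one_def, TensorProduct.smul_tmul'])
  refine (Subalgebra.fg_iff_finiteType _).1 ⟨s, le_antisymm (Algebra.adjoin_le fun z hz => hs z hz) ?_⟩
  rw [h]
  refine Algebra.adjoin_le (Set.union_subset ?_ Algebra.subset_adjoin)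
  rintro _ ⟨c, -, rfl⟩
  exact Subalgebra.algebraMap_mem _ c

theorem isSubcomod_of_slice (N : Ideal R)
    (h : ∀ (ψ : A →ₗ[k] k), ∀ r ∈ N, slice ψ (HopfRep.Comod.coact (k := k) (A := A) r) ∈ N) :
    HopfRep.IsSubcomod (k := k) (A := A) (N.restrictScalars k) := fun r hr =>
  (mem_range_iff_slice _ _).2 fun ψ => h ψ r hr

theorem slice_mul_tmul_one (ψ : A →ₗ[k] k) (w : R ⊗[k] A) (c : R) :
    slice ψ (w * c ⊗ₜ[k] (1 : A)) = slice ψ w * c := by
  induction w using TensorProduct.induction_on with
  | zero => simp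
  | tmul p e => simp [slice]
  | add p q hp hq => simp only [map_add, add_mul, hp, hq]

theorem isSubcomod_ker_orbit (x : R →ₐ[k] k) :
    HopfRep.IsSubcomod (k := k) (A := A) ((RingHom.ker (GLin.orbitHom k A x)).restrictScalars k) := by
  have h := isSubcomod_ker (isComodHom_orbitHom (A := A) x)
  have e : LinearMap.ker (GLin.orbitHom k A x).toLinearMap =
      (RingHom.ker (GLin.orbitHom k A x)).restrictScalars k := rfl
  rwa [e] at h

theorem isSubcomod_pow {I : Ideal R} (hI : HopfRep.IsSubcomod (k := k) (A := A) (I.restrictScalars k)) :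
    ∀ n : ℕ, HopfRep.IsSubcomod (k := k) (A := A) ((I ^ (n + 1)).restrictScalars k)
  | 0 => by rwa [zero_add, pow_one]
  | n + 1 => by
    rw [pow_succ]
    exact isSubcomod_mul (isSubcomod_pow hI n) hI

variable {S : Type u} [CommRing S] [Algebra k S] [HopfRep.Comod k A S] [GLin.IsCoactAlg k A S]
theorem invariants_isIntegrallyClosed [IsDomain S] [IsIntegrallyClosed S] :
    IsIntegrallyClosed (GLin.invariants k A S) := by
  refine (isIntegrallyClosed_iff (FractionRing (GLin.invariants k A S))).2 fun {z} hz => ?_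
  obtain ⟨a, b, hb, rfl⟩ := IsFractionRing.div_surjective (A := GLin.invariants k A S) z
  have hb0 : (b : S) ≠ 0 := fun h => nonZeroDivisors.ne_zero hb (Subtype.ext h)
  let ι : FractionRing (GLin.invariants k A S) →+* FractionRing S :=
    IsFractionRing.lift (A := GLin.invariants k A S) (g := (algebraMap S (FractionRing S)).comp (GLin.invariants k A S).val.toRingHom)
      ((IsFractionRing.injective S (FractionRing S)).comp Subtype.val_injective)
  have hι : ∀ c : GLin.invariants k A S, ι (algebraMap (GLin.invariants k A S) (FractionRing (GLin.invariants k A S)) c) =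
      algebraMap S (FractionRing S) (c : S) := fun c =>
    IsFractionRing.lift_algebraMap _ c
  have hint := _root_.IsIntegral.map_of_comp_eq (GLin.invariants k A S).val.toRingHom ι
    (RingHom.ext fun c => (hι c).symm) hz
  obtain ⟨s, hs⟩ := IsIntegrallyClosed.isIntegral_iff.1 hint
  rw [map_div₀, hι, hι, eq_div_iff ((map_ne_zero_iff _ (IsFractionRing.injective S (FractionRing S))).2 hb0),
    ← map_mul] at hs
  have hs' : s * (b : S) = (a : S) := IsFractionRing.injective S (FractionRing S) hs
  have hinv : s ∈ GLin.invariants k A S := by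
    have h := congrArg (HopfRep.Comod.coact (k := k) (A := A)) hs'
    rw [GLin.IsCoactAlg.coact_mul, show HopfRep.Comod.coact (k := k) (A := A) (a : S) = (a : S) ⊗ₜ[k] (1 : A) from a.2,
      show HopfRep.Comod.coact (k := k) (A := A) (b : S) = (b : S) ⊗ₜ[k] (1 : A) from b.2, ← hs'] at h
    change HopfRep.Comod.coact (k := k) (A := A) s = s ⊗ₜ[k] (1 : A)
    rw [← sub_eq_zero]
    refine eq_zero_of_slice _ fun ψ => ?_
    have h' := congrArg (slice ψ) h
    rw [slice_mul_tmul_one, show slice ψ ((s * (b : S)) ⊗ₜ[k] (1 : A)) =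
      slice ψ (s ⊗ₜ[k] (1 : A)) * (b : S) by simp [slice]] at h'
    rw [map_sub, sub_eq_zero]
    exact mul_right_cancel₀ hb0 h'
  refine ⟨⟨s, hinv⟩, (eq_div_iff (fun h => hb0 ?_)).2 ?_⟩
  · exact congrArg Subtype.val (IsFractionRing.injective _ _ (h.trans (map_zero _).symm))
  · rw [← map_mul]
    exact congrArg _ (Subtype.ext hs')

variable [IsAlgClosed k] [CharZero k] [IsDomain A] [Algebra.FiniteType k A] [Algebra.FiniteType k R]
  [Algebra.FiniteType k S] [Algebra S R] [IsScalarTower k S R] [Module.Finite S R]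

set_option synthInstance.maxHeartbeats 200000 in
/-- along the orbit the ideal of the orbit comes from below, modulo its square -/
theorem ker_le_map_sup_sq (hθ : Hoch.IsComodHom A (IsScalarTower.toAlgHom k S R).toLinearMap)
    (x : R →ₐ[k] k) (hx : GLin.IsClosedOrbit k A x)
    (hsurj : ∀ r : R, ∃ s : S, GLin.orbitHom k A x (algebraMap S R s) = GLin.orbitHom k A x r)
    (m : Ideal R) [m.IsPrime] (hm : m = RingHom.ker x.toRingHom) [Algebra.IsUnramifiedAt S m] :
    RingHom.ker (GLin.orbitHom k A x) ≤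
      ((RingHom.ker (GLin.orbitHom k A x)).comap (algebraMap S R)).map (algebraMap S R) ⊔
        RingHom.ker (GLin.orbitHom k A x) * RingHom.ker (GLin.orbitHom k A x) := by
  classical
  have : IsNoetherianRing R := Algebra.FiniteType.isNoetherianRing k R
  have : IsNoetherianRing S := Algebra.FiniteType.isNoetherianRing k S
  set o := GLin.orbitHom k A x with ho
  set I := RingHom.ker o with hI
  set J := I.comap (algebraMap S R) with hJ
  set JR := J.map (algebraMap S R) with hJR
  have hxo : ∀ r, o r = 0 → x r = 0 := fun r hr => by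
    rw [← counit_orbitHom (A := A) x, ← ho, hr, map_zero]
  have hIm : I ≤ m := fun r hr => by
    rw [hm, RingHom.mem_ker]
    exact hxo r hr
  have hm' : ∀ r, r ∈ m ↔ x r = 0 := fun r => by subst hm; exact RingHom.mem_ker
  -- the point `x`
  let n := m.comap (algebraMap S R)
  let Rm := Localization.AtPrime m
  have : m.LiesOver n := ⟨rfl⟩
  let _ := Localization.AtPrime.algebraOfLiesOver n m
  let Sn := Localization.AtPrime n
  let φ : Sn →+* Rm := Localization.localRingHom n m (algebraMap S R) rfl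
  have hφ : ∀ s, φ (algebraMap S Sn s) = algebraMap R Rm (algebraMap S R s) := fun s =>
    Localization.localRingHom_to_map _ _ _ _ _
  let CS := Sn ⧸ J.map (algebraMap S Sn)
  let q : S →+* CS := (Ideal.Quotient.mk _).comp (algebraMap S Sn)
  have hqJ : ∀ s ∈ J, q s = 0 := fun s hs =>
    Ideal.Quotient.eq_zero_iff_mem.2 (Ideal.mem_map_of_mem _ hs)
  let E : (S ⧸ J) ≃+* (R ⧸ I) := RingEquiv.ofBijective (Ideal.quotientMap I (algebraMap S R) le_rfl)
    ⟨Ideal.quotientMap_injective, fun z => by
      obtain ⟨r, rfl⟩ := Ideal.Quotient.mk_surjective z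
      obtain ⟨s, hs⟩ := hsurj r
      refine ⟨Ideal.Quotient.mk J s, ?_⟩
      rw [Ideal.quotientMap_mk, Ideal.Quotient.eq, hI, RingHom.mem_ker, map_sub, hs, sub_self]⟩
  let χ₀ : R →+* CS := ((Ideal.Quotient.lift J q hqJ).comp E.symm.toRingHom).comp (Ideal.Quotient.mk I)
  have hχ₀ : ∀ (s : S) (r : R), r - algebraMap S R s ∈ I → χ₀ r = q s := fun s r h => by
    change Ideal.Quotient.lift J q hqJ (E.symm (Ideal.Quotient.mk I r)) = q s
    rw [show Ideal.Quotient.mk I r = E (Ideal.Quotient.mk J s) from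
      (Ideal.Quotient.eq.2 h).trans (Ideal.quotientMap_mk (f := algebraMap S R) (H := le_rfl)).symm,
      E.symm_apply_apply]
    rfl
  have hxs : ∀ (s : S) (r : R), o (algebraMap S R s) = o r → x (algebraMap S R s) = x r := fun s r h => by
    rw [← counit_orbitHom (A := A) x, ← ho, h, counit_orbitHom]
  have hunit : ∀ u : m.primeCompl, IsUnit (χ₀ u) := fun u => by
    obtain ⟨s, hs⟩ := hsurj u
    rw [hχ₀ s u (by rw [hI, RingHom.mem_ker, map_sub, hs, sub_self])]
    have hsn : s ∈ n.primeCompl := fun hsn => u.2 (by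
      have : algebraMap S R s ∈ m := hsn
      refine (hm' _).2 ?_
      rw [hm'] at this
      rwa [hxs s u hs] at this)
    exact IsUnit.map (Ideal.Quotient.mk (J.map (algebraMap S Sn)))
      (IsLocalization.map_units Sn (⟨s, hsn⟩ : n.primeCompl))
  let χ : Rm →+* CS := IsLocalization.lift hunit
  have hχ : ∀ s, χ (algebraMap R Rm (algebraMap S R s)) = q s := fun s => by
    rw [IsLocalization.lift_eq]
    exact hχ₀ s _ (by rw [sub_self]; exact I.zero_mem)
  -- approximation by `S` in `Rm`
  set M := IsLocalRing.maximalIdeal Rm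
  have hun : (n.map (algebraMap S Rm)) = M :=
    ((Algebra.isUnramifiedAt_iff_map_eq S n m).1 inferInstance).2
  have hres : ∀ z : Rm, ∃ s : S, z - algebraMap S Rm s ∈ M := by
    intro z
    obtain ⟨⟨r, u⟩, rfl⟩ := IsLocalization.mk'_surjective m.primeCompl z
    have hxu : x (u : R) ≠ 0 := fun h => u.2 ((hm' _).2 h)
    refine ⟨algebraMap k S (x r / x (u : R)), ?_⟩
    have hmem : r - (u : R) * algebraMap k R (x r / x (u : R)) ∈ m := by
      rw [hm']
      rw [map_sub, map_mul, AlgHom.commutes, Algebra.algebraMap_self_apply, mul_div_cancel₀ _ hxu, sub_self]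
    have h1 := Ideal.mem_map_of_mem (algebraMap R Rm) hmem
    rw [Localization.AtPrime.map_eq_maximalIdeal, map_sub, map_mul] at h1
    refine (Ideal.unit_mul_mem_iff_mem _ (IsLocalization.map_units Rm u)).1 ?_
    rw [mul_sub, IsScalarTower.algebraMap_apply S R Rm, ← IsScalarTower.algebraMap_apply k S R,
      IsLocalization.mk'_spec']
    exact h1
  have hMj : ∀ j : ℕ, ∀ w ∈ M ^ j, ∃ s ∈ n ^ j, w - algebraMap S Rm s ∈ M ^ (j + 1) := by
    intro j w hw
    rw [← hun, ← Ideal.map_pow] at hw
    induction hw using Submodule.span_induction with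
    | mem a ha =>
      obtain ⟨s, hs, rfl⟩ := ha
      exact ⟨s, hs, by rw [sub_self]; exact zero_mem _⟩
    | zero => exact ⟨0, zero_mem _, by simp⟩
    | add a b _ _ ha hb =>
      obtain ⟨s, hs, hsa⟩ := ha
      obtain ⟨t, ht, htb⟩ := hb
      refine ⟨s + t, add_mem hs ht, ?_⟩
      rw [map_add, add_sub_add_comm]
      exact add_mem hsa htb
    | smul c a _ ha =>
      obtain ⟨s, hs, hsa⟩ := ha
      obtain ⟨t, ht⟩ := hres c
      refine ⟨t * s, Ideal.mul_mem_left _ _ hs, ?_⟩
      rw [show c • a - algebraMap S Rm (t * s) =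
        c * (a - algebraMap S Rm s) + (c - algebraMap S Rm t) * algebraMap S Rm s by
          rw [map_mul, smul_eq_mul]; ring]
      refine add_mem (Ideal.mul_mem_left _ _ hsa) ?_
      rw [pow_succ', ← hun, ← Ideal.map_pow]
      exact Ideal.mul_mem_mul (hun ▸ ht) (Ideal.mem_map_of_mem _ hs)
  have happ : ∀ (j : ℕ) (z : Rm), ∃ s : S, z - algebraMap S Rm s ∈ M ^ j := by
    intro j
    induction j with
    | zero => exact fun z => ⟨0, by simp⟩
    | succ j ih =>
      intro z
      obtain ⟨s, hs⟩ := ih z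
      obtain ⟨t, -, ht⟩ := hMj j _ hs
      exact ⟨s + t, by rw [map_add, ← sub_sub]; exact ht⟩
  have hφM : ∀ j, ((n ^ j).map (algebraMap S Sn)).map φ ≤ M ^ j := fun j => by
    rw [Ideal.map_map, show φ.comp (algebraMap S Sn) = algebraMap S Rm from RingHom.ext fun s => by
      rw [RingHom.comp_apply, hφ, ← IsScalarTower.algebraMap_apply], Ideal.map_pow, hun]
  have hφJ : (J.map (algebraMap S Sn)).map φ ≤ JR.map (algebraMap R Rm) := by
    rw [Ideal.map_map, hJR, Ideal.map_map]
    exact le_of_eq (congrArg (fun f => Ideal.map f J) (RingHom.ext hφ))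
  have hloc : ∀ c ∈ I, algebraMap R Rm c ∈ JR.map (algebraMap R Rm) := by
    intro c hc
    refine le_of_le_sup_pow (Ideal.IsPrime.ne_top' (I := M)) fun j => ?_
    obtain ⟨s, hs⟩ := happ j (algebraMap R Rm c)
    have h0 : χ (algebraMap R Rm c) = 0 := by
      rw [IsLocalization.lift_eq, hχ₀ 0 c (by simpa using hc), map_zero]
    have h1 : χ (algebraMap R Rm c - algebraMap S Rm s) = -q s := by
      rw [map_sub, h0, IsScalarTower.algebraMap_apply S R Rm, hχ, zero_sub]
    have h2 : χ (algebraMap R Rm c - algebraMap S Rm s) ∈ ((n ^ j).map (algebraMap S Sn)).map (Ideal.Quotient.mk _) := by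
      have hle : (M ^ j).map χ ≤ ((n ^ j).map (algebraMap S Sn)).map (Ideal.Quotient.mk _) := by
        rw [← hun, ← Ideal.map_pow, Ideal.map_map, Ideal.map_map]
        refine le_of_eq (congrArg (fun f => Ideal.map f (n ^ j)) (RingHom.ext fun t => ?_))
        rw [RingHom.comp_apply, IsScalarTower.algebraMap_apply S R Rm, hχ]
      exact hle (Ideal.mem_map_of_mem _ hs)
    rw [h1, neg_mem_iff] at h2
    replace h2 := (Ideal.mem_quotient_iff_mem_sup (x := algebraMap S Sn s)).1 h2
    have h3 := Ideal.mem_map_of_mem φ h2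
    rw [Ideal.map_sup, hφ, ← IsScalarTower.algebraMap_apply] at h3
    have h4 : algebraMap S Rm s ∈ JR.map (algebraMap R Rm) ⊔ M ^ j :=
      sup_le (le_sup_of_le_right (hφM j)) (le_sup_of_le_left hφJ) h3
    have := add_mem h4 (Submodule.mem_sup_right (S := JR.map (algebraMap R Rm)) hs)
    simpa using this
  -- spread along the orbit
  have hJsub : HopfRep.IsSubcomod (k := k) (A := A) (JR.restrictScalars k) := by
    intro w hw
    induction hw using Submodule.span_induction with
    | mem a ha =>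
      obtain ⟨s, hs, rfl⟩ := ha
      rw [show HopfRep.Comod.coact (k := k) (A := A) (algebraMap S R s) =
        (IsScalarTower.toAlgHom k S R).toLinearMap.rTensor A (HopfRep.Comod.coact (k := k) (A := A) s) from
          LinearMap.congr_fun hθ s]
      have hJS : HopfRep.Comod.coact (k := k) (A := A) s ∈
          LinearMap.range ((J.restrictScalars k).subtype.rTensor A) := by
        refine isSubcomod_of_slice J (fun ψ r hr => ?_) s hs
        have h := slice_mem_of_mem_range ψ _ (isSubcomod_ker_orbit x _ hr)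
        rw [show HopfRep.Comod.coact (k := k) (A := A) (algebraMap S R r) =
          (IsScalarTower.toAlgHom k S R).toLinearMap.rTensor A (HopfRep.Comod.coact (k := k) (A := A) r) from
            LinearMap.congr_fun hθ r, slice_rTensor] at h
        exact h
      obtain ⟨w, hw⟩ := hJS
      rw [← hw]
      clear hw
      induction w using TensorProduct.induction_on with
      | zero => simp
      | add p p' hp hp' => simp only [map_add]; exact add_mem hp hp'
      | tmul p e =>
        exact ⟨(⟨algebraMap S R p, Ideal.mem_map_of_mem _ p.2⟩ : JR.restrictScalars k) ⊗ₜ[k] e, by simp⟩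
    | zero => simp
    | add a b _ _ ha hb => rw [map_add]; exact add_mem ha hb
    | smul c a _ ha => rw [smul_eq_mul, GLin.IsCoactAlg.coact_mul]; exact mul_mem_range _ _ ha
  have hIsub := isSubcomod_ker_orbit (A := A) x
  have hTsub : HopfRep.IsSubcomod (k := k) (A := A) ((JR ⊔ I * I).restrictScalars k) := by
    have h := isSubcomod_sup hJsub (isSubcomod_mul hIsub hIsub)
    have e : JR.restrictScalars k ⊔ (I * I).restrictScalars k = (JR ⊔ I * I).restrictScalars k :=
      (Submodule.restrictScalars_sup k JR (I * I)).symm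
    rwa [e] at h
  let N : Ideal R :=
    { carrier := {t | ∀ y ∈ I, t * y ∈ JR ⊔ I * I}
      zero_mem' := fun y _ => by simp
      add_mem' := fun {p p'} hp hp' y hy => by rw [add_mul]; exact add_mem (hp y hy) (hp' y hy)
      smul_mem' := fun c p hp y hy => by rw [smul_eq_mul, mul_assoc]; exact Ideal.mul_mem_left _ _ (hp y hy) }
  obtain ⟨G, hG⟩ := (IsNoetherian.noetherian (I : Submodule R R) : Submodule.FG _)
  have hden : ∀ c ∈ I, ∃ t : R, t ∉ m ∧ t * c ∈ JR := fun c hc => by
    obtain ⟨⟨⟨p, hp⟩, u⟩, h⟩ := (IsLocalization.mem_map_algebraMap_iff m.primeCompl Rm).1 (hloc c hc)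
    rw [← map_mul, IsLocalization.eq_iff_exists m.primeCompl] at h
    obtain ⟨v, hv⟩ := h
    refine ⟨(v : R) * u, m.primeCompl.mul_mem v.2 u.2, ?_⟩
    rw [mul_assoc, mul_comm (u : R), hv]
    exact Ideal.mul_mem_left _ _ hp
  choose den hdenm hden using hden
  let t : R := ∏ c ∈ G.attach, den c (hG ▸ Submodule.subset_span c.2)
  have htm : t ∉ m := fun h => by
    obtain ⟨c, -, hc⟩ := (Ideal.IsPrime.prod_mem_iff (p := m)).1 h
    exact hdenm _ _ hc
  have htN : t ∈ N := by
    intro y hy
    refine Submodule.mem_sup_left ?_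
    change t * y ∈ JR
    have hy' : y ∈ Submodule.span R (G : Set R) := hG.symm ▸ hy
    induction hy' using Submodule.span_induction with
    | mem c hc =>
      rw [show t = (∏ d ∈ G.attach.erase ⟨c, hc⟩, den d (hG ▸ Submodule.subset_span d.2)) * den c _ from
        (Finset.prod_erase_mul _ _ (Finset.mem_attach _ _)).symm, mul_assoc]
      exact Ideal.mul_mem_left _ _ (hden _ _)
    | zero => simp
    | add a b ha' hb' ha hb =>
      rw [mul_add]
      exact add_mem (ha (hG ▸ ha')) (hb (hG ▸ hb'))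
    | smul c a ha' ha =>
      rw [smul_eq_mul, mul_left_comm]
      exact Ideal.mul_mem_left _ _ (ha (hG ▸ ha'))
  have htop : N = ⊤ := by
    refine eq_top_of_stable x hx N (fun r hr y hy => Submodule.mem_sup_right (Ideal.mul_mem_mul hr hy))
      (fun ψ r hr y hy => ?_) htN fun h0 => htm ?_
    · have h := slice_mem_of_mem_range ψ _ (colon_coact hIsub hTsub hr hy)
      rwa [slice_mul_tmul_one] at h
    · rw [hm, RingHom.mem_ker]
      exact hxo t h0
  intro y hy
  simpa using (htop ▸ Submodule.mem_top : (1 : R) ∈ N) y hy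

omit [Algebra k S] [HopfRep.Comod k A S] [GLin.IsCoactAlg k A S] [IsAlgClosed k] [CharZero k] [IsDomain A]
  [Algebra.FiniteType k A] [Algebra.FiniteType k R] [Algebra.FiniteType k S] [IsScalarTower k S R] [Module.Finite S R] in
/-- every function is a function from below modulo any power of the ideal of the orbit -/
theorem exists_approx (x : R →ₐ[k] k)
    (hsurj : ∀ r : R, ∃ s : S, GLin.orbitHom k A x (algebraMap S R s) = GLin.orbitHom k A x r)
    (hsq : RingHom.ker (GLin.orbitHom k A x) ≤
      ((RingHom.ker (GLin.orbitHom k A x)).comap (algebraMap S R)).map (algebraMap S R) ⊔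
        RingHom.ker (GLin.orbitHom k A x) * RingHom.ker (GLin.orbitHom k A x)) :
    ∀ (j : ℕ) (r : R), ∃ s : S, r - algebraMap S R s ∈ RingHom.ker (GLin.orbitHom k A x) ^ j := by
  set I := RingHom.ker (GLin.orbitHom k A x) with hI
  set J := I.comap (algebraMap S R) with hJ
  set JR := J.map (algebraMap S R) with hJR
  have hJI : JR ≤ I := Ideal.map_comap_le
  have hpow : ∀ j : ℕ, I ^ j ≤ JR ^ j ⊔ I ^ (j + 1) := by
    intro j
    induction j with
    | zero => simp
    | succ j ih =>
      calc I ^ (j + 1) = I ^ j * I := pow_succ _ _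
        _ ≤ (JR ^ j ⊔ I ^ (j + 1)) * (JR ⊔ I * I) := Ideal.mul_mono ih hsq
        _ ≤ JR ^ (j + 1) ⊔ I ^ (j + 1 + 1) := by
          rw [Ideal.sup_mul, Ideal.mul_sup, Ideal.mul_sup]
          refine sup_le (sup_le (le_sup_of_le_left (le_of_eq (pow_succ _ _).symm)) ?_) (sup_le ?_ ?_)
          · refine le_sup_of_le_right ?_
            calc JR ^ j * (I * I) ≤ I ^ j * (I * I) := Ideal.mul_mono_left (Ideal.pow_right_mono hJI j)
              _ = I ^ (j + 1 + 1) := by rw [← mul_assoc, ← pow_succ, ← pow_succ]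
          · refine le_sup_of_le_right ?_
            calc I ^ (j + 1) * JR ≤ I ^ (j + 1) * I := Ideal.mul_mono_right hJI
              _ = I ^ (j + 1 + 1) := (pow_succ _ _).symm
          · refine le_sup_of_le_right ?_
            calc I ^ (j + 1) * (I * I) ≤ I ^ (j + 1) * I := Ideal.mul_mono_right Ideal.mul_le_left
              _ = I ^ (j + 1 + 1) := (pow_succ _ _).symm
  have hgen : ∀ j : ℕ, ∀ w ∈ JR ^ j, ∃ s ∈ J ^ j, w - algebraMap S R s ∈ I ^ (j + 1) := by
    intro j w hw
    rw [hJR, ← Ideal.map_pow] at hw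
    induction hw using Submodule.span_induction with
    | mem a ha =>
      obtain ⟨s, hs, rfl⟩ := ha
      exact ⟨s, hs, by rw [sub_self]; exact zero_mem _⟩
    | zero => exact ⟨0, zero_mem _, by simp⟩
    | add a b _ _ ha hb =>
      obtain ⟨s, hs, hsa⟩ := ha
      obtain ⟨t, ht, htb⟩ := hb
      refine ⟨s + t, add_mem hs ht, ?_⟩
      rw [map_add, add_sub_add_comm]
      exact add_mem hsa htb
    | smul c a _ ha =>
      obtain ⟨s, hs, hsa⟩ := ha
      obtain ⟨t, ht⟩ := hsurj c
      have htI : c - algebraMap S R t ∈ I := by rw [hI, RingHom.mem_ker, map_sub, ht, sub_self]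
      refine ⟨t * s, Ideal.mul_mem_left _ _ hs, ?_⟩
      rw [show c • a - algebraMap S R (t * s) =
        c * (a - algebraMap S R s) + (c - algebraMap S R t) * algebraMap S R s by
          rw [map_mul, smul_eq_mul]; ring]
      refine add_mem (Ideal.mul_mem_left _ _ hsa) ?_
      rw [pow_succ']
      refine Ideal.mul_mem_mul htI (Ideal.pow_right_mono hJI j ?_)
      rw [hJR, ← Ideal.map_pow]
      exact Ideal.mem_map_of_mem _ hs
  intro j
  induction j with
  | zero => exact fun r => ⟨0, by simp⟩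
  | succ j ih =>
    intro r
    obtain ⟨s, hs⟩ := ih r
    obtain ⟨p, hp, q, hq, hpq⟩ := Submodule.mem_sup.1 (hpow j hs)
    obtain ⟨t, -, ht⟩ := hgen j p hp
    refine ⟨s + t, ?_⟩
    rw [map_add, ← sub_sub, ← hpq, show p + q - algebraMap S R t = (p - algebraMap S R t) + q by ring]
    exact add_mem ht hq

omit [Module.Finite S R] in
/-- Luna: the induced map on invariants is unramified at the image of a closed orbit -/
theorem maximal_eq_map_sup_sq {α : A →ₗ[k] k} (hα : IsIntegral k α)
    (hθ : Hoch.IsComodHom A (IsScalarTower.toAlgHom k S R).toLinearMap) (x : R →ₐ[k] k)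
    (hx : GLin.IsClosedOrbit k A x)
    (happ : ∀ (j : ℕ) (r : R), ∃ s : S, r - algebraMap S R s ∈ RingHom.ker (GLin.orbitHom k A x) ^ j)
    (S₀ : Type u) [CommRing S₀] [Algebra k S₀] [Algebra S₀ S] [IsScalarTower k S₀ S]
    (hS₀ : (IsScalarTower.toAlgHom k S₀ S).range = GLin.invariants k A S)
    (R₀ : Type u) [CommRing R₀] [Algebra k R₀] [Algebra R₀ R] [IsScalarTower k R₀ R]
    (hR₀i : Function.Injective (algebraMap R₀ R)) (hR₀ : (IsScalarTower.toAlgHom k R₀ R).range = GLin.invariants k A R)
    [Algebra S₀ R₀] [Algebra S₀ R] [IsScalarTower S₀ S R] [IsScalarTower S₀ R₀ R]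
    (m : Ideal R) [m.IsMaximal] (hm : m = RingHom.ker x.toRingHom) :
    m.comap (algebraMap R₀ R) ≤
      ((m.comap (algebraMap R₀ R)).comap (algebraMap S₀ R₀)).map (algebraMap S₀ R₀) ⊔
        (m.comap (algebraMap R₀ R)) ^ 2 := by
  classical
  have : IsNoetherianRing R := Algebra.FiniteType.isNoetherianRing k R
  set o := GLin.orbitHom k A x with ho
  set I := RingHom.ker o with hI
  set m₀ := m.comap (algebraMap R₀ R) with hm₀
  set E := (m₀.comap (algebraMap S₀ R₀)).map (algebraMap S₀ R₀) ⊔ m₀ ^ 2 with hE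
  set ER := E.map (algebraMap R₀ R) with hER
  have hm' : ∀ r, r ∈ m ↔ x r = 0 := fun r => by subst hm; exact RingHom.mem_ker
  have hmem : ∀ e : R₀, algebraMap R₀ R e ∈ HopfRep.fixedPts k A R := fun e =>
    (hR₀ ▸ (⟨e, rfl⟩ : algebraMap R₀ R e ∈ (IsScalarTower.toAlgHom k R₀ R).range) :
      algebraMap R₀ R e ∈ GLin.invariants k A R)
  have hlift : ∀ r ∈ HopfRep.fixedPts k A R, ∃ e : R₀, algebraMap R₀ R e = r := fun r hr => by
    have : r ∈ (IsScalarTower.toAlgHom k R₀ R).range := by rw [hR₀]; exact hr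
    exact this
  have hIsub := isSubcomod_ker_orbit (A := A) x
  have hIm : I ≤ m := fun r hr => by
    rw [hm', ← counit_orbitHom (A := A) x, ← ho, show o r = 0 from hr, map_zero]
  -- the contraction of `ER`
  have hcontr : ∀ z ∈ ER, ∀ r : R, ∃ e ∈ E, algebraMap R₀ R e = avg α (r * z) := by
    intro z hz
    induction hz using Submodule.span_induction with
    | mem a ha =>
      obtain ⟨e, he, rfl⟩ := ha
      intro r
      obtain ⟨e', he'⟩ := hlift _ (avg_mem hα r)
      exact ⟨e' * e, E.mul_mem_left _ he, by rw [map_mul, he', avg_mul_fixed α _ (hmem e)]⟩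
    | zero => exact fun r => ⟨0, E.zero_mem, by simp⟩
    | add a b _ _ ha hb =>
      intro r
      obtain ⟨e, he, h⟩ := ha r
      obtain ⟨e', he', h'⟩ := hb r
      exact ⟨e + e', add_mem he he', by rw [map_add, mul_add, map_add, h, h']⟩
    | smul c a _ ha =>
      intro r
      obtain ⟨e, he, h⟩ := ha (r * c)
      exact ⟨e, he, by rw [h, smul_eq_mul, mul_assoc]⟩
  intro c hc
  have hc' : algebraMap R₀ R c ∈ m := hc
  -- `c` is in every `ER + I ^ j`
  have hcj : ∀ j : ℕ, algebraMap R₀ R c ∈ ER ⊔ I ^ j := by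
    intro j
    suffices h : algebraMap R₀ R c ∈ ER ⊔ I ^ (j + 1) by
      obtain ⟨p, hp, q, hq, hpq⟩ := Submodule.mem_sup.1 h
      rw [← hpq]
      exact Submodule.add_mem_sup hp (Ideal.pow_le_pow_right (Nat.le_succ j) hq)
    obtain ⟨s, hs⟩ := happ (j + 1) (algebraMap R₀ R c)
    have h1 := avg_mem_of_isSubcomod α (isSubcomod_pow hIsub j)
      (show algebraMap R₀ R c - algebraMap S R s ∈ (I ^ (j + 1)).restrictScalars k from hs)
    rw [map_sub, avg_eq_self hα (hmem c),
      show avg α (algebraMap S R s) = algebraMap S R (avg α s) from (map_avg α hθ s).symm] at h1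
    obtain ⟨s₀, hs₀⟩ : avg α s ∈ (IsScalarTower.toAlgHom k S₀ S).range := by rw [hS₀]; exact avg_mem hα s
    have h2 : algebraMap S R (avg α s) = algebraMap R₀ R (algebraMap S₀ R₀ s₀) := by
      rw [← hs₀, ← IsScalarTower.algebraMap_apply S₀ R₀ R]
      exact (IsScalarTower.algebraMap_apply S₀ S R s₀).symm
    rw [h2] at h1
    have h3 : algebraMap R₀ R (algebraMap S₀ R₀ s₀) ∈ m := by
      have := hIm (Ideal.pow_le_self (Nat.succ_ne_zero j) h1)
      simpa using sub_mem hc' this
    rw [← sub_add_cancel (algebraMap R₀ R c) (algebraMap R₀ R (algebraMap S₀ R₀ s₀))]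
    refine add_mem (Submodule.mem_sup_right h1) (Submodule.mem_sup_left (Ideal.mem_map_of_mem _ ?_))
    exact Submodule.mem_sup_left (Ideal.mem_map_of_mem _ (show s₀ ∈ m₀.comap (algebraMap S₀ R₀) from h3))
  -- Krull at the point
  let Rm := Localization.AtPrime m
  have hkrull : algebraMap R Rm (algebraMap R₀ R c) ∈ ER.map (algebraMap R Rm) := by
    refine le_of_le_sup_pow (I := I.map (algebraMap R Rm)) ?_ fun j => ?_
    · refine ne_top_of_le_ne_top (Ideal.IsPrime.ne_top' (I := IsLocalRing.maximalIdeal Rm)) ?_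
      rw [← Localization.AtPrime.map_eq_maximalIdeal]
      exact Ideal.map_mono hIm
    · rw [← Ideal.map_pow, ← Ideal.map_sup]
      exact Ideal.mem_map_of_mem _ (hcj j)
  obtain ⟨⟨⟨p, hp⟩, u⟩, hu⟩ := (IsLocalization.mem_map_algebraMap_iff m.primeCompl Rm).1 hkrull
  rw [← map_mul, IsLocalization.eq_iff_exists m.primeCompl] at hu
  obtain ⟨v, hv⟩ := hu
  have hERsub : HopfRep.IsSubcomod (k := k) (A := A) (ER.restrictScalars k) :=
    isSubcomod_span_fixed (by rintro _ ⟨e, -, rfl⟩; exact hmem e)
  let N : Ideal R :=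
    { carrier := {t | t * algebraMap R₀ R c ∈ ER}
      zero_mem' := by simp
      add_mem' := fun {a b} ha hb => by rw [Set.mem_ofPred_eq, add_mul]; exact add_mem ha hb
      smul_mem' := fun d a ha => by rw [Set.mem_ofPred_eq, smul_eq_mul, mul_assoc]; exact ER.mul_mem_left _ ha }
  have hNslice : ∀ (ψ : A →ₗ[k] k), ∀ r ∈ N, slice ψ (HopfRep.Comod.coact (k := k) (A := A) r) ∈ N := by
    intro ψ r hr
    have h := slice_mem_of_mem_range ψ _ (hERsub _ hr)
    rwa [GLin.IsCoactAlg.coact_mul, show HopfRep.Comod.coact (k := k) (A := A) (algebraMap R₀ R c) =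
      algebraMap R₀ R c ⊗ₜ[k] (1 : A) from hmem c, slice_mul_tmul_one] at h
  have hvu : (v : R) * u ∈ N := by
    change (v : R) * u * algebraMap R₀ R c ∈ ER
    rw [mul_assoc, mul_comm (u : R), hv]
    exact Ideal.mul_mem_left _ _ hp
  have htop : N ⊔ I = ⊤ := by
    refine eq_top_of_stable x hx (N ⊔ I) le_sup_right (fun ψ r hr => ?_) (Submodule.mem_sup_left hvu) fun h0 => ?_
    · obtain ⟨a, ha, b, hb, rfl⟩ := Submodule.mem_sup.1 hr
      rw [map_add, map_add]
      exact Submodule.add_mem_sup (hNslice ψ a ha) (slice_mem_of_mem_range ψ _ (hIsub b hb))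
    · exact m.primeCompl.mul_mem v.2 u.2 (hIm h0)
  obtain ⟨t, ht, i, hi, hti⟩ := Submodule.mem_sup.1 (htop ▸ Submodule.mem_top : (1 : R) ∈ N ⊔ I)
  have hu1 : x (avg α t) = 1 := by
    rw [← counit_orbitHom (A := A) x, ← ho, show o (avg α t) = avg α (o t) from
      map_avg α (isComodHom_orbitHom (A := A) x) t]
    have : o t = 1 := by
      have h := congrArg o hti
      rwa [map_add, show o i = 0 from hi, add_zero, map_one] at h
    rw [this, avg_eq_self hα (show Coalgebra.comul (R := k) (1 : A) = (1 : A) ⊗ₜ[k] (1 : A) from Bialgebra.comul_one),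
      Bialgebra.counit_one]
  have hutN : avg α t * algebraMap R₀ R c ∈ ER := avg_mem_of_isSubcomod α (isSubcomod_of_slice N hNslice) ht
  obtain ⟨e, he, heq⟩ := hcontr _ hutN 1
  rw [one_mul, avg_eq_self hα] at heq
  swap
  · obtain ⟨w, hw⟩ := hlift _ (avg_mem hα t)
    rw [← hw, ← map_mul]
    exact hmem _
  obtain ⟨w, hw⟩ := hlift _ (avg_mem hα t)
  rw [← hw, ← map_mul] at heq
  have hwc : w * c ∈ E := hR₀i heq ▸ he
  have hw1 : w - 1 ∈ m₀ := by
    change algebraMap R₀ R (w - 1) ∈ m
    rw [hm', map_sub, map_sub, hw, hu1, map_one, map_one, sub_self]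
  have : (w - 1) * c ∈ E := Submodule.mem_sup_right (by rw [pow_two]; exact Ideal.mul_mem_mul hw1 hc)
  rw [show c = w * c - (w - 1) * c by ring]
  exact sub_mem hwc this

end Groth.Agent.Comod
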