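import Groth.Agent.Comod.Invariants
import Groth.Prelude.Def_GLin
import Groth.Prelude.Def_ComodSub
import Mathlib.RingTheory.Finiteness.Nakayama
import Mathlib.FieldTheory.IsAlgClosed.Basic
import Mathlib.RingTheory.Jacobson.Ring
import Mathlib.RingTheory.TensorProduct.Basic
import Mathlib.RingTheory.TensorProduct.Finite
import Mathlib.Algebra.Module.Projective

/-!
# Free actions of linearly reductive groups: the Galois map, descent of Hopf modules
-/

universe u v w w'

noncomputable section

open TensorProduct WithConv

namespace Groth.Agent.Comod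

variable {k : Type u} [Field k] {A : Type v} [CommRing A] [HopfAlgebra k A]
variable {R : Type w} [CommRing R] [Algebra k R] [HopfRep.Comod k A R] [GLin.IsCoactAlg k A R]

/-- the antipode of a commutative Hopf algebra is an involution -/
theorem antipode_invol (b : A) : HopfAlgebra.antipode k (HopfAlgebra.antipode k b) = b := by
  have h := left_inv_eq_right_inv (antipode_comp_conv (HopfAlgebra.antipodeAlgHom k A))
    (antipode_comp_conv (AlgHom.id k A))
  exact DFunLike.congr_fun (congrArg WithConv.ofConv h) b

variable (k A R) in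
/-- the Galois map `p ⊗ q ↦ p q₀ ⊗ q₁` -/
def canL : R ⊗[k] R →ₗ[R] R ⊗[k] A :=
  (HopfRep.Comod.coact (k := k) (A := A) (V := R)).liftBaseChange R

theorem canL_tmul (p q : R) :
    canL k A R (p ⊗ₜ[k] q) = p • HopfRep.Comod.coact (k := k) (A := A) q :=
  LinearMap.liftBaseChange_tmul _ _ p q

theorem exists_leftColinear_proj {α : A →ₗ[k] k} (hα : IsIntegral k α) (a : A) :
    ∃ f : A →ₗ[k] A, Module.Finite k (LinearMap.range f) ∧ f a = a ∧ f ∘ₗ f = f ∧
      ∀ b, slice (Coalgebra.counit ∘ₗ f) (Coalgebra.comul (R := k) b) = f b := by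
  let S := HopfAlgebra.antipode k (A := A)
  have hSS : ∀ b : A, S (S b) = b := antipode_invol
  obtain ⟨W, hWfin, haW, hW⟩ := exists_finite_subcomod (k := k) (A := A) (V := A) {S a}
  let _ : HopfRep.Comod k A W := ComodSub.Comod.restr (HopfRep.Comod.regular k A) W hW
  have hi : Hoch.IsComodHom A W.subtype := ComodSub.isComodHom_subtype (HopfRep.Comod.regular k A) W hW
  obtain ⟨p, hp⟩ := W.subtype.exists_leftInverse_of_injective W.ker_subtype
  obtain ⟨r, hr, hri⟩ := hα.exists_retraction W.subtype hi p hp
  let g : A →ₗ[k] A := W.subtype ∘ₗ r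
  have hg : ∀ w ∈ W, g w = w := fun w hw => congrArg Subtype.val (LinearMap.congr_fun hri ⟨w, hw⟩)
  have hgc : Hoch.IsComodHom A g := isComodHom_comp hi hr
  refine ⟨S ∘ₗ g ∘ₗ S, ?_, ?_, LinearMap.ext fun b => ?_, fun b => ?_⟩
  · haveI := hWfin
    refine Submodule.finiteDimensional_of_le (S₂ := W.map S) ?_
    rintro _ ⟨b, rfl⟩
    exact ⟨g (S b), (r (S b)).2, rfl⟩
  · change S (g (S a)) = a
    rw [hg _ (haW (by simp)), hSS]
  · change S (g (S (S (g (S b))))) = S (g (S b))
    rw [hSS]
    rw [hg (g (S b)) (r (S b)).2]
  · have h := LinearMap.congr_fun hgc (S b)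
    simp only [LinearMap.comp_apply] at h
    change Coalgebra.comul (R := k) (g (S b)) = g.rTensor A (Coalgebra.comul (R := k) (S b)) at h
    have h2 := congrArg (TensorProduct.lid k A ∘ (Coalgebra.counit (R := k) (A := A)).rTensor A) h
    simp only [Function.comp_apply, Coalgebra.rTensor_counit_comul, TensorProduct.lid_tmul, one_smul] at h2
    rw [comul_antipode] at h2
    change _ = S (g (S b))
    rw [h2]
    induction Coalgebra.comul (R := k) b using TensorProduct.induction_on with
    | zero => simp
    | tmul p q => simp [slice, hSS, antipode_invol, HopfAlgebra.counit_antipode, g, S]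
    | add y z hy hz => simp only [map_add, hy, hz]

theorem canL_surjective [IsAlgClosed k] [Algebra.FiniteType k R] {α : A →ₗ[k] k} (hα : IsIntegral k α)
    (hfree : ∀ x : R →ₐ[k] k, Function.Surjective (GLin.orbitHom k A x)) :
    Function.Surjective (canL k A R) := by
  suffices h : ∀ a : A, (1 : R) ⊗ₜ[k] a ∈ LinearMap.range (canL k A R) by
    intro w
    induction w using TensorProduct.induction_on with
    | zero => exact ⟨0, map_zero _⟩
    | tmul r a =>
      obtain ⟨z, hz⟩ := h a
      exact ⟨r • z, by rw [map_smul, hz, TensorProduct.smul_tmul', smul_eq_mul, mul_one]⟩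
    | add y z hy hz =>
      obtain ⟨p, rfl⟩ := hy
      obtain ⟨q, rfl⟩ := hz
      exact ⟨p + q, map_add _ _ _⟩
  intro a
  obtain ⟨f, hfin, hfa, hff, hf⟩ := exists_leftColinear_proj hα a
  let C := LinearMap.range f
  have hfC : ∀ c : C, f c = c := fun ⟨_, b, rfl⟩ => LinearMap.congr_fun hff b
  let F : R ⊗[k] R →ₗ[R] R ⊗[k] C := (f.rangeRestrict.baseChange R) ∘ₗ canL k A R
  have hFtop : LinearMap.range F = ⊤ := by
    let Q := LinearMap.range F
    by_contra hne
    obtain ⟨m, hm, hle⟩ := Ideal.exists_le_maximal (Module.annihilator R ((R ⊗[k] C) ⧸ Q)) (by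
      intro htop
      apply hne
      refine eq_top_iff.2 fun z _ => ?_
      have h1 : (1 : R) ∈ Module.annihilator R ((R ⊗[k] C) ⧸ Q) := htop ▸ Submodule.mem_top
      rw [Module.mem_annihilator] at h1
      have := h1 (Submodule.Quotient.mk z)
      rw [one_smul, Submodule.Quotient.mk_eq_zero] at this
      exact this)
    let _ : Field (R ⧸ m) := Ideal.Quotient.field m
    have : Module.Finite k (R ⧸ m) := finite_of_finite_type_of_isJacobsonRing k (R ⧸ m)
    let e : k ≃ₐ[k] R ⧸ m := AlgEquiv.ofBijective (Algebra.ofId k _)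
      IsAlgClosed.algebraMap_bijective_of_isIntegral
    let x : R →ₐ[k] k := e.symm.toAlgHom.comp (Ideal.Quotient.mkₐ k m)
    have hx : ∀ r, r - algebraMap k R (x r) ∈ m := fun r => by
      refine Ideal.Quotient.eq.1 ?_
      change _ = e (e.symm (Ideal.Quotient.mk m r))
      rw [e.apply_symm_apply]
    have hdiff : ∀ z : R ⊗[k] C,
        z - (1 : R) ⊗ₜ[k] TensorProduct.lid k C (x.toLinearMap.rTensor C z) ∈
          m • (⊤ : Submodule R (R ⊗[k] C)) := by
      intro z
      induction z using TensorProduct.induction_on with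
      | zero => simp
      | add y z hy hz =>
        have := add_mem hy hz
        simp only [map_add, TensorProduct.tmul_add]
        convert this using 1
        abel
      | tmul r c =>
        have : r ⊗ₜ[k] c - (1 : R) ⊗ₜ[k] (x r • c) = (r - algebraMap k R (x r)) • ((1 : R) ⊗ₜ[k] c) := by
          rw [TensorProduct.smul_tmul', smul_eq_mul, mul_one, TensorProduct.sub_tmul,
            Algebra.algebraMap_eq_smul_one, TensorProduct.smul_tmul]
        simp only [LinearMap.rTensor_tmul, AlgHom.toLinearMap_apply, TensorProduct.lid_tmul]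
        rw [this]
        exact Submodule.smul_mem_smul (hx r) Submodule.mem_top
    have htop : (⊤ : Submodule R ((R ⊗[k] C) ⧸ Q)) ≤ m • ⊤ := by
      have hgen : ∀ c : C, Submodule.Quotient.mk ((1 : R) ⊗ₜ[k] c) ∈
          m • (⊤ : Submodule R ((R ⊗[k] C) ⧸ Q)) := by
        intro c
        obtain ⟨r, hr⟩ := hfree x c
        have hlid : TensorProduct.lid k C (x.toLinearMap.rTensor C (F ((1 : R) ⊗ₜ[k] r))) = c := by
          change TensorProduct.lid k C (x.toLinearMap.rTensor C
            (f.rangeRestrict.baseChange R (canL k A R (1 ⊗ₜ[k] r)))) = c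
          rw [canL_tmul, one_smul, LinearMap.baseChange_eq_ltensor, ← LinearMap.comp_apply (f := x.toLinearMap.rTensor C),
            LinearMap.rTensor_comp_lTensor, ← LinearMap.lTensor_comp_rTensor, LinearMap.comp_apply]
          have e : ∀ w : k ⊗[k] A, TensorProduct.lid k C (f.rangeRestrict.lTensor k w) =
              f.rangeRestrict (TensorProduct.lid k A w) := fun w => by
            induction w using TensorProduct.induction_on with
            | zero => simp
            | tmul p q => simp
            | add y z hy hz => simp only [map_add, hy, hz]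
          rw [e]
          refine Subtype.ext ?_
          change f (GLin.orbitHom k A x r) = c
          rw [hr, hfC]
        have hq : Submodule.Quotient.mk ((1 : R) ⊗ₜ[k] c) =
            -(Submodule.mkQ Q (F ((1 : R) ⊗ₜ[k] r) - (1 : R) ⊗ₜ[k] c)) := by
          rw [map_sub, Submodule.mkQ_apply, Submodule.mkQ_apply,
            (Submodule.Quotient.mk_eq_zero Q).2 ⟨_, rfl⟩, zero_sub, neg_neg]
        rw [hq]
        refine neg_mem ?_
        have := hdiff (F ((1 : R) ⊗ₜ[k] r))
        rw [hlid] at this
        have h3 := Submodule.mem_map_of_mem (f := Submodule.mkQ Q) this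
        rw [Submodule.map_smul''] at h3
        exact Submodule.smul_mono le_rfl le_top h3
      rintro z -
      obtain ⟨z, rfl⟩ := Submodule.Quotient.mk_surjective _ z
      induction z using TensorProduct.induction_on with
      | zero => simp
      | add y z hy hz => exact Submodule.Quotient.mk_add Q ▸ add_mem hy hz
      | tmul r c =>
        rw [show r ⊗ₜ[k] c = r • ((1 : R) ⊗ₜ[k] c) by rw [TensorProduct.smul_tmul', smul_eq_mul, mul_one],
          Submodule.Quotient.mk_smul]
        exact Submodule.smul_mem _ _ (hgen c)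
    haveI := hfin
    obtain ⟨r, hr1, hr⟩ := Submodule.exists_sub_one_mem_and_smul_eq_zero_of_fg_of_le_smul m
      (⊤ : Submodule R ((R ⊗[k] C) ⧸ Q)) (Module.Finite.fg_top) htop
    have hrm : r ∈ m := hle (Module.mem_annihilator.2 fun n => hr n Submodule.mem_top)
    exact hm.ne_top ((Ideal.eq_top_iff_one m).2 (by simpa using sub_mem hrm hr1))
  obtain ⟨z, hz⟩ := (LinearMap.range_eq_top.1 hFtop) ((1 : R) ⊗ₜ[k] ⟨a, a, hfa⟩)
  have key : ∀ z : R ⊗[k] R, (C.subtype ∘ₗ f.rangeRestrict).lTensor R (canL k A R z) ∈
      LinearMap.range (canL k A R) := by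
    intro z
    induction z using TensorProduct.induction_on with
    | zero => simp
    | add y z hy hz =>
      simp only [map_add]
      exact add_mem hy hz
    | tmul p q =>
      refine ⟨p ⊗ₜ[k] contract (Coalgebra.counit ∘ₗ f : A →ₗ[k] k) q, ?_⟩
      have hcf : C.subtype ∘ₗ f.rangeRestrict = f := rfl
      rw [hcf, canL_tmul, canL_tmul, ← LinearMap.baseChange_eq_ltensor, map_smul, LinearMap.baseChange_eq_ltensor]
      congr 1
      have h := LinearMap.congr_fun (HopfRep.Comod.coassoc (k := k) (A := A) (V := R)) q
      simp only [LinearMap.comp_apply, LinearEquiv.coe_coe] at h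
      have h2 := congrArg ((slice (V := A) (Coalgebra.counit ∘ₗ f)).lTensor R) h
      have e1 : ∀ w : R ⊗[k] A, (slice (V := A) (Coalgebra.counit ∘ₗ f)).lTensor R
          (TensorProduct.assoc k R A A ((HopfRep.Comod.coact (k := k) (A := A) (V := R)).rTensor A w)) =
          HopfRep.Comod.coact (k := k) (A := A) (slice (V := R) (Coalgebra.counit ∘ₗ f) w) := by
        intro w
        induction w using TensorProduct.induction_on with
        | zero => simp
        | add y z hy hz => simp only [map_add, hy, hz]
        | tmul y b =>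
          simp only [LinearMap.rTensor_tmul, slice, LinearMap.comp_apply, LinearEquiv.coe_coe,
            LinearMap.lTensor_tmul, TensorProduct.rid_tmul, map_smul]
          induction HopfRep.Comod.coact (k := k) (A := A) y using TensorProduct.induction_on with
          | zero => simp
          | tmul s t => simp [TensorProduct.tmul_smul]
          | add y z hy hz => simp only [map_add, TensorProduct.add_tmul, smul_add, hy, hz]
      rw [e1, ← LinearMap.lTensor_comp_apply] at h2
      rw [contract_apply, h2]
      congr 2
      exact LinearMap.ext fun b => hf b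
  have := key z
  rw [LinearMap.lTensor_comp_apply] at this
  change C.subtype.lTensor R (f.rangeRestrict.baseChange R (canL k A R z)) ∈ _ at this
  rw [show f.rangeRestrict.baseChange R (canL k A R z) = _ from hz] at this
  simpa using this

section Descent

variable {M : Type w'} [AddCommGroup M] [Module k M] [Module R M] [IsScalarTower k R M]
  [HopfRep.Comod k A M] [TameAct.IsHopfMod k A R M]

/-- `p ⊗ q ↦ p • avg (q • m)` -/
def pav (α : A →ₗ[k] k) (m : M) : R ⊗[k] R →ₗ[k] M :=
  TensorProduct.lift ((Algebra.lsmul k k M : R →ₐ[k] Module.End k M).toLinearMap.compl₂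
    (avg α ∘ₗ (LinearMap.toSpanSingleton R M m).restrictScalars k))

@[simp] theorem pav_tmul (α : A →ₗ[k] k) (m : M) (p q : R) : pav α m (p ⊗ₜ[k] q) = p • avg α (q • m) := by
  simp [pav]

/-- `v ⊗ b ⊗ c ↦ α (c · S b) • v` -/
def cut (α : A →ₗ[k] k) : M ⊗[k] (A ⊗[k] A) →ₗ[k] M :=
  slice α ∘ₗ ((LinearMap.mul' k A) ∘ₗ (HopfAlgebra.antipode k).rTensor A).lTensor M

theorem sum_pav {α : A →ₗ[k] k} (h1 : α 1 = 1) (z : A → R ⊗[k] R)
    (hz : ∀ a, canL k A R (z a) = (1 : R) ⊗ₜ[k] HopfAlgebra.antipode k a) {ι : Type*} (s : Finset ι)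
    (v : ι → M) (a : ι → A) (m : M)
    (hm : HopfRep.Comod.coact (k := k) (A := A) m = ∑ i ∈ s, v i ⊗ₜ[k] a i) :
    ∑ i ∈ s, pav α (v i) (z (a i)) = m := by
  let T : M ⊗[k] A →ₗ[k] M := TensorProduct.lift
      ((Algebra.lsmul k k M : k →ₐ[k] Module.End k M).toLinearMap ∘ₗ α ∘ₗ HopfAlgebra.antipode k).flip
  have havg : ∀ u : M, avg α u = T (HopfRep.Comod.coact (k := k) (A := A) u) := fun u => rfl
  let E : M → R ⊗[k] A →ₗ[k] M := fun u =>
    T ∘ₗ (TameAct.hmSMul k A R M).flip (HopfRep.Comod.coact (k := k) (A := A) u)
  have hE : ∀ (u : M) (w : R ⊗[k] R) (c : A), canL k A R w = (1 : R) ⊗ₜ[k] c →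
      pav α u w = T (TameAct.hmSMul k A R M ((1 : R) ⊗ₜ[k] c) (HopfRep.Comod.coact (k := k) (A := A) u)) := by
    intro u w c hw
    rw [← hw]
    clear hw
    induction w using TensorProduct.induction_on with
    | zero => simp
    | add y z hy hz => simp only [map_add, LinearMap.add_apply, hy, hz]
    | tmul p q =>
      rw [pav_tmul, canL_tmul, havg, TameAct.IsHopfMod.coact_smul (k := k) (A := A)]
      induction HopfRep.Comod.coact (k := k) (A := A) q using TensorProduct.induction_on with
      | zero => simp
      | add y z hy hz => simp only [map_add, smul_add, LinearMap.add_apply, hy, hz]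
      | tmul q₀ q₁ =>
        induction HopfRep.Comod.coact (k := k) (A := A) u using TensorProduct.induction_on with
        | zero => simp
        | add y z hy hz => simp only [map_add, smul_add, hy, hz]
        | tmul u₀ u₁ =>
          simp [T, TensorProduct.smul_tmul', mul_smul]
          exact smul_comm _ _ _
  simp only [hE _ _ _ (hz _)]
  have e : ∀ (u : M) (c : A), T (TameAct.hmSMul k A R M ((1 : R) ⊗ₜ[k] HopfAlgebra.antipode k c)
      (HopfRep.Comod.coact (k := k) (A := A) u)) =
      cut α (TensorProduct.assoc k M A A ((HopfRep.Comod.coact (k := k) (A := A) (V := M)).rTensor A (u ⊗ₜ[k] c))) := by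
    intro u c
    rw [LinearMap.rTensor_tmul]
    induction HopfRep.Comod.coact (k := k) (A := A) u using TensorProduct.induction_on with
    | zero => simp
    | add y z hy hz => simp only [map_add, TensorProduct.add_tmul, hy, hz]
    | tmul u₀ u₁ =>
      simp [T, cut, slice, HopfAlgebra.antipode_mul, antipode_invol, mul_comm]
  simp only [e, ← map_sum, ← hm]
  have h := LinearMap.congr_fun (HopfRep.Comod.coassoc (k := k) (A := A) (V := M)) m
  simp only [LinearMap.comp_apply, LinearEquiv.coe_coe] at h
  rw [h]
  have hc := LinearMap.congr_fun (HopfRep.Comod.counit_comp (k := k) (A := A) (V := M)) m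
  simp only [LinearMap.comp_apply, LinearMap.flip_apply, TensorProduct.mk_apply] at hc
  have e2 : ∀ w : M ⊗[k] A, cut α ((Coalgebra.comul (R := k) (A := A)).lTensor M w) =
      TensorProduct.rid k M ((Coalgebra.counit (R := k) (A := A)).lTensor M w) := by
    intro w
    induction w using TensorProduct.induction_on with
    | zero => simp
    | add y z hy hz => simp only [map_add, hy, hz]
    | tmul u b =>
      simp [cut, slice, HopfAlgebra.mul_antipode_rTensor_comul_apply, Algebra.algebraMap_eq_smul_one, h1]
  rw [e2, hc]
  simp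

variable (k A R M) in
/-- invariant vectors as a module over the invariant functions -/
def fixedSub : Submodule (GLin.invariants k A R) M where
  toAddSubmonoid := (HopfRep.fixedPts k A M).toAddSubmonoid
  smul_mem' c _ hm := smul_mem_fixedPts (R := R) c.2 hm

/-- multiplication `R ⊗ M^G → M` -/
theorem mul_bijective {α : A →ₗ[k] k} (hα : IsIntegral k α) (hcan : Function.Surjective (canL k A R)) :
    Function.Bijective
      (TensorProduct.lift
        (((Algebra.lsmul (GLin.invariants k A R) (GLin.invariants k A R) M :
          R →ₐ[GLin.invariants k A R] Module.End (GLin.invariants k A R) M).toLinearMap).compl₂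
            (fixedSub k A R M).subtype) :
        R ⊗[GLin.invariants k A R] fixedSub k A R M → M) := by
  set R₀ := GLin.invariants k A R
  set N := fixedSub k A R M
  set μ := TensorProduct.lift (((Algebra.lsmul R₀ R₀ M :
    R →ₐ[R₀] Module.End R₀ M).toLinearMap).compl₂ N.subtype)
  obtain ⟨τ, hτ⟩ := ((canL k A R).restrictScalars k).exists_rightInverse_of_surjective
    (LinearMap.range_eq_top.2 hcan)
  let z : A → R ⊗[k] R := fun a => τ ((1 : R) ⊗ₜ[k] HopfAlgebra.antipode k a)
  have hz : ∀ a, canL k A R (z a) = (1 : R) ⊗ₜ[k] HopfAlgebra.antipode k a := fun a =>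
    LinearMap.congr_fun hτ _
  let θ : M → R ⊗[k] R →ₗ[k] R ⊗[R₀] N := fun m => TensorProduct.lift
    (LinearMap.mk₂ k (fun p q => p ⊗ₜ[R₀] (⟨avg α (q • m), avg_mem hα _⟩ : N))
      (fun p p' q => TensorProduct.add_tmul _ _ _) (fun c p q => (TensorProduct.smul_tmul' c p _).symm)
      (fun p q q' => by rw [← TensorProduct.tmul_add]; congr 1; exact Subtype.ext (by simp [add_smul]))
      (fun c p q => by rw [← TensorProduct.tmul_smul]; congr 1; exact Subtype.ext (by simp [smul_assoc])))
  have hθμ : ∀ m w, μ (θ m w) = pav α m w := by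
    intro m w
    induction w using TensorProduct.induction_on with
    | zero => simp
    | tmul p q => simp [μ, θ, pav_tmul]
    | add y z hy hz => simp only [map_add, hy, hz]
  let Ω : M →ₗ[k] R ⊗[R₀] N := TensorProduct.lift
    (LinearMap.mk₂ k (fun m a => θ m (z a))
      (fun m m' a => by
        induction z a using TensorProduct.induction_on with
        | zero => simp
        | tmul p q => simp [θ, ← TensorProduct.tmul_add, smul_add]; congr 1
        | add y z hy hz => simp only [map_add, hy, hz]; abel)
      (fun c m a => by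
        induction z a using TensorProduct.induction_on with
        | zero => simp
        | tmul p q => simp [θ, ← TensorProduct.tmul_smul, smul_comm q c]; congr 1
        | add y z hy hz => simp only [map_add, smul_add, hy, hz])
      (fun m a a' => by simp [z, TensorProduct.tmul_add])
      (fun c m a => by simp [z, TensorProduct.tmul_smul])) ∘ₗ HopfRep.Comod.coact (k := k) (A := A)
  refine ⟨Function.LeftInverse.injective (g := Ω) fun t => ?_, fun m => ⟨Ω m, ?_⟩⟩
  · induction t using TensorProduct.induction_on with
    | zero => simp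
    | add y z hy hz => simp only [map_add, hy, hz]
    | tmul r n =>
      change Ω (r • (n : M)) = _
      obtain ⟨s, hs⟩ := TensorProduct.exists_finset (HopfRep.Comod.coact (k := k) (A := A) r)
      have hco : HopfRep.Comod.coact (k := k) (A := A) (r • (n : M)) =
          ∑ i ∈ s, (i.1 • (n : M)) ⊗ₜ[k] i.2 := by
        rw [TameAct.IsHopfMod.coact_smul (k := k) (A := A),
          show HopfRep.Comod.coact (k := k) (A := A) (n : M) = (n : M) ⊗ₜ[k] (1 : A) from n.2, hs]
        simp [map_sum]
      change (TensorProduct.lift _) (HopfRep.Comod.coact (k := k) (A := A) (r • (n : M))) = _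
      rw [hco, map_sum]
      simp only [TensorProduct.lift.tmul, LinearMap.mk₂_apply]
      have hk : ∀ (p : R) (w : R ⊗[k] R), θ (p • (n : M)) w = pav α p w ⊗ₜ[R₀] n := by
        intro p w
        induction w using TensorProduct.induction_on with
        | zero => simp
        | add y z hy hz => simp only [map_add, TensorProduct.add_tmul, hy, hz]
        | tmul a b =>
          simp only [θ, TensorProduct.lift.tmul, LinearMap.mk₂_apply, pav_tmul]
          have : (⟨avg α (b • (p • (n : M))), avg_mem hα _⟩ : N) =
              (⟨avg α (b • p), avg_mem hα _⟩ : R₀) • n := Subtype.ext (by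
            change avg α (b • (p • (n : M))) = avg α (b • p) • (n : M)
            rw [← mul_smul, avg_smul_fixed α _ n.2, smul_eq_mul])
          rw [this, ← TensorProduct.smul_tmul]
          simp [Subalgebra.smul_def, smul_eq_mul, mul_comm]
      simp only [hk, ← TensorProduct.sum_tmul]
      rw [sum_pav (M := R) hα.map_one z hz s (fun i => i.1) (fun i => i.2) r hs]
  · obtain ⟨s, hs⟩ := TensorProduct.exists_finset (HopfRep.Comod.coact (k := k) (A := A) m)
    change μ ((TensorProduct.lift _) (HopfRep.Comod.coact (k := k) (A := A) m)) = m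
    rw [hs, map_sum, map_sum]
    simp only [TensorProduct.lift.tmul, LinearMap.mk₂_apply, hθμ]
    exact sum_pav hα.map_one z hz s (fun i => i.1) (fun i => i.2) m hs

theorem fixedSub_finite_projective {α : A →ₗ[k] k} (hα : IsIntegral k α) [IsNoetherianRing R]
    [Module.Finite R M] [Module.Projective R M] (hsurj : Submodule.span R (HopfRep.fixedPts k A M : Set M) = ⊤) :
    Module.Finite (GLin.invariants k A R) (fixedSub k A R M) ∧
      Module.Projective (GLin.invariants k A R) (fixedSub k A R M) := by
  classical
  obtain ⟨s, hs, hgen⟩ := exists_fixed_generators (R := R) (M := M) hα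
  let π : (s → R) →ₗ[R] M := Fintype.linearCombination R (fun i : s => (i : M))
  have hπ : Function.Surjective π := by
    rw [← LinearMap.range_eq_top, Fintype.range_linearCombination, eq_top_iff, ← hsurj]
    refine Submodule.span_le.2 fun m hm => ?_
    obtain ⟨c, -, rfl⟩ := hgen m hm
    exact Submodule.sum_mem _ fun i hi => Submodule.smul_mem _ _ (Submodule.subset_span ⟨⟨i, hi⟩, rfl⟩)
  obtain ⟨sec, hsec⟩ := π.exists_rightInverse_of_surjective (LinearMap.range_eq_top.2 hπ)
  let p : (s → GLin.invariants k A R) →ₗ[GLin.invariants k A R] fixedSub k A R M :=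
    Fintype.linearCombination _ (fun i : s => (⟨i, hs i.2⟩ : fixedSub k A R M))
  let σ : fixedSub k A R M →ₗ[GLin.invariants k A R] (s → GLin.invariants k A R) :=
    LinearMap.pi fun i =>
      { toFun := fun n => ⟨avg α (sec (n : M) i), avg_mem hα _⟩
        map_add' := fun n n' => Subtype.ext (by simp)
        map_smul' := fun c n => Subtype.ext (by
          change avg α (sec ((c : R) • (n : M)) i) = (c : R) * avg α (sec (n : M) i)
          rw [map_smul, Pi.smul_apply]
          exact avg_smul_of_fixed α c.2 _) }
  have hsplit : p ∘ₗ σ = LinearMap.id := by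
    refine LinearMap.ext fun n => Subtype.ext ?_
    change ((∑ i : s, σ n i • (⟨i, hs i.2⟩ : fixedSub k A R M) : fixedSub k A R M) : M) = (n : M)
    rw [Submodule.coe_sum]
    conv_rhs => rw [← avg_eq_self hα n.2, ← (show π (sec (n : M)) = n from LinearMap.congr_fun hsec (n : M))]
    rw [Fintype.linearCombination_apply, map_sum]
    exact Finset.sum_congr rfl fun i _ => (avg_smul_fixed α _ (hs i.2)).symm
  exact ⟨Module.Finite.of_surjective p fun n => ⟨σ n, LinearMap.congr_fun hsplit n⟩,
    Module.Projective.of_split σ p hsplit⟩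

end Descent

end Groth.Agent.Comod
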