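import Groth.Agent.Comod.SemiInv
import Groth.Agent.Comod.Galois
import Mathlib.RingTheory.Ideal.Cotangent

/-!
# A free closed orbit: the conormal module is generated freely by invariants
-/

universe u v w

noncomputable section

open TensorProduct WithConv

namespace Groth.Agent.Comod

variable {k : Type u} [Field k] {A : Type v} [CommRing A] [HopfAlgebra k A]

section General

variable {V : Type w} [AddCommGroup V] [Module k V] [HopfRep.Comod k A V]

theorem avg_mem_of_isSubcomod (α : A →ₗ[k] k) {U : Submodule k V}
    (hU : HopfRep.IsSubcomod (k := k) (A := A) U) {u : V} (hu : u ∈ U) : avg α u ∈ U := by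
  obtain ⟨t, ht⟩ := hU u hu
  change TameAct.reynolds k A k V α u ∈ U
  rw [TameAct.reynolds, LinearMap.comp_apply, ← ht]
  clear ht
  induction t using TensorProduct.induction_on with
  | zero => simp
  | add y z hy hz => simp only [map_add]; exact add_mem hy hz
  | tmul y b => simpa using U.smul_mem _ y.2

end General

variable {R : Type w} [CommRing R] [Algebra k R] [HopfRep.Comod k A R] [GLin.IsCoactAlg k A R]

theorem isSubcomod_iff_mem (J : Ideal R) :
    HopfRep.IsSubcomod (k := k) (A := A) (J.restrictScalars k) ↔
      ∀ y ∈ J, HopfRep.Comod.coact (k := k) (A := A) y ∈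
        LinearMap.range ((J.restrictScalars k).subtype.rTensor A) := Iff.rfl

theorem mul_mem_range (J : Ideal R) (p : R ⊗[k] A) {q : R ⊗[k] A}
    (hq : q ∈ LinearMap.range ((J.restrictScalars k).subtype.rTensor A)) :
    p * q ∈ LinearMap.range ((J.restrictScalars k).subtype.rTensor A) := by
  obtain ⟨t, rfl⟩ := hq
  induction t using TensorProduct.induction_on with
  | zero => simp
  | add y z hy hz => rw [map_add, mul_add]; exact add_mem hy hz
  | tmul y b =>
    induction p using TensorProduct.induction_on with
    | zero => simp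
    | add y z hy hz => rw [add_mul]; exact add_mem hy hz
    | tmul a c => exact ⟨(⟨a * y, J.mul_mem_left a y.2⟩ : J.restrictScalars k) ⊗ₜ[k] (c * b), by simp⟩

theorem isSubcomod_span_fixed {S : Set R} (hS : S ⊆ (HopfRep.fixedPts k A R : Set R)) :
    HopfRep.IsSubcomod (k := k) (A := A) ((Ideal.span S).restrictScalars k) := by
  intro y hy
  induction hy using Submodule.span_induction with
  | mem s hs =>
    exact ⟨(⟨s, Submodule.subset_span hs⟩ : (Ideal.span S).restrictScalars k) ⊗ₜ[k] 1, by
      rw [LinearMap.rTensor_tmul]; exact (hS hs).symm⟩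
  | zero => simp
  | add a b _ _ ha hb => rw [map_add]; exact add_mem ha hb
  | smul c a _ ha => rw [smul_eq_mul, GLin.IsCoactAlg.coact_mul]; exact mul_mem_range _ _ ha

theorem coact_mul_mem {I J K : Ideal R} (hI : HopfRep.IsSubcomod (k := k) (A := A) (I.restrictScalars k))
    (hJ : HopfRep.IsSubcomod (k := k) (A := A) (J.restrictScalars k)) (hK : ∀ p ∈ I, ∀ q ∈ J, p * q ∈ K)
    {a : R} (ha : a ∈ I) {b : R} (hb : b ∈ J) :
    HopfRep.Comod.coact (k := k) (A := A) (a * b) ∈ LinearMap.range ((K.restrictScalars k).subtype.rTensor A) := by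
  rw [GLin.IsCoactAlg.coact_mul]
  obtain ⟨s, hs⟩ := hI a ha
  obtain ⟨t, ht⟩ := hJ b hb
  rw [← hs, ← ht]
  clear hs ht
  induction s using TensorProduct.induction_on with
  | zero => rw [map_zero, zero_mul]; exact zero_mem _
  | add y z hy hz => rw [map_add, add_mul]; exact add_mem hy hz
  | tmul p c =>
    induction t using TensorProduct.induction_on with
    | zero => rw [map_zero, mul_zero]; exact zero_mem _
    | add y z hy hz => rw [map_add, mul_add]; exact add_mem hy hz
    | tmul q d =>
      refine ⟨(⟨(p : R) * q, hK _ p.2 _ q.2⟩ : K.restrictScalars k) ⊗ₜ[k] (c * d), ?_⟩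
      rw [LinearMap.rTensor_tmul, LinearMap.rTensor_tmul, LinearMap.rTensor_tmul,
        Algebra.TensorProduct.tmul_mul_tmul]
      rfl

theorem isSubcomod_mul {I J : Ideal R} (hI : HopfRep.IsSubcomod (k := k) (A := A) (I.restrictScalars k))
    (hJ : HopfRep.IsSubcomod (k := k) (A := A) (J.restrictScalars k)) :
    HopfRep.IsSubcomod (k := k) (A := A) ((I * J).restrictScalars k) := by
  have hK : ∀ p ∈ I, ∀ q ∈ J, p * q ∈ I * J := fun p hp q hq => Ideal.mul_mem_mul hp hq
  generalize hKdef : I * J = K at hK ⊢
  intro y hy
  have hy' : y ∈ I * J := hKdef.symm ▸ hy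
  clear hy hKdef
  induction hy' using Submodule.mul_induction_on' with
  | mem_mul_mem a ha b hb => exact coact_mul_mem hI hJ hK ha hb
  | add u _ v _ hu hv => rw [map_add]; exact add_mem hu hv

/-- colon ideals of stable ideals are stable: `r₀ y ⊗ r₁ ∈ J ⊗ A` -/
theorem colon_coact {I J : Ideal R} (hI : HopfRep.IsSubcomod (k := k) (A := A) (I.restrictScalars k))
    (hJ : HopfRep.IsSubcomod (k := k) (A := A) (J.restrictScalars k)) {r : R} (hr : ∀ y ∈ I, r * y ∈ J)
    {y : R} (hy : y ∈ I) :
    HopfRep.Comod.coact (k := k) (A := A) r * y ⊗ₜ[k] (1 : A) ∈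
      LinearMap.range ((J.restrictScalars k).subtype.rTensor A) := by
  let Φ : R ⊗[k] A →ₗ[k] R ⊗[k] A := TensorProduct.lift (LinearMap.mk₂ k
    (fun v c => HopfRep.Comod.coact (k := k) (A := A) v * ((1 : R) ⊗ₜ[k] HopfAlgebra.antipode k c))
    (fun a b c => by simp [map_add, add_mul]) (fun s a c => by simp [Algebra.smul_mul_assoc])
    (fun a b c => by simp [map_add, TensorProduct.tmul_add, mul_add])
    (fun s a c => by simp [TensorProduct.tmul_smul]))
  have hΦ : Φ (HopfRep.Comod.coact (k := k) (A := A) y) = y ⊗ₜ[k] (1 : A) := by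
    let Ψ : R ⊗[k] (A ⊗[k] A) →ₗ[k] R ⊗[k] A :=
      (LinearMap.mul' k A ∘ₗ (HopfAlgebra.antipode k).lTensor A).lTensor R
    have e1 : ∀ w : R ⊗[k] A, Φ w = Ψ (TensorProduct.assoc k R A A
        ((HopfRep.Comod.coact (k := k) (A := A) (V := R)).rTensor A w)) := by
      intro w
      induction w using TensorProduct.induction_on with
      | zero => simp
      | add y z hy hz => simp only [map_add, hy, hz]
      | tmul v c =>
        simp only [Φ, LinearMap.rTensor_tmul, TensorProduct.lift.tmul, LinearMap.mk₂_apply]
        induction HopfRep.Comod.coact (k := k) (A := A) v using TensorProduct.induction_on with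
        | zero => simp
        | add y z hy hz => simp only [TensorProduct.add_tmul, map_add, add_mul, hy, hz]
        | tmul a b => simp [Ψ]
    have h := LinearMap.congr_fun (HopfRep.Comod.coassoc (k := k) (A := A) (V := R)) y
    simp only [LinearMap.comp_apply, LinearEquiv.coe_coe] at h
    have hc := LinearMap.congr_fun (HopfRep.Comod.counit_comp (k := k) (A := A) (V := R)) y
    simp only [LinearMap.comp_apply, LinearMap.flip_apply, TensorProduct.mk_apply] at hc
    have e2 : ∀ w : R ⊗[k] A, Ψ ((Coalgebra.comul (R := k) (A := A)).lTensor R w) =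
        (Algebra.linearMap k A).lTensor R ((Coalgebra.counit (R := k) (A := A)).lTensor R w) := by
      intro w
      induction w using TensorProduct.induction_on with
      | zero => simp
      | add y z hy hz => simp only [map_add, hy, hz]
      | tmul v c => simp [Ψ, HopfAlgebra.mul_antipode_lTensor_comul_apply]
    rw [e1, h, e2, hc]
    simp
  rw [← hΦ]
  obtain ⟨t, ht⟩ := hI y hy
  rw [← ht]
  clear ht hΦ
  induction t using TensorProduct.induction_on with
  | zero => simp
  | add y z hy hz => simp only [map_add, mul_add]; exact add_mem hy hz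
  | tmul v c =>
    simp only [Φ, LinearMap.rTensor_tmul, TensorProduct.lift.tmul, LinearMap.mk₂_apply, Submodule.coe_subtype]
    rw [← mul_assoc, ← GLin.IsCoactAlg.coact_mul, mul_comm]
    exact mul_mem_range _ _ (hJ _ (hr v v.2))

theorem orbit_of_fixed (x : R →ₐ[k] k) {r : R} (hr : r ∈ HopfRep.fixedPts k A R) :
    GLin.orbitHom k A x r = x r • 1 := by
  rw [orbitHom_apply_eq, show HopfRep.Comod.coact (k := k) (A := A) r = r ⊗ₜ[k] (1 : A) from hr]
  simp

theorem exists_conormal_basis [IsNoetherianRing R] {α : A →ₗ[k] k} (hα : IsIntegral k α) (x : R →ₐ[k] k)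
    (hx : Function.Surjective (GLin.orbitHom k A x)) (I : Ideal R)
    (hI : I = RingHom.ker (GLin.orbitHom k A x)) :
    ∃ (r : ℕ) (f : Fin r → GLin.invariants k A R) (hf : ∀ i, (f i : R) ∈ I) (b : GLin.invariants k A R),
      LinearIndependent (R ⧸ I) (fun i => I.toCotangent ⟨(f i : R), hf i⟩) ∧
      Submodule.span (R ⧸ I) (Set.range fun i => I.toCotangent ⟨(f i : R), hf i⟩) = ⊤ ∧
      GLin.orbitHom k A x b = 1 ∧
      (∀ y ∈ I, (b : R) * y ∈ Ideal.span (Set.range fun i => (f i : R))) ∧
      (∀ y : GLin.invariants k A R, (y : R) ∈ I → b * y ∈ Ideal.span (Set.range f)) := by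
  classical
  set o := GLin.orbitHom k A x
  have ho : Hoch.IsComodHom A o.toLinearMap := isComodHom_orbitHom x
  have hmemI : ∀ y, y ∈ I ↔ o y = 0 := fun y => by rw [hI]; exact RingHom.mem_ker
  have hIsub : HopfRep.IsSubcomod (k := k) (A := A) (I.restrictScalars k) := by
    have h := isSubcomod_ker ho
    have e : LinearMap.ker o.toLinearMap = I.restrictScalars k := Submodule.ext fun y => by
      rw [LinearMap.mem_ker, Submodule.restrictScalars_mem, hmemI]; rfl
    rwa [e] at h
  have hI2 := isSubcomod_mul hIsub hIsub
  -- the regular comodule as a comodule algebra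
  haveI hA1 : GLin.IsCoactAlg k A A :=
    ⟨Bialgebra.comul_one, fun a b => Bialgebra.comul_mul a b⟩
  have hcanA : Function.Surjective (canL k A A) := by
    intro w
    induction w using TensorProduct.induction_on with
    | zero => exact ⟨0, map_zero _⟩
    | add y z hy hz =>
      obtain ⟨p, rfl⟩ := hy
      obtain ⟨q, rfl⟩ := hz
      exact ⟨p + q, map_add _ _ _⟩
    | tmul p a =>
      refine ⟨p • TensorProduct.map (HopfAlgebra.antipode k) LinearMap.id (Coalgebra.comul (R := k) a), ?_⟩
      rw [map_smul]
      let Ψ : A ⊗[k] (A ⊗[k] A) →ₗ[k] A ⊗[k] A :=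
        (LinearMap.mul' k A ∘ₗ (HopfAlgebra.antipode k).rTensor A).rTensor A ∘ₗ
          (TensorProduct.assoc k A A A).symm.toLinearMap
      have e1 : ∀ w : A ⊗[k] A, canL k A A (TensorProduct.map (HopfAlgebra.antipode k) LinearMap.id w) =
          Ψ ((Coalgebra.comul (R := k) (A := A)).lTensor A w) := by
        intro w
        induction w using TensorProduct.induction_on with
        | zero => simp
        | add y z hy hz => simp only [map_add, hy, hz]
        | tmul u v =>
          rw [TensorProduct.map_tmul, canL_tmul, LinearMap.lTensor_tmul, LinearMap.id_apply]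
          change HopfAlgebra.antipode k u • Coalgebra.comul (R := k) v = _
          induction Coalgebra.comul (R := k) v using TensorProduct.induction_on with
          | zero => simp
          | add y z hy hz => simp only [TensorProduct.tmul_add, map_add, smul_add, hy, hz]
          | tmul s t => simp [Ψ, TensorProduct.smul_tmul']
      rw [e1, ← Coalgebra.coassoc_apply]
      have e2 : ∀ w : A ⊗[k] A, Ψ (TensorProduct.assoc k A A A ((Coalgebra.comul (R := k) (A := A)).rTensor A w)) =
          (Algebra.linearMap k A).rTensor A ((Coalgebra.counit (R := k) (A := A)).rTensor A w) := by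
        intro w
        induction w using TensorProduct.induction_on with
        | zero => simp
        | add y z hy hz => simp only [map_add, hy, hz]
        | tmul u v => simp [Ψ, HopfAlgebra.mul_antipode_rTensor_comul_apply]
      rw [e2, Coalgebra.rTensor_counit_comul]
      simp [TensorProduct.smul_tmul']
  -- (a) invariants of `I` span modulo `I ^ 2`
  let G : Set R := {y | y ∈ I ∧ y ∈ HopfRep.fixedPts k A R}
  have hspan : ∀ m ∈ I, m ∈ Ideal.span G ⊔ I * I := by
    intro m hm
    have hlift : ∀ a : A, ∃ z : R ⊗[k] R, canL k A R z - (1 : R) ⊗ₜ[k] HopfAlgebra.antipode k a ∈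
        LinearMap.range ((I.restrictScalars k).subtype.rTensor A) := by
      intro a
      obtain ⟨w, hw⟩ := hcanA ((1 : A) ⊗ₜ[k] HopfAlgebra.antipode k a)
      obtain ⟨z, rfl⟩ : ∃ z, TensorProduct.map o.toLinearMap o.toLinearMap z = w :=
        TensorProduct.map_surjective hx hx w
      refine ⟨z, ?_⟩
      have hex : Function.Exact (I.restrictScalars k).subtype o.toLinearMap := fun y => by
        simp [hmemI]
      have := (rTensor_exact A hex hx (canL k A R z - (1 : R) ⊗ₜ[k] HopfAlgebra.antipode k a)).1
      refine this ?_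
      rw [map_sub, LinearMap.rTensor_tmul, AlgHom.toLinearMap_apply, map_one, ← hw, sub_eq_zero]
      clear hw this
      induction z using TensorProduct.induction_on with
      | zero => simp
      | add y z hy hz => simp only [map_add, hy, hz]
      | tmul p q =>
        rw [TensorProduct.map_tmul, canL_tmul, canL_tmul]
        have h := LinearMap.congr_fun ho q
        simp only [LinearMap.comp_apply] at h
        rw [h]
        induction HopfRep.Comod.coact (k := k) (A := A) q using TensorProduct.induction_on with
        | zero => simp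
        | add y z hy hz => simp only [map_add, smul_add, hy, hz]
        | tmul s t => simp [TensorProduct.smul_tmul']
    choose z hz using hlift
    obtain ⟨t, ht⟩ := hIsub m hm
    obtain ⟨s, rfl⟩ := TensorProduct.exists_finset t
    -- the approximate formula
    let T : R ⊗[k] A →ₗ[k] R := TensorProduct.lift
      ((Algebra.lsmul k k R : k →ₐ[k] Module.End k R).toLinearMap ∘ₗ α ∘ₗ HopfAlgebra.antipode k).flip
    have key : ∀ (u : R) (w : R ⊗[k] R), pav α u w = T (canL k A R w * HopfRep.Comod.coact (k := k) (A := A) u) := by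
      intro u w
      induction w using TensorProduct.induction_on with
      | zero => simp
      | add y z hy hz => simp only [map_add, add_mul, hy, hz]
      | tmul p q =>
        rw [pav_tmul, canL_tmul, smul_eq_mul q u, show avg α (q * u) =
          T (HopfRep.Comod.coact (k := k) (A := A) (q * u)) from rfl, GLin.IsCoactAlg.coact_mul]
        induction HopfRep.Comod.coact (k := k) (A := A) q using TensorProduct.induction_on with
        | zero => simp
        | add y z hy hz => simp only [add_mul, map_add, smul_add, hy, hz]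
        | tmul a b =>
          induction HopfRep.Comod.coact (k := k) (A := A) u using TensorProduct.induction_on with
          | zero => simp
          | add y z hy hz => simp only [mul_add, map_add, smul_add, hy, hz]
          | tmul c d => simp [T, TensorProduct.smul_tmul', mul_assoc]
    have hexact : ∑ i ∈ s, T (((1 : R) ⊗ₜ[k] HopfAlgebra.antipode k i.2) *
        HopfRep.Comod.coact (k := k) (A := A) (i.1 : R)) = m := by
      have hco : HopfRep.Comod.coact (k := k) (A := A) m = ∑ i ∈ s, (i.1 : R) ⊗ₜ[k] i.2 := by
        rw [← ht]; simp [map_sum]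
      have e : ∀ (u : R) (c : A), T (((1 : R) ⊗ₜ[k] HopfAlgebra.antipode k c) *
          HopfRep.Comod.coact (k := k) (A := A) u) =
          cut α (TensorProduct.assoc k R A A
            ((HopfRep.Comod.coact (k := k) (A := A) (V := R)).rTensor A (u ⊗ₜ[k] c))) := by
        intro u c
        rw [LinearMap.rTensor_tmul]
        induction HopfRep.Comod.coact (k := k) (A := A) u using TensorProduct.induction_on with
        | zero => simp
        | add y z hy hz => simp only [mul_add, map_add, TensorProduct.add_tmul, hy, hz]
        | tmul u₀ u₁ =>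
          simp [T, cut, slice, HopfAlgebra.antipode_mul_antidistrib, antipode_invol, mul_comm]
      simp only [e, ← map_sum, ← hco]
      have h := LinearMap.congr_fun (HopfRep.Comod.coassoc (k := k) (A := A) (V := R)) m
      simp only [LinearMap.comp_apply, LinearEquiv.coe_coe] at h
      rw [h]
      have hc := LinearMap.congr_fun (HopfRep.Comod.counit_comp (k := k) (A := A) (V := R)) m
      simp only [LinearMap.comp_apply, LinearMap.flip_apply, TensorProduct.mk_apply] at hc
      have e2 : ∀ w : R ⊗[k] A, cut α ((Coalgebra.comul (R := k) (A := A)).lTensor R w) =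
          TensorProduct.rid k R ((Coalgebra.counit (R := k) (A := A)).lTensor R w) := by
        intro w
        induction w using TensorProduct.induction_on with
        | zero => simp
        | add y z hy hz => simp only [map_add, hy, hz]
        | tmul u b =>
          simp [cut, slice, HopfAlgebra.mul_antipode_rTensor_comul_apply, Algebra.algebraMap_eq_smul_one, hα.map_one]
      rw [e2, hc]
      simp
    have h1 : ∑ i ∈ s, pav α (i.1 : R) (z i.2) ∈ Ideal.span G := by
      refine Submodule.sum_mem _ fun i _ => ?_
      induction z i.2 using TensorProduct.induction_on with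
      | zero => simp
      | add y z hy hz => rw [map_add]; exact add_mem hy hz
      | tmul p q =>
        rw [pav_tmul, smul_eq_mul]
        exact Ideal.mul_mem_left _ _ (Submodule.subset_span
          ⟨avg_mem_of_isSubcomod α hIsub (I.mul_mem_left q i.1.2), avg_mem hα _⟩)
    have h2 : ∑ i ∈ s, T ((canL k A R (z i.2) - (1 : R) ⊗ₜ[k] HopfAlgebra.antipode k i.2) *
        HopfRep.Comod.coact (k := k) (A := A) (i.1 : R)) ∈ I * I := by
      refine Submodule.sum_mem _ fun i _ => ?_
      obtain ⟨p, hp⟩ := hz i.2
      obtain ⟨q, hq⟩ := hIsub (i.1 : R) i.1.2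
      rw [← hp, ← hq]
      clear hp hq
      induction p using TensorProduct.induction_on with
      | zero => simp
      | add y z hy hz => rw [map_add, add_mul, map_add]; exact add_mem hy hz
      | tmul a b =>
        induction q using TensorProduct.induction_on with
        | zero => simp
        | add y z hy hz => rw [map_add, mul_add, map_add]; exact add_mem hy hz
        | tmul c d =>
          simp only [LinearMap.rTensor_tmul, Submodule.coe_subtype, Algebra.TensorProduct.tmul_mul_tmul, T,
            TensorProduct.lift.tmul, LinearMap.flip_apply, LinearMap.comp_apply, AlgHom.toLinearMap_apply,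
            Algebra.lsmul_coe]
          exact Submodule.smul_of_tower_mem _ _ (Ideal.mul_mem_mul a.2 c.2)
    simp only [sub_mul, map_sub, Finset.sum_sub_distrib, hexact, ← key] at h2
    have := Submodule.sub_mem _ (Submodule.mem_sup_left (T := I * I) h1) (Submodule.mem_sup_right (S := Ideal.span G) h2)
    simpa using this
  -- finitely many
  have : IsScalarTower k (R ⧸ I) I.Cotangent := IsScalarTower.of_algebraMap_smul fun c z => by
    rw [IsScalarTower.algebraMap_apply k R (R ⧸ I), algebraMap_smul, algebraMap_smul]
  obtain ⟨s, hsG, hs⟩ := (Submodule.fg_span_iff_fg_span_finset_subset (R := R) G).1 (IsNoetherian.noetherian _)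
  have hGI : ∀ y ∈ (s : Set R), y ∈ I := fun y hy => (hsG hy).1
  let cls : ↥(s : Set R) → I.Cotangent := fun y => I.toCotangent ⟨y, hGI y y.2⟩
  obtain ⟨B, hBsub, hBspan, hBind⟩ := exists_linearIndependent k (Set.range cls)
  have hBfin : B.Finite := (Set.finite_range cls).subset hBsub
  have : Fintype B := hBfin.fintype
  let e := (Fintype.equivFin B).symm
  choose g hg using fun i => hBsub (e i).2
  let f : Fin (Fintype.card B) → GLin.invariants k A R := fun i => ⟨(g i : R), (hsG (g i).2).2⟩
  have hf : ∀ i, (f i : R) ∈ I := fun i => hGI _ (g i).2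
  have hcls : (fun i => I.toCotangent ⟨(f i : R), hf i⟩) = fun i => ((e i : B) : I.Cotangent) :=
    funext fun i => hg i
  have hspanC : Submodule.span (R ⧸ I) (Set.range fun i => I.toCotangent ⟨(f i : R), hf i⟩) = ⊤ := by
    rw [hcls, show (fun i => ((e i : B) : I.Cotangent)) = Subtype.val ∘ e from rfl, Set.range_comp,
      e.surjective.range_eq, Set.image_univ, Subtype.range_val]
    refine eq_top_iff.2 fun c _ => ?_
    obtain ⟨⟨m, hm⟩, rfl⟩ := I.toCotangent_surjective c
    have hm' := hspan m hm
    rw [← show Ideal.span (s : Set R) = Ideal.span G from hs.symm] at hm'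
    obtain ⟨p, hp, q, hq, rfl⟩ := Submodule.mem_sup.1 hm'
    have hsp : ∀ p ∈ Ideal.span (s : Set R), ∃ hp : p ∈ I, I.toCotangent ⟨p, hp⟩ ∈ Submodule.span (R ⧸ I) B := by
      intro p hp
      induction hp using Submodule.span_induction with
      | mem y hy =>
        refine ⟨hGI y hy, ?_⟩
        have : cls ⟨y, hy⟩ ∈ Submodule.span k B := by rw [hBspan]; exact Submodule.subset_span ⟨_, rfl⟩
        exact Submodule.span_subset_span k (R ⧸ I) B this
      | zero => exact ⟨I.zero_mem, by rw [show (⟨0, I.zero_mem⟩ : I) = 0 from rfl, map_zero]; exact zero_mem _⟩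
      | add a b _ _ ha hb =>
        obtain ⟨ha', ha⟩ := ha
        obtain ⟨hb', hb⟩ := hb
        exact ⟨add_mem ha' hb', by
          rw [show (⟨a + b, add_mem ha' hb'⟩ : I) = ⟨a, ha'⟩ + ⟨b, hb'⟩ from rfl, map_add]
          exact add_mem ha hb⟩
      | smul c a _ ha =>
        obtain ⟨ha', ha⟩ := ha
        refine ⟨I.mul_mem_left c ha', ?_⟩
        rw [show (⟨c • a, I.mul_mem_left c ha'⟩ : I) = c • ⟨a, ha'⟩ from rfl, map_smul,
          ← algebraMap_smul (R ⧸ I) c (I.toCotangent _)]
        exact Submodule.smul_mem _ _ ha
    obtain ⟨hp', hp''⟩ := hsp p hp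
    have hq' : q ∈ I := Ideal.mul_le_left hq
    rw [show (⟨p + q, hm⟩ : I) = ⟨p, hp'⟩ + ⟨q, hq'⟩ from rfl, map_add]
    refine add_mem hp'' ?_
    rw [(I.toCotangent_eq_zero ⟨q, hq'⟩).2 (by rw [pow_two]; exact hq)]
    exact zero_mem _
  have hindep : LinearIndependent (R ⧸ I) (fun i => I.toCotangent ⟨(f i : R), hf i⟩) := by
    rw [Fintype.linearIndependent_iff]
    intro c hc j
    choose d hd using fun i => Ideal.Quotient.mk_surjective (c i)
    have hind : LinearIndependent k (fun i => I.toCotangent ⟨(f i : R), hf i⟩) := by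
      rw [hcls]
      exact hBind.comp e e.injective
    rw [Fintype.linearIndependent_iff] at hind
    have hsum : ∀ φ : A →ₗ[k] k, ∑ i, slice φ (HopfRep.Comod.coact (k := k) (A := A) (d i)) * (f i : R) ∈ I * I := by
      intro φ
      have h0 : ∑ i, d i * (f i : R) ∈ I * I := by
        rw [← pow_two]
        refine (I.toCotangent_eq_zero (⟨∑ i, d i * (f i : R), Submodule.sum_mem _ fun i _ =>
          I.mul_mem_left _ (hf i)⟩ : I)).1 ?_
        rw [← hc, show (⟨∑ i, d i * (f i : R), _⟩ : I) = ∑ i, d i • (⟨(f i : R), hf i⟩ : I) from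
          Subtype.ext (by simp), map_sum]
        refine Finset.sum_congr rfl fun i _ => ?_
        rw [map_smul, ← hd, ← algebraMap_smul (R ⧸ I) (d i) (I.toCotangent _), Ideal.Quotient.algebraMap_eq]
      have := slice_mem_of_mem_range φ ((I * I).restrictScalars k) (hI2 _ h0)
      rw [map_sum, map_sum] at this
      refine (congrArg (· ∈ I * I) ?_).mp this
      refine Finset.sum_congr rfl fun i _ => ?_
      rw [GLin.IsCoactAlg.coact_mul, show HopfRep.Comod.coact (k := k) (A := A) (f i : R) =
        (f i : R) ⊗ₜ[k] (1 : A) from (f i).2]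
      induction HopfRep.Comod.coact (k := k) (A := A) (d i) using TensorProduct.induction_on with
      | zero => simp
      | add y z hy hz => simp only [add_mul, map_add, hy, hz]
      | tmul a b => simp [slice]
    have hzero : ∀ (φ : A →ₗ[k] k) (r : R),
        avg α (o r * slice φ (Coalgebra.comul (R := k) (o (d j)))) = 0 := by
      intro φ r
      have h1 := avg_mem_of_isSubcomod α hI2
        ((I * I).mul_mem_left r (hsum φ) : r * ∑ i, _ ∈ (I * I).restrictScalars k)
      rw [Finset.mul_sum, map_sum] at h1
      have h2 : ∑ i, x (avg α (r * slice φ (HopfRep.Comod.coact (k := k) (A := A) (d i)))) •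
          I.toCotangent ⟨(f i : R), hf i⟩ = 0 := by
        rw [← (I.toCotangent_eq_zero ⟨_, Ideal.mul_le_left h1⟩).2 (by rw [pow_two]; exact h1)]
        have : ∀ i, x (avg α (r * slice φ (HopfRep.Comod.coact (k := k) (A := A) (d i)))) •
            I.toCotangent ⟨(f i : R), hf i⟩ = I.toCotangent ⟨avg α (r * (slice φ
              (HopfRep.Comod.coact (k := k) (A := A) (d i)) * (f i : R))),
                avg_mem_of_isSubcomod α hIsub (I.mul_mem_left r (I.mul_mem_left _ (hf i)))⟩ := by
          intro i
          set a := r * slice φ (HopfRep.Comod.coact (k := k) (A := A) (d i)) with ha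
          have hy : avg α (r * (slice φ (HopfRep.Comod.coact (k := k) (A := A) (d i)) * (f i : R))) =
              avg α a * (f i : R) := by rw [← mul_assoc, avg_mul_fixed α _ (f i).2]
          refine (map_smul (I.toCotangent.restrictScalars k) _ _).symm.trans ((I.toCotangent_eq).2 ?_)
          simp only [Submodule.coe_smul_of_tower, hy, Algebra.smul_def, ← sub_mul, pow_two]
          refine Ideal.mul_mem_mul ?_ (hf i)
          rw [hmemI, map_sub, AlgHom.commutes, orbit_of_fixed x (avg_mem hα _),
            Algebra.algebraMap_eq_smul_one, sub_self]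
        rw [Finset.sum_congr rfl fun i _ => this i, ← map_sum]
        congr 1
        exact Subtype.ext (by simp)
      have h3 := hind _ h2 j
      have h4 : o (avg α (r * slice φ (HopfRep.Comod.coact (k := k) (A := A) (d j)))) = 0 := by
        rw [orbit_of_fixed x (avg_mem hα _), h3, zero_smul]
      rw [show o (avg α _) = avg α (o _) from map_avg α ho _, map_mul] at h4
      rwa [show o (slice φ (HopfRep.Comod.coact (k := k) (A := A) (d j))) =
        slice φ (Coalgebra.comul (R := k) (o (d j))) by
          rw [show o (slice φ (HopfRep.Comod.coact (k := k) (A := A) (d j))) =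
            slice φ (o.toLinearMap.rTensor A (HopfRep.Comod.coact (k := k) (A := A) (d j))) from
              (slice_rTensor φ o.toLinearMap _).symm, ← comul_orbitHom]] at h4
    let J : Submodule k A := ⨅ r : R, LinearMap.ker (avg α ∘ₗ LinearMap.mulLeft k (o r))
    have hJ : Coalgebra.comul (R := k) (o (d j)) ∈ LinearMap.range (J.subtype.rTensor A) :=
      (mem_range_iff_slice J _).2 fun φ => Submodule.mem_iInf _ |>.2 fun r => hzero φ r
    obtain ⟨t, ht⟩ := hJ
    obtain ⟨S, rfl⟩ := TensorProduct.exists_finset t
    obtain ⟨τ, hτ⟩ := ((canL k A A).restrictScalars k).exists_rightInverse_of_surjective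
      (LinearMap.range_eq_top.2 hcanA)
    have hd0 : o (d j) = 0 := by
      rw [← sum_pav (M := A) hα.map_one (fun a => τ ((1 : A) ⊗ₜ[k] HopfAlgebra.antipode k a))
        (fun a => LinearMap.congr_fun hτ _) S (fun i => (i.1 : A)) (fun i => i.2) (o (d j))
        (by change Coalgebra.comul (R := k) (o (d j)) = _; rw [← ht]; simp [map_sum])]
      refine Finset.sum_eq_zero fun i _ => ?_
      have hi : ∀ a : A, avg α (a * (i.1 : A)) = 0 := fun a => by
        obtain ⟨r, rfl⟩ := hx a
        exact (Submodule.mem_iInf _).1 i.1.2 r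
      generalize τ _ = w
      induction w using TensorProduct.induction_on with
      | zero => simp
      | add y z hy hz => rw [map_add, hy, hz, add_zero]
      | tmul p q => rw [pav_tmul, smul_eq_mul q (i.1 : A), hi, smul_zero]
    rw [← hd]
    exact Ideal.Quotient.eq_zero_iff_mem.2 ((hmemI _).2 hd0)
  -- the invariant neighbourhood
  let F : Ideal R := Ideal.span (Set.range fun i => (f i : R))
  have hFI : F ≤ I := Ideal.span_le.2 (by rintro _ ⟨i, rfl⟩; exact hf i)
  have hle : I ≤ F ⊔ I * I := fun m hm => by
    have hc : I.toCotangent ⟨m, hm⟩ ∈ Submodule.span (R ⧸ I) (Set.range fun i => I.toCotangent ⟨(f i : R), hf i⟩) := by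
      rw [hspanC]; exact Submodule.mem_top
    obtain ⟨c, hc⟩ := (Submodule.mem_span_range_iff_exists_fun _).1 hc
    choose d hd using fun i => Ideal.Quotient.mk_surjective (c i)
    have hdiff : m - ∑ i, d i * (f i : R) ∈ I * I := by
      rw [← pow_two]
      have : I.toCotangent ⟨m, hm⟩ = I.toCotangent (∑ i, d i • (⟨(f i : R), hf i⟩ : I)) := by
        rw [← hc, map_sum]
        refine Finset.sum_congr rfl fun i _ => ?_
        rw [map_smul, ← hd, ← algebraMap_smul (R ⧸ I) (d i) (I.toCotangent _), Ideal.Quotient.algebraMap_eq]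
      simpa using (I.toCotangent_eq).1 this
    rw [show m = ∑ i, d i * (f i : R) + (m - ∑ i, d i * (f i : R)) by abel]
    exact Submodule.add_mem_sup (Submodule.sum_mem _ fun i _ => F.mul_mem_left _ (Submodule.subset_span ⟨i, rfl⟩)) hdiff
  obtain ⟨b₀, hb₀, hb₀'⟩ := Submodule.exists_sub_one_mem_and_smul_eq_zero_of_fg_of_le_smul I
    (Submodule.map (Submodule.mkQ F) (I : Submodule R R)) ((IsNoetherian.noetherian (I : Submodule R R)).map _) (by
      rintro _ ⟨m, hm, rfl⟩
      obtain ⟨p, hp, q, hq, rfl⟩ := Submodule.mem_sup.1 (hle hm)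
      rw [map_add, show Submodule.mkQ F p = 0 from (Submodule.Quotient.mk_eq_zero F).2 hp, zero_add,
        ← Submodule.map_smul'']
      exact Submodule.mem_map_of_mem hq)
  have hcol : ∀ y ∈ I, b₀ * y ∈ F := fun y hy => by
    have := hb₀' _ (Submodule.mem_map_of_mem hy)
    rwa [← map_smul, Submodule.mkQ_apply, Submodule.Quotient.mk_eq_zero, smul_eq_mul] at this
  have hFfix : Set.range (fun i => (f i : R)) ⊆ (HopfRep.fixedPts k A R : Set R) := by
    rintro _ ⟨i, rfl⟩; exact (f i).2
  let b : GLin.invariants k A R := ⟨avg α b₀, avg_mem hα b₀⟩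
  have hb1 : o b = 1 := by
    change o (avg α b₀) = 1
    rw [show o (avg α b₀) = avg α (o b₀) from map_avg α ho b₀]
    have : o b₀ = 1 := by
      have := (hmemI _).1 hb₀
      rwa [map_sub, map_one, sub_eq_zero] at this
    rw [this, avg_eq_self hα (show Coalgebra.comul (R := k) (1 : A) = (1 : A) ⊗ₜ[k] (1 : A) from Bialgebra.comul_one)]
  have hby : ∀ y ∈ I, (b : R) * y ∈ F := by
    intro y hy
    obtain ⟨w, hw⟩ := colon_coact hIsub (isSubcomod_span_fixed hFfix) hcol hy
    let T : R ⊗[k] A →ₗ[k] R := TensorProduct.lift
      ((Algebra.lsmul k k R : k →ₐ[k] Module.End k R).toLinearMap ∘ₗ α ∘ₗ HopfAlgebra.antipode k).flip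
    have e : ∀ w : R ⊗[k] A, T w * y = T (w * y ⊗ₜ[k] (1 : A)) := fun w => by
      induction w using TensorProduct.induction_on with
      | zero => simp
      | add y z hy hz => simp only [map_add, add_mul, hy, hz]
      | tmul a c => simp [T]
    change T (HopfRep.Comod.coact (k := k) (A := A) b₀) * y ∈ F
    rw [e, ← hw]
    clear hw
    induction w using TensorProduct.induction_on with
    | zero => simp
    | add y z hy hz => simp only [map_add]; exact add_mem hy hz
    | tmul a c => simpa [T] using Submodule.smul_of_tower_mem F (α (HopfAlgebra.antipode k c)) a.2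
  refine ⟨_, f, hf, b, hindep, hspanC, hb1, hby, fun y hy => ?_⟩
  obtain ⟨c, hc⟩ := (Submodule.mem_span_range_iff_exists_fun R).1 (hby _ hy)
  refine (Submodule.mem_span_range_iff_exists_fun _).2
    ⟨fun i => ⟨avg α (c i), avg_mem hα _⟩, Subtype.ext ?_⟩
  change _ = (b : R) * (y : R)
  rw [← avg_eq_self hα (show (b : R) * (y : R) ∈ HopfRep.fixedPts k A R from (b * y).2), ← hc, map_sum,
    AddSubmonoidClass.coe_finset_sum]
  exact Finset.sum_congr rfl fun i _ => (avg_mul_fixed α _ (f i).2).symm

end Groth.Agent.Comod
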