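import Groth.Agent.Comod.Stab
import Groth.Agent.Comod.Invariants
import Groth.Agent.Comod.LinRed
import Groth.Agent.Comod.Orbit
import Groth.Agent.Comod.LunaEtale
import Groth.Agent.GITLib.LinearInv
import Groth.Agent.RegLoc.Homological
import Groth.Prelude.Def_W4c6stackyreslrsPsRefl
import Groth.Prelude.Def_ComodSub
import Mathlib.RingTheory.RegularLocalRing.Polynomial

/-!
# Chevalley–Shephard–Todd for finite linearly reductive group schemes
-/

set_option autoImplicit false
set_option linter.style.haveILetI false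
set_option linter.unusedSectionVars false

universe u v w

noncomputable section

open TensorProduct MvPolynomial

namespace Groth.Agent.Comod.CST

section Push

variable {k : Type u} [CommRing k] {A : Type v} [AddCommGroup A] [Module k A] [Coalgebra k A]
  {B : Type v} [AddCommGroup B] [Module k B] [Coalgebra k B]
  {V : Type w} [AddCommGroup V] [Module k V]

/-- restriction of a comodule along a coalgebra map -/
@[reducible] def push (q : A →ₗc[k] B) (c : HopfRep.Comod k A V) : HopfRep.Comod k B V where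
  coact := q.toLinearMap.lTensor V ∘ₗ c.coact
  coassoc := by
    have hq : ∀ a, TensorProduct.map q.toLinearMap q.toLinearMap (Coalgebra.comul (R := k) a) =
        Coalgebra.comul (R := k) (q a) := fun a => LinearMap.congr_fun q.map_comp_comul a
    refine LinearMap.ext fun v => ?_
    have h := LinearMap.congr_fun c.coassoc v
    simp only [LinearMap.comp_apply, LinearEquiv.coe_coe] at h ⊢
    have h1 : ∀ y : V ⊗[k] A, TensorProduct.assoc k V B B
        ((q.toLinearMap.lTensor V ∘ₗ c.coact).rTensor B (q.toLinearMap.lTensor V y)) =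
        (TensorProduct.map q.toLinearMap q.toLinearMap).lTensor V
          (TensorProduct.assoc k V A A (c.coact.rTensor A y)) := by
      intro y
      induction y using TensorProduct.induction_on with
      | zero => simp
      | tmul w a =>
        simp only [LinearMap.lTensor_tmul, LinearMap.rTensor_tmul, LinearMap.comp_apply]
        induction c.coact w using TensorProduct.induction_on with
        | zero => simp
        | tmul x b => simp
        | add s t hs ht => simp only [map_add, add_tmul, hs, ht]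
      | add s t hs ht => simp only [map_add, hs, ht]
    rw [h1, h]
    induction c.coact v using TensorProduct.induction_on with
    | zero => simp
    | tmul x b => simp [hq]
    | add s t hs ht => simp only [map_add, hs, ht]
  counit_comp := by
    refine LinearMap.ext fun v => ?_
    have h := LinearMap.congr_fun c.counit_comp v
    simp only [LinearMap.comp_apply] at h ⊢
    rw [← LinearMap.comp_apply, ← LinearMap.lTensor_comp, q.counit_comp]
    exact h

end Push

section Gen

variable {k : Type u} [Field k] {A : Type v} [CommRing A] [HopfAlgebra k A]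
  {V : Type w} [AddCommGroup V] [Module k V] [HopfRep.Comod k A V]

/-- a vector fixed modulo `H` by a generating family of subgroups agrees with its average modulo `H` -/
theorem sub_avg_mem {α : A →ₗ[k] k} (hα : IsIntegral k α) {H : Submodule k V}
    (hH : HopfRep.IsSubcomod (k := k) (A := A) H) (P : Ideal A → Prop)
    (hP : sSup {J : Ideal A | J.IsHopfIdeal k ∧ ∀ I, P I → J ≤ I} = ⊥) (v : V)
    (hv : ∀ I, P I → ∀ φ : (A ⧸ I) →ₗ[k] k,
      contract (φ ∘ₗ (Ideal.Quotient.mkₐ k I).toLinearMap) v - φ 1 • v ∈ H) :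
    v - avg α v ∈ H := by
  letI cQ : HopfRep.Comod k A (V ⧸ H) := ComodSub.Comod.quot ‹HopfRep.Comod k A V› H hH
  have hmk : Hoch.IsComodHom A H.mkQ := ComodSub.isComodHom_mkQ _ _ _
  have hfix : ∀ I : Ideal A, P I → stabVec k A (H.mkQ v) ≤ I := by
    intro I hI
    rw [stabVec_le_iff, ← sub_eq_zero]
    refine eq_zero_of_slice _ fun φ => ?_
    have hs : slice φ ((Ideal.Quotient.mkₐ k I).toLinearMap.lTensor (V ⧸ H)
        (HopfRep.Comod.coact (k := k) (A := A) (H.mkQ v))) =
        contract (φ ∘ₗ (Ideal.Quotient.mkₐ k I).toLinearMap) (H.mkQ v) := by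
      rw [contract_apply]
      simp only [slice, LinearMap.comp_apply, ← LinearMap.lTensor_comp_apply]
    rw [map_sub, slice_tmul, hs, ← map_contract hmk, ← map_smul, ← map_sub, Submodule.mkQ_apply,
      Submodule.Quotient.mk_eq_zero]
    exact hv I hI φ
  have hbot : stabVec k A (H.mkQ v) ≤ ⊥ := hP ▸ le_sSup ⟨isHopfIdeal_stabVec _, hfix⟩
  have hcoact : H.mkQ v ∈ HopfRep.fixedPts k A (V ⧸ H) := by
    refine (eq_tmul_iff_contract (k := k) (A := A) _ 1).2 fun φ => ?_
    have h1 := (stabVec_le_iff (k := k) (A := A) _ ⊥).1 hbot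
    let e : (A ⧸ (⊥ : Ideal A)) ≃ₐ[k] A := AlgEquiv.quotientBot k A
    have hcomp : (φ ∘ₗ e.toLinearMap) ∘ₗ (Ideal.Quotient.mkₐ k (⊥ : Ideal A)).toLinearMap = φ :=
      LinearMap.ext fun a => congrArg φ (by rfl)
    have h2 := congrArg (slice (φ ∘ₗ e.toLinearMap)) h1
    rw [slice_tmul] at h2
    simp only [slice, LinearMap.comp_apply, ← LinearMap.lTensor_comp_apply, hcomp] at h2
    rw [contract_apply]
    simp only [slice, LinearMap.comp_apply]
    exact h2.trans (congrArg (· • H.mkQ v) (congrArg φ (map_one e)))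
  have := map_avg α hmk v
  rw [avg_eq_self hα hcoact] at this
  exact (Submodule.Quotient.eq H).1 this.symm

end Gen

section Cot

variable {k : Type u} [Field k] {Q : Type v} [CommRing Q] [Algebra k Q]

/-- a spanning set of a rational maximal ideal contains few elements generating it modulo its square -/
theorem exists_generators_mod_sq (p : Ideal Q) [p.IsMaximal] (ε : Q →ₐ[k] k) (hp : p = RingHom.ker ε)
    (T : Set Q) (hTp : T ⊆ p) (hpT : p.restrictScalars k ≤ Submodule.span k T) {s : ℕ}
    (t : Fin s → Localization.AtPrime p)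
    (ht : Ideal.span (Set.range t) = IsLocalRing.maximalIdeal (Localization.AtPrime p)) :
    ∃ (r : ℕ) (G : Fin r → Q), r ≤ s ∧ (∀ i, G i ∈ T) ∧
      p.restrictScalars k ≤ Submodule.span k (Set.range G) ⊔ (p ^ 2).restrictScalars k := by
  classical
  let Sp := Localization.AtPrime p
  let M2 : Submodule k Q := (p ^ 2).restrictScalars k
  let eqv := IsLocalization.AtPrime.equivQuotMaximalIdealPow p Sp 2
  have hcmap : ∀ x : Q, Ideal.Quotient.mk (IsLocalRing.maximalIdeal Sp ^ 2) (algebraMap Q Sp x) =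
      eqv (Ideal.Quotient.mk _ x) := fun x => rfl
  have hlift : ∀ c : Sp, ∃ a : Q, Ideal.Quotient.mk (IsLocalRing.maximalIdeal Sp ^ 2) (algebraMap Q Sp a) =
      Ideal.Quotient.mk _ c := by
    intro c
    obtain ⟨a, ha⟩ := Ideal.Quotient.mk_surjective (eqv.symm (Ideal.Quotient.mk _ c))
    exact ⟨a, by rw [hcmap, ha, AlgEquiv.apply_symm_apply]⟩
  choose a ha using fun i => hlift (t i)
  have hap : ∀ i, a i ∈ p := by
    intro i
    have h1 : algebraMap Q Sp (a i) - t i ∈ IsLocalRing.maximalIdeal Sp ^ 2 := Ideal.Quotient.eq.1 (ha i)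
    have h2 : algebraMap Q Sp (a i) ∈ IsLocalRing.maximalIdeal Sp := by
      have : t i ∈ IsLocalRing.maximalIdeal Sp := ht ▸ Ideal.subset_span ⟨i, rfl⟩
      simpa using add_mem (Ideal.pow_le_self two_ne_zero h1) this
    exact (IsLocalization.AtPrime.to_map_mem_maximal_iff Sp p (a i) inferInstance).1 h2
  let V : Submodule k (Q ⧸ M2) := (p.restrictScalars k).map M2.mkQ
  have hVle : V ≤ Submodule.span k (Set.range (M2.mkQ ∘ a)) := by
    rintro _ ⟨x, hx, rfl⟩
    have hx' : algebraMap Q Sp x ∈ Ideal.span (Set.range t) := by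
      rw [ht, ← Localization.AtPrime.map_eq_maximalIdeal]
      exact Ideal.mem_map_of_mem _ hx
    obtain ⟨c, hc⟩ := (Submodule.mem_span_range_iff_exists_fun Sp).1 hx'
    choose d hd using fun i => hlift (c i)
    have hsum : x - ∑ i, d i * a i ∈ p ^ 2 := by
      rw [← Ideal.Quotient.eq_zero_iff_mem]
      refine eqv.injective ?_
      rw [map_zero, ← hcmap, map_sub, map_sub, map_sum, map_sum, sub_eq_zero, ← hc, map_sum]
      exact Finset.sum_congr rfl fun i _ => by
        rw [map_mul, map_mul, hd, ha, smul_eq_mul, map_mul]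
    have h2 : ∀ i, d i * a i - ε (d i) • a i ∈ p ^ 2 := by
      intro i
      rw [Algebra.smul_def, ← sub_mul, pow_two]
      refine Ideal.mul_mem_mul ?_ (hap i)
      subst hp
      simp [RingHom.mem_ker]
    have h3 : M2.mkQ x = ∑ i, ε (d i) • M2.mkQ (a i) := by
      simp only [← map_smul, ← map_sum]
      rw [Submodule.mkQ_apply, Submodule.mkQ_apply, Submodule.Quotient.eq]
      have h4 := add_mem hsum ((p ^ 2).sum_mem (t := Finset.univ) fun i _ => h2 i)
      rw [Finset.sum_sub_distrib, sub_add_sub_cancel] at h4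
      exact h4
    rw [h3]
    exact Submodule.sum_mem _ fun i _ => Submodule.smul_mem _ _ (Submodule.subset_span ⟨i, rfl⟩)
  haveI : FiniteDimensional k ↥(Submodule.span k (Set.range (M2.mkQ ∘ a))) :=
    FiniteDimensional.span_of_finite k (Set.finite_range _)
  haveI : FiniteDimensional k V :=
    Module.Finite.of_injective (Submodule.inclusion hVle) (Submodule.inclusion_injective _)
  obtain ⟨b, hbT, hbspan, hbli⟩ := exists_linearIndependent k (M2.mkQ '' T)
  have hbeq : Submodule.span k b = V := by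
    rw [hbspan, ← Submodule.map_span]
    refine le_antisymm (Submodule.map_mono ?_) (Submodule.map_mono hpT)
    exact Submodule.span_le.2 hTp
  let b' : b → V := fun v => ⟨v, hbeq ▸ Submodule.subset_span v.2⟩
  have hli' : LinearIndependent k b' := LinearIndependent.of_comp V.subtype hbli
  haveI := hli'.finite
  haveI := Fintype.ofFinite b
  have hcard : Fintype.card b ≤ s :=
    hli'.fintype_card_le_finrank.trans ((Submodule.finrank_mono hVle).trans
      ((finrank_range_le_card _).trans (Fintype.card_fin s).le))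
  choose G hG hG' using fun v : b => hbT v.2
  refine ⟨Fintype.card b, G ∘ (Fintype.equivFin b).symm, hcard, fun i => hG _, ?_⟩
  intro x hx
  have h1 : M2.mkQ x ∈ Submodule.span k b := hbeq ▸ Submodule.mem_map_of_mem hx
  have h2 : Submodule.span k b ≤ (Submodule.span k (Set.range (G ∘ (Fintype.equivFin b).symm))).map M2.mkQ := by
    rw [Submodule.map_span]
    refine Submodule.span_mono fun v hv => ?_
    exact ⟨G ⟨v, hv⟩, ⟨Fintype.equivFin b ⟨v, hv⟩, by simp⟩, hG' ⟨v, hv⟩⟩
  obtain ⟨y, hy, hyx⟩ := h2 h1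
  rw [← add_sub_cancel y x]
  exact Submodule.add_mem_sup hy ((Submodule.Quotient.eq M2).1 hyx.symm)

omit [Algebra k Q] in
theorem exists_generators_maximal [IsNoetherianRing Q] (p : Ideal Q) [p.IsPrime] :
    ∃ (s : ℕ) (t : Fin s → Localization.AtPrime p),
      s ≤ (IsLocalRing.maximalIdeal (Localization.AtPrime p)).spanFinrank ∧
      Ideal.span (Set.range t) = IsLocalRing.maximalIdeal (Localization.AtPrime p) := by
  obtain ⟨t, htc, ht⟩ := Submodule.FG.exists_span_finset_card_eq_spanFinrank
    (IsNoetherian.noetherian (IsLocalRing.maximalIdeal (Localization.AtPrime p)))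
  refine ⟨t.card, fun i => t.equivFin.symm i, htc.le, ?_⟩
  rw [show Set.range (fun i => (t.equivFin.symm i : Localization.AtPrime p)) = (t : Set _) by
    ext y
    exact ⟨fun ⟨i, hi⟩ => hi ▸ (t.equivFin.symm i).2, fun hy => ⟨t.equivFin ⟨y, hy⟩, by simp⟩⟩]
  exact ht

/-- generators no more numerous than the dimension of a regular local ring are independent -/
theorem exists_algEquiv_of_generators [IsNoetherianRing Q] (p : Ideal Q) [p.IsPrime]
    [IsRegularLocalRing (Localization.AtPrime p)] {r : ℕ} (G : Fin r → Q)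
    (hG : Algebra.adjoin k (Set.range G) = ⊤)
    (hr : r ≤ (IsLocalRing.maximalIdeal (Localization.AtPrime p)).spanFinrank) :
    ∃ m : ℕ, Nonempty (Q ≃ₐ[k] MvPolynomial (Fin m) k) := by
  let φ : MvPolynomial (Fin r) k →ₐ[k] Q := MvPolynomial.aeval G
  have hsurj : Function.Surjective φ := by
    rw [← AlgHom.range_eq_top, ← Algebra.adjoin_range_eq_range_aeval]
    exact hG
  refine ⟨r, ⟨(AlgEquiv.ofBijective φ ⟨?_, hsurj⟩).symm⟩⟩
  rw [injective_iff_map_eq_zero]
  intro F hF
  by_contra hne
  have h1 : ringKrullDim (MvPolynomial (Fin r) k ⧸ Ideal.span {F}) + 1 ≤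
      ringKrullDim (MvPolynomial (Fin r) k) :=
    ringKrullDim_quotient_succ_le_of_nonZeroDivisor (mem_nonZeroDivisors_of_ne_zero hne)
  have h2 : ringKrullDim Q ≤ ringKrullDim (MvPolynomial (Fin r) k ⧸ Ideal.span {F}) :=
    ringKrullDim_le_of_surjective (Ideal.Quotient.lift _ φ.toRingHom fun a ha => by
      obtain ⟨c, rfl⟩ := Ideal.mem_span_singleton'.1 ha
      simp [hF]) (Ideal.Quotient.lift_surjective_of_surjective _ _ hsurj)
  have h3 : ringKrullDim (Localization.AtPrime p) ≤ ringKrullDim Q := by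
    rw [IsLocalization.AtPrime.ringKrullDim_eq_height p (Localization.AtPrime p)]
    exact Ideal.height_le_ringKrullDim_of_ne_top (Ideal.IsPrime.ne_top ‹_›)
  have h4 : ((IsLocalRing.maximalIdeal (Localization.AtPrime p)).spanFinrank : WithBot ℕ∞) =
      ringKrullDim (Localization.AtPrime p) :=
    IsRegularLocalRing.spanFinrank_maximalIdeal
  have h5 : ringKrullDim (MvPolynomial (Fin r) k) = (r : WithBot ℕ∞) := by
    rw [MvPolynomial.ringKrullDim_of_isNoetherianRing, ringKrullDim_eq_zero_of_field]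
    simp
  have h6 : (r : WithBot ℕ∞) + 1 ≤ (r : WithBot ℕ∞) := by
    refine le_trans ?_ (h1.trans_eq h5)
    gcongr
    exact le_trans (le_trans (by exact_mod_cast hr) (h4.le.trans h3)) h2
  have h7 : (r + 1 : ℕ) ≤ r := by exact_mod_cast h6
  omega

end Cot

section Descent

theorem isRegularLocalRing_of_flat_over {Q S : Type v} [CommRing Q] [CommRing S] [Algebra Q S]
    [Module.Flat Q S] [IsNoetherianRing Q] [IsRegularRing S] (p : Ideal Q) [p.IsPrime]
    (n : Ideal S) [n.IsPrime] (h : p = n.comap (algebraMap Q S)) :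
    IsRegularLocalRing (Localization.AtPrime p) := by
  let φ : Localization.AtPrime p →+* Localization.AtPrime n :=
    Localization.localRingHom p n (algebraMap Q S) h
  have hφ : φ.Flat :=
    RingHom.Flat.localRingHom (RingHom.flat_algebraMap_iff.2 (inferInstance : Module.Flat Q S)) n p h
  letI := φ.toAlgebra
  haveI : IsLocalHom (algebraMap (Localization.AtPrime p) (Localization.AtPrime n)) :=
    inferInstanceAs (IsLocalHom φ)
  haveI : Module.Flat (Localization.AtPrime p) (Localization.AtPrime n) := hφ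
  exact RegLoc.Homological.isRegularLocalRing_of_flat (Localization.AtPrime n)

end Descent

variable {k : Type u} [Field k] {A : Type u} [CommRing A] [HopfAlgebra k A]
  {ι : Type u} [Fintype ι] [HopfRep.Comod k A (MvPolynomial ι k)]
  [GLin.IsCoactAlg k A (MvPolynomial ι k)]

local notation "𝕊" => MvPolynomial ι k

/-- the origin -/
abbrev x0 : MvPolynomial ι k →ₐ[k] k := GLin.vecPt k ι fun _ => (0 : k)

omit [HopfRep.Comod k A 𝕊] [GLin.IsCoactAlg k A 𝕊] in
theorem x0_eq_coeff (f : 𝕊) : x0 f = coeff 0 f := by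
  rw [x0, GLin.vecPt]
  exact (MvPolynomial.aeval_zero' (R := k) (σ := ι) f).trans (by simp [MvPolynomial.constantCoeff_eq])

theorem x0_contract (hlin : GLin.IsLinear k A ι) (φ : A →ₗ[k] k) (f : 𝕊) :
    x0 (contract φ f) = φ 1 * x0 f := by
  have h : GLin.orbitHom k A (x0 : 𝕊 →ₐ[k] k) = (Algebra.ofId k A).comp x0 :=
    MvPolynomial.algHom_ext fun i => by
      rw [GITLib.orbitHom_zero_X hlin i]
      simp
  have h1 : φ (GLin.orbitHom k A (x0 : 𝕊 →ₐ[k] k) f) = x0 (contract φ f) := by
    change φ (TensorProduct.lid k A (TensorProduct.map (x0 : 𝕊 →ₐ[k] k).toLinearMap LinearMap.id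
      (HopfRep.Comod.coact (k := k) (A := A) f))) = _
    rw [contract_apply]
    induction HopfRep.Comod.coact (k := k) (A := A) f using TensorProduct.induction_on with
    | zero => simp
    | tmul r a => simp [mul_comm]
    | add p q hp hq => simp only [map_add, hp, hq]
  rw [← h1, h, AlgHom.comp_apply, Algebra.ofId_apply, Algebra.algebraMap_eq_smul_one, map_smul,
    smul_eq_mul, mul_comm]

theorem x0_avg (hlin : GLin.IsLinear k A ι) {α : A →ₗ[k] k} (hα : IsIntegral k α) (f : 𝕊) :
    x0 (avg α f) = x0 f := by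
  letI := HopfRep.Comod.trivial k A k
  have hx : Hoch.IsComodHom A (x0 : 𝕊 →ₐ[k] k).toLinearMap := by
    rw [isComodHom_iff]
    intro φ r
    rw [AlgHom.toLinearMap_apply, AlgHom.toLinearMap_apply, x0_contract hlin, contract_apply]
    change _ = slice φ (x0 r ⊗ₜ[k] (1 : A))
    rw [slice_tmul, smul_eq_mul]
  have h := map_avg α hx f
  rw [AlgHom.toLinearMap_apply, AlgHom.toLinearMap_apply] at h
  exact h.trans (avg_eq_self hα rfl)

local notation "R0" => GLin.invariants k A (MvPolynomial ι k)

variable (k A ι) in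
/-- invariants vanishing at the origin -/
def pos : Ideal R0 := RingHom.ker ((x0 : 𝕊 →ₐ[k] k).comp (Subalgebra.val R0))

variable (k A ι) in
/-- the Hilbert ideal -/
def hil : Ideal 𝕊 := (pos k A ι).map (algebraMap R0 𝕊)

theorem mem_pos (u : R0) : u ∈ pos k A ι ↔ x0 (u : 𝕊) = 0 := Iff.rfl

instance isMaximal_pos : (pos k A ι).IsMaximal :=
  RingHom.ker_isMaximal_of_surjective _ fun c => ⟨algebraMap k R0 c, by simp⟩

theorem x0_hil {f : 𝕊} (hf : f ∈ hil k A ι) : x0 f = 0 := by
  have : hil k A ι ≤ RingHom.ker (x0 : 𝕊 →ₐ[k] k) := Ideal.map_le_iff_le_comap.2 fun u hu => hu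
  exact this hf

theorem mem_hil {u : 𝕊} (hu : u ∈ R0) (h0 : x0 u = 0) : u ∈ hil k A ι :=
  Ideal.mem_map_of_mem _ (show (⟨u, hu⟩ : R0) ∈ pos k A ι from h0)

theorem contract_mul_inv (φ : A →ₗ[k] k) (r : 𝕊) (c : R0) :
    contract φ (r * (c : 𝕊)) = contract φ r * (c : 𝕊) := by
  rw [contract_apply, GLin.IsCoactAlg.coact_mul,
    show HopfRep.Comod.coact (k := k) (A := A) (c : 𝕊) = (c : 𝕊) ⊗ₜ[k] (1 : A) from c.2,
    slice_mul_tmul_one, ← contract_apply]

theorem isSubcomod_hil : HopfRep.IsSubcomod (k := k) (A := A) ((hil k A ι).restrictScalars k) := by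
  refine isSubcomod_span_fixed ?_
  rintro _ ⟨u, -, rfl⟩
  exact u.2

/-- a pseudo-reflection moves every polynomial by a multiple of one linear form -/
theorem exists_linForm (hlin : GLin.IsLinear k A ι) {I : Ideal A} (hI : GLin.IsPseudoRefl k A ι I)
    (hsub : ∀ (J : Ideal A) [J.IsHopfIdeal k], HopfRep.IsLinearlyReductive k (A ⧸ J)) :
    ∃ l : 𝕊, l ≠ 0 ∧ l.IsHomogeneous 1 ∧ ∀ (φ : (A ⧸ I) →ₗ[k] k) (f : 𝕊),
      l ∣ contract (φ ∘ₗ (Ideal.Quotient.mkₐ k I).toLinearMap) f - φ 1 • f := by
  classical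
  haveI := hI.1
  obtain ⟨β, hβ⟩ := exists_integral_of_linRed (hsub I)
  let q : A →ₐc[k] (A ⧸ I) := Bialgebra.Quotient.mkBialgHom I
  let cB : HopfRep.Comod k (A ⧸ I) 𝕊 := push q.toCoalgHom ‹HopfRep.Comod k A 𝕊›
  have hcB : cB.coact = (Ideal.Quotient.mkₐ k I).toLinearMap.lTensor 𝕊 ∘ₗ
      HopfRep.Comod.coact (k := k) (A := A) := rfl
  let W₀ : Submodule k 𝕊 := GLin.quotInvariants k A 𝕊 I
  have hW : @HopfRep.IsSubcomod k (A ⧸ I) _ _ _ _ 𝕊 _ _ cB W₀ := fun w hw =>
    ⟨⟨w, hw⟩ ⊗ₜ[k] 1, by rw [LinearMap.rTensor_tmul]; exact hw.symm⟩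
  let L₁ : Submodule k 𝕊 := GLin.linForms k ι
  have hL₁ : @HopfRep.IsSubcomod k (A ⧸ I) _ _ _ _ 𝕊 _ _ cB L₁ := by
    refine (@isSubcomod_iff k _ (A ⧸ I) _ _ 𝕊 _ _ _ cB _ _).2 fun φ v hv => ?_
    have := GITLib.isHomogeneous_contract hlin (d := 1) hv (φ ∘ₗ (Ideal.Quotient.mkₐ k I).toLinearMap)
    change slice φ (cB.coact v) ∈ L₁
    rw [contract_apply] at this
    rw [hcB, LinearMap.comp_apply]
    simp only [slice, LinearMap.comp_apply, LinearEquiv.coe_coe, ← LinearMap.lTensor_comp_apply] at this ⊢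
    exact this
  have hWL : @HopfRep.IsSubcomod k (A ⧸ I) _ _ _ _ 𝕊 _ _ cB (L₁ ⊓ W₀) :=
    @isSubcomod_inf k _ (A ⧸ I) _ _ 𝕊 _ _ _ cB _ _ _ hL₁ hW
  obtain ⟨C, hC, hcompl⟩ := @IsIntegral.isSemisimpleComod k _ (A ⧸ I) _ _ β hβ 𝕊 _ _ cB _ hWL
  let L : Submodule k 𝕊 := C ⊓ L₁
  have hL : @HopfRep.IsSubcomod k (A ⧸ I) _ _ _ _ 𝕊 _ _ cB L :=
    @isSubcomod_inf k _ (A ⧸ I) _ _ 𝕊 _ _ _ cB _ _ _ hC hL₁
  have hsup : (L₁ ⊓ W₀) ⊔ L = L₁ := by
    change (L₁ ⊓ W₀) ⊔ (C ⊓ L₁) = L₁
    rw [← sup_inf_assoc_of_le C inf_le_left, hcompl.sup_eq_top, top_inf_eq]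
  have hinf : (L₁ ⊓ W₀) ⊓ L = ⊥ := by
    refine le_bot_iff.1 ?_
    rw [← hcompl.inf_eq_bot]
    exact inf_le_inf le_rfl inf_le_left
  haveI hfin : Module.Finite k L₁ := by
    refine Module.Finite.iff_fg.2 ?_
    rw [show L₁ = Submodule.span k (Set.range (X : ι → 𝕊)) from
      MvPolynomial.homogeneousSubmodule_one_eq_span_X (σ := ι) (R := k)]
    exact Submodule.fg_span (Set.finite_range _)
  haveI : Module.Finite k ↥(L₁ ⊓ W₀) :=
    Module.Finite.of_injective (Submodule.inclusion inf_le_left) (Submodule.inclusion_injective _)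
  haveI : Module.Finite k L :=
    Module.Finite.of_injective (Submodule.inclusion inf_le_right) (Submodule.inclusion_injective _)
  have hdim : Module.finrank k L = 1 := by
    have := Submodule.finrank_sup_add_finrank_inf_eq (L₁ ⊓ W₀) L
    rw [hsup, hinf, finrank_bot] at this
    have h2 : Module.finrank k ↥(L₁ ⊓ W₀) + 1 = Module.finrank k L₁ := hI.2
    omega
  obtain ⟨⟨l, hlL⟩, hl0, hlspan⟩ := finrank_eq_one_iff'.1 hdim
  have hlspan' : ∀ y ∈ L, ∃ c : k, c • l = y := fun y hy => by
    obtain ⟨c, hc⟩ := hlspan ⟨y, hy⟩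
    exact ⟨c, congrArg Subtype.val hc⟩
  refine ⟨l, fun h => hl0 (Subtype.ext h), hlL.2, ?_⟩
  let P : Ideal (𝕊 ⊗[k] (A ⧸ I)) := Ideal.span {l ⊗ₜ[k] (1 : A ⧸ I)}
  let ψ : 𝕊 →ₐ[k] (𝕊 ⊗[k] (A ⧸ I)) ⧸ P :=
    (Ideal.Quotient.mkₐ k P).comp ((Algebra.TensorProduct.map (AlgHom.id k 𝕊)
      (Ideal.Quotient.mkₐ k I)).comp (GLin.coactAlgHom k A 𝕊))
  let ψ' : 𝕊 →ₐ[k] (𝕊 ⊗[k] (A ⧸ I)) ⧸ P :=
    (Ideal.Quotient.mkₐ k P).comp Algebra.TensorProduct.includeLeft
  have hmap : ∀ y : 𝕊 ⊗[k] A, Algebra.TensorProduct.map (AlgHom.id k 𝕊) (Ideal.Quotient.mkₐ k I) y =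
      (Ideal.Quotient.mkₐ k I).toLinearMap.lTensor 𝕊 y := fun _ => rfl
  have hψ : ψ = ψ' := by
    refine MvPolynomial.algHom_ext fun i => ?_
    obtain ⟨w, hw, y, hy, hwy⟩ := Submodule.mem_sup.1 (hsup.symm ▸
      (show (X i : 𝕊) ∈ L₁ from MvPolynomial.isHomogeneous_X k i))
    rw [← hwy, map_add, map_add]
    congr 1
    · change Ideal.Quotient.mk P (Algebra.TensorProduct.map (AlgHom.id k 𝕊) (Ideal.Quotient.mkₐ k I)
        (HopfRep.Comod.coact (k := k) (A := A) w)) = Ideal.Quotient.mk P (w ⊗ₜ[k] 1)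
      rw [hmap]
      exact congrArg _ hw.2
    · obtain ⟨c, rfl⟩ := hlspan' y hy
      rw [map_smul, map_smul]
      congr 1
      change Ideal.Quotient.mk P (Algebra.TensorProduct.map (AlgHom.id k 𝕊) (Ideal.Quotient.mkₐ k I)
        (HopfRep.Comod.coact (k := k) (A := A) l)) = Ideal.Quotient.mk P (l ⊗ₜ[k] 1)
      rw [hmap, Ideal.Quotient.mk_eq_mk_iff_sub_mem]
      refine sub_mem ?_ (Ideal.subset_span rfl)
      obtain ⟨t, ht⟩ := hL l hlL
      rw [show (Ideal.Quotient.mkₐ k I).toLinearMap.lTensor 𝕊 (HopfRep.Comod.coact (k := k) (A := A) l) =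
        cB.coact l from rfl, ← ht]
      clear ht
      induction t using TensorProduct.induction_on with
      | zero => simp
      | tmul z b =>
        obtain ⟨d, hd⟩ := hlspan' z.1 z.2
        rw [LinearMap.rTensor_tmul, Submodule.subtype_apply, ← hd,
          show (d • l) ⊗ₜ[k] b = (l ⊗ₜ[k] (1 : A ⧸ I)) * ((1 : 𝕊) ⊗ₜ[k] (d • b)) by
            rw [Algebra.TensorProduct.tmul_mul_tmul, one_mul, mul_one, TensorProduct.smul_tmul]]
        exact P.mul_mem_right _ (Ideal.subset_span rfl)
      | add p q hp hq => rw [map_add]; exact add_mem hp hq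
  intro φ f
  have hf := AlgHom.congr_fun hψ f
  rw [AlgHom.comp_apply, AlgHom.comp_apply, AlgHom.comp_apply, Ideal.Quotient.mkₐ_eq_mk,
    Ideal.Quotient.mk_eq_mk_iff_sub_mem] at hf
  obtain ⟨z, hz⟩ := Ideal.mem_span_singleton'.1 hf
  refine ⟨slice φ z, ?_⟩
  have h1 : ∀ z : 𝕊 ⊗[k] (A ⧸ I), slice φ (z * (l ⊗ₜ[k] 1)) = l * slice φ z := by
    intro z
    induction z using TensorProduct.induction_on with
    | zero => simp
    | tmul r b => simp [Algebra.TensorProduct.tmul_mul_tmul, mul_comm]
    | add p q hp hq => simp only [add_mul, map_add, hp, hq, mul_add]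
  rw [← h1, hz, map_sub]
  congr 1
  · rw [contract_apply]
    simp only [slice, LinearMap.comp_apply, ← LinearMap.lTensor_comp_apply]
    rw [GLin.coactAlgHom_apply, hmap, ← LinearMap.lTensor_comp_apply]

/-- contraction does not raise the degree -/
theorem totalDegree_contract_le (hlin : GLin.IsLinear k A ι) (φ : A →ₗ[k] k) (f : 𝕊) :
    (contract φ f).totalDegree ≤ f.totalDegree := by
  conv_lhs => rw [← MvPolynomial.sum_homogeneousComponent f, map_sum]
  refine MvPolynomial.totalDegree_finsetSum_le fun i hi => ?_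
  refine le_trans ?_ (Nat.lt_succ_iff.1 (Finset.mem_range.1 hi))
  exact (GITLib.isHomogeneous_contract hlin (MvPolynomial.homogeneousComponent_isHomogeneous i f) φ).totalDegree_le

/-- Chevalley's lemma on relations among invariants -/
theorem key (hlin : GLin.IsLinear k A ι) (hgen : GLin.IsGenByPseudoRefl k A ι)
    (hsub : ∀ (J : Ideal A) [J.IsHopfIdeal k], HopfRep.IsLinearlyReductive k (A ⧸ J))
    {α : A →ₗ[k] k} (hα : IsIntegral k α)
    {κ : Type*} [DecidableEq κ] {s : Finset κ} {g : κ → R0} {l₀ : κ} (hl₀ : l₀ ∈ s)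
    (hg : ∀ u : R0, u ∉ pos k A ι → u * g l₀ ∉ Ideal.span (g '' (s.erase l₀ : Set κ)))
    (f : κ → 𝕊) (hf : ∑ l ∈ s, f l * (g l : 𝕊) = 0) : f l₀ ∈ hil k A ι := by
  induction h : (f l₀).totalDegree using Nat.strong_induction_on generalizing f with
  | _ n ih => ?_
  subst h
  -- the value at the origin
  have h0 : x0 (f l₀) = 0 := by
    let a : κ → R0 := fun l => ⟨avg α (f l), avg_mem hα _⟩
    have ha : ∑ l ∈ s, a l * g l = 0 := Subtype.ext (by
      rw [AddSubmonoidClass.coe_finsetSum, ZeroMemClass.coe_zero, ← map_zero (avg (k := k) (A := A) (V := 𝕊) α),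
        ← hf, map_sum]
      exact Finset.sum_congr rfl fun l _ => (avg_mul_fixed α _ (g l).2).symm)
    rw [← x0_avg hlin hα]
    by_contra hne
    refine hg (a l₀) hne ?_
    rw [← Finset.add_sum_erase _ _ hl₀, add_eq_zero_iff_eq_neg] at ha
    rw [ha]
    refine neg_mem (Ideal.sum_mem _ fun l hl => Ideal.mul_mem_left _ _ (Ideal.subset_span ⟨l, hl, rfl⟩))
  have hdiff : f l₀ - avg α (f l₀) ∈ hil k A ι := by
    refine sub_avg_mem hα (isSubcomod_hil (k := k) (A := A) (ι := ι)) (GLin.IsPseudoRefl k A ι) hgen (f l₀) ?_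
    intro I hI φ
    obtain ⟨l, hl0, hl1, hdiv⟩ := exists_linForm hlin hI hsub
    choose D hD using fun j => hdiv φ (f j)
    have hrel : ∑ j ∈ s, D j * (g j : 𝕊) = 0 := by
      refine mul_left_cancel₀ hl0 ?_
      rw [mul_zero, Finset.mul_sum]
      simp only [← mul_assoc, ← hD, sub_mul, Finset.sum_sub_distrib, ← contract_mul_inv, smul_mul_assoc]
      rw [← map_sum, hf, map_zero, ← Finset.smul_sum, hf, smul_zero, sub_zero]
    rw [hD l₀, Submodule.restrictScalars_mem]
    refine Ideal.mul_mem_left _ _ ?_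
    rcases eq_or_ne (D l₀) 0 with hz | hz
    · rw [hz]; exact zero_mem _
    refine ih _ ?_ D hrel rfl
    have h1 : (l * D l₀).totalDegree ≤ (f l₀).totalDegree := by
      rw [← hD]
      exact (MvPolynomial.totalDegree_sub _ _).trans (max_le (totalDegree_contract_le hlin _ _)
        (MvPolynomial.totalDegree_smul_le _ _))
    rw [MvPolynomial.totalDegree_mul_of_isDomain hl0 hz, hl1.totalDegree hl0] at h1
    omega
  have hinv : avg α (f l₀) ∈ hil k A ι := mem_hil (avg_mem hα _) (by rw [x0_avg hlin hα, h0])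
  simpa using add_mem hdiff hinv

theorem mk_smul_eq (a : R0) (r : 𝕊) :
    ((hil k A ι).restrictScalars k).mkQ (a • r) = x0 (a : 𝕊) • ((hil k A ι).restrictScalars k).mkQ r := by
  rw [← map_smul, Submodule.mkQ_apply, Submodule.mkQ_apply, Submodule.Quotient.eq]
  change (a : 𝕊) * r - x0 (a : 𝕊) • r ∈ hil k A ι
  rw [← smul_eq_mul, smul_eq_mul, Algebra.smul_def (x0 (a : 𝕊)) r, ← sub_mul]
  refine Ideal.mul_mem_right _ _ (mem_hil (sub_mem a.2 (Subalgebra.algebraMap_mem _ _)) ?_)
  rw [map_sub, AlgHom.commutes]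
  simp

/-- the polynomial ring is free over the invariants -/
theorem free (hlin : GLin.IsLinear k A ι) (hgen : GLin.IsGenByPseudoRefl k A ι)
    (hsub : ∀ (J : Ideal A) [J.IsHopfIdeal k], HopfRep.IsLinearlyReductive k (A ⧸ J))
    {α : A →ₗ[k] k} (hα : IsIntegral k α) : Module.Free R0 𝕊 := by
  classical
  let H : Submodule k 𝕊 := (hil k A ι).restrictScalars k
  let t : Set (𝕊 ⧸ H) := Set.range fun d : ι →₀ ℕ => H.mkQ (monomial d (1 : k))
  obtain ⟨b, hbt, hspan, hli⟩ := exists_linearIndependent k t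
  choose d hd using fun j : b => hbt j.2
  let e : b → 𝕊 := fun j => monomial (d j) (1 : k)
  have he : ∀ j : b, H.mkQ (e j) = (j : 𝕊 ⧸ H) := hd
  have htop : Submodule.span k b = ⊤ := by
    rw [hspan, eq_top_iff]
    rintro y -
    obtain ⟨r, rfl⟩ := H.mkQ_surjective y
    rw [r.as_sum, map_sum]
    refine Submodule.sum_mem _ fun s _ => ?_
    rw [show monomial s (coeff s r) = coeff s r • monomial s (1 : k) by
      rw [smul_monomial, smul_eq_mul, mul_one], map_smul]
    exact Submodule.smul_mem _ _ (Submodule.subset_span ⟨s, rfl⟩)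
  -- independence
  have hind : LinearIndependent R0 e := by
    rw [linearIndependent_iff']
    intro s c hc j₁ hj₁
    by_contra hne
    let K := s.filter fun j => c j ≠ 0
    let Sat : Finset b → Prop := fun J =>
      ∀ j ∈ K, ∃ u : R0, u ∉ pos k A ι ∧ u * c j ∈ Ideal.span (c '' (J : Set b))
    have hKSat : Sat K := fun j hj => ⟨1, (Ideal.ne_top_iff_one _).1 isMaximal_pos.ne_top,
      by rw [one_mul]; exact Ideal.subset_span ⟨j, hj, rfl⟩⟩
    obtain ⟨J, hJ, hmin⟩ := Finset.exists_min_image (K.powerset.filter Sat) Finset.card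
      ⟨K, Finset.mem_filter.2 ⟨Finset.mem_powerset.2 le_rfl, hKSat⟩⟩
    obtain ⟨hJK, hJSat⟩ := Finset.mem_filter.1 hJ
    rw [Finset.mem_powerset] at hJK
    choose! u hu hmem using hJSat
    obtain ⟨l₀, hl₀⟩ : J.Nonempty := by
      rw [Finset.nonempty_iff_ne_empty]
      intro hJe
      have hj : j₁ ∈ K := Finset.mem_filter.2 ⟨hj₁, hne⟩
      have h' := hmem j₁ hj
      rw [hJe] at h'
      simp only [Finset.coe_empty, Set.image_empty, Ideal.span_empty, Submodule.mem_bot] at h'
      rcases mul_eq_zero.1 h' with h'' | h''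
      · exact hu j₁ hj (h'' ▸ zero_mem _)
      · exact hne h''
    let U : R0 := ∏ j ∈ K, u j
    have hU : U ∉ pos k A ι := fun h => by
      obtain ⟨j, hj, h'⟩ := (Ideal.IsPrime.prod_mem_iff (hp := isMaximal_pos.isPrime)).1 h
      exact hu j hj h'
    have hex : ∀ j ∈ K, ∃ a : b → R0, (j ∈ J → ∀ l, a l = if l = j then U else 0) ∧
        ∑ l ∈ J, a l * c l = U * c j := by
      intro j hj
      by_cases hjJ : j ∈ J
      · exact ⟨fun l => if l = j then U else 0, fun _ l => rfl, by simp [hjJ]⟩
      · have h' := Ideal.mul_mem_left _ (∏ i ∈ K.erase j, u i) (hmem j hj)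
        rw [← mul_assoc, Finset.prod_erase_mul _ _ hj] at h'
        obtain ⟨a, ha⟩ := (Submodule.mem_span_image_finset_iff_exists_fun _).1 h'
        refine ⟨fun l => if h : l ∈ J then a ⟨l, h⟩ else 0, fun h => absurd h hjJ, ?_⟩
        rw [← ha, ← Finset.sum_attach]
        exact Finset.sum_congr rfl fun l _ => by simp
    choose! a ha1 ha2 using hex
    let F : b → 𝕊 := fun l => ∑ j ∈ K, a j l • e j
    have hrel : ∑ l ∈ J, F l * (c l : 𝕊) = 0 := by
      have h1 : ∀ l, F l * (c l : 𝕊) = ∑ j ∈ K, (a j l * c l) • e j := fun l => by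
        rw [Finset.sum_mul]
        exact Finset.sum_congr rfl fun j _ => by
          change (a j l : 𝕊) * e j * (c l : 𝕊) = ((a j l * c l : R0) : 𝕊) * e j
          rw [MulMemClass.coe_mul]; ring
      simp only [h1]
      rw [Finset.sum_comm]
      simp only [← Finset.sum_smul]
      rw [Finset.sum_congr rfl fun j hj => by rw [ha2 j hj, mul_smul], ← Finset.smul_sum,
        show ∑ j ∈ K, c j • e j = 0 by
          rw [← hc]
          exact Finset.sum_filter_of_ne fun j _ h => left_ne_zero_of_smul h, smul_zero]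
    have hkey := key hlin hgen hsub hα hl₀ (g := c) ?_ F hrel
    · have h0 : H.mkQ (F l₀) = 0 := (Submodule.Quotient.mk_eq_zero H).2 hkey
      simp only [F, map_sum, H, mk_smul_eq] at h0
      have hli' := linearIndependent_iff'.1 hli K (fun j => x0 (a j l₀ : 𝕊)) (by
        rw [← h0]; exact Finset.sum_congr rfl fun j _ => by rw [← he j]) l₀ (hJK hl₀)
      simp only [ha1 l₀ (hJK hl₀) hl₀ l₀, if_pos] at hli'
      exact hU hli'
    · intro v hv hvmem
      have hlt : (J.erase l₀).card < J.card := Finset.card_erase_lt_of_mem hl₀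
      refine not_le.2 hlt (hmin _ (Finset.mem_filter.2 ⟨Finset.mem_powerset.2
        ((Finset.erase_subset _ _).trans hJK), fun j hj => ⟨v * u j, fun h => ?_, ?_⟩⟩))
      · rcases isMaximal_pos.isPrime.mem_or_mem h with h' | h'
        exacts [hv h', hu j hj h']
      · obtain ⟨a', ha'⟩ := (Submodule.mem_span_image_finset_iff_exists_fun _).1 (hmem j hj)
        rw [mul_assoc, ← ha', Finset.mul_sum]
        refine Ideal.sum_mem _ fun l _ => ?_
        rw [smul_eq_mul, mul_left_comm]
        refine Ideal.mul_mem_left _ _ ?_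
        rcases eq_or_ne (l : b) l₀ with h | h
        · rw [h]; exact hvmem
        · exact Ideal.mul_mem_left _ _ (Ideal.subset_span ⟨l, Finset.mem_erase.2 ⟨h, l.2⟩, rfl⟩)
  -- generation
  let M : Submodule R0 𝕊 := Submodule.span R0 (Set.range e)
  have hgenM : ∀ (n : ℕ) (f : 𝕊), f.IsHomogeneous n → f ∈ M := by
    intro n
    induction n using Nat.strong_induction_on with | _ n ih => ?_
    intro f hf
    obtain ⟨cf, hcf⟩ := (Finsupp.mem_span_iff_linearCombination k b _).1
      (htop ▸ Submodule.mem_top (x := H.mkQ f))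
    let p : 𝕊 := cf.sum fun j c => c • e j
    have hp : f - p ∈ hil k A ι := by
      refine (Submodule.Quotient.eq H).1 ?_
      rw [← Submodule.mkQ_apply, ← Submodule.mkQ_apply, ← hcf, Finsupp.linearCombination_apply, map_finsuppSum]
      exact Finsupp.sum_congr fun j _ => by rw [map_smul, he]
    rw [← MvPolynomial.homogeneousComponent_of_mem (m := n) hf |>.trans (if_pos rfl),
      show f = p + (f - p) by ring, map_add]
    refine add_mem ?_ ?_
    · rw [map_finsuppSum]
      refine Submodule.sum_mem _ fun j _ => ?_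
      change homogeneousComponent n (cf j • e j) ∈ M
      rw [map_smul, MvPolynomial.homogeneousComponent_of_mem (n := (d j).degree)
        (MvPolynomial.isHomogeneous_monomial _ rfl)]
      split_ifs
      · exact M.smul_of_tower_mem _ (Submodule.subset_span ⟨j, rfl⟩)
      · simp
    · have hstep : ∀ (r : 𝕊) (g : R0), x0 (g : 𝕊) = 0 → homogeneousComponent n (r * (g : 𝕊)) ∈ M := by
        intro r g hg0
        rw [← MvPolynomial.sum_homogeneousComponent (g : 𝕊), Finset.mul_sum, map_sum]
        refine Submodule.sum_mem _ fun i _ => ?_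
        rcases Nat.eq_zero_or_pos i with rfl | hi
        · rw [MvPolynomial.homogeneousComponent_zero, ← x0_eq_coeff, hg0]
          simp
        · conv => arg 2; arg 2; arg 1; rw [← MvPolynomial.sum_homogeneousComponent r]
          rw [Finset.sum_mul, map_sum]
          refine Submodule.sum_mem _ fun a _ => ?_
          rw [MvPolynomial.homogeneousComponent_of_mem (n := a + i)
            ((MvPolynomial.homogeneousComponent_isHomogeneous a r).mul
              (MvPolynomial.homogeneousComponent_isHomogeneous i (g : 𝕊)))]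
          split_ifs with hn
          · rw [mul_comm]
            exact M.smul_mem ⟨_, GITLib.homogeneousComponent_mem_invariants hlin g.2 i⟩
              (ih a (by omega) _ (MvPolynomial.homogeneousComponent_isHomogeneous a r))
          · exact zero_mem _
      have hall : ∀ z ∈ hil k A ι, ∀ r : 𝕊, homogeneousComponent n (r * z) ∈ M := by
        intro z hz
        rw [hil, Ideal.map] at hz
        induction hz using Submodule.span_induction with
        | mem x hx => obtain ⟨g, hg, rfl⟩ := hx; exact fun r => hstep r g hg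
        | zero => exact fun r => by simp
        | add x y _ _ hx hy => exact fun r => by rw [mul_add, map_add]; exact add_mem (hx r) (hy r)
        | smul a x _ hx => exact fun r => by rw [smul_eq_mul, ← mul_assoc]; exact hx (r * a)
      simpa using hall _ hp 1
  refine Module.Free.of_basis (Module.Basis.mk hind ?_)
  rintro f -
  rw [← MvPolynomial.sum_homogeneousComponent f]
  exact Submodule.sum_mem _ fun i _ => hgenM i _ (MvPolynomial.homogeneousComponent_isHomogeneous i f)

/-- the invariant ring is regular at the origin -/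
theorem isRegularLocalRing_pos (hlin : GLin.IsLinear k A ι) (hgen : GLin.IsGenByPseudoRefl k A ι)
    (hsub : ∀ (J : Ideal A) [J.IsHopfIdeal k], HopfRep.IsLinearlyReductive k (A ⧸ J))
    {α : A →ₗ[k] k} (hα : IsIntegral k α) :
    IsRegularLocalRing (Localization.AtPrime (pos k A ι)) := by
  haveI := invariants_finiteType (k := k) (A := A) (R := 𝕊) hα
  haveI : IsNoetherianRing R0 := Algebra.FiniteType.isNoetherianRing k R0
  haveI := free hlin hgen hsub hα
  let n : Ideal 𝕊 := RingHom.ker (x0 : 𝕊 →ₐ[k] k)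
  haveI hn : n.IsMaximal := RingHom.ker_isMaximal_of_surjective _ fun c => ⟨algebraMap k 𝕊 c, by simp⟩
  exact isRegularLocalRing_of_flat_over (pos k A ι) n rfl

/-- finitely many homogeneous invariants of positive degree spanning the positive ideal modulo its square -/
theorem exists_cotangent_generators (hlin : GLin.IsLinear k A ι) {s : ℕ}
    (t : Fin s → Localization.AtPrime (pos k A ι))
    (ht : Ideal.span (Set.range t) = IsLocalRing.maximalIdeal (Localization.AtPrime (pos k A ι))) :
    ∃ (r : ℕ) (G : Fin r → R0), r ≤ s ∧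
      (∀ i, ∃ d, 0 < d ∧ (G i : 𝕊).IsHomogeneous d) ∧
      (pos k A ι).restrictScalars k ≤
        Submodule.span k (Set.range G) ⊔ ((pos k A ι) ^ 2).restrictScalars k := by
  classical
  let T : Set R0 := {g | ∃ d, 0 < d ∧ (g : 𝕊).IsHomogeneous d}
  have hTp : T ⊆ pos k A ι := by
    rintro g ⟨d, hd, hg⟩
    change x0 (g : 𝕊) = 0
    rw [x0_eq_coeff]
    exact hg.coeff_eq_zero (by simpa using hd.ne)
  have hpT : (pos k A ι).restrictScalars k ≤ Submodule.span k T := by
    intro x hx
    have hxsum : x = ∑ i ∈ Finset.range ((x : 𝕊).totalDegree + 1),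
        (⟨_, GITLib.homogeneousComponent_mem_invariants hlin x.2 i⟩ : R0) := Subtype.ext (by
      rw [AddSubmonoidClass.coe_finsetSum]
      exact (MvPolynomial.sum_homogeneousComponent (x : 𝕊)).symm)
    rw [hxsum]
    refine Submodule.sum_mem _ fun i _ => ?_
    rcases Nat.eq_zero_or_pos i with rfl | hi
    · have h0 : (⟨_, GITLib.homogeneousComponent_mem_invariants hlin x.2 0⟩ : R0) = 0 := Subtype.ext (by
        rw [ZeroMemClass.coe_zero]
        exact (MvPolynomial.homogeneousComponent_zero _).trans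
          (by rw [← x0_eq_coeff, show x0 (x : 𝕊) = 0 from hx, map_zero]))
      rw [h0]
      exact zero_mem _
    · exact Submodule.subset_span ⟨i, hi, MvPolynomial.homogeneousComponent_isHomogeneous i _⟩
  exact exists_generators_mod_sq (pos k A ι) ((x0 : 𝕊 →ₐ[k] k).comp (Subalgebra.val R0)) rfl T hTp hpT t ht

/-- homogeneous invariants spanning the positive ideal modulo its square generate the invariant ring -/
theorem adjoin_eq_top (hlin : GLin.IsLinear k A ι) {r : ℕ} {G : Fin r → R0}
    (hG : ∀ i, ∃ d, 0 < d ∧ (G i : 𝕊).IsHomogeneous d)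
    (hspan : (pos k A ι).restrictScalars k ≤
        Submodule.span k (Set.range G) ⊔ ((pos k A ι) ^ 2).restrictScalars k) :
    Algebra.adjoin k (Set.range G) = ⊤ := by
  classical
  let N : Subalgebra k 𝕊 := (Algebra.adjoin k (Set.range G)).map (Subalgebra.val R0)
  suffices h : ∀ (n : ℕ) (f : R0), (f : 𝕊).IsHomogeneous n → (f : 𝕊) ∈ N by
    refine eq_top_iff.2 fun f _ => ?_
    have hf : (f : 𝕊) ∈ N := by
      rw [← MvPolynomial.sum_homogeneousComponent (f : 𝕊)]
      exact Subalgebra.sum_mem _ fun i _ =>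
        h i ⟨_, GITLib.homogeneousComponent_mem_invariants hlin f.2 i⟩
          (MvPolynomial.homogeneousComponent_isHomogeneous i _)
    obtain ⟨g, hg, hgf⟩ := hf
    exact (Subtype.ext hgf : g = f) ▸ hg
  intro n
  induction n using Nat.strong_induction_on with | _ n ih => ?_
  intro f hf
  rcases Nat.eq_zero_or_pos n with rfl | hn
  · rw [← MvPolynomial.homogeneousComponent_of_mem (m := 0) hf |>.trans (if_pos rfl),
      MvPolynomial.homogeneousComponent_zero]
    exact Subalgebra.algebraMap_mem N _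
  have hfp : f ∈ pos k A ι := by
    rw [mem_pos, x0_eq_coeff]
    exact hf.coeff_eq_zero (by simpa using hn.ne)
  obtain ⟨y, hy, z, hz, hyz⟩ := Submodule.mem_sup.1 (hspan hfp)
  have hf' : (f : 𝕊) = homogeneousComponent n (y : 𝕊) + homogeneousComponent n (z : 𝕊) := by
    rw [← map_add, ← AddMemClass.coe_add, hyz]
    exact (MvPolynomial.homogeneousComponent_of_mem (m := n) hf |>.trans (if_pos rfl)).symm
  rw [hf']
  refine add_mem ?_ ?_
  · clear hyz hf'
    induction hy using Submodule.span_induction with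
    | mem x hx =>
      obtain ⟨i, rfl⟩ := hx
      obtain ⟨d, -, hd⟩ := hG i
      rw [MvPolynomial.homogeneousComponent_of_mem (n := d) hd]
      split_ifs
      · exact ⟨G i, Algebra.subset_adjoin ⟨i, rfl⟩, rfl⟩
      · exact zero_mem _
    | zero => simp
    | add x w _ _ hx hw => rw [AddMemClass.coe_add, map_add]; exact add_mem hx hw
    | smul c x _ hx =>
      rw [show ((c • x : R0) : 𝕊) = c • (x : 𝕊) from rfl, map_smul]
      exact Subalgebra.smul_mem _ hx c
  · clear hyz hf'
    rw [Submodule.restrictScalars_mem, pow_two] at hz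
    induction hz using Submodule.mul_induction_on' with
    | mem_mul_mem a ha c hc =>
      rw [MulMemClass.coe_mul, ← MvPolynomial.sum_homogeneousComponent (a : 𝕊),
        ← MvPolynomial.sum_homogeneousComponent (c : 𝕊), Finset.sum_mul, map_sum]
      refine Subalgebra.sum_mem _ fun i _ => ?_
      rw [Finset.mul_sum, map_sum]
      refine Subalgebra.sum_mem _ fun j _ => ?_
      rw [MvPolynomial.homogeneousComponent_of_mem (n := i + j)
        ((MvPolynomial.homogeneousComponent_isHomogeneous i _).mul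
          (MvPolynomial.homogeneousComponent_isHomogeneous j _))]
      split_ifs with hij
      · rcases Nat.eq_zero_or_pos i with rfl | hi
        · rw [MvPolynomial.homogeneousComponent_zero, ← x0_eq_coeff, (mem_pos a).1 ha, map_zero, zero_mul]
          exact zero_mem _
        rcases Nat.eq_zero_or_pos j with rfl | hj
        · rw [MvPolynomial.homogeneousComponent_zero, ← x0_eq_coeff, (mem_pos c).1 hc, map_zero, mul_zero]
          exact zero_mem _
        exact N.mul_mem
          (ih i (by omega) ⟨_, GITLib.homogeneousComponent_mem_invariants hlin a.2 i⟩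
            (MvPolynomial.homogeneousComponent_isHomogeneous i _))
          (ih j (by omega) ⟨_, GITLib.homogeneousComponent_mem_invariants hlin c.2 j⟩
            (MvPolynomial.homogeneousComponent_isHomogeneous j _))
      · exact zero_mem _
    | add x _ w _ hx hw => rw [AddMemClass.coe_add, map_add]; exact add_mem hx hw

/-- Chevalley–Shephard–Todd -/
theorem invariants_polynomial (hlin : GLin.IsLinear k A ι) (hgen : GLin.IsGenByPseudoRefl k A ι)
    (hsub : ∀ (J : Ideal A) [J.IsHopfIdeal k], HopfRep.IsLinearlyReductive k (A ⧸ J))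
    {α : A →ₗ[k] k} (hα : IsIntegral k α) :
    ∃ m : ℕ, Nonempty (R0 ≃ₐ[k] MvPolynomial (Fin m) k) := by
  haveI := invariants_finiteType (k := k) (A := A) (R := 𝕊) hα
  haveI : IsNoetherianRing R0 := Algebra.FiniteType.isNoetherianRing k R0
  haveI := isRegularLocalRing_pos hlin hgen hsub hα
  obtain ⟨s, t, hts, ht⟩ := exists_generators_maximal (pos k A ι)
  obtain ⟨r, G, hrs, hG, hspan⟩ := exists_cotangent_generators hlin t ht
  exact exists_algEquiv_of_generators (pos k A ι) G (adjoin_eq_top hlin hG hspan) (hrs.trans hts)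

end Groth.Agent.Comod.CST
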