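import Groth.Agent.Comod.LinRed
import Groth.Agent.Comod.Integral

/-!
# Invariant integrals are two-sided
-/

universe u v

noncomputable section

open TensorProduct WithConv

namespace Groth.Agent.Comod

variable {k : Type u} [CommRing k] {A : Type v} [CommRing A] [HopfAlgebra k A]

theorem antipode_antipode (x : A) : HopfAlgebra.antipode k (HopfAlgebra.antipode k x) = x := by
  have h1 := conv_comp_antipode (HopfAlgebra.antipodeAlgHom k A)
  have h2 := conv_comp_antipode (AlgHom.id k A)
  rw [AlgHom.id_comp] at h2
  have h3 : toConv (AlgHom.id k A) =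
      toConv ((HopfAlgebra.antipodeAlgHom k A).comp (HopfAlgebra.antipodeAlgHom k A)) :=
    (left_inv_eq_right_inv (a := toConv (HopfAlgebra.antipodeAlgHom k A)) h2 h1)
  exact (DFunLike.congr_fun (congrArg WithConv.ofConv h3) x).symm

/-- slice after antipode -/
theorem slice_comul_antipode (α : A →ₗ[k] k) (a : A) :
    slice α (Coalgebra.comul (R := k) (HopfAlgebra.antipode k a)) =
      HopfAlgebra.antipode k (sliceL (α ∘ₗ HopfAlgebra.antipode k) (Coalgebra.comul (R := k) a)) := by
  rw [comul_antipode]
  induction Coalgebra.comul (R := k) a using TensorProduct.induction_on with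
  | zero => simp
  | tmul x y => simp
  | add x y hx hy => simp only [map_add, hx, hy]

theorem slice_antipode_comul (α : A →ₗ[k] k) (a : A) :
    sliceL α (Coalgebra.comul (R := k) (HopfAlgebra.antipode k a)) =
      HopfAlgebra.antipode k (slice (α ∘ₗ HopfAlgebra.antipode k) (Coalgebra.comul (R := k) a)) := by
  rw [comul_antipode]
  induction Coalgebra.comul (R := k) a using TensorProduct.induction_on with
  | zero => simp
  | tmul x y => simp
  | add x y hx hy => simp only [map_add, hx, hy]

theorem IsIntegral.sliceL_comul {α : A →ₗ[k] k} (h : IsIntegral k α) (a : A) :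
    sliceL α (Coalgebra.comul (R := k) a) = α a • (1 : A) := by
  rw [sliceL, LinearMap.comp_apply, h.invariant a]
  simp

/-- An invariant integral is right invariant as well. -/
theorem IsIntegral.slice_comul {α : A →ₗ[k] k} (h : IsIntegral k α) (a : A) :
    slice α (Coalgebra.comul (R := k) a) = α a • (1 : A) := by
  have hγ : ∀ a, slice (α ∘ₗ HopfAlgebra.antipode k) (Coalgebra.comul (R := k) a) =
      α (HopfAlgebra.antipode k a) • (1 : A) := by
    intro a
    have h1 := slice_antipode_comul α a
    rw [h.sliceL_comul] at h1
    have h2 := congrArg (HopfAlgebra.antipode k) h1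
    rw [antipode_antipode, map_smul, HopfAlgebra.antipode_one] at h2
    exact h2.symm
  have heq : ∀ a, α (HopfAlgebra.antipode k a) = α a := by
    intro a
    have e1 : α (slice (α ∘ₗ HopfAlgebra.antipode k) (Coalgebra.comul (R := k) a)) =
        α (HopfAlgebra.antipode k (sliceL α (Coalgebra.comul (R := k) a))) := by
      induction Coalgebra.comul (R := k) a using TensorProduct.induction_on with
      | zero => simp
      | tmul x y => simp [mul_comm]
      | add x y hx hy => simp only [map_add, hx, hy]
    rw [hγ, h.sliceL_comul, map_smul, map_smul, map_smul, HopfAlgebra.antipode_one, h.map_one] at e1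
    simpa using e1
  rw [show α = α ∘ₗ HopfAlgebra.antipode k from LinearMap.ext fun b => (heq b).symm]
  exact hγ a

/-- A normalised right invariant functional gives an integral. -/
theorem isIntegral_antipode_of_right {α : A →ₗ[k] k}
    (h : ∀ a, slice α (Coalgebra.comul (R := k) a) = α a • (1 : A)) (h1 : α 1 = 1) :
    IsIntegral k (α ∘ₗ HopfAlgebra.antipode k) := by
  refine ⟨fun a => ?_, by simp [h1]⟩
  have e := slice_comul_antipode α a
  rw [h] at e
  have e2 := congrArg (HopfAlgebra.antipode k) e
  rw [antipode_antipode, map_smul, HopfAlgebra.antipode_one] at e2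
  apply (TensorProduct.lid k A).injective
  rw [TensorProduct.lid_tmul, LinearMap.comp_apply, e2]
  rfl

end Groth.Agent.Comod
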