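import Groth.Agent.Comod.Matrix
import Groth.Agent.S7953
import Mathlib.RingTheory.SimpleModule.Isotypic

/-!
# Subcoalgebras and coefficient spaces over a field
-/

universe u v w w'

noncomputable section

open TensorProduct WithConv

namespace Groth.Agent.Comod

open HopfRep

section Lin

variable {k : Type u} [Field k] {A : Type v} [AddCommGroup A] [Module k A]
variable {N : Type w} [AddCommGroup N] [Module k N] {M : Type w'} [AddCommGroup M] [Module k M]

theorem sliceL_lTensor (f : N →ₗ[k] k) (g : A →ₗ[k] M) (x : N ⊗[k] A) :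
    sliceL f (g.lTensor N x) = g (sliceL f x) := by
  induction x using TensorProduct.induction_on with
  | zero => simp
  | tmul a b => simp
  | add a b ha hb => simp only [map_add, ha, hb]

theorem sliceL_rTensor (f : M →ₗ[k] k) (g : N →ₗ[k] M) (x : N ⊗[k] A) :
    sliceL f (g.rTensor A x) = sliceL (f ∘ₗ g) x := by
  induction x using TensorProduct.induction_on with
  | zero => simp
  | tmul a b => simp
  | add a b ha hb => simp only [map_add, ha, hb]

theorem eq_zero_of_sliceL (x : N ⊗[k] A) (h : ∀ f : N →ₗ[k] k, sliceL f x = 0) : x = 0 := by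
  classical
  apply (TensorProduct.comm k N A).injective
  rw [map_zero]
  refine eq_zero_of_slice (V := A) (A := N) _ fun φ => ?_
  have : ∀ y : N ⊗[k] A, slice φ (TensorProduct.comm k N A y) = sliceL φ y := by
    intro y
    induction y using TensorProduct.induction_on with
    | zero => simp
    | tmul a b => simp
    | add a b ha hb => simp only [map_add, ha, hb]
  rw [this, h]

theorem mem_range_lTensor_iff_sliceL (D : Submodule k A) (x : N ⊗[k] A) :
    x ∈ LinearMap.range (LinearMap.lTensor N D.subtype) ↔ ∀ f : N →ₗ[k] k, sliceL f x ∈ D := by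
  constructor
  · rintro ⟨y, rfl⟩ f
    rw [sliceL_lTensor]
    exact Subtype.prop _
  · intro h
    refine (lTensor_exact N (LinearMap.exact_subtype_mkQ D) D.mkQ_surjective x).1
      (eq_zero_of_sliceL _ fun f => ?_)
    rw [sliceL_lTensor]
    exact (Submodule.Quotient.mk_eq_zero D).2 (h f)

theorem mem_range_lTensor_iff_slice {D : Type*} [AddCommGroup D] [Module k D] (i : D →ₗ[k] A)
    (x : N ⊗[k] A) :
    x ∈ LinearMap.range (i.lTensor N) ↔ ∀ φ : A →ₗ[k] k, φ ∘ₗ i = 0 → slice φ x = 0 := by
  constructor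
  · rintro ⟨y, rfl⟩ φ hφ
    simp only [slice, LinearMap.comp_apply]
    rw [← LinearMap.lTensor_comp_apply, hφ]
    simp
  · intro h
    refine (lTensor_exact N (i.exact_map_mkQ_range) (Submodule.mkQ_surjective _) x).1
      (eq_zero_of_slice _ fun φ => ?_)
    have := h (φ ∘ₗ (LinearMap.range i).mkQ) (LinearMap.ext fun d => by
      simp [LinearMap.comp_apply, (Submodule.Quotient.mk_eq_zero _).2 (LinearMap.mem_range_self i d)])
    simpa [slice, LinearMap.lTensor_comp] using this

theorem mem_range_map_iff (B : Submodule k A) (D : Submodule k N) (x : A ⊗[k] N) :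
    x ∈ LinearMap.range (TensorProduct.map B.subtype D.subtype) ↔
      (∀ φ : N →ₗ[k] k, slice φ x ∈ B) ∧ ∀ f : A →ₗ[k] k, sliceL f x ∈ D := by
  constructor
  · rintro ⟨y, rfl⟩
    rw [show TensorProduct.map B.subtype D.subtype =
      B.subtype.rTensor N ∘ₗ D.subtype.lTensor B from (LinearMap.rTensor_comp_lTensor (f := B.subtype) (g := D.subtype)).symm,
      LinearMap.comp_apply]
    refine ⟨fun φ => slice_mem_of_mem_range φ B ⟨_, rfl⟩, fun f => ?_⟩
    rw [sliceL_rTensor, sliceL_lTensor]
    exact Subtype.prop _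
  · rintro ⟨h1, h2⟩
    obtain ⟨p, hp⟩ := LinearMap.exists_leftInverse_of_injective B.subtype B.ker_subtype
    obtain ⟨y, hy⟩ := (mem_range_iff_slice B x).2 h1
    obtain ⟨z, hz⟩ := (mem_range_lTensor_iff_sliceL D x).2 h2
    refine ⟨p.rTensor D z, ?_⟩
    rw [show TensorProduct.map B.subtype D.subtype =
      B.subtype.rTensor N ∘ₗ D.subtype.lTensor B from (LinearMap.rTensor_comp_lTensor (f := B.subtype) (g := D.subtype)).symm,
      LinearMap.comp_apply, ← LinearMap.comp_apply (D.subtype.lTensor B),
      LinearMap.lTensor_comp_rTensor, ← LinearMap.rTensor_comp_lTensor, LinearMap.comp_apply, hz, ← hy]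
    have key : B.subtype.rTensor N ∘ₗ p.rTensor N ∘ₗ B.subtype.rTensor N = B.subtype.rTensor N := by
      rw [← LinearMap.rTensor_comp, hp, LinearMap.rTensor_id, LinearMap.comp_id]
    exact LinearMap.congr_fun key y

end Lin

section Coalg

variable {k : Type u} [Field k] {C : Type v} [AddCommGroup C] [Module k C] [Coalgebra k C]
variable {V : Type w} [AddCommGroup V] [Module k V] [cV : HopfRep.Comod k C V]
variable {W : Type w'} [AddCommGroup W] [Module k W] [HopfRep.Comod k C W]

variable (k) in
/-- Subcoalgebra. -/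
def IsSubcoalg (B : Submodule k C) : Prop :=
  ∀ b ∈ B, CoalgebraStruct.comul (R := k) b ∈ LinearMap.range (TensorProduct.map B.subtype B.subtype)

variable (k) in
/-- Simple subcoalgebra. -/
def IsSimpleSubcoalg (D : Submodule k C) : Prop :=
  D ≠ ⊥ ∧ IsSubcoalg k D ∧ ∀ B : Submodule k C, B ≤ D → IsSubcoalg k B → B = ⊥ ∨ B = D

theorem isSubcoalg_inf {B D : Submodule k C} (hB : IsSubcoalg k B) (hD : IsSubcoalg k D) :
    IsSubcoalg k (B ⊓ D) := by
  intro b hb
  rw [mem_range_map_iff]
  obtain ⟨h1, h2⟩ := (mem_range_map_iff B B _).1 (hB b hb.1)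
  obtain ⟨h3, h4⟩ := (mem_range_map_iff D D _).1 (hD b hb.2)
  exact ⟨fun φ => ⟨h1 φ, h3 φ⟩, fun f => ⟨h2 f, h4 f⟩⟩

theorem isSubcomod_of_isSubcoalg {B : Submodule k C} (hB : IsSubcoalg k B) :
    IsSubcomod (k := k) (A := C) B :=
  fun b hb => (mem_range_iff_slice B _).2 ((mem_range_map_iff B B _).1 (hB b hb)).1

variable (C) in
/-- matrix coefficient -/
def mc (f : V →ₗ[k] k) : V →ₗ[k] C := sliceL f ∘ₗ HopfRep.Comod.coact (k := k) (A := C)

theorem comul_mc (f : V →ₗ[k] k) (v : V) :
    Coalgebra.comul (R := k) (mc C f v) =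
      (mc C f).rTensor C (HopfRep.Comod.coact (k := k) (A := C) v) := by
  have h := LinearMap.congr_fun (HopfRep.Comod.coassoc (k := k) (A := C) (V := V)) v
  simp only [LinearMap.comp_apply, LinearEquiv.coe_coe] at h
  change Coalgebra.comul (R := k) (sliceL f _) = _
  rw [← sliceL_lTensor f (Coalgebra.comul (R := k) (A := C)), ← h]
  induction HopfRep.Comod.coact (k := k) (A := C) v using TensorProduct.induction_on with
  | zero => simp
  | add a b ha hb => simp only [map_add, ha, hb]
  | tmul a b =>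
    simp only [LinearMap.rTensor_tmul, mc, LinearMap.comp_apply]
    induction HopfRep.Comod.coact (k := k) (A := C) a using TensorProduct.induction_on with
    | zero => simp
    | add p q hp hq => simp only [TensorProduct.add_tmul, map_add, hp, hq]
    | tmul p q => simp [TensorProduct.smul_tmul']

theorem isComodHom_mc (f : V →ₗ[k] k) : Hoch.IsComodHom C (mc C f) :=
  LinearMap.ext fun v => comul_mc f v

theorem counit_mc (f : V →ₗ[k] k) (v : V) : Coalgebra.counit (R := k) (mc C f v) = f v := by
  have h := LinearMap.congr_fun (HopfRep.Comod.counit_comp (k := k) (A := C) (V := V)) v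
  simp only [LinearMap.comp_apply, LinearMap.flip_apply, TensorProduct.mk_apply] at h
  change Coalgebra.counit (R := k) (sliceL f _) = _
  rw [← sliceL_lTensor f (Coalgebra.counit (R := k) (A := C)), h]
  simp

theorem eq_mc {g : V →ₗ[k] C} (hg : Hoch.IsComodHom C g) :
    g = mc C (Coalgebra.counit ∘ₗ g) := by
  refine LinearMap.ext fun v => ?_
  have h := LinearMap.congr_fun hg v
  simp only [LinearMap.comp_apply] at h
  simp only [mc, LinearMap.comp_apply, ← sliceL_rTensor, ← h]
  have := Coalgebra.rTensor_counit_comul (R := k) (g v)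
  change g v = TensorProduct.lid k C ((Coalgebra.counit (R := k) (A := C)).rTensor C
    (Coalgebra.comul (R := k) (g v)))
  rw [this]; simp

variable (k C V) in
/-- the coefficient space -/
def coeff : Submodule k C := ⨆ f : V →ₗ[k] k, LinearMap.range (mc C f)

theorem coeff_le_iff (D : Submodule k C) :
    coeff k C V ≤ D ↔
      ∀ v : V, HopfRep.Comod.coact (k := k) (A := C) v ∈ LinearMap.range (LinearMap.lTensor V D.subtype) := by
  simp only [coeff, iSup_le_iff, mem_range_lTensor_iff_sliceL]
  exact ⟨fun h v f => h f ⟨v, rfl⟩, fun h f _ ⟨v, hv⟩ => hv ▸ h v f⟩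

theorem isLeast_coeff : IsLeast {D' : Submodule k C | ∀ v : V,
    HopfRep.Comod.coact (k := k) (A := C) v ∈ LinearMap.range (LinearMap.lTensor V D'.subtype)}
    (coeff k C V) :=
  ⟨(coeff_le_iff _).1 le_rfl, fun _ hD => (coeff_le_iff _).2 hD⟩

theorem isSubcoalg_coeff : IsSubcoalg k (coeff k C V) := by
  intro b hb
  rw [mem_range_map_iff]
  induction hb using Submodule.iSup_induction' with
  | zero => simp
  | add x y _ _ hx hy =>
    exact ⟨fun φ => by rw [map_add, map_add]; exact add_mem (hx.1 φ) (hy.1 φ),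
      fun f => by rw [map_add, map_add]; exact add_mem (hx.2 f) (hy.2 f)⟩
  | mem f x hx =>
    obtain ⟨v, rfl⟩ := hx
    rw [comul_mc]
    refine ⟨fun φ => ?_, fun g => ?_⟩
    · rw [slice_rTensor]
      exact Submodule.mem_iSup_of_mem f ⟨_, rfl⟩
    · rw [sliceL_rTensor]
      exact Submodule.mem_iSup_of_mem (g ∘ₗ mc C f) ⟨v, rfl⟩

theorem range_le_coeff {g : V →ₗ[k] C} (hg : Hoch.IsComodHom C g) :
    LinearMap.range g ≤ coeff k C V := by
  rw [eq_mc hg]
  exact le_iSup (fun f : V →ₗ[k] k => LinearMap.range (mc C f)) _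

theorem coeff_le_of_injective {φ : V →ₗ[k] W} (hφ : Hoch.IsComodHom C φ) (hi : Function.Injective φ) :
    coeff k C V ≤ coeff k C W := by
  refine iSup_le fun f => ?_
  obtain ⟨p, hp⟩ := LinearMap.exists_leftInverse_of_injective φ (LinearMap.ker_eq_bot.2 hi)
  rintro _ ⟨v, rfl⟩
  refine Submodule.mem_iSup_of_mem (f ∘ₗ p) ⟨φ v, ?_⟩
  have h := LinearMap.congr_fun hφ v
  simp only [LinearMap.comp_apply] at h
  change sliceL (f ∘ₗ p) _ = sliceL f _
  rw [h, sliceL_rTensor, LinearMap.comp_assoc, hp, LinearMap.comp_id]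

theorem coeff_le_of_surjective {φ : V →ₗ[k] W} (hφ : Hoch.IsComodHom C φ) (hs : Function.Surjective φ) :
    coeff k C W ≤ coeff k C V := by
  refine iSup_le fun f => ?_
  rintro _ ⟨w, rfl⟩
  obtain ⟨v, rfl⟩ := hs w
  refine Submodule.mem_iSup_of_mem (f ∘ₗ φ) ⟨v, ?_⟩
  have h := LinearMap.congr_fun hφ v
  simp only [LinearMap.comp_apply] at h
  change sliceL (f ∘ₗ φ) _ = sliceL f _
  rw [h, sliceL_rTensor]

theorem coeff_eq_of_equiv (e : V ≃ₗ[Dual k C] W) : coeff k C V = coeff k C W :=
  le_antisymm (coeff_le_of_injective (isComodHom_restrictScalars e.toLinearMap) e.injective)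
    (coeff_le_of_surjective (isComodHom_restrictScalars e.toLinearMap) e.surjective)

theorem coeff_le_of_hom {φ : V →ₗ[k] C} (hφ : Hoch.IsComodHom C φ) (hi : Function.Injective φ)
    {B : Submodule k C} (hB : IsSubcoalg k B) (h : LinearMap.range φ ≤ B) : coeff k C V ≤ B := by
  refine iSup_le fun f => ?_
  obtain ⟨p, hp⟩ := LinearMap.exists_leftInverse_of_injective φ (LinearMap.ker_eq_bot.2 hi)
  rintro _ ⟨v, rfl⟩
  have h' := LinearMap.congr_fun hφ v
  simp only [LinearMap.comp_apply] at h'
  have := ((mem_range_map_iff B B _).1 (hB (φ v) (h ⟨v, rfl⟩))).2 (f ∘ₗ p)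
  change sliceL (f ∘ₗ p) (HopfRep.Comod.coact (k := k) (A := C) (φ v)) ∈ B at this
  rwa [h', sliceL_rTensor, LinearMap.comp_assoc, hp, LinearMap.comp_id] at this

theorem mem_coeff_self_of_subcomod (U : Submodule k C) (hU : IsSubcomod (k := k) (A := C) U) {c : C}
    (hc : c ∈ U) :
    letI := ComodSub.Comod.restr (HopfRep.Comod.regular k C) U hU
    c ∈ coeff k C U := by
  letI := ComodSub.Comod.restr (HopfRep.Comod.regular k C) U hU
  have hs : Hoch.IsComodHom C U.subtype :=
    (ComodSub.rTensor_subtype_comp_restrCoact (HopfRep.Comod.regular k C) U hU).symm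
  exact range_le_coeff hs ⟨⟨c, hc⟩, rfl⟩

theorem finite_coeff [Module.Finite k V] : Module.Finite k (coeff k C V) := by
  let b := Module.finBasis k V
  let s := Set.range fun p : Fin (Module.finrank k V) × Fin (Module.finrank k V) => mat C b p.1 p.2
  have : FiniteDimensional k (Submodule.span k s) := FiniteDimensional.span_of_finite k (Set.finite_range _)
  refine Submodule.finiteDimensional_of_le (S₂ := Submodule.span k s) (iSup_le fun f => ?_)
  rintro _ ⟨v, rfl⟩
  change sliceL f (HopfRep.Comod.coact (k := k) (A := C) v) ∈ _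
  rw [← b.sum_repr v, coact_sum, map_sum]
  refine Submodule.sum_mem _ fun i _ => ?_
  rw [sliceL_tmul]
  exact Submodule.smul_mem _ _ (Submodule.sum_mem _ fun j _ =>
    Submodule.smul_mem _ _ (Submodule.subset_span ⟨(i, j), rfl⟩))

/-- every element lies in a finite subcoalgebra -/
theorem exists_finite_subcoalg (c : C) :
    ∃ B : Submodule k C, Module.Finite k B ∧ c ∈ B ∧ IsSubcoalg k B := by
  obtain ⟨U, hfin, hc, hU⟩ := exists_finite_subcomod (k := k) (A := C) ({c} : Finset C)
  let cU := ComodSub.Comod.restr (HopfRep.Comod.regular k C) U hU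
  exact ⟨coeff k C U, finite_coeff, mem_coeff_self_of_subcomod U hU (hc (by simp)), isSubcoalg_coeff⟩

theorem finite_of_isSimpleSubcoalg {D : Submodule k C} (hD : IsSimpleSubcoalg k D) : Module.Finite k D := by
  obtain ⟨c, hc, hc0⟩ := Submodule.exists_mem_ne_zero_of_ne_bot hD.1
  obtain ⟨B, hfin, hcB, hB⟩ := exists_finite_subcoalg (k := k) c
  rcases hD.2.2 _ inf_le_left (isSubcoalg_inf hD.2.1 hB) with h | h
  · exact absurd (h ▸ (⟨hc, hcB⟩ : c ∈ D ⊓ B) : c ∈ (⊥ : Submodule k C)) (by simpa using hc0)
  · exact Submodule.finiteDimensional_of_le (inf_eq_left.1 h)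

theorem exists_atom_le_of_finite {D : Submodule k V} (hD : IsSubcomod (k := k) (A := C) D) (hne : D ≠ ⊥)
    [Module.Finite k D] :
    ∃ m : Submodule (Dual k C) V, IsSimpleModule (Dual k C) m ∧ m.restrictScalars k ≤ D := by
  classical
  have hex : ∃ n, ∃ N : Submodule (Dual k C) V, N.restrictScalars k ≤ D ∧ N ≠ ⊥ ∧
      Module.finrank k (N.restrictScalars k) = n :=
    ⟨_, toSub D hD, le_rfl, fun e => hne (by simpa using congrArg (Submodule.restrictScalars k) e), rfl⟩
  obtain ⟨N, hND, hN0, hNn⟩ := Nat.find_spec hex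
  refine ⟨N, isSimpleModule_iff_isAtom.2 ⟨hN0, fun b hb => ?_⟩, hND⟩
  by_contra hb0
  have : Module.Finite k (N.restrictScalars k) := Submodule.finiteDimensional_of_le hND
  have hlt : Module.finrank k (b.restrictScalars k) < Module.finrank k (N.restrictScalars k) :=
    Submodule.finrank_lt_finrank_of_lt ((Submodule.restrictScalarsEmbedding k (Dual k C) V).strictMono hb)
  exact Nat.find_min hex (hNn ▸ hlt) ⟨b, le_trans (show b.restrictScalars k ≤ N.restrictScalars k from hb.le) hND, hb0, rfl⟩

section Simple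

variable [IsSimpleModule (Dual k C) V]

/-- the coefficient space as a sum of images -/
theorem coeff_eq_restrictScalars :
    coeff k C V = (⨆ f : V →ₗ[k] k, LinearMap.range (homToDual (A := C) (mc C f) (isComodHom_mc f))).restrictScalars k := by
  refine le_antisymm (iSup_le fun f => ?_) ?_
  · intro x hx
    exact Submodule.mem_iSup_of_mem f (by obtain ⟨v, rfl⟩ := hx; exact ⟨v, rfl⟩)
  · intro x hx
    rw [Submodule.restrictScalars_mem] at hx
    induction hx using Submodule.iSup_induction' with
    | mem f x hx => obtain ⟨v, rfl⟩ := hx; exact Submodule.mem_iSup_of_mem f ⟨v, rfl⟩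
    | zero => simp
    | add x y _ _ hx hy => exact add_mem hx hy

/-- simple submodules of the coefficient space of a simple comodule are copies of it -/
theorem nonempty_equiv_of_le_coeff (m : Submodule (Dual k C) C) [IsSimpleModule (Dual k C) m]
    (hm : m.restrictScalars k ≤ coeff k C V) : Nonempty (m ≃ₗ[Dual k C] V) := by
  let s := {N : Submodule (Dual k C) C | Nonempty (N ≃ₗ[Dual k C] V)}
  have hle : m ≤ sSup s := by
    refine le_trans (show m ≤ ⨆ f : V →ₗ[k] k, LinearMap.range (homToDual (A := C) (mc C f) (isComodHom_mc f)) from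
      fun x hx => by
        have := hm hx
        rwa [coeff_eq_restrictScalars] at this) (iSup_le fun f => ?_)
    rcases LinearMap.injective_or_eq_zero (homToDual (A := C) (mc C f) (isComodHom_mc f)) with hi | h0
    · exact le_sSup (show _ ∈ s from ⟨(LinearEquiv.ofInjective _ hi).symm⟩)
    · rw [h0, LinearMap.range_zero]; exact bot_le
  have : ∀ N : s, IsSimpleModule (Dual k C) N.1 := fun N => IsSimpleModule.congr (N := V) N.2.some
  obtain ⟨S, hS, ⟨e⟩⟩ := Submodule.linearEquiv_of_le_sSup (N := m) s hle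
  exact ⟨e.trans hS.some⟩

theorem coeff_ne_bot : coeff k C V ≠ ⊥ := by
  intro h
  have : Nontrivial V := IsSimpleModule.nontrivial (Dual k C) V
  obtain ⟨v, hv⟩ := exists_ne (0 : V)
  obtain ⟨f, hf⟩ : ∃ f : V →ₗ[k] k, f v ≠ 0 := by
    by_contra! hh
    exact hv (Module.forall_dual_apply_eq_zero_iff k v |>.1 hh)
  have : mc C f v ∈ coeff k C V := Submodule.mem_iSup_of_mem f ⟨v, rfl⟩
  rw [h, Submodule.mem_bot] at this
  exact hf (by rw [← counit_mc (C := C) f v, this, map_zero])

theorem isSimpleSubcoalg_coeff : IsSimpleSubcoalg k (coeff k C V) := by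
  refine ⟨coeff_ne_bot, isSubcoalg_coeff, fun B hle hB => ?_⟩
  rcases eq_or_ne B ⊥ with h | h
  · exact Or.inl h
  right
  refine le_antisymm hle ?_
  have hV : Module.Finite k V := S7953.result k C V ((isSimpleComod_iff k C V).2 inferInstance)
  have : Module.Finite k (coeff k C V) := finite_coeff
  have hfinB : Module.Finite k B := Submodule.finiteDimensional_of_le hle
  obtain ⟨m, hm, hmM⟩ := exists_atom_le_of_finite (isSubcomod_of_isSubcoalg hB) h
  obtain ⟨e⟩ := nonempty_equiv_of_le_coeff (V := V) m (fun x hx => hle (hmM hx))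
  let φ : V →ₗ[Dual k C] C := m.subtype.comp e.symm.toLinearMap
  refine coeff_le_of_hom (isComodHom_restrictScalars φ)
    (m.injective_subtype.comp e.symm.injective) hB ?_
  rintro _ ⟨v, rfl⟩
  exact hmM (e.symm v).2

end Simple

theorem subcomod_equiv (M : Submodule (Dual k C) V) :
    letI := ComodSub.Comod.restr cV (M.restrictScalars k) (isSubcomod_restrictScalars M)
    Nonempty ((M.restrictScalars k) ≃ₗ[Dual k C] M) := by
  letI := ComodSub.Comod.restr cV (M.restrictScalars k) (isSubcomod_restrictScalars M)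
  have hs : Hoch.IsComodHom C (M.restrictScalars k).subtype :=
    (ComodSub.rTensor_subtype_comp_restrCoact cV _ (isSubcomod_restrictScalars M)).symm
  exact ⟨LinearEquiv.ofBijective
    ((homToDual (A := C) (M.restrictScalars k).subtype hs).codRestrict M fun x => x.2)
    ⟨fun x y h => Subtype.ext (congrArg (fun z : M => (z : V)) h), fun x => ⟨⟨x, x.2⟩, rfl⟩⟩⟩

/-- a simple subcoalgebra is the coefficient space of a simple subcomodule -/
theorem exists_simple_subcomod {D : Submodule k C} (hD : IsSimpleSubcoalg k D) :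
    ∃ (U : Submodule k C) (hU : IsSubcomod (k := k) (A := C) U), U ≤ D ∧
      letI := ComodSub.Comod.restr (HopfRep.Comod.regular k C) U hU
      IsSimpleModule (Dual k C) U ∧ coeff k C U = D := by
  have := finite_of_isSimpleSubcoalg hD
  obtain ⟨m, hm, hmD⟩ := exists_atom_le_of_finite (isSubcomod_of_isSubcoalg hD.2.1) hD.1
  refine ⟨m.restrictScalars k, isSubcomod_restrictScalars m, hmD, ?_⟩
  letI := ComodSub.Comod.restr (HopfRep.Comod.regular k C) (m.restrictScalars k) (isSubcomod_restrictScalars m)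
  obtain ⟨e⟩ := subcomod_equiv m
  have hsimp : IsSimpleModule (Dual k C) (m.restrictScalars k) := IsSimpleModule.congr (N := ↥m) e
  refine ⟨hsimp, ?_⟩
  let φ : (m.restrictScalars k) →ₗ[Dual k C] C := m.subtype.comp e.toLinearMap
  have hle := coeff_le_of_hom (isComodHom_restrictScalars φ) (m.injective_subtype.comp e.injective) hD.2.1
    (by rintro _ ⟨v, rfl⟩; exact hmD (e v).2)
  exact (hD.2.2 _ hle isSubcoalg_coeff).resolve_left coeff_ne_bot

end Coalg

end Groth.Agent.Comod
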