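import Groth.Agent.Comod.Integral
import Mathlib.LinearAlgebra.TensorProduct.Basis

/-!
# Comodules given by comultiplicative matrices
-/

universe u v w w' w''

noncomputable section

open TensorProduct WithConv

namespace Groth.Agent.Comod

open HopfRep

section Def

variable {k : Type u} [CommRing k] {A : Type v} [AddCommGroup A] [Module k A] [Coalgebra k A]
variable {ι : Type w} [Fintype ι] [DecidableEq ι] {V : Type w'} [AddCommGroup V] [Module k V]

variable (k) in
/-- A comultiplicative matrix. -/
structure IsMat (a : ι → ι → A) : Prop where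
  comul : ∀ i j, Coalgebra.comul (R := k) (a i j) = ∑ l, a i l ⊗ₜ[k] a l j
  counit : ∀ i j, Coalgebra.counit (R := k) (a i j) = if i = j then 1 else 0

/-- The comodule with matrix `a` in the basis `b`: `b j ↦ Σ b i ⊗ a i j`. -/
@[reducible] def ofMatrix (b : Module.Basis ι k V) (a : ι → ι → A) (h : IsMat k a) :
    HopfRep.Comod k A V where
  coact := b.constr k fun j => ∑ i, b i ⊗ₜ[k] a i j
  coassoc := b.ext fun j => by
    simp only [LinearMap.comp_apply, Module.Basis.constr_basis, map_sum, LinearMap.rTensor_tmul,
      TensorProduct.sum_tmul, LinearEquiv.coe_coe, TensorProduct.assoc_tmul, LinearMap.lTensor_tmul,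
      h.comul, TensorProduct.tmul_sum]
    exact Finset.sum_comm
  counit_comp := b.ext fun j => by
    simp only [LinearMap.comp_apply, Module.Basis.constr_basis, map_sum, LinearMap.lTensor_tmul, h.counit]
    rw [Finset.sum_eq_single j] <;> simp +contextual

theorem ofMatrix_coact (b : Module.Basis ι k V) (a : ι → ι → A) (h : IsMat k a) (j : ι) :
    (ofMatrix b a h).coact (b j) = ∑ i, b i ⊗ₜ[k] a i j := Module.Basis.constr_basis _ _ _ _

variable [HopfRep.Comod k A V]

/-- left slice -/
def sliceL (f : V →ₗ[k] k) : V ⊗[k] A →ₗ[k] A := (TensorProduct.lid k A).toLinearMap ∘ₗ f.rTensor A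

omit [Coalgebra k A] [Fintype ι] [DecidableEq ι] in
@[simp] theorem sliceL_tmul (f : V →ₗ[k] k) (v : V) (a : A) : sliceL f (v ⊗ₜ a) = f v • a := by
  simp [sliceL]

variable (A) in
/-- The matrix of a comodule in a basis. -/
def mat (b : Module.Basis ι k V) (i j : ι) : A :=
  sliceL (b.coord i) (HopfRep.Comod.coact (k := k) (A := A) (b j))

omit [DecidableEq ι] in
theorem coact_basis (b : Module.Basis ι k V) (j : ι) :
    HopfRep.Comod.coact (k := k) (A := A) (b j) = ∑ i, b i ⊗ₜ[k] mat A b i j := by
  unfold mat
  induction HopfRep.Comod.coact (k := k) (A := A) (b j) using TensorProduct.induction_on with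
  | zero => simp
  | add x y hx hy => simp only [map_add, TensorProduct.tmul_add, Finset.sum_add_distrib, ← hx, ← hy]
  | tmul v a =>
    conv_lhs => rw [← b.sum_repr v, TensorProduct.sum_tmul]
    simp only [sliceL_tmul, Module.Basis.coord_apply, TensorProduct.smul_tmul]

omit [DecidableEq ι] in
theorem sliceL_sum (b : Module.Basis ι k V) (i : ι) (f : ι → A) :
    sliceL (b.coord i) (∑ l, b l ⊗ₜ[k] f l) = f i := by
  classical
  simp [Finsupp.single_apply, ite_smul]

theorem isMat_mat (b : Module.Basis ι k V) : IsMat k (mat A b) := by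
  constructor
  · intro i j
    have h := LinearMap.congr_fun (HopfRep.Comod.coassoc (k := k) (A := A) (V := V)) (b j)
    simp only [LinearMap.comp_apply, LinearEquiv.coe_coe, coact_basis, map_sum, LinearMap.rTensor_tmul,
      TensorProduct.sum_tmul, TensorProduct.assoc_tmul, LinearMap.lTensor_tmul] at h
    have := congrArg ((TensorProduct.lid k (A ⊗[k] A)).toLinearMap ∘ₗ (b.coord i).rTensor (A ⊗[k] A)) h
    simpa [Finsupp.single_apply, ite_smul] using this.symm
  · intro i j
    have h := LinearMap.congr_fun (HopfRep.Comod.counit_comp (k := k) (A := A) (V := V)) (b j)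
    simp only [LinearMap.comp_apply, coact_basis, map_sum, LinearMap.lTensor_tmul,
      LinearMap.flip_apply, TensorProduct.mk_apply] at h
    have := congrArg ((TensorProduct.lid k k).toLinearMap ∘ₗ (b.coord i).rTensor k) h
    simpa [Finsupp.single_apply, ite_smul, eq_comm] using this

omit [DecidableEq ι] in
theorem coact_sum (b : Module.Basis ι k V) (y : ι → k) :
    HopfRep.Comod.coact (k := k) (A := A) (∑ j, y j • b j) =
      ∑ i, b i ⊗ₜ[k] (∑ j, y j • mat A b i j) := by
  simp only [map_sum, map_smul, coact_basis, Finset.smul_sum, TensorProduct.tmul_sum,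
    ← TensorProduct.tmul_smul]
  exact Finset.sum_comm

end Def

section Hopf

variable {k : Type u} [CommRing k] {A : Type v} [CommRing A] [HopfAlgebra k A]
variable {ι : Type w} [Fintype ι] [DecidableEq ι] {ι' : Type w'} [Fintype ι'] [DecidableEq ι']

/-- `Δ (S x) = Σ S x₂ ⊗ S x₁` -/
theorem comul_antipode (x : A) :
    Coalgebra.comul (R := k) (HopfAlgebra.antipode k x) =
      TensorProduct.comm k A A (TensorProduct.map (HopfAlgebra.antipode k) (HopfAlgebra.antipode k)
        (Coalgebra.comul (R := k) x)) := by
  let l : A →ₐ[k] A ⊗[k] A := Algebra.TensorProduct.includeLeft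
  let r : A →ₐ[k] A ⊗[k] A := Algebra.TensorProduct.includeRight
  let S := HopfAlgebra.antipodeAlgHom k A
  have h : toConv ((Bialgebra.comulAlgHom k A).comp S) = toConv (r.comp S) * toConv (l.comp S) := by
    rw [← convInr_mul_inv, ← mul_assoc, antipode_comp_conv, one_mul]
  have h' := DFunLike.congr_fun (congrArg WithConv.ofConv h) x
  refine Eq.trans h' ?_
  change (toConv (r.comp S) * toConv (l.comp S)) x = _
  rw [AlgHom.convMul_apply]
  induction Coalgebra.comul (R := k) x using TensorProduct.induction_on with
  | zero => simp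
  | tmul a b => simp [l, r, S]
  | add a b ha hb => simp only [map_add, ha, hb]

theorem isMat_dual {a : ι → ι → A} (h : IsMat k a) :
    IsMat k fun i j => HopfAlgebra.antipode k (a j i) := by
  constructor
  · intro i j
    simp [comul_antipode, h.comul]
  · intro i j
    simp [h.counit, eq_comm]

theorem isMat_kron {a : ι → ι → A} (ha : IsMat k a) {b : ι' → ι' → A} (hb : IsMat k b) :
    IsMat k fun (p q : ι × ι') => a p.1 q.1 * b p.2 q.2 := by
  constructor
  · intro p q
    simp [Bialgebra.comul_mul, ha.comul, hb.comul, Finset.sum_mul_sum, Fintype.sum_prod_type]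
  · intro p q
    simp only [Bialgebra.counit_mul, ha.counit, hb.counit, Prod.ext_iff, ite_and]
    split_ifs <;> simp

theorem antipode_mul_mat {a : ι → ι → A} (h : IsMat k a) (i j : ι) :
    ∑ l, HopfAlgebra.antipode k (a i l) * a l j = if i = j then 1 else 0 := by
  have := HopfAlgebra.mul_antipode_rTensor_comul_apply (R := k) (a i j)
  simp only [h.comul, map_sum, LinearMap.rTensor_tmul, LinearMap.mul'_apply, h.counit] at this
  rw [this]
  split_ifs <;> simp

theorem mul_antipode_mat {a : ι → ι → A} (h : IsMat k a) (i j : ι) :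
    ∑ l, a i l * HopfAlgebra.antipode k (a l j) = if i = j then 1 else 0 := by
  have := HopfAlgebra.mul_antipode_lTensor_comul_apply (R := k) (a i j)
  simp only [h.comul, map_sum, LinearMap.lTensor_tmul, LinearMap.mul'_apply, h.counit] at this
  rw [this]
  split_ifs <;> simp

end Hopf

end Groth.Agent.Comod
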