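import Groth.Agent.Comod.Image
import Groth.Agent.HopfPts.Basic
import Groth.Agent.Comod.TwoSided

/-!
# Representations of images; Hopf subalgebras of finitely generated Hopf algebras are finitely generated
-/

set_option autoImplicit false
set_option linter.style.haveILetI false

universe u

noncomputable section

open TensorProduct

namespace Groth.Agent.Comod.Image2

open HopfRep

variable {k : Type u} [Field k] {A : Type u} [CommRing A] [HopfAlgebra k A]

/-- surjection-like images of trigonalizable groups -/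
theorem isTrigonalizable_image {K : Type u} [Field K] [Algebra k K] {C : Type u} [CommRing C] [HopfAlgebra K C]
    [Module k C] [IsScalarTower k K C] (ι : A →ₗ[k] C)
    (hΔ : ∀ (χ : C →ₗ[K] K) (a : A), contract χ (ι a) = Image.lam ι χ (Coalgebra.comul (R := k) a))
    (hspan : Submodule.span K (Set.range ι) = ⊤) (hT : HopfRep.IsTrigonalizable k A) :
    HopfRep.IsTrigonalizable K C := by
  intro V _ _ _ hfin hsimp
  haveI := hsimp.1
  obtain ⟨w, hw, a, -, hwa⟩ := Image.exists_eigen ι hΔ hspan (Image.flags_trig hT) V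
  have hline : IsSubcomod (k := K) (A := C) (Submodule.span K {w}) := isSubcomod_iff.2 fun χ y hy => by
    obtain ⟨r, rfl⟩ := Submodule.mem_span_singleton.1 hy
    rw [map_smul, hwa]
    exact Submodule.smul_mem _ _ (Submodule.smul_mem _ _ (Submodule.mem_span_singleton_self _))
  rcases hsimp.2 _ hline with h | h
  · exact absurd (Submodule.span_singleton_eq_bot.1 h) hw
  · exact finrank_eq_one w hw fun y => Submodule.mem_span_singleton.1 (h ▸ Submodule.mem_top)

/-- images with trivial characters are unipotent -/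
theorem isUnipotent_image {K : Type u} [Field K] [Algebra k K] {C : Type u} [CommRing C] [HopfAlgebra K C]
    [Module k C] [IsScalarTower k K C] (ι : A →ₗ[k] C)
    (hΔ : ∀ (χ : C →ₗ[K] K) (a : A), contract χ (ι a) = Image.lam ι χ (Coalgebra.comul (R := k) a))
    (hspan : Submodule.span K (Set.range ι) = ⊤) {G : Set A} (hG : Image.Flags k A G)
    (hι : ∀ a ∈ G, ι a = 1) :
    HopfRep.IsUnipotent K C := by
  intro V _ _ _ hfin hnt
  obtain ⟨w, hw, a, ha, hwa⟩ := Image.exists_eigen ι hΔ hspan hG V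
  exact (Submodule.ne_bot_iff _).2 ⟨w, (eq_tmul_iff_contract (k := K) (A := C) w 1).2 fun χ => by
    rw [hwa χ, hι a ha], hw⟩

/-- the hypothesis on comultiplications for the composite with a bialgebra map -/
theorem comp_comul {K : Type u} [Field K] [Algebra k K] {C : Type u} [CommRing C] [HopfAlgebra K C]
    [Module k C] [IsScalarTower k K C] {D : Type u} [CommRing D] [HopfAlgebra K D] [Module k D]
    [IsScalarTower k K D] (ι : A →ₗ[k] C)
    (hΔ : ∀ (χ : C →ₗ[K] K) (a : A), contract χ (ι a) = Image.lam ι χ (Coalgebra.comul (R := k) a))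
    (π : C →ₐc[K] D) (ι' : A →ₗ[k] D) (hι' : ∀ a, ι' a = π (ι a)) (χ : D →ₗ[K] K) (a : A) :
    contract χ (ι' a) = Image.lam ι' χ (Coalgebra.comul (R := k) a) := by
  rw [hι', TrigUnip.contract_comul_map π χ, hΔ]
  induction Coalgebra.comul (R := k) a using TensorProduct.induction_on with
  | zero => simp
  | tmul x y => simp [hι']
  | add x y hx hy => simp only [map_add, hx, hy]

/-- A Hopf algebra embedded in a finitely generated one is finitely generated. -/
theorem finiteType_of_injective [Algebra.FiniteType k A] {B : Type u} [CommRing B] [HopfAlgebra k B]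
    (ψ : B →ₐc[k] A) (hψ : Function.Injective ψ) : Algebra.FiniteType k B := by
  classical
  haveI : IsNoetherianRing A := Algebra.FiniteType.isNoetherianRing k A
  let S : Set A := (ψ : B → A) '' (RingHom.ker (Bialgebra.counitAlgHom k B) : Set B)
  have hS : KerHopf.kerIdeal ψ = Ideal.span S := rfl
  obtain ⟨s, hs⟩ := (IsNoetherian.noetherian (KerHopf.kerIdeal ψ) : (KerHopf.kerIdeal ψ).FG)
  have hfin : ∀ y ∈ Ideal.span S, ∃ t : Finset B, ↑t ⊆ (RingHom.ker (Bialgebra.counitAlgHom k B) : Set B) ∧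
      y ∈ Ideal.span ((ψ : B → A) '' (t : Set B)) := by
    intro y hy
    obtain ⟨T, hTS, hyT⟩ := Submodule.mem_span_finite_of_mem_span hy
    obtain ⟨t, hts, rfl⟩ := Finset.subset_set_image_iff.1 hTS
    exact ⟨t, hts, by rwa [Finset.coe_image] at hyT⟩
  choose! t hts hty using hfin
  let t0 : Finset B := s.biUnion t
  obtain ⟨C, hC, hCfg, hCs⟩ := Groth.Agent.HopfPts.exists_fg_of_finite (k := k) (↑t0 : Set B) t0.finite_toSet
  letI : HopfAlgebra k C := Groth.Agent.HopfSub.hopfAlgebra hC
  let φ : C →ₐc[k] A := ψ.comp (Groth.Agent.HopfSub.incl hC)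
  have hφ : Function.Injective φ := hψ.comp Subtype.val_injective
  letI : Algebra C A := (φ : C →ₐ[k] A).toRingHom.toAlgebra
  haveI : IsScalarTower k C A := IsScalarTower.of_algebraMap_eq fun x => ((φ : C →ₐ[k] A).commutes x).symm
  haveI : Module.FaithfullyFlat C A := Groth.Agent.HopfSub.faithfullyFlat φ (fun _ => rfl) hφ
  haveI := KerHopf.isHopfIdeal ψ
  let π : A →ₐc[k] A ⧸ KerHopf.kerIdeal ψ := Bialgebra.Quotient.mkBialgHom _
  have hker : RingHom.ker (π : A →ₐ[k] A ⧸ KerHopf.kerIdeal ψ) =
      Ideal.map (φ : C →ₐ[k] A) (RingHom.ker (Bialgebra.counitAlgHom k C)) := by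
    have h0 : RingHom.ker (π : A →ₐ[k] A ⧸ KerHopf.kerIdeal ψ) = KerHopf.kerIdeal ψ := Ideal.mk_ker
    rw [h0]
    refine le_antisymm ?_ (Ideal.map_le_iff_le_comap.2 fun c hc => ?_)
    · rw [hS, ← hs.trans hS, Ideal.span_le]
      intro y hy
      have hy' : y ∈ Ideal.span S := hS ▸ hs ▸ Ideal.subset_span hy
      refine Ideal.span_le.2 ?_ (hty y hy')
      rintro _ ⟨b, hb, rfl⟩
      exact Ideal.mem_map_of_mem (φ : C →ₐ[k] A) (show (⟨b, hCs (Finset.mem_coe.2 (Finset.mem_biUnion.2 ⟨y, hy, hb⟩))⟩ : C) ∈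
        RingHom.ker (Bialgebra.counitAlgHom k C) from hts y hy' hb)
    · exact Ideal.mem_map_of_mem (ψ : B →+* A) (show ((c : B)) ∈ RingHom.ker (Bialgebra.counitAlgHom k B) from hc)
  have htop : C = ⊤ := by
    refine eq_top_iff.2 fun b _ => ?_
    have hinv : ExactSeq.rho π (ψ b) = ψ b ⊗ₜ[k] (1 : A ⧸ KerHopf.kerIdeal ψ) := by
      rw [ExactSeq.rho, AlgHom.comp_apply, Bialgebra.comulAlgHom_apply, ← CoalgHomClass.map_comp_comul_apply ψ b]
      have key : ∀ z : B ⊗[k] B, Algebra.TensorProduct.map (AlgHom.id k A) (π : A →ₐ[k] A ⧸ KerHopf.kerIdeal ψ)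
          (TensorProduct.map (ψ : B →ₗ[k] A) (ψ : B →ₗ[k] A) z) =
          ψ (TensorProduct.rid k B ((Coalgebra.counit (R := k) (A := B)).lTensor B z)) ⊗ₜ[k] (1 : A ⧸ KerHopf.kerIdeal ψ) := by
        intro z
        induction z using TensorProduct.induction_on with
        | zero => simp
        | tmul x y =>
          rw [TensorProduct.map_tmul, Algebra.TensorProduct.map_tmul]
          change ψ x ⊗ₜ[k] Ideal.Quotient.mk _ (ψ y) = _
          rw [KerHopf.mk_comp, LinearMap.lTensor_tmul, TensorProduct.rid_tmul, map_smul,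
            TensorProduct.smul_tmul, Algebra.algebraMap_eq_smul_one]
        | add x y hx hy => simp only [map_add, hx, hy, TensorProduct.add_tmul]
      rw [key, Coalgebra.lTensor_counit_comul]
      simp
    obtain ⟨c, hc⟩ := ExactSeq.mem_range_of_rho φ (fun _ => rfl) π hker Ideal.Quotient.mk_surjective _ hinv
    rw [← hψ (show ψ (c : B) = ψ b from hc)]
    exact c.2
  exact ⟨htop ▸ hCfg⟩

end Groth.Agent.Comod.Image2
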