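import Groth.Agent.Comod.Basic
import Groth.Prelude.Def_GLin

/-!
# Linearly reductive Hopf algebras: semisimplicity of all comodules and the Reynolds operator
-/

set_option autoImplicit false

universe u v w w'

noncomputable section

open TensorProduct WithConv HopfRep

namespace Groth.Agent.Comod.Reynolds

section Coalg

variable {k : Type u} [Field k] {A : Type v} [AddCommGroup A] [Module k A] [Coalgebra k A]
variable {V : Type w} [AddCommGroup V] [Module k V] [c : HopfRep.Comod k A V]

/-- A comodule all whose finite-dimensional subcomodules are semisimple is a semisimple module over the dual. -/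
theorem isSemisimpleModule_of_finite
    (h : ∀ (U : Submodule k V) (hU : IsSubcomod (k := k) (A := A) U), Module.Finite k U →
      @HopfRep.IsSemisimpleComod k A _ _ _ _ ↥U _ _ (ComodSub.Comod.restr c U hU)) :
    IsSemisimpleModule (Comod.Dual k A) V := by
  have hss : ∀ v : V, IsSemisimpleModule (Comod.Dual k A) ↥(Submodule.span (Comod.Dual k A) {v}) := by
    intro v
    let U : Submodule k V := (Submodule.span (Comod.Dual k A) {v}).restrictScalars k
    have hU : IsSubcomod (k := k) (A := A) U := Comod.isSubcomod_restrictScalars _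
    have hfin : Module.Finite k U := Module.Finite.iff_fg.2 (by
      have := Comod.fg_span (k := k) (A := A) ({v} : Finset V)
      simpa [U] using this)
    let cU := ComodSub.Comod.restr c U hU
    have hUs := (Comod.isSemisimpleComod_iff k A U).1 (h U hU hfin)
    have hsub : Hoch.IsComodHom A U.subtype := (ComodSub.rTensor_subtype_comp_restrCoact c U hU).symm
    let f := Comod.homToDual U.subtype hsub
    have hr : LinearMap.range f = Submodule.span (Comod.Dual k A) {v} := by
      ext x
      exact ⟨fun ⟨y, hy⟩ => hy ▸ y.2, fun hx => ⟨⟨x, hx⟩, rfl⟩⟩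
    rw [← hr]
    exact IsSemisimpleModule.range f
  refine isSemisimpleModule_of_isSemisimpleModule_submodule'
    (p := fun v : V => Submodule.span (Comod.Dual k A) {v}) hss (eq_top_iff.2 fun v _ => ?_)
  exact Submodule.mem_iSup_of_mem v (Submodule.mem_span_singleton_self v)

end Coalg

section Bialg

variable {k : Type u} [Field k] {A : Type v} [CommRing A] [HopfAlgebra k A]

/-- Every comodule of a linearly reductive group is semisimple over the dual algebra. -/
theorem isSemisimpleModule (hG : HopfRep.IsLinearlyReductive k A) (V : Type v) [AddCommGroup V] [Module k V]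
    [c : HopfRep.Comod k A V] : IsSemisimpleModule (Comod.Dual k A) V :=
  isSemisimpleModule_of_finite fun U hU hfin => @hG ↥U _ _ (ComodSub.Comod.restr c U hU) hfin

variable {V : Type w} [AddCommGroup V] [Module k V] [HopfRep.Comod k A V]
  {W : Type w'} [AddCommGroup W] [Module k W] [HopfRep.Comod k A W]

theorem mem_fixedPts_iff (v : V) : v ∈ fixedPts k A V ↔ ∀ φ : A →ₗ[k] k, Comod.contract φ v = φ 1 • v :=
  Comod.eq_tmul_iff_contract v 1

variable (k A V) in
theorem isSubcomod_fixedPts : IsSubcomod (k := k) (A := A) (fixedPts k A V) :=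
  Comod.isSubcomod_iff.2 fun φ v hv => by
    rw [(mem_fixedPts_iff v).1 hv φ]
    exact Submodule.smul_mem _ _ hv

theorem map_mem_fixedPts {f : V →ₗ[k] W} (hf : Hoch.IsComodHom A f) {v : V} (hv : v ∈ fixedPts k A V) :
    f v ∈ fixedPts k A W := by
  rw [mem_fixedPts_iff] at hv ⊢
  intro φ
  rw [← Comod.map_contract hf, hv φ, map_smul]

/-- A comodule map into fixed vectors factors through any projection onto the fixed vectors. -/
theorem eq_comp_proj [IsSemisimpleModule (Comod.Dual k A) V] {f : V →ₗ[k] W} (hf : Hoch.IsComodHom A f)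
    (hfix : ∀ v, f v ∈ fixedPts k A W) {E : V →ₗ[k] V} (hE : Hoch.IsComodHom A E)
    (hE₂ : ∀ x, E (E x) = E x) (hE₃ : ∀ x : V, E x = x ↔ x ∈ fixedPts k A V) : f = f ∘ₗ E := by
  let g : V →ₗ[Comod.Dual k A] W :=
    Comod.homToDual f hf - (Comod.homToDual f hf).comp (Comod.homToDual E hE)
  have hg : ∀ v, g v = f v - f (E v) := fun v => rfl
  obtain ⟨N, hN⟩ := exists_isCompl (LinearMap.ker g)
  suffices hN0 : N = ⊥ by
    have hker : LinearMap.ker g = ⊤ := by simpa [hN0] using hN.sup_eq_top
    refine LinearMap.ext fun v => sub_eq_zero.1 ?_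
    rw [LinearMap.comp_apply, ← hg]
    exact LinearMap.mem_ker.1 (hker ▸ Submodule.mem_top)
  refine (Submodule.eq_bot_iff _).2 fun n hn => ?_
  have inj : ∀ x ∈ N, g x = 0 → x = 0 := fun x hx hx0 =>
    (Submodule.disjoint_def.1 hN.disjoint) x (LinearMap.mem_ker.2 hx0) hx
  have hn' : n ∈ fixedPts k A V := by
    rw [mem_fixedPts_iff]
    intro φ
    refine sub_eq_zero.1 (inj _ (N.sub_mem (N.smul_mem (toConv φ) hn) (Submodule.smul_of_tower_mem N _ hn)) ?_)
    have h1 := (mem_fixedPts_iff (g n)).1
      (Submodule.sub_mem _ (hfix n) (hfix (E n))) φ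
    rw [map_sub, LinearMap.map_smul_of_tower, show Comod.contract φ n = toConv φ • n from rfl, map_smul,
      Comod.smul_def, h1, sub_self]
  exact inj n hn (by rw [hg, (hE₃ n).2 hn', sub_self])

/-- The Reynolds operator of a semisimple comodule. -/
theorem exists_reynolds [IsSemisimpleModule (Comod.Dual k A) V] :
    ∃ E : V →ₗ[k] V, Hoch.IsComodHom A E ∧ E ∘ₗ E = E ∧ ∀ x : V, E x = x ↔ x ∈ fixedPts k A V := by
  let M := Comod.toSub (fixedPts k A V) (isSubcomod_fixedPts k A V)
  obtain ⟨N, hN⟩ := exists_isCompl M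
  let π : V →ₗ[Comod.Dual k A] V := M.subtype ∘ₗ Submodule.projectionOnto M N hN
  refine ⟨π.restrictScalars k, Comod.isComodHom_restrictScalars π, LinearMap.ext fun x => ?_, fun x => ?_⟩
  · show (Submodule.projectionOnto M N hN (Submodule.projectionOnto M N hN x : V) : V) = _
    rw [Submodule.projectionOnto_apply_left]
    rfl
  · show (Submodule.projectionOnto M N hN x : V) = x ↔ _
    constructor
    · intro h; rw [← h]; exact (Submodule.projectionOnto M N hN x).2
    · intro h
      rw [Submodule.projectionOnto_apply_left hN ⟨x, h⟩]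

/-- Reynolds operators commute with comodule maps. -/
theorem comm [IsSemisimpleModule (Comod.Dual k A) V]
    {E : V →ₗ[k] V} (hE₁ : Hoch.IsComodHom A E) (hE₂ : E ∘ₗ E = E) (hE₃ : ∀ x : V, E x = x ↔ x ∈ fixedPts k A V)
    {E' : W →ₗ[k] W} (hE'₁ : Hoch.IsComodHom A E') (hE'₂ : E' ∘ₗ E' = E')
    (hE'₃ : ∀ y : W, E' y = y ↔ y ∈ fixedPts k A W)
    {u : V →ₗ[k] W} (hu : Hoch.IsComodHom A u) : E' ∘ₗ u = u ∘ₗ E := by
  have hc : Hoch.IsComodHom A (E' ∘ₗ u) :=
    Comod.isComodHom_iff.2 fun φ v => by
      simp only [LinearMap.comp_apply, Comod.map_contract hu, Comod.map_contract hE'₁]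
  have h := eq_comp_proj hc (fun v => (hE'₃ _).1 (LinearMap.congr_fun hE'₂ (u v))) hE₁
    (fun x => LinearMap.congr_fun hE₂ x) hE₃
  rw [h]
  refine LinearMap.ext fun v => ?_
  exact (hE'₃ _).2 (map_mem_fixedPts hu ((hE₃ _).1 (LinearMap.congr_fun hE₂ v)))

/-- The Reynolds operator preserves subcomodules. -/
theorem reynolds_mem [IsSemisimpleModule (Comod.Dual k A) V]
    {E : V →ₗ[k] V} (hE₁ : Hoch.IsComodHom A E) (hE₂ : E ∘ₗ E = E) (hE₃ : ∀ x : V, E x = x ↔ x ∈ fixedPts k A V)
    {U : Submodule k V} (hU : IsSubcomod (k := k) (A := A) U) {x : V} (hx : x ∈ U) : E x ∈ U := by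
  let U' := Comod.toSub U hU
  obtain ⟨N, hN⟩ := exists_isCompl U'
  let q : V →ₗ[Comod.Dual k A] V := N.subtype ∘ₗ Submodule.projectionOnto N U' hN.symm
  have h := LinearMap.congr_fun
    (comm hE₁ hE₂ hE₃ hE₁ hE₂ hE₃ (Comod.isComodHom_restrictScalars q)) x
  change E (Submodule.projectionOnto N U' hN.symm x : V) = (Submodule.projectionOnto N U' hN.symm (E x) : V) at h
  rw [(Submodule.projectionOnto_apply_eq_zero_iff hN.symm).2 hx, Submodule.coe_zero, map_zero] at h
  exact (Submodule.projectionOnto_apply_eq_zero_iff hN.symm).1 (Subtype.ext h.symm)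

end Bialg

section Alg

variable {k : Type u} [Field k] {A : Type v} [CommRing A] [HopfAlgebra k A]
  {R : Type w} [CommRing R] [Algebra k R] [HopfRep.Comod k A R] [GLin.IsCoactAlg k A R]

/-- Multiplication by an invariant is a comodule map. -/
theorem isComodHom_mulRight {y : R} (hy : y ∈ GLin.invariants k A R) :
    Hoch.IsComodHom A (LinearMap.mulRight k y) := by
  refine Comod.isComodHom_iff.2 fun φ x => ?_
  simp only [LinearMap.mulRight_apply, Comod.contract_apply]
  rw [GLin.IsCoactAlg.coact_mul, (GLin.mem_invariants_iff (k := k) (A := A) (R := R) y).1 hy]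
  induction HopfRep.Comod.coact (k := k) (A := A) x using TensorProduct.induction_on with
  | zero => simp
  | tmul r a => simp [Algebra.TensorProduct.tmul_mul_tmul]
  | add a b ha hb => simp [add_mul, ← ha, ← hb]

theorem mul_invariant [IsSemisimpleModule (Comod.Dual k A) R]
    {E : R →ₗ[k] R} (hE₁ : Hoch.IsComodHom A E) (hE₂ : E ∘ₗ E = E)
    (hE₃ : ∀ x : R, E x = x ↔ x ∈ GLin.invariants k A R) (x : R) {y : R} (hy : y ∈ GLin.invariants k A R) :
    E (x * y) = E x * y :=
  LinearMap.congr_fun
    (comm hE₁ hE₂ (fun z => (hE₃ z).trans Iff.rfl) hE₁ hE₂ (fun z => (hE₃ z).trans Iff.rfl)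
      (isComodHom_mulRight hy)) x

end Alg

end Groth.Agent.Comod.Reynolds
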