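import Groth.Agent.Comod.Basic
import Groth.Agent.Comod.Reynolds
import Mathlib.RingTheory.Bialgebra.Convolution
import Mathlib.RingTheory.Polynomial.Pochhammer
import Mathlib.Algebra.CharP.Lemmas
import Mathlib.FieldTheory.Minpoly.Field
import Mathlib.RingTheory.Etale.Field
import Mathlib.RingTheory.Artinian.Algebra

/-!
# Points of unipotent groups
-/

set_option autoImplicit false
set_option linter.style.haveILetI false

universe u v w

noncomputable section

open TensorProduct WithConv Coalgebra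

namespace Groth.Agent.Comod.UnipPts

open HopfRep Groth.Agent.Comod

variable {k : Type u} [Field k] {A : Type v} [CommRing A] [HopfAlgebra k A]
  {K : Type w} [CommRing K] [Algebra k K]

/-- powers of a functional killing `1` are eventually zero at every element -/
theorem exists_pow_apply_eq_zero (hU : HopfRep.IsUnipotent k A) (δ : WithConv (A →ₗ[k] K)) (hδ : δ.ofConv 1 = 0)
    (a : A) : ∃ N, ∀ n, N ≤ n → (δ ^ n).ofConv a = 0 := by
  classical
  obtain ⟨M0, hfin, haM0, hM0⟩ := exists_finite_subcomod (k := k) (A := A) (V := A) ({a} : Finset A)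
  let P : ℕ → Prop := fun r => ∃ M : Submodule k A, M ≤ M0 ∧ IsSubcomod (k := k) (A := A) M ∧
    (∃ N, ∀ n, N ≤ n → ∀ x ∈ M, (δ ^ n).ofConv x = 0) ∧ Module.finrank k M0 - Module.finrank k M = r
  have hP : ∃ r, P r := ⟨_, ⊥, bot_le, isSubcomod_bot,
    ⟨0, fun n _ x hx => by rw [(Submodule.mem_bot k).1 hx, map_zero]⟩, rfl⟩
  obtain ⟨M, hMle, hMs, ⟨N, hN⟩, hMn⟩ := Nat.find_spec hP
  by_cases hne : M = M0
  · exact ⟨N, fun n hn => hN n hn a (hne ▸ haM0 (by simp))⟩
  exfalso
  letI cM0 : HopfRep.Comod k A M0 := ComodSub.Comod.restr (HopfRep.Comod.regular k A) M0 hM0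
  have hι : Hoch.IsComodHom A M0.subtype :=
    (ComodSub.rTensor_subtype_comp_restrCoact (HopfRep.Comod.regular k A) M0 hM0).symm
  let W : Submodule k M0 := M.comap M0.subtype
  have hW : W ≠ ⊤ := fun e => hne (le_antisymm hMle fun x hx =>
    (e ▸ Submodule.mem_top : (⟨x, hx⟩ : M0) ∈ W))
  have hWs : IsSubcomod (k := k) (A := A) W := isSubcomod_comap hι hMs
  letI cQ : HopfRep.Comod k A (M0 ⧸ W) := ComodSub.Comod.quot cM0 W hWs
  have hmk : Hoch.IsComodHom A W.mkQ := ComodSub.isComodHom_mkQ _ _ _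
  obtain ⟨w, hw, hw0⟩ := (Submodule.ne_bot_iff _).1
    (hU (M0 ⧸ W) inferInstance (Submodule.Quotient.nontrivial_iff.2 hW))
  obtain ⟨v, rfl⟩ := W.mkQ_surjective w
  have hva : ∀ φ : A →ₗ[k] k, contract φ (v : A) - φ 1 • (v : A) ∈ M := by
    intro φ
    have h1 : contract φ v - φ 1 • v ∈ W := by
      refine (Submodule.Quotient.eq W).1 ?_
      show W.mkQ (contract φ v) = W.mkQ (φ 1 • v)
      rw [map_smul, map_contract hmk]
      exact (Reynolds.mem_fixedPts_iff _).1 hw φ
    have h2 : M0.subtype (contract φ v - φ 1 • v) ∈ M := h1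
    rwa [map_sub, map_smul, map_contract hι] at h2
  let M' := M ⊔ Submodule.span k {(v : A)}
  have hM'le : M' ≤ M0 := sup_le hMle ((Submodule.span_singleton_le_iff_mem _ _).2 v.2)
  have hM's : IsSubcomod (k := k) (A := A) M' := by
    refine isSubcomod_iff.2 fun φ y hy => ?_
    obtain ⟨p, hp, q, hq, rfl⟩ := Submodule.mem_sup.1 hy
    obtain ⟨r, rfl⟩ := Submodule.mem_span_singleton.1 hq
    rw [map_add, map_smul, ← sub_add_cancel (contract φ (v : A)) (φ 1 • (v : A))]
    exact add_mem (Submodule.mem_sup_left (contract_mem hMs φ hp)) (Submodule.smul_mem _ _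
      (add_mem (Submodule.mem_sup_left (hva φ))
        (Submodule.smul_mem _ _ (Submodule.mem_sup_right (Submodule.mem_span_singleton_self _)))))
  have hkill : ∀ n, N + 1 ≤ n → ∀ x ∈ M', (δ ^ n).ofConv x = 0 := by
    intro n hn x hx
    obtain ⟨p, hp, q, hq, rfl⟩ := Submodule.mem_sup.1 hx
    obtain ⟨r, rfl⟩ := Submodule.mem_span_singleton.1 hq
    rw [map_add, map_smul, hN n (by omega) p hp, zero_add]
    obtain ⟨m, rfl⟩ : ∃ m, n = m + 1 := ⟨n - 1, by omega⟩
    have hrange : Coalgebra.comul (R := k) (v : A) - (v : A) ⊗ₜ[k] (1 : A) ∈ LinearMap.range (M.subtype.rTensor A) :=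
      (mem_range_iff_slice M _).2 fun φ => by rw [map_sub, slice_tmul]; exact hva φ
    obtain ⟨y, hy⟩ := hrange
    have h0 : ∀ y : M ⊗[k] A,
        LinearMap.mul' k K (TensorProduct.map (δ ^ m).ofConv δ.ofConv (M.subtype.rTensor A y)) = 0 := by
      intro y
      induction y using TensorProduct.induction_on with
      | zero => simp
      | tmul z b => simp [hN m (by omega) z z.2]
      | add p q hp hq => simp only [map_add, hp, hq, add_zero]
    rw [pow_succ, LinearMap.convMul_apply, ← sub_add_cancel (Coalgebra.comul (R := k) (v : A)) ((v : A) ⊗ₜ[k] (1 : A)),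
      map_add, map_add, ← hy, h0, TensorProduct.map_tmul, LinearMap.mul'_apply, hδ, mul_zero, zero_add, smul_zero]
  haveI : Module.Finite k M' := Submodule.finiteDimensional_of_le hM'le
  have hlt : Module.finrank k M < Module.finrank k M' :=
    Submodule.finrank_lt_finrank_of_lt (lt_of_le_of_ne le_sup_left fun e => hw0
      ((Submodule.Quotient.mk_eq_zero W).2 (show (v : A) ∈ M from e ▸ Submodule.mem_sup_right (Submodule.mem_span_singleton_self _))))
  have hle := Nat.find_min' hP ⟨M', hM'le, hM's, ⟨N + 1, hkill⟩, rfl⟩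
  rw [← hMn] at hle
  have := Submodule.finrank_mono hM'le
  omega

/-- the functional of a point minus the counit -/
def del (g : WithConv (A →ₐ[k] K)) : WithConv (A →ₗ[k] K) := toConv g.ofConv.toLinearMap - 1

theorem del_one (g : WithConv (A →ₐ[k] K)) : (del g).ofConv 1 = 0 := by
  simp [del]

theorem pow_eq (g : WithConv (A →ₐ[k] K)) (n : ℕ) :
    toConv (g ^ n).ofConv.toLinearMap = (del g + 1) ^ n := by
  rw [AlgHom.toLinearMap_convPow, del, sub_add_cancel]

theorem pow_apply_eq_sum (g : WithConv (A →ₐ[k] K)) (n : ℕ) (a : A) :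
    (g ^ n).ofConv a = ∑ i ∈ Finset.range (n + 1), n.choose i • (del g ^ i).ofConv a := by
  have h := congrArg (fun f : WithConv (A →ₗ[k] K) => f.ofConv a) (pow_eq g n)
  refine Eq.trans h ?_
  simp only [(Commute.one_right (del g)).add_pow, one_pow, mul_one, WithConv.ofConv_sum, LinearMap.sum_apply]
  refine Finset.sum_congr rfl fun i _ => ?_
  rw [← nsmul_eq_mul', WithConv.ofConv_smul, LinearMap.smul_apply]

section CharP

variable (hU : HopfRep.IsUnipotent k A) [Algebra.FiniteType k A] (p : ℕ) [Fact p.Prime] [CharP k p] [Nontrivial K]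

include hU in
theorem exists_pow_eq_one (g : WithConv (A →ₐ[k] K)) : ∃ m, g ^ p ^ m = 1 := by
  classical
  haveI : CharP (WithConv (A →ₗ[k] K)) p := by
    haveI : Nontrivial (WithConv (A →ₗ[k] K)) := ⟨⟨1, 0, fun h => one_ne_zero (α := K) (by
      simpa [LinearMap.convOne_def] using congrArg (fun f : WithConv (A →ₗ[k] K) => f.ofConv 1) h)⟩⟩
    exact charP_of_injective_algebraMap (algebraMap k (WithConv (A →ₗ[k] K))).injective p
  obtain ⟨s, hs⟩ := Algebra.FiniteType.out (R := k) (A := A)
  choose N hN using exists_pow_apply_eq_zero hU (del g) (del_one g)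
  refine ⟨s.sup N, ?_⟩
  apply WithConv.ext
  refine AlgHom.ext_of_adjoin_eq_top hs fun a ha => ?_
  have h := congrArg (fun f : WithConv (A →ₗ[k] K) => f.ofConv a) (pow_eq g (p ^ s.sup N))
  refine Eq.trans h ?_
  simp only [add_pow_char_pow_of_commute _ _ (Commute.one_right (del g)), one_pow]
  rw [WithConv.ofConv_add, LinearMap.add_apply, hN a _ ((Finset.le_sup (f := N) ha).trans
    (Nat.lt_pow_self (Fact.out : p.Prime).one_lt).le), zero_add]
  rfl

end CharP

section CharZero

variable [CharZero k] (hU : HopfRep.IsUnipotent k A)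

/-- the binomial polynomial -/
def binom (i : ℕ) : Polynomial k := Polynomial.C ((i.factorial : k)⁻¹) * descPochhammer k i

theorem binom_eval (i n : ℕ) : (binom (k := k) i).eval (n : k) = (n.choose i : k) := by
  rw [binom, Polynomial.eval_mul, Polynomial.eval_C, descPochhammer_eval_eq_descFactorial,
    Nat.descFactorial_eq_factorial_mul_choose, Nat.cast_mul, ← mul_assoc,
    inv_mul_cancel₀ (Nat.cast_ne_zero.2 i.factorial_ne_zero), one_mul]

theorem eq_of_eval_nat {P Q : Polynomial k} (h : ∀ n : ℕ, P.eval (n : k) = Q.eval (n : k)) : P = Q :=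
  Polynomial.eq_of_infinite_eval_eq P Q ((Set.infinite_range_of_injective Nat.cast_injective).mono (by
    rintro _ ⟨n, rfl⟩; exact h n))

include hU in
theorem exists_poly {L : Type*} [Field L] [Algebra k L] [CharZero L] (g : WithConv (A →ₐ[k] L)) (a : A) :
    ∃ P : Polynomial L, ∀ n : ℕ, P.eval (n : L) = (g ^ n).ofConv a := by
  obtain ⟨N, hN⟩ := exists_pow_apply_eq_zero hU (del g) (del_one g) a
  refine ⟨∑ i ∈ Finset.range N, (del g ^ i).ofConv a • binom (k := L) i, fun n => ?_⟩
  rw [Polynomial.eval_finsetSum, pow_apply_eq_sum]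
  simp only [Polynomial.eval_smul, binom_eval, nsmul_eq_mul, smul_eq_mul]
  rcases le_total N (n + 1) with h | h
  · rw [← Finset.sum_subset (Finset.range_subset_range.2 h)]
    · exact Finset.sum_congr rfl fun i _ => mul_comm _ _
    · intro i _ hi
      rw [hN i (by simpa using hi), mul_zero]
  · rw [← Finset.sum_subset (Finset.range_subset_range.2 h)]
    · exact Finset.sum_congr rfl fun i _ => mul_comm _ _
    · intro i _ hi
      rw [Nat.choose_eq_zero_of_lt (by simp at hi; omega), Nat.cast_zero, mul_zero]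

/-- the value of the one-parameter subgroup at an element -/
def pc (g : WithConv (A →ₐ[k] k)) (a : A) : Polynomial k := (exists_poly hU g a).choose

theorem pc_eval (g : WithConv (A →ₐ[k] k)) (a : A) (n : ℕ) : (pc hU g a).eval (n : k) = (g ^ n).ofConv a :=
  (exists_poly hU g a).choose_spec n

/-- the one-parameter subgroup through a point -/
def pw (g : WithConv (A →ₐ[k] k)) : A →ₐ[k] Polynomial k :=
  AlgHom.ofLinearMap
    { toFun := pc hU g
      map_add' := fun a b => eq_of_eval_nat fun n => by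
        simp only [Polynomial.eval_add, pc_eval, map_add]
      map_smul' := fun c a => eq_of_eval_nat fun n => by
        simp only [Polynomial.eval_smul, pc_eval, map_smul, RingHom.id_apply] }
    (eq_of_eval_nat fun n => by
      simp only [LinearMap.coe_mk, AddHom.coe_mk, pc_eval, map_one, Polynomial.eval_one])
    (fun a b => eq_of_eval_nat fun n => by
      simp only [LinearMap.coe_mk, AddHom.coe_mk, Polynomial.eval_mul, pc_eval, map_mul])

theorem pw_eval (g : WithConv (A →ₐ[k] k)) (a : A) (n : ℕ) :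
    (pw hU g a).eval (n : k) = (g ^ n).ofConv a := pc_eval hU g a n

/-- evaluation at a parameter -/
def at' (t : k) : WithConv (A →ₐ[k] Polynomial k) →* WithConv (A →ₐ[k] k) where
  toFun f := toConv ((Polynomial.aeval t).comp f.ofConv)
  map_one' := WithConv.ext (AlgHom.ext fun a => by simp)
  map_mul' f g := congrArg toConv (AlgHom.comp_convMul_distrib (Polynomial.aeval t) f g)

theorem at'_apply (t : k) (f : WithConv (A →ₐ[k] Polynomial k)) (a : A) :
    (at' t f).ofConv a = (f.ofConv a).eval t := by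
  simp [at', Polynomial.coe_aeval_eq_eval]

theorem at'_nat (g : WithConv (A →ₐ[k] k)) (n : ℕ) : at' (n : k) (toConv (pw hU g)) = g ^ n :=
  WithConv.ext (AlgHom.ext fun a => by rw [at'_apply]; exact pw_eval hU g a n)

/-- two families agreeing at natural parameters -/
theorem at'_ext {F G : WithConv (A →ₐ[k] Polynomial k)} (h : ∀ n : ℕ, at' (n : k) F = at' (n : k) G) (t : k) :
    at' t F = at' t G := by
  have e : F = G := WithConv.ext (AlgHom.ext fun a => eq_of_eval_nat fun n => by
    rw [← at'_apply, ← at'_apply, h n])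
  rw [e]

include hU in
theorem bijective_pow_charZero (e : ℕ) (he : e ≠ 0) :
    Function.Bijective fun g : WithConv (A →ₐ[k] k) => g ^ e := by
  have he' : (e : k) ≠ 0 := Nat.cast_ne_zero.2 he
  have hscale : ∀ (t : k) (f : WithConv (A →ₐ[k] Polynomial k)),
      at' t (toConv ((Polynomial.aeval (Polynomial.C (e : k) * Polynomial.X)).comp f.ofConv)) = at' ((e : k) * t) f := by
    intro t f
    refine WithConv.ext (AlgHom.ext fun a => ?_)
    rw [at'_apply, at'_apply]
    show ((Polynomial.aeval (Polynomial.C (e : k) * Polynomial.X)) (f.ofConv a)).eval t = _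
    rw [← Polynomial.comp_eq_aeval, Polynomial.eval_comp]
    simp
  refine ⟨fun x y hxy => ?_, fun g => ⟨at' ((e : k)⁻¹) (toConv (pw hU g)), ?_⟩⟩
  · have key : ∀ z : WithConv (A →ₐ[k] k), z = at' ((e : k)⁻¹) (toConv (pw hU (z ^ e))) := by
      intro z
      rw [at'_ext (G := toConv ((Polynomial.aeval (Polynomial.C (e : k) * Polynomial.X)).comp (pw hU z))) fun n => ?_]
      · rw [hscale _ (toConv (pw hU z)), mul_inv_cancel₀ he', ← Nat.cast_one, at'_nat, pow_one]
      · rw [hscale _ (toConv (pw hU z)), ← Nat.cast_mul, at'_nat, at'_nat, pow_mul]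
    rw [key x, key y, show x ^ e = y ^ e from hxy]
  · show at' ((e : k)⁻¹) (toConv (pw hU g)) ^ e = g
    rw [← map_pow, at'_ext (G := toConv ((Polynomial.aeval (Polynomial.C (e : k) * Polynomial.X)).comp (pw hU g))) fun n => ?_]
    · rw [hscale _ (toConv (pw hU g)), mul_inv_cancel₀ he', ← Nat.cast_one, at'_nat, pow_one]
    · rw [map_pow, hscale _ (toConv (pw hU g)), ← Nat.cast_mul, at'_nat, at'_nat, ← pow_mul, mul_comm]

include hU in
theorem eq_one_of_finite {L : Type w} [Field L] [Algebra k L] [CharZero L] [Finite (WithConv (A →ₐ[k] L))]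
    (g : WithConv (A →ₐ[k] L)) : g = 1 := by
  refine WithConv.ext (AlgHom.ext fun a => ?_)
  have hfin : (Set.range fun n : ℕ => (g ^ n).ofConv a).Finite :=
    (Set.toFinite (Set.range fun h : WithConv (A →ₐ[k] L) => h.ofConv a)).subset (by
      rintro _ ⟨n, rfl⟩; exact ⟨g ^ n, rfl⟩)
  haveI := hfin.to_subtype
  obtain ⟨c, hc⟩ := Finite.exists_infinite_fiber
    (fun n : ℕ => (⟨(g ^ n).ofConv a, n, rfl⟩ : Set.range fun n : ℕ => (g ^ n).ofConv a))
  obtain ⟨P, hP⟩ := exists_poly hU g a
  have hconst : P = Polynomial.C (c : L) :=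
    Polynomial.eq_of_infinite_eval_eq _ _ (((Set.infinite_coe_iff.1 hc).image Nat.cast_injective.injOn).mono (by
      rintro _ ⟨n, hn, rfl⟩
      show P.eval (n : L) = (Polynomial.C (c : L)).eval (n : L)
      rw [hP, Polynomial.eval_C]
      exact congrArg Subtype.val hn))
  have h1 := hP 1
  have h0 := hP 0
  rw [hconst, Polynomial.eval_C, pow_one] at h1
  rw [hconst, Polynomial.eval_C, pow_zero] at h0
  exact h1.symm.trans h0

end CharZero

include k in
/-- powers prime to the characteristic are bijective on points -/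
theorem bijective_pow [Algebra.FiniteType k A] (hU : HopfRep.IsUnipotent k A) (e : ℕ) (he : ¬ ringChar k ∣ e) :
    Function.Bijective fun g : WithConv (A →ₐ[k] k) => g ^ e := by
  obtain ⟨p, hp⟩ := CharP.exists k
  obtain rfl := ringChar.eq k p
  rcases CharP.char_is_prime_or_zero k (ringChar k) with hpr | h0
  · haveI := Fact.mk hpr
    have hex := fun g : WithConv (A →ₐ[k] k) => exists_pow_eq_one hU (ringChar k) g
    have hcop : ∀ m, Nat.Coprime e (ringChar k ^ m) := fun m =>
      Nat.Coprime.pow_right m ((Nat.Prime.coprime_iff_not_dvd hpr).2 he).symm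
    have key : ∀ (m : ℕ) (g : WithConv (A →ₐ[k] k)), g ^ ringChar k ^ m = 1 → ∀ b, e * b % ringChar k ^ m = 1 % ringChar k ^ m →
        g ^ (e * b) = g := by
      intro m g hg b hb
      rw [pow_eq_pow_mod (e * b) hg, hb, ← pow_eq_pow_mod 1 hg, pow_one]
    have hb : ∀ m, ∃ b, e * b % ringChar k ^ m = 1 % ringChar k ^ m := by
      intro m
      obtain ⟨b, -, hb⟩ := Nat.exists_mul_mod_eq_of_coprime 1 (hcop m) (pow_pos hpr.pos m).ne'
      exact ⟨b, hb⟩
    refine ⟨fun x y hxy => ?_, fun g => ?_⟩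
    · obtain ⟨m1, hx⟩ := hex x
      obtain ⟨m2, hy⟩ := hex y
      obtain ⟨b, hb⟩ := hb (m1 + m2)
      have hx' : x ^ ringChar k ^ (m1 + m2) = 1 := by rw [pow_add, pow_mul, hx, one_pow]
      have hy' : y ^ ringChar k ^ (m1 + m2) = 1 := by rw [add_comm, pow_add, pow_mul, hy, one_pow]
      rw [← key _ x hx' b hb, ← key _ y hy' b hb, pow_mul, pow_mul, show x ^ e = y ^ e from hxy]
    · obtain ⟨m, hg⟩ := hex g
      obtain ⟨b, hb⟩ := hb m
      exact ⟨g ^ b, by show (g ^ b) ^ e = g; rw [← pow_mul, mul_comm, key m g hg b hb]⟩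
  · haveI : CharP k 0 := h0 ▸ hp
    haveI := CharP.charP_to_charZero k
    exact bijective_pow_charZero hU e fun h => he (by rw [h0, h])

theorem card_points (k : Type u) [Field k] (A : Type v) [CommRing A] [Algebra k A] [Module.Finite k A]
    [Algebra.Etale k A] (K : Type u) [Field K] [Algebra k K] [IsAlgClosed K] :
    Nat.card (A →ₐ[k] K) = Module.finrank k A := by
  classical
  have : _root_.IsReduced (K ⊗[k] A) := Algebra.FormallyUnramified.isReduced_of_field K (K ⊗[k] A)
  have : IsArtinianRing (K ⊗[k] A) := IsArtinianRing.of_finite K _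
  have := Fintype.ofFinite (MaximalSpectrum (K ⊗[k] A))
  have hb : ∀ I : MaximalSpectrum (K ⊗[k] A), Function.Bijective (algebraMap K ((K ⊗[k] A) ⧸ I.asIdeal)) := fun I =>
    have := I.isMaximal
    IsAlgClosed.algebraMap_bijective_of_isIntegral (k := K)
  have h1 : ∀ I : MaximalSpectrum (K ⊗[k] A), Module.finrank K ((K ⊗[k] A) ⧸ I.asIdeal) = 1 := fun I =>
    ((LinearEquiv.ofBijective (Algebra.linearMap K _) (hb I)).finrank_eq).symm.trans (Module.finrank_self K)
  have hcard : Fintype.card (MaximalSpectrum (K ⊗[k] A)) = Module.finrank k A := by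
    rw [← Module.finrank_baseChange (R := K) (S := k) (M' := A),
      ((IsArtinianRing.equivPi (K ⊗[k] A)).toLinearEquiv.restrictScalars K).finrank_eq, Module.finrank_pi_fintype]
    simp [h1]
  let pt : MaximalSpectrum (K ⊗[k] A) → (A →ₐ[k] K) := fun I =>
    (((AlgEquiv.ofBijective (Algebra.ofId K ((K ⊗[k] A) ⧸ I.asIdeal)) (hb I)).symm.toAlgHom.comp
      (Ideal.Quotient.mkₐ K I.asIdeal)).restrictScalars k).comp Algebra.TensorProduct.includeRight
  have hpt : Function.Injective pt := by
    intro I J h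
    have h' : (AlgEquiv.ofBijective (Algebra.ofId K ((K ⊗[k] A) ⧸ I.asIdeal)) (hb I)).symm.toAlgHom.comp
        (Ideal.Quotient.mkₐ K I.asIdeal) = (AlgEquiv.ofBijective (Algebra.ofId K ((K ⊗[k] A) ⧸ J.asIdeal)) (hb J)).symm.toAlgHom.comp
        (Ideal.Quotient.mkₐ K J.asIdeal) :=
      Algebra.TensorProduct.ext (Subsingleton.elim _ _) h
    apply MaximalSpectrum.ext
    ext x
    have h2 : (AlgEquiv.ofBijective (Algebra.ofId K ((K ⊗[k] A) ⧸ I.asIdeal)) (hb I)).symm (Ideal.Quotient.mk I.asIdeal x) =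
        (AlgEquiv.ofBijective (Algebra.ofId K ((K ⊗[k] A) ⧸ J.asIdeal)) (hb J)).symm (Ideal.Quotient.mk J.asIdeal x) :=
      DFunLike.congr_fun h' x
    exact Ideal.Quotient.eq_zero_iff_mem.symm.trans <| (EmbeddingLike.map_eq_zero_iff
      (f := (AlgEquiv.ofBijective (Algebra.ofId K ((K ⊗[k] A) ⧸ I.asIdeal)) (hb I)).symm)).symm.trans <|
      (iff_of_eq (congrArg (· = 0) h2)).trans <| EmbeddingLike.map_eq_zero_iff.trans Ideal.Quotient.eq_zero_iff_mem
  have : Finite (A →ₐ[k] K) := inferInstance
  have hle : Module.finrank k A ≤ Nat.card (A →ₐ[k] K) := by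
    rw [← hcard, ← Nat.card_eq_fintype_card]
    exact Nat.card_le_card_of_injective pt hpt
  exact le_antisymm (card_algHom_le_finrank k A K) hle

end Groth.Agent.Comod.UnipPts
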