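import Mathlib
import Groth.Agent.HopfShrink
import Groth.Agent.HopfSub.Main

/-!
An injective bialgebra map of finitely generated commutative Hopf algebras over a field is faithfully flat
(consequences: points lift, `cB ∩ A = cA`), in any universe.
-/

set_option autoImplicit false
universe u v w

open TensorProduct

namespace Groth.Agent.Comod.FFInj

theorem dvd_of_map_dvd_aux {k : Type u} [Field k] {A : Type u} [CommRing A] [HopfAlgebra k A]
    {B : Type u} [CommRing B] [HopfAlgebra k B] (f : A →ₐc[k] B) (hf : Function.Injective f)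
    (a c : A) (h : f c ∣ f a) : c ∣ a := by
  letI : Algebra A B := (f : A →ₐ[k] B).toRingHom.toAlgebra
  haveI : IsScalarTower k A B := IsScalarTower.of_algebraMap_eq fun x => ((f : A →ₐ[k] B).commutes x).symm
  haveI : Module.FaithfullyFlat A B := Groth.Agent.HopfSub.faithfullyFlat f (fun _ => rfl) hf
  rw [← Ideal.mem_span_singleton, ← Ideal.comap_map_eq_self_of_faithfullyFlat (B := B) (Ideal.span {c}),
    Ideal.mem_comap, Ideal.map_span, Set.image_singleton, Ideal.mem_span_singleton]
  exact h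

theorem exists_point_aux {k : Type u} [Field k] {A : Type u} [CommRing A] [HopfAlgebra k A]
    {B : Type u} [CommRing B] [HopfAlgebra k B] [Algebra.FiniteType k A] (f : B →ₐc[k] A)
    (hf : Function.Injective f) (K : Type w) [Field K] [IsAlgClosed K] [Algebra k K] (q : B →ₐ[k] K) :
    ∃ g : A →ₐ[k] K, ∀ b, g (f b) = q b := by
  letI : Algebra B A := (f : B →ₐ[k] A).toRingHom.toAlgebra
  haveI : IsScalarTower k B A := IsScalarTower.of_algebraMap_eq fun x => ((f : B →ₐ[k] A).commutes x).symm
  haveI : Module.FaithfullyFlat B A := Groth.Agent.HopfSub.faithfullyFlat f (fun _ => rfl) hf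
  letI : Algebra B K := q.toRingHom.toAlgebra
  haveI : IsScalarTower k B K := IsScalarTower.of_algebraMap_eq fun x => (q.commutes x).symm
  haveI : Algebra.FiniteType B A := Algebra.FiniteType.of_restrictScalars_finiteType k B A
  haveI : Nontrivial (K ⊗[B] A) := inferInstance
  obtain ⟨m, hm⟩ := Ideal.exists_maximal (K ⊗[B] A)
  letI : Field ((K ⊗[B] A) ⧸ m) := Ideal.Quotient.field m
  haveI : Algebra.FiniteType K ((K ⊗[B] A) ⧸ m) :=
    Algebra.FiniteType.of_surjective (Ideal.Quotient.mkₐ K m) (Ideal.Quotient.mkₐ_surjective K m)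
  haveI : Module.Finite K ((K ⊗[B] A) ⧸ m) := finite_of_finite_type_of_isJacobsonRing K _
  have hbij := IsAlgClosed.algebraMap_bijective_of_isIntegral (k := K) (K := (K ⊗[B] A) ⧸ m)
  let e := (AlgEquiv.ofBijective (Algebra.ofId K _) hbij).symm
  let φ : A →ₐ[B] K :=
    ((e : (K ⊗[B] A) ⧸ m →ₐ[K] K).restrictScalars B).comp
      (((Ideal.Quotient.mkₐ K m).restrictScalars B).comp Algebra.TensorProduct.includeRight)
  exact ⟨φ.restrictScalars k, fun b => φ.commutes b⟩

/-- `cB ∩ A = cA` for an injective bialgebra map of finitely generated Hopf algebras over a field. -/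
theorem dvd_of_map_dvd {k : Type u} [Field k] {A B : Type v} [CommRing A] [CommRing B]
    [HopfAlgebra k A] [HopfAlgebra k B] [Algebra.FiniteType k A] [Algebra.FiniteType k B]
    (f : A →ₐc[k] B) (hf : Function.Injective f) (a c : A) (h : f c ∣ f a) : c ∣ a := by
  obtain ⟨A', _, _, ⟨eA⟩⟩ := Groth.Agent.HopfShrink.exists_model k A
  obtain ⟨B', _, _, ⟨eB⟩⟩ := Groth.Agent.HopfShrink.exists_model k B
  let ι : A' →ₐc[k] B' := (eB : B →ₐc[k] B').comp (f.comp (eA.symm : A' →ₐc[k] A))
  have hι : Function.Injective ι := eB.injective.comp (hf.comp eA.symm.injective)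
  obtain ⟨t, ht⟩ := h
  have h' : ι (eA c) ∣ ι (eA a) := by
    refine ⟨eB t, ?_⟩
    simp [ι, ht, map_mul]
  obtain ⟨s, hs⟩ := dvd_of_map_dvd_aux ι hι _ _ h'
  refine ⟨eA.symm s, eA.injective ?_⟩
  show eA a = eA (c * eA.symm s)
  rw [map_mul, hs]
  exact congrArg (eA c * ·) (eA.apply_symm_apply s).symm

/-- Points with values in an algebraically closed field lift along an injective bialgebra map. -/
theorem exists_point {k : Type u} [Field k] {A B : Type v} [CommRing A] [CommRing B]
    [HopfAlgebra k A] [HopfAlgebra k B] [Algebra.FiniteType k A] [Algebra.FiniteType k B]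
    (f : B →ₐc[k] A) (hf : Function.Injective f) (K : Type w) [Field K] [IsAlgClosed K] [Algebra k K]
    (q : B →ₐ[k] K) : ∃ g : A →ₐ[k] K, ∀ b, g (f b) = q b := by
  obtain ⟨A', _, _, ⟨eA⟩⟩ := Groth.Agent.HopfShrink.exists_model k A
  obtain ⟨B', _, _, ⟨eB⟩⟩ := Groth.Agent.HopfShrink.exists_model k B
  let ι : B' →ₐc[k] A' := (eA : A →ₐc[k] A').comp (f.comp (eB.symm : B' →ₐc[k] B))
  have hι : Function.Injective ι := eA.injective.comp (hf.comp eB.symm.injective)
  haveI : Algebra.FiniteType k A' :=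
    Algebra.FiniteType.of_surjective ((eA : A →ₐc[k] A') : A →ₐ[k] A') eA.surjective
  obtain ⟨g, hg⟩ := exists_point_aux ι hι K (q.comp ((eB.symm : B' →ₐc[k] B) : B' →ₐ[k] B))
  refine ⟨g.comp ((eA : A →ₐc[k] A') : A →ₐ[k] A'), fun b => ?_⟩
  simpa [ι] using hg (eB b)

end Groth.Agent.Comod.FFInj
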