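import Groth.Agent.Comod.Basic
import Groth.Agent.S7960
import Groth.Prelude.Def_ComodSub

/-!
# The fixed-vector filtration of a comodule

`fil 0 = ⊥` and `fil (n+1)` consists of the vectors fixed modulo `fil n`.  For a unipotent group every vector
of every comodule lies in some step.
-/

universe u v

noncomputable section

open TensorProduct

namespace Groth.Agent.Comod

open HopfRep

variable (k : Type u) (A W : Type v) [Field k] [CommRing A] [HopfAlgebra k A]
  [AddCommGroup W] [Module k W] [HopfRep.Comod k A W]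

/-- the fixed-vector filtration -/
def fil : ℕ → Submodule k W
  | 0 => ⊥
  | n + 1 => (LinearMap.range ((fil n).subtype.rTensor A)).comap
      (HopfRep.Comod.coact (k := k) (A := A) - (TensorProduct.mk k W A).flip 1)

variable {k A W}

theorem mem_fil_succ {n : ℕ} {v : W} : v ∈ fil k A W (n + 1) ↔
    HopfRep.Comod.coact (k := k) (A := A) v - v ⊗ₜ[k] (1 : A) ∈
      LinearMap.range ((fil k A W n).subtype.rTensor A) := Iff.rfl

theorem mem_fil_succ_iff {n : ℕ} {v : W} : v ∈ fil k A W (n + 1) ↔
    ∀ φ : A →ₗ[k] k, contract φ v - φ 1 • v ∈ fil k A W n := by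
  rw [mem_fil_succ, mem_range_iff_slice]
  simp [contract_apply]

theorem fil_le_succ : ∀ n, fil k A W n ≤ fil k A W (n + 1)
  | 0 => bot_le
  | n + 1 => fun _ hv => mem_fil_succ_iff.2 fun φ => fil_le_succ n (mem_fil_succ_iff.1 hv φ)

theorem fil_mono : Monotone (fil k A W) := monotone_nat_of_le_succ fil_le_succ

theorem isSubcomod_fil : ∀ n, IsSubcomod (k := k) (A := A) (fil k A W n)
  | 0 => isSubcomod_bot
  | n + 1 => isSubcomod_iff.2 fun φ v hv => by
    have h := Submodule.add_mem _ (fil_le_succ n (mem_fil_succ_iff.1 hv φ))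
      (Submodule.smul_mem (fil k A W (n + 1)) (φ 1) hv)
    rwa [sub_add_cancel] at h

theorem mem_fixedPts_of_mem_fil_one {v : W} (hv : v ∈ fil k A W 1) :
    HopfRep.Comod.coact (k := k) (A := A) v = v ⊗ₜ[k] (1 : A) :=
  (eq_tmul_iff_contract v 1).2 fun φ => sub_eq_zero.1 ((Submodule.mem_bot k).1 (mem_fil_succ_iff.1 hv φ))

/-- for a unipotent group the fixed-vector filtration is exhaustive -/
theorem exists_mem_fil [Algebra.FiniteType k A] (hU : HopfRep.IsUnipotent k A) (v : W) :
    ∃ n, v ∈ fil k A W n := by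
  obtain ⟨U, hfin, hvU, hUsub⟩ := exists_finite_subcomod (k := k) (A := A) ({v} : Finset W)
  let c : HopfRep.Comod k A W := inferInstance
  let cU : HopfRep.Comod k A U := ComodSub.Comod.restr c U hUsub
  obtain ⟨m, F, -, h0, hm, -, hF⟩ := (S7960.result k A).1 hU U hfin
  have hι : Hoch.IsComodHom A U.subtype := ComodSub.isComodHom_subtype c U hUsub
  have key : ∀ i, ∀ x : U, x ∈ F i → (x : W) ∈ fil k A W i := by
    intro i
    induction i with
    | zero =>
      intro x hx
      rw [h0, Submodule.mem_bot] at hx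
      simp [hx]
    | succ i ih =>
      intro x hx
      refine mem_fil_succ_iff.2 fun φ => ?_
      have h1 := ih _ (slice_mem_of_mem_range φ (F i) (hF i x hx))
      rw [map_sub, slice_tmul, ← contract_apply] at h1
      have h2 := map_contract hι φ x
      rw [Submodule.coe_subtype] at h2
      rwa [Submodule.coe_sub, Submodule.coe_smul, h2] at h1
  exact ⟨m, key m ⟨v, hvU (by simp)⟩ (hm.symm ▸ Submodule.mem_top)⟩

end Groth.Agent.Comod
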