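import Groth.Agent.Comod.TrigUnip
import Groth.Prelude.Def_CoactBr2
import Mathlib.RingTheory.HopfAlgebra.TensorProduct

/-!
# Eigenvectors in representations of the image of a Hopf algebra
-/

set_option autoImplicit false
set_option linter.style.haveILetI false

universe u v

noncomputable section

open TensorProduct

namespace Groth.Agent.Comod.Image

open HopfRep

variable {k : Type u} [Field k] {A : Type u} [CommRing A] [HopfAlgebra k A]

/-- flags: every finite subcomodule grows by an eigenvector with character in `G` -/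
def Flags (k : Type u) [Field k] (A : Type u) [CommRing A] [HopfAlgebra k A] (G : Set A) : Prop :=
  ∀ (M0 : Submodule k A), Module.Finite k M0 → IsSubcomod (k := k) (A := A) M0 → ∀ M : Submodule k A,
    M ≤ M0 → M ≠ M0 → IsSubcomod (k := k) (A := A) M →
      ∃ v ∈ M0, v ∉ M ∧ IsSubcomod (k := k) (A := A) (M ⊔ Submodule.span k {v}) ∧
        ∃ a ∈ G, ∀ φ : A →ₗ[k] k, contract φ v - φ a • v ∈ M

theorem flags_of_quot (G : Set A)
    (h : ∀ (V : Type u) [AddCommGroup V] [Module k V] [HopfRep.Comod k A V] [FiniteDimensional k V]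
      (W : Submodule k V), W ≠ ⊤ → IsSubcomod (k := k) (A := A) W →
      ∃ v, v ∉ W ∧ IsSubcomod (k := k) (A := A) (W ⊔ Submodule.span k {v}) ∧
        ∃ a ∈ G, ∀ φ : A →ₗ[k] k, contract φ v - φ a • v ∈ W) : Flags k A G := by
  intro M0 hfin hM0 M hle hne hM
  letI cM0 : HopfRep.Comod k A M0 := ComodSub.Comod.restr (HopfRep.Comod.regular k A) M0 hM0
  have hι : Hoch.IsComodHom A M0.subtype :=
    (ComodSub.rTensor_subtype_comp_restrCoact (HopfRep.Comod.regular k A) M0 hM0).symm
  have htop : M.comap M0.subtype ≠ ⊤ := fun e => hne (le_antisymm hle fun x hx =>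
    (e ▸ Submodule.mem_top : (⟨x, hx⟩ : M0) ∈ M.comap M0.subtype))
  obtain ⟨v, hv, hsub, a, ha, hva⟩ := h M0 _ htop (isSubcomod_comap hι hM)
  refine ⟨v, v.2, hv, ?_, a, ha, fun φ => ?_⟩
  · have := isSubcomod_map hι hsub
    rwa [Submodule.map_sup, Submodule.map_comap_subtype, inf_eq_right.2 hle, Submodule.map_span,
      Set.image_singleton, Submodule.coe_subtype] at this
  · have := hva φ
    rwa [Submodule.mem_comap, map_sub, map_smul, map_contract hι] at this

theorem flags_trig (hT : HopfRep.IsTrigonalizable k A) : Flags k A {a | IsGroupLikeElem k a} :=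
  flags_of_quot _ fun _ _ _ _ _ W hW hWs => TrigUnip.exists_eigen_mod hT W hW hWs

theorem flags_unip (hU : HopfRep.IsUnipotent k A) : Flags k A {1} := by
  refine flags_of_quot _ fun V _ _ c _ W hW hWs => ?_
  letI cQ : HopfRep.Comod k A (V ⧸ W) := ComodSub.Comod.quot c W hWs
  have hmk : Hoch.IsComodHom A W.mkQ := ComodSub.isComodHom_mkQ _ _ _
  obtain ⟨w, hw, hw0⟩ := (Submodule.ne_bot_iff _).1
    (hU (V ⧸ W) inferInstance (Submodule.Quotient.nontrivial_iff.2 hW))
  obtain ⟨v, rfl⟩ := W.mkQ_surjective w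
  have hva : ∀ φ : A →ₗ[k] k, contract φ v - φ 1 • v ∈ W := fun φ => by
    refine (Submodule.Quotient.eq W).1 ?_
    show W.mkQ (contract φ v) = W.mkQ (φ 1 • v)
    rw [map_smul, map_contract hmk]
    exact (eq_tmul_iff_contract (k := k) (A := A) _ 1).1 hw φ
  refine ⟨v, fun h => hw0 ((Submodule.Quotient.mk_eq_zero W).2 h), ?_, 1, rfl, hva⟩
  refine isSubcomod_iff.2 fun φ x hx => ?_
  obtain ⟨p, hp, q, hq, rfl⟩ := Submodule.mem_sup.1 hx
  obtain ⟨r, rfl⟩ := Submodule.mem_span_singleton.1 hq
  rw [map_add, map_smul, ← sub_add_cancel (contract φ v) (φ 1 • v)]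
  exact add_mem (Submodule.mem_sup_left (contract_mem hWs φ hp)) (Submodule.smul_mem _ _
    (add_mem (Submodule.mem_sup_left (hva φ))
      (Submodule.smul_mem _ _ (Submodule.mem_sup_right (Submodule.mem_span_singleton_self v)))))

variable {K : Type u} [Field K] [Algebra k K] {C : Type u} [CommRing C] [HopfAlgebra K C]
  [Module k C] [IsScalarTower k K C] (ι : A →ₗ[k] C)

/-- `x ⊗ y ↦ χ (ι y) • ι x` -/
def lam (χ : C →ₗ[K] K) : A ⊗[k] A →ₗ[k] C :=
  TensorProduct.lift (LinearMap.mk₂ k (fun x y => χ (ι y) • ι x)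
    (fun x x' y => by simp) (fun c x y => by rw [map_smul, smul_comm]) (fun x y y' => by simp [add_smul])
    (fun c x y => by rw [map_smul, LinearMap.map_smul_of_tower, smul_assoc]))

@[simp] theorem lam_tmul (χ : C →ₗ[K] K) (x y : A) : lam ι χ (x ⊗ₜ y) = χ (ι y) • ι x := by
  simp [lam]

variable (hΔ : ∀ (χ : C →ₗ[K] K) (a : A), contract χ (ι a) = lam ι χ (Coalgebra.comul (R := k) a))

/-- the extension of scalars of a subspace -/
abbrev ext' (K : Type u) [Field K] [Module K C] (ι : A →ₗ[k] C) (M : Submodule k A) : Submodule K C :=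
  Submodule.span K (ι '' M)

theorem lam_mem (χ : C →ₗ[K] K) (M : Submodule k A) {z : A ⊗[k] A}
    (hz : z ∈ LinearMap.range (M.subtype.rTensor A)) : lam ι χ z ∈ ext' K ι M := by
  obtain ⟨y, rfl⟩ := hz
  induction y using TensorProduct.induction_on with
  | zero => simp
  | tmul m b =>
    simp only [LinearMap.rTensor_tmul, Submodule.coe_subtype, lam_tmul]
    exact Submodule.smul_mem _ _ (Submodule.subset_span ⟨_, m.2, rfl⟩)
  | add a b ha hb => rw [map_add, map_add]; exact add_mem ha hb

include hΔ in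
theorem isSubcomod_ext (M : Submodule k A) (hM : IsSubcomod (k := k) (A := A) M) :
    IsSubcomod (k := K) (A := C) (ext' K ι M) := by
  refine isSubcomod_iff.2 fun χ y hy => ?_
  induction hy using Submodule.span_induction with
  | mem y hy =>
    obtain ⟨x, hx, rfl⟩ := hy
    rw [hΔ]
    exact lam_mem ι χ M (hM x hx)
  | zero => simp
  | add p q _ _ hp hq => rw [map_add]; exact add_mem hp hq
  | smul r p _ hp => rw [map_smul]; exact Submodule.smul_mem _ _ hp

include hΔ in
theorem contract_sub_mem (χ : C →ₗ[K] K) (M : Submodule k A) {v a : A}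
    (hva : ∀ φ : A →ₗ[k] k, contract φ v - φ a • v ∈ M) :
    contract χ (ι v) - χ (ι a) • ι v ∈ ext' K ι M := by
  have h : Coalgebra.comul (R := k) v - v ⊗ₜ[k] a ∈ LinearMap.range (M.subtype.rTensor A) :=
    (mem_range_iff_slice M _).2 fun φ => by rw [map_sub, slice_tmul]; exact hva φ
  have := lam_mem ι χ M h
  rwa [map_sub, lam_tmul, ← hΔ] at this

include hΔ in
/-- eigenvectors descend to representations of the image -/
theorem exists_eigen (hspan : Submodule.span K (Set.range ι) = ⊤) {G : Set A} (hG : Flags k A G)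
    (V : Type u) [AddCommGroup V] [Module K V] [HopfRep.Comod K C V] [FiniteDimensional K V] [Nontrivial V] :
    ∃ w : V, w ≠ 0 ∧ ∃ a ∈ G, ∀ χ : C →ₗ[K] K, contract χ w = χ (ι a) • w := by
  classical
  obtain ⟨m, hm, -⟩ := exists_atom_le_of_finite (k := K)
    (isSubcomod_top (k := K) (A := C) (V := V)) top_ne_bot
  let W := m.restrictScalars K
  have hWs : IsSubcomod (k := K) (A := C) W := isSubcomod_restrictScalars m
  have hatom := (isSimpleModule_iff_atom hWs).1 (show IsSimpleModule (Dual K C) (toSub W hWs) from hm)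
  obtain ⟨w0, hw0, hw0n⟩ := (Submodule.ne_bot_iff W).1 hatom.1
  obtain ⟨f, hf⟩ := LinearMap.exists_leftInverse_of_injective (LinearMap.toSpanSingleton K V w0)
    (LinearMap.ker_toSpanSingleton K hw0n)
  have hfw : f w0 = 1 := by simpa using LinearMap.congr_fun hf 1
  let g := mc C f
  have hg : Hoch.IsComodHom C g := isComodHom_mc f
  have hinj : ∀ w ∈ W, g w = 0 → w = 0 := by
    intro w hw h0
    have hK := isSubcomod_inf hWs (isSubcomod_ker hg)
    rcases hatom.2 _ hK inf_le_left with h | h
    · exact (Submodule.eq_bot_iff _).1 h w ⟨hw, h0⟩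
    · exfalso
      have : g w0 = 0 := LinearMap.mem_ker.1 (h.ge hw0).2
      have h1 := congrArg (Coalgebra.counit (R := K)) this
      rw [counit_mc, hfw, map_zero] at h1
      exact one_ne_zero h1
  -- a finite piece of `A` covering the image of `W`
  have hfinite : ∀ y ∈ Submodule.span K (Set.range ι), ∃ S : Finset A, y ∈ Submodule.span K (ι '' (S : Set A)) := by
    intro y hy
    induction hy using Submodule.span_induction with
    | mem y hy =>
      obtain ⟨a, rfl⟩ := hy
      exact ⟨{a}, Submodule.subset_span ⟨a, by simp, rfl⟩⟩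
    | zero => exact ⟨∅, zero_mem _⟩
    | add p q _ _ hp hq =>
      obtain ⟨S, hS⟩ := hp
      obtain ⟨T, hT⟩ := hq
      exact ⟨S ∪ T, add_mem (Submodule.span_mono (Set.image_mono (by simp)) hS)
        (Submodule.span_mono (Set.image_mono (by simp)) hT)⟩
    | smul r p _ hp =>
      obtain ⟨S, hS⟩ := hp
      exact ⟨S, Submodule.smul_mem _ _ hS⟩
  let b := Module.finBasis K W
  choose S hS using fun i => hfinite (g (b i : V)) (hspan ▸ Submodule.mem_top)
  obtain ⟨M0, hM0fin, hM0S, hM0⟩ := exists_finite_subcomod (k := k) (A := A) (V := A) (Finset.univ.biUnion S)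
  have hcover : ∀ w ∈ W, g w ∈ ext' K ι M0 := by
    intro w hw
    have h := b.sum_repr ⟨w, hw⟩
    have h' : w = ∑ i, b.repr ⟨w, hw⟩ i • (b i : V) := by
      have := congrArg Subtype.val h
      rw [Submodule.coe_sum] at this
      simpa using this.symm
    rw [h', map_sum]
    refine Submodule.sum_mem _ fun i _ => ?_
    rw [map_smul]
    refine Submodule.smul_mem _ _ (Submodule.span_mono (Set.image_mono fun x hx => ?_) (hS i))
    exact hM0S (Finset.mem_coe.2 (Finset.mem_biUnion.2 ⟨i, Finset.mem_univ i, hx⟩))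
  let P : ℕ → Prop := fun n => ∃ M : Submodule k A, M ≤ M0 ∧ IsSubcomod (k := k) (A := A) M ∧
    (∀ w ∈ W, g w ∈ ext' K ι M → w = 0) ∧ Module.finrank k M0 - Module.finrank k M = n
  have hP : ∃ n, P n := ⟨_, ⊥, bot_le, isSubcomod_bot, fun w hw h => hinj w hw (by
    rw [ext', Submodule.bot_coe, Set.image_singleton, map_zero, Submodule.span_zero_singleton, Submodule.mem_bot] at h
    exact h), rfl⟩
  obtain ⟨M, hMle, hMs, hMW, hMn⟩ := Nat.find_spec hP
  have hne : M ≠ M0 := fun e => hw0n (hMW w0 hw0 (e ▸ hcover w0 hw0))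
  obtain ⟨v, hv0, hvM, hM', a, ha, hva⟩ := hG M0 hM0fin hM0 M hMle hne hMs
  set M' := M ⊔ Submodule.span k {v}
  have hM'le : M' ≤ M0 := sup_le hMle ((Submodule.span_singleton_le_iff_mem _ _).2 hv0)
  haveI : Module.Finite k M' := Submodule.finiteDimensional_of_le hM'le
  have hlt : Module.finrank k M < Module.finrank k M' :=
    Submodule.finrank_lt_finrank_of_lt (lt_of_le_of_ne le_sup_left fun e => hvM
      (e ▸ Submodule.mem_sup_right (Submodule.mem_span_singleton_self _)))
  have hmeet : ¬ ∀ w ∈ W, g w ∈ ext' K ι M' → w = 0 := by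
    intro h
    have hle := Nat.find_min' hP ⟨M', hM'le, hM', h, rfl⟩
    rw [← hMn] at hle
    have := Submodule.finrank_mono hM'le
    omega
  have hWM : W ≤ (ext' K ι M').comap g := by
    rcases hatom.2 _ (isSubcomod_inf hWs (isSubcomod_comap hg (isSubcomod_ext ι hΔ M' hM'))) inf_le_left with h | h
    · exact absurd (fun w hw h' => (Submodule.eq_bot_iff _).1 h w ⟨hw, h'⟩) hmeet
    · exact fun w hw => (h.ge hw).2
  have hdec : ext' K ι M' ≤ ext' K ι M ⊔ Submodule.span K {ι v} := by
    refine Submodule.span_le.2 ?_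
    rintro _ ⟨x, hx, rfl⟩
    obtain ⟨p, hp, q, hq, rfl⟩ := Submodule.mem_sup.1 hx
    obtain ⟨r, rfl⟩ := Submodule.mem_span_singleton.1 hq
    rw [map_add, map_smul, ← IsScalarTower.algebraMap_smul K r (ι v)]
    exact add_mem (Submodule.mem_sup_left (Submodule.subset_span ⟨p, hp, rfl⟩))
      (Submodule.smul_mem _ _ (Submodule.mem_sup_right (Submodule.mem_span_singleton_self _)))
  refine ⟨w0, hw0n, a, ha, fun χ => ?_⟩
  rw [← sub_eq_zero]
  refine hMW _ (sub_mem (contract_mem hWs χ hw0) (Submodule.smul_mem _ _ hw0)) ?_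
  obtain ⟨p, hp, q, hq, hxe⟩ := Submodule.mem_sup.1 (hdec (hWM hw0))
  obtain ⟨r, rfl⟩ := Submodule.mem_span_singleton.1 hq
  rw [map_sub g, map_smul g, map_contract hg, ← hxe, map_add, map_smul, smul_add, smul_comm (χ (ι a)) r,
    add_sub_add_comm, ← smul_sub]
  exact add_mem (sub_mem (contract_mem (isSubcomod_ext ι hΔ M hMs) χ hp) (Submodule.smul_mem _ _ hp))
    (Submodule.smul_mem _ _ (contract_sub_mem ι hΔ χ M hva))

section BaseChange

variable (K : Type u) [Field K] [Algebra k K]

/-- `a ↦ 1 ⊗ a` -/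
abbrev inc : A →ₗ[k] K ⊗[k] A := TensorProduct.mk k K A 1

theorem inc_comul (χ : K ⊗[k] A →ₗ[K] K) (a : A) :
    contract χ (inc (k := k) K a) = lam (inc (k := k) K) χ (Coalgebra.comul (R := k) a) := by
  rw [contract_apply]
  change slice χ (Coalgebra.comul (R := K) ((1 : K) ⊗ₜ[k] a)) = _
  rw [TensorProduct.comul_tmul]
  induction Coalgebra.comul (R := k) a using TensorProduct.induction_on with
  | zero => simp
  | tmul x y => simp [Algebra.TensorProduct.one_def]
  | add x y hx hy => simp only [TensorProduct.tmul_add, map_add, hx, hy]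

theorem inc_span : Submodule.span K (Set.range (inc (k := k) (A := A) K)) = ⊤ := by
  refine eq_top_iff.2 fun z _ => ?_
  induction z using TensorProduct.induction_on with
  | zero => exact zero_mem _
  | tmul s a =>
    rw [show s ⊗ₜ[k] a = s • ((1 : K) ⊗ₜ[k] a) by rw [TensorProduct.smul_tmul', smul_eq_mul, mul_one]]
    exact Submodule.smul_mem _ _ (Submodule.subset_span ⟨a, rfl⟩)
  | add x y hx hy => exact add_mem (hx trivial) (hy trivial)

theorem isUnipotent_baseChange (hU : HopfRep.IsUnipotent k A) : HopfRep.IsUnipotent K (K ⊗[k] A) := by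
  intro V _ _ _ hfin hnt
  obtain ⟨w, hw, a, ha, hwa⟩ := exists_eigen (inc (k := k) K) (inc_comul K) (inc_span K) (flags_unip hU) V
  obtain rfl : a = 1 := ha
  exact (Submodule.ne_bot_iff _).2 ⟨w, (eq_tmul_iff_contract (k := K) (A := K ⊗[k] A) w 1).2 fun χ => by
    rw [hwa χ]; rfl, hw⟩

theorem isTrigonalizable_baseChange (hT : HopfRep.IsTrigonalizable k A) :
    HopfRep.IsTrigonalizable K (K ⊗[k] A) := by
  intro V _ _ _ hfin hsimp
  haveI := hsimp.1
  obtain ⟨w, hw, a, -, hwa⟩ := exists_eigen (inc (k := k) K) (inc_comul K) (inc_span K) (flags_trig hT) V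
  have hline : IsSubcomod (k := K) (A := K ⊗[k] A) (Submodule.span K {w}) := isSubcomod_iff.2 fun χ y hy => by
    obtain ⟨r, rfl⟩ := Submodule.mem_span_singleton.1 hy
    rw [map_smul, hwa]
    exact Submodule.smul_mem _ _ (Submodule.smul_mem _ _ (Submodule.mem_span_singleton_self _))
  rcases hsimp.2 _ hline with h | h
  · exact absurd (Submodule.span_singleton_eq_bot.1 h) hw
  · exact finrank_eq_one w hw fun y => Submodule.mem_span_singleton.1 (h ▸ Submodule.mem_top)

theorem isUnipotent_of_baseChange (hU : HopfRep.IsUnipotent K (K ⊗[k] A)) : HopfRep.IsUnipotent k A := by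
  intro V _ _ c hfin hnt hbot
  letI cK := CoactBr.Comod.baseChange k K A V
  obtain ⟨w, hw, hw0⟩ := (Submodule.ne_bot_iff _).1 (hU (K ⊗[k] V) inferInstance inferInstance)
  let δ : V →ₗ[k] V ⊗[k] A := HopfRep.Comod.coact (k := k) (A := A) - (TensorProduct.mk k V A).flip 1
  have hδ : Function.Injective δ := by
    rw [← LinearMap.ker_eq_bot, ← hbot]
    ext x
    simp [δ, HopfRep.fixedPts, sub_eq_zero]
  let e : K ⊗[k] (V ⊗[k] A) →ₗ[K] (K ⊗[k] V) ⊗[K] (K ⊗[k] A) :=
    (AlgebraTensorModule.tensorTensorTensorComm k K k K K K V A).toLinearMap ∘ₗ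
      TensorProduct.AlgebraTensorModule.map ((TensorProduct.lid K K).symm.toLinearMap) LinearMap.id
  have he : Function.Injective e := by
    refine (AlgebraTensorModule.tensorTensorTensorComm k K k K K K V A).injective.comp ?_
    exact Module.Flat.rTensor_preserves_injective_linearMap (M := V ⊗[k] A)
      ((TensorProduct.lid K K).symm.toLinearMap.restrictScalars k) (TensorProduct.lid K K).symm.injective
  have hkey : ∀ z : K ⊗[k] V, e (δ.baseChange K z) =
      HopfRep.Comod.coact (k := K) (A := K ⊗[k] A) z - z ⊗ₜ[K] (1 : K ⊗[k] A) := by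
    intro z
    induction z using TensorProduct.induction_on with
    | zero => simp
    | tmul s x =>
      rw [LinearMap.baseChange_tmul, show δ x = HopfRep.Comod.coact (k := k) (A := A) x - x ⊗ₜ[k] (1 : A) from rfl,
        TensorProduct.tmul_sub, map_sub]
      congr 1
      simp [e, Algebra.TensorProduct.one_def]
      rw [show s ⊗ₜ[k] x = s • ((1 : K) ⊗ₜ[k] x) by rw [TensorProduct.smul_tmul', smul_eq_mul, mul_one],
        TensorProduct.smul_tmul, TensorProduct.smul_tmul', smul_eq_mul, mul_one]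
    | add x y hx hy => simp only [map_add, hx, hy, TensorProduct.add_tmul]; abel
  apply hw0
  have h1 : e (δ.baseChange K w) = 0 := by rw [hkey, sub_eq_zero]; exact hw
  have h2 : Function.Injective (δ.baseChange K) := Module.Flat.lTensor_preserves_injective_linearMap δ hδ
  exact h2 ((he (h1.trans (map_zero e).symm)).trans (map_zero _).symm)

end BaseChange

end Groth.Agent.Comod.Image
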