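import Groth.Agent.Comod.Coalg

/-!
# Cosemisimple coalgebras
-/

universe u v w w'

noncomputable section

open TensorProduct WithConv

namespace Groth.Agent.Comod

open HopfRep

variable {k : Type u} [Field k] {C : Type v} [AddCommGroup C] [Module k C] [Coalgebra k C]

theorem isSemisimpleModule_of_finite
    (V : Type w) [AddCommGroup V] [Module k V] [c : HopfRep.Comod k C V]
    (h : ∀ (U : Submodule k V) (hU : IsSubcomod (k := k) (A := C) U), Module.Finite k U →
      letI := ComodSub.Comod.restr c U hU
      IsSemisimpleModule (Dual k C) U) : IsSemisimpleModule (Dual k C) V := by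
  refine IsSemisimpleModule.of_sSup_simples_eq_top (eq_top_iff.2 fun v hv0 => ?_)
  clear hv0
  obtain ⟨U, hfin, hvU, hU⟩ := exists_finite_subcomod (k := k) (A := C) ({v} : Finset V)
  letI := ComodSub.Comod.restr c U hU
  have hs : Hoch.IsComodHom C U.subtype := (ComodSub.rTensor_subtype_comp_restrCoact c U hU).symm
  have := h U hU hfin
  let f := homToDual (A := C) U.subtype hs
  have hv : (⟨v, hvU (by simp)⟩ : U) ∈ sSup {m : Submodule (Dual k C) U | IsSimpleModule (Dual k C) m} := by
    rw [IsSemisimpleModule.sSup_simples_eq_top]; trivial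
  rw [sSup_eq_iSup'] at hv
  have hmem : ∀ x ∈ (⨆ m : {m : Submodule (Dual k C) U | IsSimpleModule (Dual k C) m}, (m : Submodule (Dual k C) U)),
      f x ∈ sSup {m : Submodule (Dual k C) V | IsSimpleModule (Dual k C) m} := by
    intro x hx
    induction hx using Submodule.iSup_induction' with
    | mem m y hy =>
      have : IsSimpleModule (Dual k C) (m.1.map f) := by
        have : IsSimpleModule (Dual k C) ↥(m.1) := m.2
        exact IsSimpleModule.congr (N := ↥(m.1)) (Submodule.equivMapOfInjective f Subtype.val_injective m.1).symm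
      exact le_sSup (show m.1.map f ∈ {m : Submodule (Dual k C) V | IsSimpleModule (Dual k C) m} from this)
        (Submodule.mem_map_of_mem hy)
    | zero => simp
    | add y z _ _ hy hz => rw [map_add]; exact add_mem hy hz
  exact hmem _ hv

theorem isSemisimpleModule_of_regular (h : IsSemisimpleModule (Dual k C) C)
    (V : Type w) [AddCommGroup V] [Module k V] [c : HopfRep.Comod k C V] :
    IsSemisimpleModule (Dual k C) V := by
  refine isSemisimpleModule_of_finite V fun U hU hfin => ?_
  letI := ComodSub.Comod.restr c U hU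
  let b := Module.finBasis k U
  let Φ : U →ₗ[Dual k C] (Fin (Module.finrank k U) → C) :=
    LinearMap.pi fun i => homToDual (A := C) (mc C (b.coord i)) (isComodHom_mc _)
  refine IsSemisimpleModule.of_injective Φ fun x y hxy => b.ext_elem fun i => ?_
  have := congrArg (Coalgebra.counit (R := k)) (congrFun hxy i)
  simpa [Φ, counit_mc] using this

variable {V : Type w} [AddCommGroup V] [Module k V] [HopfRep.Comod k C V]

theorem isSemisimpleModule_coeff [IsSimpleModule (Dual k C) V] :
    IsSemisimpleModule (Dual k C) (toSub (coeff k C V) (isSubcomod_of_isSubcoalg isSubcoalg_coeff)) := by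
  have he : toSub (coeff k C V) (isSubcomod_of_isSubcoalg isSubcoalg_coeff) =
      ⨆ f : V →ₗ[k] k, LinearMap.range (homToDual (A := C) (mc C f) (isComodHom_mc f)) :=
    Submodule.restrictScalars_injective k _ _ coeff_eq_restrictScalars
  have hi : ∀ f : V →ₗ[k] k,
      IsSemisimpleModule (Dual k C) (LinearMap.range (homToDual (A := C) (mc C f) (isComodHom_mc f))) :=
    fun f => IsSemisimpleModule.range _
  rw [he]
  have := isSemisimpleModule_biSup_of_isSemisimpleModule_submodule
    (s := (Set.univ : Set (V →ₗ[k] k))) fun f _ => hi f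
  rw [← iSup_univ]
  exact this

theorem isSimpleModule_iff_atom {m : Submodule k V} (hm : IsSubcomod (k := k) (A := C) m) :
    IsSimpleModule (Dual k C) (toSub m hm) ↔
      m ≠ ⊥ ∧ ∀ W' : Submodule k V, IsSubcomod (k := k) (A := C) W' → W' ≤ m → W' = ⊥ ∨ W' = m := by
  rw [isSimpleModule_iff_isAtom]
  constructor
  · intro h
    refine ⟨fun e => h.1 (Submodule.restrictScalars_injective k _ _ (by simpa using e)), fun W' hW' hle => ?_⟩
    exact (h.le_iff.1 (show toSub W' hW' ≤ toSub m hm from hle)).imp
      (fun e => by rw [← restrictScalars_toSub W' hW', e, Submodule.restrictScalars_bot])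
      (fun e => by rw [← restrictScalars_toSub W' hW', e, restrictScalars_toSub])
  · rintro ⟨h0, h⟩
    refine ⟨fun e => h0 (by rw [← restrictScalars_toSub m hm, e, Submodule.restrictScalars_bot]), fun b hb => ?_⟩
    rcases h _ (isSubcomod_restrictScalars b) hb.le with e | e
    · exact Submodule.restrictScalars_injective k _ _ (by simpa using e)
    · exact absurd (Submodule.restrictScalars_injective k _ _ (by simpa using e)) hb.ne

theorem isotypic_indep {ι : Type*} {S : ι → Submodule (Dual k C) V}
    (h : ∀ i, IsSemisimpleModule (Dual k C) (S i))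
    (hne : ∀ i j, i ≠ j → ∀ (m : Submodule (Dual k C) V) (m' : Submodule (Dual k C) V),
      IsSimpleModule (Dual k C) m → IsSimpleModule (Dual k C) m' → m ≤ S i → m' ≤ S j →
        IsEmpty (m ≃ₗ[Dual k C] m')) : iSupIndep S := by
  intro i
  rw [disjoint_iff]
  by_contra hne0
  let N := S i ⊓ ⨆ (j) (_ : j ≠ i), S j
  have : IsSemisimpleModule (Dual k C) N :=
    have := h i
    IsSemisimpleModule.of_injective (R := Dual k C) (M := ↥(S i)) (N := ↥N) (Submodule.inclusion (inf_le_left : N ≤ S i))
      (Submodule.inclusion_injective inf_le_left)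
  obtain ⟨m, hmN, hm⟩ := (IsSemisimpleModule.eq_bot_or_exists_simple_le N).resolve_left hne0
  let s := S '' {j | j ≠ i}
  have hle : m ≤ sSup s := by
    refine le_trans (hmN.trans inf_le_right) ?_
    rw [sSup_image]; rfl
  have : ∀ p : s, IsSemisimpleModule (Dual k C) p.1 := by
    rintro ⟨_, j, -, rfl⟩; exact h j
  obtain ⟨_, ⟨j, hj, rfl⟩, m', hm'j, ⟨e⟩⟩ := Submodule.le_linearEquiv_of_le_sSup (N := m) s hle
  have hm' : IsSimpleModule (Dual k C) m' := IsSimpleModule.congr (N := ↥m) e.symm
  exact (hne i j (Ne.symm hj) m m' hm hm' (hmN.trans inf_le_left) hm'j).false e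

end Groth.Agent.Comod
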