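import Groth.Agent.Comod.LinRed
import Groth.Agent.Comod.Coalg
import Groth.Agent.Comod.Cosemisimple
import Groth.Agent.S3272
import Mathlib.RingTheory.Coalgebra.Convolution
import Mathlib.LinearAlgebra.Eigenspace.Triangularizable

/-!
# Commutative groups over algebraically closed fields: trigonalizable, and linearly reductive iff diagonalizable
-/

universe u v

noncomputable section

open TensorProduct WithConv

namespace Groth.Agent.Comod

open HopfRep

variable {k : Type u} [Field k] {A : Type v} [CommRing A] [HopfAlgebra k A]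

theorem isTrigonalizable_of_cocomm [IsAlgClosed k] [Coalgebra.IsCocomm k A] : IsTrigonalizable k A := by
  intro V _ _ _ _ hs
  obtain ⟨hne, hsub⟩ := hs
  obtain ⟨v, hv⟩ := exists_ne (0 : V)
  have hscal : ∀ φ : A →ₗ[k] k, ∃ c : k, ∀ w : V, contract φ w = c • w := by
    intro φ
    obtain ⟨c, hc⟩ := Module.End.exists_eigenvalue (contract (V := V) φ)
    refine ⟨c, ?_⟩
    have hK : IsSubcomod (k := k) (A := A) (LinearMap.ker (contract (V := V) φ - c • LinearMap.id)) := by
      refine isSubcomod_iff.2 fun ψ w hw => ?_
      rw [LinearMap.mem_ker, LinearMap.sub_apply, LinearMap.smul_apply, LinearMap.id_apply, sub_eq_zero] at hw ⊢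
      rw [contract_contract, mul_comm (toConv φ) (toConv ψ), ← contract_contract, hw, map_smul]
    rcases hsub _ hK with h | h
    · obtain ⟨w, hw, hw0⟩ := hc.exists_hasEigenvector
      exact absurd ((Submodule.eq_bot_iff _).1 h w (by
        rw [LinearMap.mem_ker, LinearMap.sub_apply, Module.End.mem_eigenspace_iff.1 hw, LinearMap.smul_apply,
          LinearMap.id_apply, sub_self])) hw0
    · intro w
      have : w ∈ LinearMap.ker (contract (V := V) φ - c • LinearMap.id) := h ▸ Submodule.mem_top
      rwa [LinearMap.mem_ker, LinearMap.sub_apply, LinearMap.smul_apply, LinearMap.id_apply, sub_eq_zero] at this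
  have hline : IsSubcomod (k := k) (A := A) (Submodule.span k {v}) := isSubcomod_iff.2 fun φ w hw => by
    obtain ⟨c, hc⟩ := hscal φ
    rw [hc]
    exact Submodule.smul_mem _ _ hw
  rcases hsub _ hline with h | h
  · exact absurd ((Submodule.span_singleton_eq_bot).1 h) hv
  · exact finrank_eq_one v hv fun w => Submodule.mem_span_singleton.1 (h ▸ Submodule.mem_top)

/-- a line which is a subcomodule is spanned by an eigenvector -/
theorem exists_eigen_of_line {V : Type v} [AddCommGroup V] [Module k V] [HopfRep.Comod k A V] (v : V)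
    (h : IsSubcomod (k := k) (A := A) (Submodule.span k {v})) :
    ∃ a : A, HopfRep.Comod.coact (k := k) (A := A) v = v ⊗ₜ[k] a := by
  obtain ⟨u, hu⟩ := h v (Submodule.mem_span_singleton_self v)
  rw [← hu]
  clear hu
  induction u using TensorProduct.induction_on with
  | zero => exact ⟨0, by simp⟩
  | tmul x a =>
    obtain ⟨c, hc⟩ := Submodule.mem_span_singleton.1 x.2
    exact ⟨c • a, by rw [LinearMap.rTensor_tmul, Submodule.coe_subtype, ← hc, TensorProduct.smul_tmul]⟩
  | add x y hx hy =>
    obtain ⟨a, ha⟩ := hx
    obtain ⟨b, hb⟩ := hy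
    exact ⟨a + b, by rw [map_add, ha, hb, TensorProduct.tmul_add]⟩

theorem isDiagonalizable_of_linRed_of_trigonalizable (hA : IsLinearlyReductive k A) (hT : IsTrigonalizable k A) :
    IsDiagonalizable k A := by
  refine (S3272.result k A).2 fun V _ _ c hfin => ?_
  set S := Submodule.span k {v : V | ∃ a : A, HopfRep.Comod.coact (k := k) (A := A) v = v ⊗ₜ[k] a}
  have hS : IsSubcomod (k := k) (A := A) S := isSubcomod_iff.2 fun φ v hv => by
    induction hv using Submodule.span_induction with
    | mem v hv =>
      obtain ⟨a, ha⟩ := hv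
      rw [(eq_tmul_iff_contract v a).1 ha φ]
      exact Submodule.smul_mem _ _ (Submodule.subset_span ⟨a, ha⟩)
    | zero => simp
    | add x y _ _ hx hy => rw [map_add]; exact add_mem hx hy
    | smul r x _ hx => rw [map_smul]; exact Submodule.smul_mem _ _ hx
  obtain ⟨W', hW', hc'⟩ := hA V hfin S hS
  by_contra hne
  have hW0 : W' ≠ ⊥ := fun h => hne (by have := hc'.sup_eq_top; rwa [h, sup_bot_eq] at this)
  haveI : Module.Finite k W' := inferInstance
  obtain ⟨m, hm, hmW⟩ := exists_atom_le_of_finite (k := k) hW' hW0
  let m' := m.restrictScalars k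
  have hm' : IsSubcomod (k := k) (A := A) m' := isSubcomod_restrictScalars m
  have hatom := (isSimpleModule_iff_atom hm').1 (show IsSimpleModule (Dual k A) (toSub m' hm') from hm)
  let cm := ComodSub.Comod.restr c m' hm'
  have hι : Hoch.IsComodHom A m'.subtype := (ComodSub.rTensor_subtype_comp_restrCoact c m' hm').symm
  have hsimple : IsSimpleComod k A m' := by
    refine ⟨Submodule.nontrivial_iff_ne_bot.2 hatom.1, fun U hU => ?_⟩
    rcases hatom.2 (U.map m'.subtype) (isSubcomod_map hι hU) (Submodule.map_subtype_le m' U) with h | h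
    · exact Or.inl (Submodule.map_injective_of_injective m'.injective_subtype (h.trans (Submodule.map_bot _).symm))
    · exact Or.inr (Submodule.map_injective_of_injective m'.injective_subtype (h.trans (Submodule.map_subtype_top _).symm))
  obtain ⟨w, hw0, hw⟩ := finrank_eq_one_iff'.1 (hT m' inferInstance hsimple)
  have hspan : Submodule.span k {(w : V)} = m' := by
    refine le_antisymm ((Submodule.span_singleton_le_iff_mem _ _).2 w.2) fun x hx => ?_
    obtain ⟨r, hr⟩ := hw ⟨x, hx⟩
    exact Submodule.mem_span_singleton.2 ⟨r, congrArg Subtype.val hr⟩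
  have hwS : (w : V) ∈ S := Submodule.subset_span (exists_eigen_of_line (w : V) (by rw [hspan]; exact hm'))
  have : (w : V) ∈ S ⊓ W' := ⟨hwS, hmW w.2⟩
  rw [hc'.inf_eq_bot, Submodule.mem_bot] at this
  exact hw0 (Subtype.ext this)

theorem linRed_of_isDiagonalizable (hd : IsDiagonalizable k A) : IsLinearlyReductive k A := by
  intro V _ _ c hfin
  rw [isSemisimpleComod_iff]
  refine IsSemisimpleModule.of_sSup_simples_eq_top (eq_top_iff.2 fun v _ => ?_)
  have hv : v ∈ Submodule.span k {v : V | ∃ a : A, HopfRep.Comod.coact (k := k) (A := A) v = v ⊗ₜ[k] a} := by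
    rw [(S3272.result k A).1 hd V hfin]; trivial
  clear ‹v ∈ ⊤›
  induction hv using Submodule.span_induction with
  | mem v hv =>
    obtain ⟨a, ha⟩ := hv
    by_cases h0 : v = 0
    · rw [h0]; exact zero_mem _
    have hL : IsSubcomod (k := k) (A := A) (Submodule.span k {v}) := isSubcomod_iff.2 fun φ w hw => by
      obtain ⟨r, rfl⟩ := Submodule.mem_span_singleton.1 hw
      rw [map_smul, (eq_tmul_iff_contract v a).1 ha φ]
      exact Submodule.smul_mem _ _ (Submodule.smul_mem _ _ (Submodule.mem_span_singleton_self v))
    have hsim : IsSimpleModule (Dual k A) (toSub _ hL) := (isSimpleModule_iff_atom hL).2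
      ⟨fun h => h0 (Submodule.span_singleton_eq_bot.1 h), fun W' _ hle =>
        (nonzero_span_atom v h0).le_iff.1 hle⟩
    exact le_sSup (show toSub _ hL ∈ {m : Submodule (Dual k A) V | IsSimpleModule (Dual k A) m} from hsim)
      (Submodule.mem_span_singleton_self v)
  | zero => exact zero_mem _
  | add x y _ _ hx hy => exact add_mem hx hy
  | smul r x _ hx => exact Submodule.smul_of_tower_mem _ r hx

/-- the base change of an integral -/
theorem exists_integral_baseChange (K : Type u) [Field K] [Algebra k K] {α : A →ₗ[k] k}
    (hα : IsIntegral k α) : ∃ β : K ⊗[k] A →ₗ[K] K, IsIntegral K β := by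
  refine ⟨(TensorProduct.AlgebraTensorModule.rid k K K).toLinearMap ∘ₗ α.baseChange K, ?_, ?_⟩
  · intro z
    induction z using TensorProduct.induction_on with
    | zero => simp
    | add x y hx hy => simp only [map_add, hx, hy, TensorProduct.add_tmul]
    | tmul c a =>
      have h := hα.invariant a
      let L : A ⊗[k] A →ₗ[k] K ⊗[K] (K ⊗[k] A) :=
        TensorProduct.lift (LinearMap.mk₂ k (fun x y => (α x • c) ⊗ₜ[K] ((1 : K) ⊗ₜ[k] y))
          (fun x x' y => by simp only [map_add, add_smul, TensorProduct.add_tmul])
          (fun r x y => by simp only [map_smul, smul_eq_mul, mul_smul, TensorProduct.smul_tmul'])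
          (fun x y y' => by simp only [TensorProduct.tmul_add])
          (fun r x y => by simp only [TensorProduct.tmul_smul]))
      have hL : ∀ t : A ⊗[k] A, ((TensorProduct.AlgebraTensorModule.rid k K K).toLinearMap ∘ₗ α.baseChange K).rTensor
          (K ⊗[k] A) (TensorProduct.AlgebraTensorModule.tensorTensorTensorComm k K k K K K A A
            ((c ⊗ₜ[K] (1 : K)) ⊗ₜ[k] t)) = L t := by
        intro t
        induction t using TensorProduct.induction_on with
        | zero => simp
        | tmul x y => simp [L]
        | add x y hx hy => simp only [TensorProduct.tmul_add, map_add, hx, hy]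
      have hc : Coalgebra.comul (R := K) (c ⊗ₜ[k] a : K ⊗[k] A) =
          TensorProduct.AlgebraTensorModule.tensorTensorTensorComm k K k K K K A A
            ((c ⊗ₜ[K] (1 : K)) ⊗ₜ[k] Coalgebra.comul (R := k) a) := by
        rw [TensorProduct.comul_tmul, CommSemiring.comul_apply, show (1 : K) ⊗ₜ[K] c = c ⊗ₜ[K] (1 : K) by
          rw [← mul_one c, ← smul_eq_mul, TensorProduct.tmul_smul, TensorProduct.smul_tmul']]
      rw [hc, hL]
      have hLf : ∀ t : A ⊗[k] A, L t = TensorProduct.lift (LinearMap.mk₂ k
          (fun (r : k) (y : A) => (r • c) ⊗ₜ[K] ((1 : K) ⊗ₜ[k] y))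
          (fun x x' y => by simp only [add_smul, TensorProduct.add_tmul])
          (fun r x y => by simp only [smul_eq_mul, mul_smul, TensorProduct.smul_tmul'])
          (fun x y y' => by simp only [TensorProduct.tmul_add])
          (fun r x y => by simp only [TensorProduct.tmul_smul])) (α.rTensor A t) := by
        intro t
        induction t using TensorProduct.induction_on with
        | zero => simp
        | tmul x y => simp [L]
        | add x y hx hy => simp only [map_add, hx, hy]
      rw [hLf, h]
      simp [Algebra.TensorProduct.one_def]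
  · simp [Algebra.TensorProduct.one_def, hα.map_one]

end Groth.Agent.Comod
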