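import Groth.Agent.Comod.TwoSided
import Mathlib.RingTheory.Flat.FaithfullyFlat.Algebra
import Mathlib.RingTheory.TensorProduct.Maps
import Mathlib.LinearAlgebra.TensorProduct.Pi

/-!
# An exact sequence of affine groups `1 → K → G → Q → 1`: invariants and linear reductivity
-/

set_option autoImplicit false
set_option linter.style.haveILetI false

universe u

noncomputable section

open TensorProduct WithConv

namespace Groth.Agent.Comod.ExactSeq

variable {k : Type u} [Field k] {AQ AG AK : Type u} [CommRing AQ] [HopfAlgebra k AQ]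
  [CommRing AG] [HopfAlgebra k AG] [CommRing AK] [HopfAlgebra k AK]
  [Algebra AQ AG] [IsScalarTower k AQ AG]

section

variable (φ : AQ →ₐc[k] AG) (hφ : ∀ q, algebraMap AQ AG q = φ q) (ψ : AG →ₐc[k] AK)
  (hker : RingHom.ker (ψ : AG →ₐ[k] AK) =
      Ideal.map (φ : AQ →ₐ[k] AG) (RingHom.ker (Bialgebra.counitAlgHom k AQ)))

include hker in
omit [Algebra AQ AG] [IsScalarTower k AQ AG] in
theorem psi_phi (q : AQ) : ψ (φ q) = algebraMap k AK (Coalgebra.counit (R := k) q) := by
  have h : (φ : AQ →ₐ[k] AG) (q - algebraMap k AQ (Coalgebra.counit (R := k) q)) ∈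
      RingHom.ker (ψ : AG →ₐ[k] AK) := by
    rw [hker]
    exact Ideal.mem_map_of_mem _ (by simp [RingHom.mem_ker])
  rw [RingHom.mem_ker, map_sub, map_sub, AlgHom.commutes, AlgHom.commutes, sub_eq_zero] at h
  exact h

/-- restriction of the regular action: `a ↦ a₁ ⊗ ψ a₂` -/
def rho : AG →ₐ[k] AG ⊗[k] AK :=
  (Algebra.TensorProduct.map (AlgHom.id k AG) (ψ : AG →ₐ[k] AK)).comp (Bialgebra.comulAlgHom k AG)

omit [Algebra AQ AG] [IsScalarTower k AQ AG] in
theorem toConv_rho : toConv (rho ψ) =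
    toConv (Algebra.TensorProduct.includeLeft : AG →ₐ[k] AG ⊗[k] AK) *
      toConv ((Algebra.TensorProduct.includeRight : AK →ₐ[k] AG ⊗[k] AK).comp (ψ : AG →ₐ[k] AK)) := by
  apply WithConv.ofConv_injective
  ext a
  change rho ψ a = (toConv (Algebra.TensorProduct.includeLeft : AG →ₐ[k] AG ⊗[k] AK) *
      toConv ((Algebra.TensorProduct.includeRight : AK →ₐ[k] AG ⊗[k] AK).comp (ψ : AG →ₐ[k] AK))) a
  rw [AlgHom.convMul_apply]
  simp only [rho, AlgHom.comp_apply, Bialgebra.comulAlgHom_apply]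
  induction Coalgebra.comul (R := k) a using TensorProduct.induction_on with
  | zero => simp
  | tmul x y => simp
  | add x y hx hy => simp only [map_add, hx, hy]

include hφ hker in
theorem rho_algebraMap (q : AQ) : rho ψ (algebraMap AQ AG q) = algebraMap AQ AG q ⊗ₜ[k] (1 : AK) := by
  rw [hφ, rho, AlgHom.comp_apply, Bialgebra.comulAlgHom_apply,
    show Coalgebra.comul (R := k) (φ q) = TensorProduct.map (φ : AQ →ₗ[k] AG) (φ : AQ →ₗ[k] AG)
      (Coalgebra.comul q) from (CoalgHomClass.map_comp_comul_apply φ q).symm]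
  have h : ∀ t : AQ ⊗[k] AQ, Algebra.TensorProduct.map (AlgHom.id k AG) (ψ : AG →ₐ[k] AK)
      (TensorProduct.map (φ : AQ →ₗ[k] AG) (φ : AQ →ₗ[k] AG) t) =
      (φ (TensorProduct.rid k AQ ((Coalgebra.counit (R := k) (A := AQ)).lTensor AQ t))) ⊗ₜ[k] (1 : AK) := by
    intro t
    induction t using TensorProduct.induction_on with
    | zero => simp
    | tmul x y => simp [psi_phi φ ψ hker, Algebra.algebraMap_eq_smul_one, TensorProduct.tmul_smul,
        TensorProduct.smul_tmul']
    | add x y hx hy => simp only [map_add, hx, hy, TensorProduct.add_tmul]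
  rw [h, Coalgebra.lTensor_counit_comul]
  simp

/-- `rho` over the quotient ring -/
def rhoQ : AG →ₐ[AQ] AG ⊗[k] AK :=
  { (rho ψ).toRingHom with commutes' := fun q => rho_algebraMap φ hφ ψ hker q }

@[simp] theorem rhoQ_apply (a : AG) : rhoQ φ hφ ψ hker a = rho ψ a := rfl

variable (hψ : Function.Surjective ψ)

/-- `a ↦ S a₁ ⊗ a₂` -/
def theta₀ : AG →ₐ[k] AG ⊗[AQ] AG :=
  (toConv ((Algebra.TensorProduct.includeLeft : AG →ₐ[k] AG ⊗[AQ] AG).comp (HopfAlgebra.antipodeAlgHom k AG)) *
    toConv ((Algebra.TensorProduct.includeRight : AG →ₐ[AQ] AG ⊗[AQ] AG).restrictScalars k)).ofConv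

include hφ in
theorem theta₀_phi (q : AQ) :
    theta₀ (k := k) (AQ := AQ) (φ q) = algebraMap k (AG ⊗[AQ] AG) (Coalgebra.counit (R := k) q) := by
  let iL : AG →ₐ[k] AG ⊗[AQ] AG := Algebra.TensorProduct.includeLeft
  let iR : AG →ₐ[k] AG ⊗[AQ] AG := (Algebra.TensorProduct.includeRight : AG →ₐ[AQ] AG ⊗[AQ] AG).restrictScalars k
  have hLR : iR.comp (φ : AQ →ₐ[k] AG) = iL.comp (φ : AQ →ₐ[k] AG) := AlgHom.ext fun q => by
    show (1 : AG) ⊗ₜ[AQ] φ q = φ q ⊗ₜ[AQ] (1 : AG)
    rw [← hφ, Algebra.algebraMap_eq_smul_one, ← TensorProduct.smul_tmul]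
  have h : (theta₀ (k := k) (AQ := AQ) (AG := AG)).comp (φ : AQ →ₐ[k] AG) =
      (1 : WithConv (AQ →ₐ[k] AG ⊗[AQ] AG)).ofConv := by
    rw [theta₀, AlgHom.convMul_comp_bialgHom_distrib]
    change (toConv ((iL.comp (HopfAlgebra.antipodeAlgHom k AG)).comp (φ : AQ →ₐ[k] AG)) *
      toConv (iR.comp (φ : AQ →ₐ[k] AG))).ofConv = _
    rw [hLR, AlgHom.comp_assoc]
    have e := AlgHom.comp_convMul_distrib iL
      (toConv ((HopfAlgebra.antipodeAlgHom k AG).comp (φ : AQ →ₐ[k] AG))) (toConv (φ : AQ →ₐ[k] AG))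
    refine e.symm.trans ?_
    have e2 : toConv ((HopfAlgebra.antipodeAlgHom k AG).comp (φ : AQ →ₐ[k] AG)) * toConv (φ : AQ →ₐ[k] AG) =
        (1 : WithConv (AQ →ₐ[k] AG)) := by
      apply WithConv.ofConv_injective
      have e3 := AlgHom.convMul_comp_bialgHom_distrib (toConv (HopfAlgebra.antipodeAlgHom k AG))
        (toConv (AlgHom.id k AG)) φ
      refine e3.symm.trans ?_
      rw [show toConv (HopfAlgebra.antipodeAlgHom k AG) * toConv (AlgHom.id k AG) = 1 from by
        simpa using antipode_comp_conv (AlgHom.id k AG)]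
      exact AlgHom.ext fun x => by simp
    rw [e2]
    exact AlgHom.ext fun x => by simp
  exact (DFunLike.congr_fun h q).trans (by simp)

include hφ hker in
theorem ker_le_theta₀ : ∀ a ∈ RingHom.ker (ψ : AG →ₐ[k] AK), theta₀ (k := k) (AQ := AQ) a = 0 := by
  suffices RingHom.ker (ψ : AG →ₐ[k] AK) ≤ RingHom.ker (theta₀ (k := k) (AQ := AQ) (AG := AG)) from
    fun a ha => this ha
  rw [hker, Ideal.map_le_iff_le_comap]
  intro q hq
  rw [Ideal.mem_comap, RingHom.mem_ker]
  refine (theta₀_phi φ hφ q).trans ?_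
  rw [RingHom.mem_ker, Bialgebra.counitAlgHom_apply] at hq
  rw [hq, map_zero]

/-- the torsor map `AK → AG ⊗_AQ AG` -/
def theta : AK →ₐ[k] AG ⊗[AQ] AG :=
  (Ideal.Quotient.liftₐ (RingHom.ker (ψ : AG →ₐ[k] AK)) (theta₀ (k := k) (AQ := AQ))
    (ker_le_theta₀ φ hφ ψ hker)).comp
    (Ideal.quotientKerAlgEquivOfSurjective (f := (ψ : AG →ₐ[k] AK)) hψ).symm.toAlgHom

theorem theta_psi : (theta φ hφ ψ hker hψ).comp (ψ : AG →ₐ[k] AK) = theta₀ (k := k) (AQ := AQ) := by
  ext a
  have h : (Ideal.quotientKerAlgEquivOfSurjective (f := (ψ : AG →ₐ[k] AK)) hψ).symm ((ψ : AG →ₐ[k] AK) a) =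
      Ideal.Quotient.mk _ a := by
    rw [AlgEquiv.symm_apply_eq]
    rfl
  simp only [theta, AlgHom.comp_apply, AlgEquiv.coe_toAlgHom, h]
  rfl

include hψ in
omit [Algebra AQ AG] [IsScalarTower k AQ AG] in
theorem algHom_ext {C : Type u} [CommRing C] [Algebra k C] {f g : AK →ₐ[k] C}
    (h : f.comp (ψ : AG →ₐ[k] AK) = g.comp (ψ : AG →ₐ[k] AK)) : f = g :=
  AlgHom.ext fun x => by
    obtain ⟨a, rfl⟩ := hψ x
    exact DFunLike.congr_fun h a

/-- `(1 ⊗ ρ) (θ x) = θ x₁ ⊗ x₂` -/
theorem map_rho_theta :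
    ((Algebra.TensorProduct.map (AlgHom.id AQ AG) (rhoQ φ hφ ψ hker)).restrictScalars k).comp
        (theta φ hφ ψ hker hψ) =
      (toConv (((Algebra.TensorProduct.map (AlgHom.id AQ AG)
          (Algebra.TensorProduct.includeLeft : AG →ₐ[AQ] AG ⊗[k] AK)).restrictScalars k).comp
            (theta φ hφ ψ hker hψ)) *
        toConv (((Algebra.TensorProduct.includeRight : AG ⊗[k] AK →ₐ[AQ] AG ⊗[AQ] (AG ⊗[k] AK)).restrictScalars k).comp
          (Algebra.TensorProduct.includeRight : AK →ₐ[k] AG ⊗[k] AK))).ofConv := by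
  apply algHom_ext ψ hψ
  rw [AlgHom.convMul_comp_bialgHom_distrib, AlgHom.comp_assoc, theta_psi]
  simp only [ofConv_toConv, AlgHom.comp_assoc, theta_psi]
  simp only [theta₀, AlgHom.comp_convMul_distrib, ofConv_toConv]
  let I : AG →ₐ[k] AG ⊗[AQ] (AG ⊗[k] AK) := Algebra.TensorProduct.includeLeft
  let J : AG ⊗[k] AK →ₐ[k] AG ⊗[AQ] (AG ⊗[k] AK) :=
    (Algebra.TensorProduct.includeRight : AG ⊗[k] AK →ₐ[AQ] AG ⊗[AQ] (AG ⊗[k] AK)).restrictScalars k
  let M := (Algebra.TensorProduct.map (AlgHom.id AQ AG) (rhoQ φ hφ ψ hker)).restrictScalars k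
  let N := (Algebra.TensorProduct.map (AlgHom.id AQ AG)
          (Algebra.TensorProduct.includeLeft : AG →ₐ[AQ] AG ⊗[k] AK)).restrictScalars k
  let iL : AG →ₐ[k] AG ⊗[AQ] AG := Algebra.TensorProduct.includeLeft
  let iR : AG →ₐ[k] AG ⊗[AQ] AG := (Algebra.TensorProduct.includeRight : AG →ₐ[AQ] AG ⊗[AQ] AG).restrictScalars k
  let S := HopfAlgebra.antipodeAlgHom k AG
  let L2 : AG →ₐ[k] AG ⊗[k] AK := Algebra.TensorProduct.includeLeft
  let R2 : AG →ₐ[k] AG ⊗[k] AK := (Algebra.TensorProduct.includeRight : AK →ₐ[k] AG ⊗[k] AK).comp (ψ : AG →ₐ[k] AK)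
  show (toConv (M.comp (iL.comp S)) * toConv (M.comp iR)).ofConv =
    (toConv ((toConv (N.comp (iL.comp S)) * toConv (N.comp iR)).ofConv) * toConv (J.comp R2)).ofConv
  have hMR : M.comp iR = J.comp (rho ψ) := AlgHom.ext fun a => by simp [M, iR, J]
  have hML : M.comp (iL.comp S) = I.comp S := AlgHom.ext fun a => by simp [M, iL, I]
  have hNR : N.comp iR = J.comp L2 := AlgHom.ext fun a => by simp [N, iR, J, L2]
  have hNL : N.comp (iL.comp S) = I.comp S := AlgHom.ext fun a => by
    simp [N, iL, I, Algebra.TensorProduct.one_def]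
  rw [hMR, hML, hNR, hNL]
  show _ = (toConv (I.comp S) * toConv (J.comp L2) * toConv (J.comp R2)).ofConv
  refine congrArg WithConv.ofConv ?_
  refine Eq.trans ?_ (mul_assoc (G := WithConv (AG →ₐ[k] AG ⊗[AQ] (AG ⊗[k] AK))) _ _ _).symm
  refine congrArg (toConv (I.comp S) * ·) ?_
  apply WithConv.ofConv_injective
  rw [ofConv_toConv, show rho ψ = (toConv L2 * toConv R2).ofConv from congrArg WithConv.ofConv (toConv_rho ψ),
    AlgHom.comp_convMul_distrib]

variable [Module.FaithfullyFlat AQ AG]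

include hφ hker hψ in
/-- `K`-invariant functions come from the quotient -/
theorem mem_range_of_rho (a : AG) (ha : rho ψ a = a ⊗ₜ[k] (1 : AK)) : ∃ q, φ q = a := by
  let iL : AG →ₐ[k] AG ⊗[AQ] AG := Algebra.TensorProduct.includeLeft
  let iR : AG →ₐ[k] AG ⊗[AQ] AG := (Algebra.TensorProduct.includeRight : AG →ₐ[AQ] AG ⊗[AQ] AG).restrictScalars k
  let Ξ : AG ⊗[k] AK →ₐ[k] AG ⊗[AQ] AG :=
    Algebra.TensorProduct.lift iL (theta φ hφ ψ hker hψ) fun _ _ => Commute.all _ _
  have h : Ξ.comp (rho ψ) = iR := by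
    rw [show rho ψ = (toConv (Algebra.TensorProduct.includeLeft : AG →ₐ[k] AG ⊗[k] AK) *
      toConv ((Algebra.TensorProduct.includeRight : AK →ₐ[k] AG ⊗[k] AK).comp (ψ : AG →ₐ[k] AK))).ofConv from
        congrArg WithConv.ofConv (toConv_rho ψ), AlgHom.comp_convMul_distrib, ofConv_toConv, ofConv_toConv,
      ← AlgHom.comp_assoc, show Ξ.comp Algebra.TensorProduct.includeLeft = iL from AlgHom.ext fun a => by simp [Ξ],
      show Ξ.comp Algebra.TensorProduct.includeRight = theta φ hφ ψ hker hψ from AlgHom.ext fun a => by simp [Ξ],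
      theta_psi, theta₀, toConv_ofConv, ← mul_assoc, conv_comp_antipode, one_mul]
  have h1 : (1 : AG) ⊗ₜ[AQ] a = a ⊗ₜ[AQ] (1 : AG) := by
    have := DFunLike.congr_fun h a
    rw [AlgHom.comp_apply, ha] at this
    refine this.symm.trans ?_
    simp [Ξ, iL]
  let π := (LinearMap.range (Algebra.linearMap AQ AG)).mkQ
  have h2 := congrArg (π.lTensor AG) h1
  rw [LinearMap.lTensor_tmul, LinearMap.lTensor_tmul,
    show π (1 : AG) = 0 from (Submodule.Quotient.mk_eq_zero _).2 ⟨1, by simp⟩, TensorProduct.tmul_zero,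
    Module.FaithfullyFlat.one_tmul_eq_zero_iff, Submodule.mkQ_apply, Submodule.Quotient.mk_eq_zero] at h2
  obtain ⟨q, hq⟩ := h2
  exact ⟨q, (hφ q).symm.trans hq⟩

include hφ hker hψ in
/-- a `K`-equivariant map from `G` to a representation of `K`, normalised by an invariant form -/
theorem exists_equivariant {n : ℕ} {m : Fin n → Fin n → AK} (hm : IsMat k m) (π c : Fin n → k)
    (hπ : ∀ j, ∑ i, π i • m i j = π j • (1 : AK)) (hc : ∑ i, π i * c i = 1) :
    ∃ f : Fin n → AG, ∑ j, π j • f j = 1 ∧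
      ∀ i, ∑ j, ((1 : AG) ⊗ₜ[k] m i j) * rho ψ (f j) = f i ⊗ₜ[k] (1 : AK) := by
  classical
  let rQ := rhoQ φ hφ ψ hker
  let L : Fin n → Fin n → AG →ₗ[AQ] AG ⊗[k] AK := fun i j =>
    LinearMap.mulLeft AQ ((1 : AG) ⊗ₜ[k] m i j) ∘ₗ rQ.toLinearMap -
      if i = j then (Algebra.TensorProduct.includeLeft : AG →ₐ[AQ] AG ⊗[k] AK).toLinearMap else 0
  let p : Fin n → AG →ₗ[AQ] AG := fun j => LinearMap.mulLeft AQ (algebraMap k AG (π j))
  let Φ : (Fin n → AG) →ₗ[AQ] (Fin n → AG ⊗[k] AK) × AG :=
    (LinearMap.pi fun i => ∑ j, L i j ∘ₗ LinearMap.proj j).prod (∑ j, p j ∘ₗ LinearMap.proj j)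
  suffices h : ((0, 1) : (Fin n → AG ⊗[k] AK) × AG) ∈ LinearMap.range Φ by
    obtain ⟨f, hf⟩ := h
    refine ⟨f, ?_, fun i => ?_⟩
    · simpa [Φ, p, Algebra.smul_def] using congrArg Prod.snd hf
    · have := congrFun (congrArg Prod.fst hf) i
      simp only [Φ, L, LinearMap.prod_apply, Function.prod, LinearMap.pi_apply, LinearMap.coe_sum,
        Finset.sum_apply, LinearMap.comp_apply, LinearMap.proj_apply, LinearMap.sub_apply, Pi.zero_apply,
        Finset.sum_sub_distrib, sub_eq_zero] at this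
      refine this.trans ?_
      rw [Finset.sum_eq_single i]
      · simp
      · intro j _ hj; simp [Ne.symm hj]
      · simp
  rw [← Submodule.Quotient.mk_eq_zero]
  refine (Module.FaithfullyFlat.one_tmul_eq_zero_iff AQ _ (A := AG) _).1 ?_
  let th := theta φ hφ ψ hker hψ
  let e : Fin n → AK := fun j => ∑ l, c l • HopfAlgebra.antipode k (m j l)
  have he : ∀ j, Coalgebra.comul (R := k) (e j) =
      ∑ l, ∑ q, c l • (HopfAlgebra.antipode k (m q l) ⊗ₜ[k] HopfAlgebra.antipode k (m j q)) := by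
    intro j
    simp [e, comul_antipode, hm.comul, Finset.smul_sum]
  have hsum : ∑ j, π j • e j = 1 := by
    have h1 : ∀ l, ∑ j, π j • HopfAlgebra.antipode k (m j l) = π l • (1 : AK) := by
      intro l
      have h2 := congrArg (HopfAlgebra.antipode k) (hπ l)
      simpa using h2
    simp only [e, Finset.smul_sum]
    rw [Finset.sum_comm]
    calc ∑ l, ∑ j, π j • c l • HopfAlgebra.antipode k (m j l)
        = ∑ l, c l • ∑ j, π j • HopfAlgebra.antipode k (m j l) := by
          simp only [Finset.smul_sum, smul_comm (π _) (c _)]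
      _ = 1 := by simp only [h1, smul_smul, ← Finset.sum_smul, mul_comm (c _), hc, one_smul]
  let N := (Algebra.TensorProduct.map (AlgHom.id AQ AG)
          (Algebra.TensorProduct.includeLeft : AG →ₐ[AQ] AG ⊗[k] AK)).restrictScalars k
  let κ : AK →ₐ[k] AG ⊗[AQ] (AG ⊗[k] AK) :=
    ((Algebra.TensorProduct.includeRight : AG ⊗[k] AK →ₐ[AQ] AG ⊗[AQ] (AG ⊗[k] AK)).restrictScalars k).comp
      (Algebra.TensorProduct.includeRight : AK →ₐ[k] AG ⊗[k] AK)
  have hM : ∀ j, (rQ.toLinearMap).lTensor AG (th (e j)) =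
      ∑ l, ∑ q, c l • (N (th (HopfAlgebra.antipode k (m q l))) * κ (HopfAlgebra.antipode k (m j q))) := by
    intro j
    have := DFunLike.congr_fun (map_rho_theta φ hφ ψ hker hψ) (e j)
    refine Eq.trans ?_ (this.trans ?_)
    · rw [AlgHom.comp_apply, AlgHom.restrictScalars_apply]
      induction th (e j) using TensorProduct.induction_on with
      | zero => simp
      | tmul x y => simp [rQ]
      | add x y hx hy => simp only [map_add, hx, hy]
    · change (toConv (N.comp th) * toConv κ) (e j) = _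
      rw [AlgHom.convMul_apply, he j]
      simp [map_sum, map_smul]
  have hmul : ∀ (i j : Fin n) (x : AG ⊗[AQ] AG), (L i j).lTensor AG x =
      κ (m i j) * (rQ.toLinearMap).lTensor AG x - if i = j then N x else 0 := by
    intro i j x
    have h1 : ∀ y : AG ⊗[AQ] AG,
        (LinearMap.mulLeft AQ ((1 : AG) ⊗ₜ[k] m i j) ∘ₗ rQ.toLinearMap).lTensor AG y =
          κ (m i j) * (rQ.toLinearMap).lTensor AG y := by
      intro y
      induction y using TensorProduct.induction_on with
      | zero => simp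
      | tmul a b => simp [κ]
      | add a b ha hb => simp only [map_add, ha, hb, mul_add]
    rw [show L i j = _ from rfl, LinearMap.lTensor_sub, LinearMap.sub_apply, h1]
    congr 1
    split_ifs
    · induction x using TensorProduct.induction_on with
      | zero => simp
      | tmul a b => simp [N]
      | add a b ha hb => simp only [map_add, ha, hb]
    · simp
  have hzero : ∀ i, ∑ j, (L i j).lTensor AG (th (e j)) = 0 := by
    intro i
    simp only [hmul, Finset.sum_sub_distrib, Finset.sum_ite_eq, Finset.mem_univ, if_true, sub_eq_zero, hM,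
      Finset.mul_sum, mul_smul_comm]
    calc ∑ j, ∑ l, ∑ q, c l • (κ (m i j) * (N (th (HopfAlgebra.antipode k (m q l))) * κ (HopfAlgebra.antipode k (m j q))))
        = ∑ l, ∑ q, c l • (N (th (HopfAlgebra.antipode k (m q l))) *
            κ (∑ j, m i j * HopfAlgebra.antipode k (m j q))) := by
          rw [Finset.sum_comm]
          refine Finset.sum_congr rfl fun l _ => ?_
          rw [Finset.sum_comm]
          refine Finset.sum_congr rfl fun q _ => ?_
          simp only [map_sum, map_mul, Finset.mul_sum, Finset.smul_sum]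
          exact Finset.sum_congr rfl fun j _ => by rw [mul_left_comm]
      _ = ∑ l, c l • N (th (HopfAlgebra.antipode k (m i l))) := by
          simp only [mul_antipode_mat hm, apply_ite κ, map_one, map_zero, mul_ite, mul_one, mul_zero, smul_ite,
            smul_zero, Finset.sum_ite_eq, Finset.mem_univ, if_true]
      _ = N (th (e i)) := by simp only [e, map_sum, map_smul]
  have hp : ∀ (j : Fin n) (x : AG ⊗[AQ] AG), (p j).lTensor AG x = π j • x := by
    intro j x
    induction x using TensorProduct.induction_on with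
    | zero => simp
    | tmul a b =>
      rw [LinearMap.lTensor_tmul, show p j b = π j • b from (Algebra.smul_def _ _).symm,
        TensorProduct.tmul_smul]
    | add a b ha hb => simp only [map_add, ha, hb, smul_add]
  let u : AG ⊗[AQ] (Fin n → AG) :=
    ∑ j, (LinearMap.single AQ (fun _ : Fin n => AG) j).lTensor AG (th (e j))
  have hu : Φ.lTensor AG u = (1 : AG) ⊗ₜ[AQ] ((0, 1) : (Fin n → AG ⊗[k] AK) × AG) := by
    have hsingle : ∀ j, Φ ∘ₗ LinearMap.single AQ (fun _ : Fin n => AG) j =
        LinearMap.inl AQ (Fin n → AG ⊗[k] AK) AG ∘ₗ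
          (∑ i, LinearMap.single AQ (fun _ : Fin n => AG ⊗[k] AK) i ∘ₗ L i j) +
        LinearMap.inr AQ (Fin n → AG ⊗[k] AK) AG ∘ₗ p j := by
      intro j
      refine LinearMap.ext fun a => ?_
      refine Prod.ext (funext fun i => ?_) ?_
      · simp [Φ, LinearMap.coe_sum, Finset.sum_apply, Pi.single_apply, apply_ite, Finset.sum_ite_eq']
      · simp [Φ, LinearMap.coe_sum, Finset.sum_apply, Pi.single_apply, apply_ite, Finset.sum_ite_eq']
    simp only [u, map_sum, ← LinearMap.comp_apply, ← LinearMap.lTensor_comp, hsingle]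
    simp only [LinearMap.lTensor_add, LinearMap.lTensor_comp, LinearMap.add_apply, LinearMap.comp_apply,
      Finset.sum_add_distrib]
    rw [← map_sum, ← map_sum]
    simp only [hp]
    have h0 : ∑ j, (∑ i, LinearMap.single AQ (fun _ : Fin n => AG ⊗[k] AK) i ∘ₗ L i j).lTensor AG (th (e j)) = 0 := by
      simp only [show ∀ f : Fin n → AG →ₗ[AQ] (Fin n → AG ⊗[k] AK), (∑ i, f i).lTensor AG = ∑ i, (f i).lTensor AG
        from fun f => map_sum (LinearMap.lTensorHom AG) f Finset.univ, LinearMap.coe_sum, Finset.sum_apply,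
        LinearMap.lTensor_comp, LinearMap.comp_apply]
      rw [Finset.sum_comm]
      simp only [← map_sum, hzero, map_zero, Finset.sum_const_zero]
    rw [h0, map_zero, zero_add, show ∑ j, π j • th (e j) = (1 : AG ⊗[AQ] AG) by
      simp only [← map_smul, ← map_sum, hsum, map_one],
      Algebra.TensorProduct.one_def, LinearMap.lTensor_tmul]
    rfl
  have h := congrArg ((LinearMap.range Φ).mkQ.lTensor AG) hu
  rw [← LinearMap.comp_apply, ← LinearMap.lTensor_comp, LinearMap.range_mkQ_comp, LinearMap.lTensor_zero,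
    LinearMap.zero_apply, LinearMap.lTensor_tmul] at h
  exact h.symm

include hφ hker hψ in
/-- the kernel of a linearly reductive group is linearly reductive -/
theorem linRed_kernel (hG : HopfRep.IsLinearlyReductive k AG) : HopfRep.IsLinearlyReductive k AK := by
  classical
  obtain ⟨α, hα⟩ := exists_integral_of_linRed hG
  refine linRed_of_liftCrit fun V _ _ _ _ π hπ hinv => ?_
  let b := Module.finBasis k V
  let m := mat AK b
  have hm : IsMat k m := isMat_mat b
  have hπm : ∀ j, ∑ i, π (b i) • m i j = π (b j) • (1 : AK) := by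
    intro j
    have h := congrArg (TensorProduct.lid k AK) (LinearMap.congr_fun hinv (b j))
    simpa [coact_basis, map_sum] using h
  obtain ⟨v₀, hv₀⟩ := hπ 1
  have hc : ∑ i, π (b i) * b.repr v₀ i = 1 := by
    rw [← hv₀]
    conv_rhs => rw [← b.sum_repr v₀, map_sum]
    exact Finset.sum_congr rfl fun i _ => by rw [map_smul, smul_eq_mul, mul_comm]
  obtain ⟨f, hf1, hf⟩ := exists_equivariant φ hφ ψ hker hψ hm (fun i => π (b i)) (fun i => b.repr v₀ i) hπm hc
  refine ⟨∑ j, α (f j) • b j, ?_, ?_⟩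
  · show HopfRep.Comod.coact (k := k) (A := AK) _ = _
    rw [coact_sum, TensorProduct.sum_tmul]
    refine Finset.sum_congr rfl fun i _ => ?_
    rw [TensorProduct.smul_tmul]
    congr 1
    have h := congrArg (sliceL (V := AG) (A := AK) α) (hf i)
    rw [map_sum, sliceL_tmul] at h
    refine Eq.trans (Finset.sum_congr rfl fun j _ => ?_) h
    have hmul : ∀ z : AG ⊗[k] AK, sliceL α (((1 : AG) ⊗ₜ[k] m i j) * z) = m i j * sliceL α z := by
      intro z
      induction z using TensorProduct.induction_on with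
      | zero => simp
      | tmul x y => simp [mul_smul_comm]
      | add x y hx hy => simp only [mul_add, map_add, hx, hy]
    have hrho : ∀ z : AG ⊗[k] AG, sliceL α (Algebra.TensorProduct.map (AlgHom.id k AG) (ψ : AG →ₐ[k] AK) z) =
        ψ (sliceL α z) := by
      intro z
      induction z using TensorProduct.induction_on with
      | zero => simp
      | tmul x y => simp
      | add x y hx hy => simp only [map_add, hx, hy]
    rw [hmul, rho, AlgHom.comp_apply, Bialgebra.comulAlgHom_apply, hrho, hα.sliceL_comul, map_smul, map_one,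
      mul_smul_comm, mul_one]
  · rw [map_sum]
    simp only [map_smul, smul_eq_mul]
    have := congrArg α hf1
    simp only [map_sum, map_smul, smul_eq_mul, hα.map_one] at this
    rw [show ∑ j, α (f j) * π (b j) = 1 from Eq.trans (Finset.sum_congr rfl fun j _ => mul_comm _ _) this]
    exact one_ne_zero

include hφ hker hψ in
/-- an extension of linearly reductive groups is linearly reductive -/
theorem linRed_extension (hK : HopfRep.IsLinearlyReductive k AK) (hQ : HopfRep.IsLinearlyReductive k AQ) :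
    HopfRep.IsLinearlyReductive k AG := by
  obtain ⟨β, hβ⟩ := exists_integral_of_linRed hK
  obtain ⟨αQ, hαQ⟩ := exists_integral_of_linRed hQ
  let γ : AG →ₗ[k] k := β ∘ₗ (ψ : AG →ₐ[k] AK).toLinearMap
  let E : AG →ₗ[k] AG := contract γ
  have hψsl : ∀ (χ : AK →ₗ[k] k) (z : AG ⊗[k] AG),
      slice χ (Algebra.TensorProduct.map (AlgHom.id k AG) (ψ : AG →ₐ[k] AK) z) =
        slice (χ ∘ₗ (ψ : AG →ₐ[k] AK).toLinearMap) z := by
    intro χ z
    induction z using TensorProduct.induction_on with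
    | zero => simp
    | tmul x y => simp
    | add x y hx hy => simp only [map_add, hx, hy]
  have hinv : ∀ a, rho ψ (E a) = E a ⊗ₜ[k] (1 : AK) := by
    intro a
    rw [← sub_eq_zero]
    refine eq_zero_of_slice _ fun χ => ?_
    rw [map_sub, slice_tmul, sub_eq_zero, rho, AlgHom.comp_apply, Bialgebra.comulAlgHom_apply, hψsl]
    change contract (χ ∘ₗ (ψ : AG →ₐ[k] AK).toLinearMap) (contract γ a) = χ 1 • contract γ a
    rw [contract_contract, show (toConv (χ ∘ₗ (ψ : AG →ₐ[k] AK).toLinearMap) * toConv γ).ofConv = χ 1 • γ from ?_]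
    · simp [contract, slice, LinearMap.lTensor_smul]
    refine LinearMap.ext fun x => ?_
    rw [LinearMap.convMul_apply]
    have key : ∀ z : AG ⊗[k] AG,
        LinearMap.mul' k k (TensorProduct.map (χ ∘ₗ (ψ : AG →ₐ[k] AK).toLinearMap) γ z) =
          χ (slice β (TensorProduct.map (ψ : AG →ₗ[k] AK) (ψ : AG →ₗ[k] AK) z)) := by
      intro z
      induction z using TensorProduct.induction_on with
      | zero => simp
      | tmul x y => simp [γ, mul_comm]
      | add x y hx hy => simp only [map_add, hx, hy]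
    rw [key, CoalgHomClass.map_comp_comul_apply, hβ.slice_comul]
    simp [γ, mul_comm]
  choose g hg using fun a => mem_range_of_rho φ hφ ψ hker hψ (E a) (hinv a)
  have hφinj : Function.Injective (φ : AQ →ₐ[k] AG).toLinearMap := fun x y h =>
    FaithfulSMul.algebraMap_injective AQ AG (by rw [hφ, hφ]; exact h)
  obtain ⟨p, hp⟩ := LinearMap.exists_leftInverse_of_injective (φ : AQ →ₐ[k] AG).toLinearMap
    (LinearMap.ker_eq_bot.2 hφinj)
  let α : AG →ₗ[k] k := αQ ∘ₗ p ∘ₗ E
  have hα : ∀ a, α a = αQ (g a) := fun a => by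
    show αQ (p (E a)) = _
    rw [← hg a]
    exact congrArg αQ (LinearMap.congr_fun hp (g a))
  refine linRed_iff_exists_integral.2 ⟨_, isIntegral_antipode_of_right (α := α) (fun a => ?_) ?_⟩
  · have h1 : ∀ y : (AG ⊗[k] AG) ⊗[k] AG, slice γ y = (slice γ).lTensor AG (TensorProduct.assoc k AG AG AG y) := by
      intro y
      induction y using TensorProduct.induction_on with
      | zero => simp
      | tmul z c =>
        induction z using TensorProduct.induction_on with
        | zero => simp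
        | tmul x b => simp [TensorProduct.tmul_smul]
        | add x b hx hb => simp only [TensorProduct.add_tmul, map_add, smul_add, hx, hb]
      | add x b hx hb => simp only [map_add, hx, hb]
    have hE : Coalgebra.comul (R := k) (E a) = E.lTensor AG (Coalgebra.comul (R := k) a) := by
      show Coalgebra.comul (R := k) (slice γ (Coalgebra.comul (R := k) a)) = _
      rw [← slice_rTensor, h1, Coalgebra.coassoc_apply, ← LinearMap.lTensor_comp_apply]
      rfl
    have h2 : slice α (Coalgebra.comul (R := k) a) = slice (αQ ∘ₗ p) (Coalgebra.comul (R := k) (E a)) := by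
      rw [hE]
      simp only [slice, LinearMap.comp_apply, ← LinearMap.lTensor_comp_apply]
      rfl
    rw [h2, ← hg a, show Coalgebra.comul (R := k) (φ (g a)) = TensorProduct.map (φ : AQ →ₗ[k] AG)
      (φ : AQ →ₗ[k] AG) (Coalgebra.comul (g a)) from (CoalgHomClass.map_comp_comul_apply φ (g a)).symm]
    have h3 : ∀ z : AQ ⊗[k] AQ, slice (αQ ∘ₗ p) (TensorProduct.map (φ : AQ →ₗ[k] AG) (φ : AQ →ₗ[k] AG) z) =
        φ (slice αQ z) := by
      intro z
      induction z using TensorProduct.induction_on with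
      | zero => simp
      | tmul x y =>
        have hy : p (φ y) = y := LinearMap.congr_fun hp y
        simp [hy]
      | add x y hx hy => simp only [map_add, hx, hy]
    rw [h3, hαQ.slice_comul, map_smul, map_one, hα]
  · have hE1 : E 1 = 1 := by
      show slice γ (Coalgebra.comul (R := k) (1 : AG)) = 1
      rw [Bialgebra.comul_one, Algebra.TensorProduct.one_def, slice_tmul]
      simp [γ, hβ.map_one]
    show αQ (p (E 1)) = 1
    rw [hE1, show (1 : AG) = (φ : AQ →ₐ[k] AG).toLinearMap 1 from (map_one φ).symm,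
      show p ((φ : AQ →ₐ[k] AG).toLinearMap 1) = 1 from LinearMap.congr_fun hp 1, hαQ.map_one]

include hφ in
omit [Module.FaithfullyFlat AQ AG] in
/-- a quotient of a linearly reductive group is linearly reductive -/
theorem linRed_quotient (hinj : Function.Injective φ) (hG : HopfRep.IsLinearlyReductive k AG) :
    HopfRep.IsLinearlyReductive k AQ := by
  obtain ⟨α, hα⟩ := exists_integral_of_linRed hG
  refine linRed_iff_exists_integral.2 ⟨α ∘ₗ (φ : AQ →ₐ[k] AG).toLinearMap, fun q => ?_, by simp [hα.map_one]⟩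
  apply (TensorProduct.lid k AQ).injective
  apply hinj
  have h : ∀ z : AQ ⊗[k] AQ,
      φ (TensorProduct.lid k AQ ((α ∘ₗ (φ : AQ →ₐ[k] AG).toLinearMap).rTensor AQ z)) =
        sliceL α (TensorProduct.map (φ : AQ →ₗ[k] AG) (φ : AQ →ₗ[k] AG) z) := by
    intro z
    induction z using TensorProduct.induction_on with
    | zero => simp
    | tmul x y => simp
    | add x y hx hy => simp only [map_add, hx, hy]
  rw [h, CoalgHomClass.map_comp_comul_apply, hα.sliceL_comul, TensorProduct.lid_tmul, map_smul, map_one]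
  rfl

end

end Groth.Agent.Comod.ExactSeq
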