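import Groth.Agent.Comod.KerHopf
import Groth.Agent.Comod.ExactSeq
import Groth.Agent.Comod.Cocomm
import Groth.Agent.HopfSub.Main
import Groth.Prelude.Def_GLin2
import Mathlib.RingTheory.Bialgebra.MonoidAlgebra
import Mathlib.RingTheory.HopfAlgebra.GroupLike
import Mathlib.RingTheory.HopfAlgebra.MonoidAlgebra

/-!
# Trigonalizable groups: unipotent kernel of the map to the diagonalizable quotient
-/

set_option autoImplicit false
set_option linter.style.haveILetI false

universe u v

noncomputable section

open TensorProduct WithConv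

namespace Groth.Agent.Comod.TrigUnip

open HopfRep

variable {k : Type u} [Field k] {A : Type v} [CommRing A] [HopfAlgebra k A]

theorem isGroupLike_of_eigen {V : Type v} [AddCommGroup V] [Module k V] [HopfRep.Comod k A V] {w : V} (hw : w ≠ 0)
    {a : A} (h : HopfRep.Comod.coact (k := k) (A := A) w = w ⊗ₜ[k] a) : IsGroupLikeElem k a := by
  obtain ⟨g, hg⟩ := LinearMap.exists_leftInverse_of_injective (LinearMap.toSpanSingleton k V w)
    (LinearMap.ker_toSpanSingleton k hw)
  have hgw : g w = 1 := by simpa using LinearMap.congr_fun hg 1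
  have hmc : mc A g w = a := by simp [mc, h, hgw]
  refine ⟨?_, ?_⟩
  · rw [← hmc, counit_mc, hgw]
  · conv_lhs => rw [← hmc]
    rw [comul_mc, h, LinearMap.rTensor_tmul, hmc]

/-- in a trigonalizable group every proper subcomodule extends by an eigenvector modulo it -/
theorem exists_eigen_mod (hT : HopfRep.IsTrigonalizable k A) {V : Type v} [AddCommGroup V] [Module k V]
    [c : HopfRep.Comod k A V] [FiniteDimensional k V] (W : Submodule k V) (hW : W ≠ ⊤)
    (hWs : HopfRep.IsSubcomod (k := k) (A := A) W) :
    ∃ v, v ∉ W ∧ HopfRep.IsSubcomod (k := k) (A := A) (W ⊔ Submodule.span k {v}) ∧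
      ∃ a : A, IsGroupLikeElem k a ∧ ∀ φ : A →ₗ[k] k, contract φ v - φ a • v ∈ W := by
  letI cQ : HopfRep.Comod k A (V ⧸ W) := ComodSub.Comod.quot c W hWs
  have hmk : Hoch.IsComodHom A W.mkQ := ComodSub.isComodHom_mkQ _ _ _
  haveI : Nontrivial (V ⧸ W) := Submodule.Quotient.nontrivial_iff.2 hW
  obtain ⟨m, hm, -⟩ := exists_atom_le_of_finite (k := k) (isSubcomod_top (k := k) (A := A) (V := V ⧸ W)) top_ne_bot
  let m' := m.restrictScalars k
  have hm' : HopfRep.IsSubcomod (k := k) (A := A) m' := isSubcomod_restrictScalars m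
  have hatom := (isSimpleModule_iff_atom hm').1 (show IsSimpleModule (Dual k A) (toSub m' hm') from hm)
  let cm := ComodSub.Comod.restr cQ m' hm'
  have hι : Hoch.IsComodHom A m'.subtype := (ComodSub.rTensor_subtype_comp_restrCoact cQ m' hm').symm
  have hsimple : HopfRep.IsSimpleComod k A m' := by
    refine ⟨Submodule.nontrivial_iff_ne_bot.2 hatom.1, fun U hU => ?_⟩
    rcases hatom.2 (U.map m'.subtype) (isSubcomod_map hι hU) (Submodule.map_subtype_le m' U) with h | h
    · exact Or.inl (Submodule.map_injective_of_injective m'.injective_subtype (h.trans (Submodule.map_bot _).symm))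
    · exact Or.inr (Submodule.map_injective_of_injective m'.injective_subtype (h.trans (Submodule.map_subtype_top _).symm))
  obtain ⟨w, hw0, hw⟩ := finrank_eq_one_iff'.1 (hT m' inferInstance hsimple)
  obtain ⟨v, hv⟩ := W.mkQ_surjective (w : V ⧸ W)
  have hspan : Submodule.span k {(w : V ⧸ W)} = m' := by
    refine le_antisymm ((Submodule.span_singleton_le_iff_mem _ _).2 w.2) fun x hx => ?_
    obtain ⟨r, hr⟩ := hw ⟨x, hx⟩
    exact Submodule.mem_span_singleton.2 ⟨r, congrArg Subtype.val hr⟩
  obtain ⟨a, ha⟩ := exists_eigen_of_line (w : V ⧸ W) (by rw [hspan]; exact hm')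
  refine ⟨v, fun h => hw0 (Subtype.ext ?_), ?_, a,
    isGroupLike_of_eigen (fun h => hw0 (Subtype.ext h)) ha, fun φ => ?_⟩
  · rw [ZeroMemClass.coe_zero, ← hv, Submodule.mkQ_apply, Submodule.Quotient.mk_eq_zero]; exact h
  · have e : W ⊔ Submodule.span k {v} = m'.comap W.mkQ := by
      rw [← hspan, ← hv, ← Set.image_singleton, ← Submodule.map_span, Submodule.comap_map_eq, Submodule.ker_mkQ,
        sup_comm]
    rw [e]
    exact isSubcomod_comap hmk hm'
  · refine (Submodule.Quotient.eq W).1 ?_
    show W.mkQ (contract φ v) = W.mkQ (φ a • v)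
    rw [map_smul, map_contract hmk, hv]
    exact (eq_tmul_iff_contract (k := k) (A := A) _ a).1 ha φ

/-- comultiplication and contraction commute with bialgebra maps -/
theorem contract_comul_map {C : Type v} [CommRing C] [Bialgebra k C] (π : A →ₐc[k] C) (χ : C →ₗ[k] k) (x : A) :
    contract χ (π x) = π (contract (χ ∘ₗ (π : A →ₗ[k] C)) x) := by
  rw [contract_apply, contract_apply]
  change slice χ (Coalgebra.comul (R := k) (π x)) = π (slice _ (Coalgebra.comul (R := k) x))
  rw [← CoalgHomClass.map_comp_comul_apply π x]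
  induction Coalgebra.comul (R := k) x using TensorProduct.induction_on with
  | zero => simp
  | tmul a b => simp
  | add a b ha hb => simp only [map_add, ha, hb]

/-- the kernel of the characters of a trigonalizable group is unipotent -/
theorem isUnipotent_quot (hT : HopfRep.IsTrigonalizable k A) (J : Ideal A) [J.IsHopfIdeal k]
    (hJ : ∀ a : A, IsGroupLikeElem k a → Ideal.Quotient.mk J a = 1) :
    HopfRep.IsUnipotent k (A ⧸ J) := by
  classical
  intro V _ _ _ hfin hnt
  let π : A →ₐc[k] A ⧸ J := Bialgebra.Quotient.mkBialgHom J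
  obtain ⟨m, hm, -⟩ := exists_atom_le_of_finite (k := k)
    (isSubcomod_top (k := k) (A := A ⧸ J) (V := V)) top_ne_bot
  let W := m.restrictScalars k
  have hWs : IsSubcomod (k := k) (A := A ⧸ J) W := isSubcomod_restrictScalars m
  have hatom := (isSimpleModule_iff_atom hWs).1 (show IsSimpleModule (Dual k (A ⧸ J)) (toSub W hWs) from hm)
  obtain ⟨w0, hw0, hw0n⟩ := (Submodule.ne_bot_iff W).1 hatom.1
  obtain ⟨f, hf⟩ := LinearMap.exists_leftInverse_of_injective (LinearMap.toSpanSingleton k V w0)
    (LinearMap.ker_toSpanSingleton k hw0n)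
  have hfw : f w0 = 1 := by simpa using LinearMap.congr_fun hf 1
  let g := mc (A ⧸ J) f
  have hg : Hoch.IsComodHom (A ⧸ J) g := isComodHom_mc f
  have hinj : ∀ w ∈ W, g w = 0 → w = 0 := by
    intro w hw h0
    have hK := isSubcomod_inf hWs (isSubcomod_ker hg)
    rcases hatom.2 _ hK inf_le_left with h | h
    · exact (Submodule.eq_bot_iff _).1 h w ⟨hw, h0⟩
    · exfalso
      have : g w0 = 0 := LinearMap.mem_ker.1 (h.ge hw0).2
      have h1 := congrArg (Coalgebra.counit (R := k)) this
      rw [counit_mc, hfw, map_zero] at h1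
      exact one_ne_zero h1
  -- a finite piece of `A` covering the image of `W`
  let b := Module.finBasis k W
  choose pre hpre using fun i => Ideal.Quotient.mk_surjective (I := J) (g (b i : V))
  obtain ⟨M0, hM0fin, hM0S, hM0⟩ := exists_finite_subcomod (k := k) (A := A) (V := A) (Finset.univ.image pre)
  let πl : A →ₗ[k] A ⧸ J := (π : A →ₗ[k] A ⧸ J)
  have hcover : ∀ w ∈ W, g w ∈ M0.map πl := by
    intro w hw
    have h := b.sum_repr ⟨w, hw⟩
    have h' : w = ∑ i, b.repr ⟨w, hw⟩ i • (b i : V) := by
      have := congrArg Subtype.val h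
      rw [Submodule.coe_sum] at this
      simpa using this.symm
    rw [h', map_sum]
    refine Submodule.sum_mem _ fun i _ => ?_
    rw [map_smul]
    exact Submodule.smul_mem _ _ ⟨pre i, hM0S (by simp), hpre i⟩
  -- a maximal piece missing `W`
  let P : ℕ → Prop := fun n => ∃ M : Submodule k A, M ≤ M0 ∧ IsSubcomod (k := k) (A := A) M ∧
    (∀ w ∈ W, g w ∈ M.map πl → w = 0) ∧ Module.finrank k M0 - Module.finrank k M = n
  have hP : ∃ n, P n := ⟨_, ⊥, bot_le, isSubcomod_bot, fun w hw h => hinj w hw (by
    rw [Submodule.map_bot, Submodule.mem_bot] at h; exact h), rfl⟩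
  obtain ⟨M, hMle, hMs, hMW, hMn⟩ := Nat.find_spec hP
  have hne : M.comap M0.subtype ≠ ⊤ := by
    intro h
    refine hw0n (hMW w0 hw0 ?_)
    obtain ⟨x, hx, hxe⟩ := hcover w0 hw0
    exact ⟨x, (h ▸ Submodule.mem_top : (⟨x, hx⟩ : M0) ∈ M.comap M0.subtype), hxe⟩
  letI cM0 : HopfRep.Comod k A M0 := ComodSub.Comod.restr (HopfRep.Comod.regular k A) M0 hM0
  have hι : Hoch.IsComodHom A M0.subtype :=
    (ComodSub.rTensor_subtype_comp_restrCoact (HopfRep.Comod.regular k A) M0 hM0).symm
  obtain ⟨v, hvM, hv', a, ha, hva⟩ := exists_eigen_mod hT (M.comap M0.subtype) hne (isSubcomod_comap hι hMs)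
  have hM' : IsSubcomod (k := k) (A := A) (M ⊔ Submodule.span k {(v : A)}) := by
    have := isSubcomod_map hι hv'
    rwa [Submodule.map_sup, Submodule.map_comap_subtype, inf_eq_right.2 hMle, Submodule.map_span,
      Set.image_singleton, Submodule.coe_subtype] at this
  set M' := M ⊔ Submodule.span k {(v : A)}
  have hM'le : M' ≤ M0 := sup_le hMle ((Submodule.span_singleton_le_iff_mem _ _).2 v.2)
  have hva' : ∀ φ : A →ₗ[k] k, contract φ (v : A) - φ a • (v : A) ∈ M := by
    intro φ
    have := hva φ
    rw [Submodule.mem_comap, map_sub, map_smul, map_contract hι] at this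
    exact this
  have hlt : Module.finrank k M < Module.finrank k M' := by
    haveI : Module.Finite k M' := Submodule.finiteDimensional_of_le hM'le
    refine Submodule.finrank_lt_finrank_of_lt (lt_of_le_of_ne le_sup_left fun e => hvM ?_)
    exact (e ▸ Submodule.mem_sup_right (Submodule.mem_span_singleton_self _) : (v : A) ∈ M)
  have hmeet : ¬ ∀ w ∈ W, g w ∈ M'.map πl → w = 0 := by
    intro h
    have hle := Nat.find_min' hP ⟨M', hM'le, hM', h, rfl⟩
    rw [← hMn] at hle
    have := Submodule.finrank_mono hM'le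
    omega
  have hsubimg : IsSubcomod (k := k) (A := A ⧸ J) (M'.map πl) := isSubcomod_iff.2 fun χ y hy => by
    obtain ⟨x, hx, rfl⟩ := hy
    exact ⟨_, contract_mem hM' _ hx, (contract_comul_map π χ x).symm⟩
  have hWM : W ≤ (M'.map πl).comap g := by
    rcases hatom.2 _ (isSubcomod_inf hWs (isSubcomod_comap hg hsubimg)) inf_le_left with h | h
    · exact absurd (fun w hw h' => (Submodule.eq_bot_iff _).1 h w ⟨hw, h'⟩) hmeet
    · exact fun w hw => (h.ge hw).2
  refine (Submodule.ne_bot_iff _).2 ⟨w0, ?_, hw0n⟩
  refine (eq_tmul_iff_contract (k := k) (A := A ⧸ J) w0 1).2 fun χ => ?_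
  rw [← sub_eq_zero]
  have hz : contract χ w0 - χ 1 • w0 ∈ W := sub_mem (contract_mem hWs χ hw0) (Submodule.smul_mem _ _ hw0)
  refine hMW _ hz ?_
  obtain ⟨x, hx, hxe⟩ := hWM hw0
  obtain ⟨p, hp, q, hq, rfl⟩ := Submodule.mem_sup.1 hx
  obtain ⟨r, rfl⟩ := Submodule.mem_span_singleton.1 hq
  refine ⟨contract (χ ∘ₗ πl) p - χ 1 • p + r • (contract (χ ∘ₗ πl) (v : A) - χ 1 • (v : A)), ?_, ?_⟩
  · refine add_mem (sub_mem (contract_mem hMs _ hp) (Submodule.smul_mem _ _ hp)) (Submodule.smul_mem _ _ ?_)
    have := hva' (χ ∘ₗ πl)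
    rwa [LinearMap.comp_apply, show πl a = 1 from hJ a ha] at this
  · rw [map_sub g, map_smul g, map_contract hg, ← hxe]
    simp only [map_add, map_sub, map_smul, πl, LinearMap.coe_coe, contract_comul_map, smul_sub, smul_add]
    rw [smul_comm r (χ 1)]
    abel

theorem isTrigonalizable_of_ker {A B : Type u} {k : Type u} [Field k] [CommRing A] [HopfAlgebra k A]
    [CommRing B] [HopfAlgebra k B] (ψ : B →ₐc[k] A) (hψ : Function.Injective ψ) (hB : IsDiagonalizable k B)
    [(KerHopf.kerIdeal ψ).IsHopfIdeal k] (hU : HopfRep.IsUnipotent k (A ⧸ KerHopf.kerIdeal ψ)) :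
    HopfRep.IsTrigonalizable k A := by
  classical
  letI : Algebra B A := (ψ : B →ₐ[k] A).toRingHom.toAlgebra
  haveI : IsScalarTower k B A := IsScalarTower.of_algebraMap_eq fun x => ((ψ : B →ₐ[k] A).commutes x).symm
  haveI : Module.FaithfullyFlat B A := Groth.Agent.HopfSub.faithfullyFlat ψ (fun _ => rfl) hψ
  let π : A →ₐc[k] A ⧸ KerHopf.kerIdeal ψ := Bialgebra.Quotient.mkBialgHom _
  have hπ : Function.Surjective π := Ideal.Quotient.mk_surjective
  have hker : RingHom.ker (π : A →ₐ[k] A ⧸ KerHopf.kerIdeal ψ) =
      Ideal.map (ψ : B →ₐ[k] A) (RingHom.ker (Bialgebra.counitAlgHom k B)) := by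
    ext x
    exact Ideal.Quotient.eq_zero_iff_mem
  intro V _ _ c hfin hsimp
  obtain ⟨hnt, hsub⟩ := hsimp
  obtain ⟨v, hv, hv0⟩ := (Submodule.ne_bot_iff _).1
    (@hU V _ _ (GLin.comodAlong π c) hfin hnt)
  -- the coefficients of `v` are combinations of group-like elements
  let G : Set A := {a : A | IsGroupLikeElem k a}
  have hcoef : ∀ f : V →ₗ[k] k, sliceL f (HopfRep.Comod.coact (k := k) (A := A) v) ∈ Submodule.span k G := by
    intro f
    have hinv : ExactSeq.rho π (mc A f v) = mc A f v ⊗ₜ[k] (1 : A ⧸ KerHopf.kerIdeal ψ) := by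
      rw [ExactSeq.rho, AlgHom.comp_apply, Bialgebra.comulAlgHom_apply, comul_mc]
      have h1 : TensorProduct.map LinearMap.id (π : A →ₗ[k] A ⧸ KerHopf.kerIdeal ψ)
          (HopfRep.Comod.coact (k := k) (A := A) v) = v ⊗ₜ[k] 1 := hv
      have h2 : ∀ z : V ⊗[k] A, Algebra.TensorProduct.map (AlgHom.id k A) (π : A →ₐ[k] A ⧸ KerHopf.kerIdeal ψ)
          ((mc A f).rTensor A z) =
            (mc A f).rTensor _ (TensorProduct.map LinearMap.id (π : A →ₗ[k] A ⧸ KerHopf.kerIdeal ψ) z) := by
        intro z
        induction z using TensorProduct.induction_on with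
        | zero => simp
        | tmul a b => simp
        | add a b ha hb => simp only [map_add, ha, hb]
      rw [h2, h1, LinearMap.rTensor_tmul]
    obtain ⟨q, hq⟩ := ExactSeq.mem_range_of_rho ψ (fun _ => rfl) π hker hπ _ hinv
    show mc A f v ∈ _
    rw [← hq]
    have hqs : q ∈ Submodule.span k {b : B | IsGroupLikeElem k b} := by rw [hB]; trivial
    have := Submodule.mem_map_of_mem (f := (ψ : B →ₐ[k] A).toLinearMap) hqs
    rw [Submodule.map_span] at this
    refine Submodule.span_mono ?_ this
    rintro _ ⟨b, hb, rfl⟩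
    exact hb.map ψ
  obtain ⟨z, hz⟩ := (mem_range_lTensor_iff_sliceL (Submodule.span k G) _).2 hcoef
  have hli : LinearIndepOn k id G := linearIndepOn_isGroupLikeElem
  -- a dual functional for each group-like element
  have hdual : ∀ g ∈ G, ∃ φ : A →ₗ[k] k, φ g = 1 ∧ ∀ h ∈ G, h ≠ g → φ h = 0 := by
    intro g hg
    let B' := Module.Basis.extend hli
    let i : hli.extend (Set.subset_univ G) := ⟨g, hli.subset_extend (Set.subset_univ G) hg⟩
    refine ⟨B'.coord i, ?_, fun h hh hne => ?_⟩
    · have : B' i = g := Module.Basis.extend_apply_self hli i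
      rw [Module.Basis.coord_apply, ← this, Module.Basis.repr_self, Finsupp.single_eq_same]
    · let j : hli.extend (Set.subset_univ G) := ⟨h, hli.subset_extend (Set.subset_univ G) hh⟩
      have : B' j = h := Module.Basis.extend_apply_self hli j
      rw [Module.Basis.coord_apply, ← this, Module.Basis.repr_self, Finsupp.single_eq_of_ne]
      exact fun e => hne (congrArg Subtype.val e).symm
  choose φ hφ1 hφ0 using hdual
  have hval : ∀ (χ : A →ₗ[k] k) (g : A) (hg : g ∈ G), contract χ (contract (φ g hg) v) = χ g • contract (φ g hg) v := by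
    intro χ g hg
    rw [contract_contract, contract_apply, contract_apply, ← hz]
    clear hz
    induction z using TensorProduct.induction_on with
    | zero => simp
    | add x y hx hy => simp only [map_add, smul_add, hx, hy]
    | tmul y d =>
      simp only [LinearMap.lTensor_tmul, Submodule.coe_subtype, slice_tmul, smul_smul]
      congr 1
      obtain ⟨d, hd⟩ := d
      induction hd using Submodule.span_induction with
      | zero => simp
      | add p q _ _ hp hq => simp only [map_add, hp, hq, mul_add]
      | smul r p _ hp => simp only [map_smul, hp, smul_eq_mul]; ring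
      | mem h hh =>
        rw [LinearMap.convMul_apply, IsGroupLikeElem.comul_eq_tmul_self hh, TensorProduct.map_tmul,
          LinearMap.mul'_apply]
        simp only [ofConv_toConv]
        rcases eq_or_ne h g with rfl | hne
        · rfl
        · rw [hφ0 g hg h hh hne, mul_zero, mul_zero]
  -- some component is nonzero
  have hex : ∃ (g : A) (hg : g ∈ G), contract (φ g hg) v ≠ 0 := by
    by_contra hall
    push Not at hall
    apply hv0
    have key : z = 0 := by
      let Bs : Module.Basis G k (Submodule.span k G) :=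
        (Module.Basis.span (v := fun g : G => (g : A)) hli).map (LinearEquiv.ofEq _ _ (by rw [Subtype.range_coe]))
      apply (TensorProduct.equivFinsuppOfBasisRight Bs).injective
      rw [map_zero]
      ext g
      have h0 := hall g.1 g.2
      rw [contract_apply, ← hz] at h0
      rw [Finsupp.zero_apply, ← h0]
      clear hz h0
      induction z using TensorProduct.induction_on with
      | zero => simp
      | add x y hx hy => simp only [map_add, Finsupp.add_apply, hx, hy]
      | tmul y d =>
        simp only [LinearMap.lTensor_tmul, Submodule.coe_subtype, slice_tmul,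
          TensorProduct.equivFinsuppOfBasisRight_apply_tmul_apply]
        congr 1
        obtain ⟨d, hd⟩ := d
        induction hd using Submodule.span_induction with
        | zero => exact (congrArg (fun t => Bs.repr t g) (show (⟨0, _⟩ : Submodule.span k G) = 0 from rfl)).trans (by simp)
        | add p q hp' hq' hp hq =>
          rw [map_add, ← hp, ← hq, ← Finsupp.add_apply, ← map_add]
          rfl
        | smul r p hp' hp =>
          rw [map_smul, ← hp, ← Finsupp.smul_apply, ← map_smul]
          rfl
        | mem h hh =>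
          have hB : Bs ⟨h, hh⟩ = ⟨h, Submodule.subset_span hh⟩ := by
            apply Subtype.ext
            simp [Bs, Module.Basis.span_apply]
          rw [show Bs.repr ⟨h, Submodule.subset_span hh⟩ = Finsupp.single ⟨h, hh⟩ 1 by rw [← hB, Module.Basis.repr_self]]
          rcases eq_or_ne (⟨h, hh⟩ : G) g with e | e
          · rw [e, Finsupp.single_eq_same]
            subst e
            exact (hφ1 h hh).symm
          · rw [Finsupp.single_eq_of_ne (Ne.symm e)]
            exact (hφ0 g.1 g.2 h hh fun e' => e (Subtype.ext e')).symm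
    have hv' : v = TensorProduct.rid k V ((Coalgebra.counit (R := k) (A := A)).lTensor V
        (HopfRep.Comod.coact (k := k) (A := A) v)) := by
      have := LinearMap.congr_fun (HopfRep.Comod.counit_comp (k := k) (A := A) (V := V)) v
      simp only [LinearMap.comp_apply, LinearMap.flip_apply, TensorProduct.mk_apply] at this
      rw [this]; simp
    rw [hv', ← hz, key]
    simp
  obtain ⟨g, hg, hne⟩ := hex
  set y := contract (φ g hg) v
  have hline : IsSubcomod (k := k) (A := A) (Submodule.span k {y}) := isSubcomod_iff.2 fun χ w hw => by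
    obtain ⟨r, rfl⟩ := Submodule.mem_span_singleton.1 hw
    rw [map_smul, hval χ g hg]
    exact Submodule.smul_mem _ _ (Submodule.smul_mem _ _ (Submodule.mem_span_singleton_self _))
  rcases hsub _ hline with h | h
  · exact absurd (Submodule.span_singleton_eq_bot.1 h) hne
  · exact finrank_eq_one y hne fun w => Submodule.mem_span_singleton.1 (h ▸ Submodule.mem_top)

/-- the universal diagonalizable quotient -/
theorem exists_diag_quotient {A : Type u} {k : Type u} [Field k] [CommRing A] [HopfAlgebra k A]
    (hT : HopfRep.IsTrigonalizable k A) :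
    ∃ (B : Type u) (_ : CommRing B) (_ : HopfAlgebra k B) (ψ : B →ₐc[k] A) (J : Ideal A) (_ : J.IsHopfIdeal k),
      Function.Injective ψ ∧ IsDiagonalizable k B ∧
        J = Ideal.map (ψ : B →+* A) (RingHom.ker (Bialgebra.counitAlgHom k B)) ∧ IsUnipotent k (A ⧸ J) := by
  classical
  let ψ : MonoidAlgebra k (GroupLike k A) →ₐc[k] A := MonoidAlgebra.liftGroupLikeBialgHom
  have hlin : ∀ x : MonoidAlgebra k (GroupLike k A), ψ x =
      Finsupp.linearCombination k (GroupLike.val (R := k) (A := A)) x.coeff := by
    intro x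
    induction x using MonoidAlgebra.induction_linear with
    | zero => simp
    | add x y hx hy => rw [map_add, MonoidAlgebra.coeff_add, map_add, hx, hy]
    | single g r => simp [ψ, MonoidAlgebra.liftGroupLikeBialgHom]
  haveI := KerHopf.isHopfIdeal ψ
  refine ⟨_, inferInstance, inferInstance, ψ, KerHopf.kerIdeal ψ, inferInstance, fun x y hxy => ?_, ?_, rfl,
    isUnipotent_quot hT _ fun a ha => ?_⟩
  · rw [hlin, hlin] at hxy
    exact MonoidAlgebra.coeff_injective (linearIndep_groupLikeVal hxy)
  · refine eq_top_iff.2 fun x _ => ?_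
    induction x using MonoidAlgebra.induction_linear with
    | zero => exact zero_mem _
    | add x y hx hy => exact add_mem (hx trivial) (hy trivial)
    | single g r =>
      rw [show MonoidAlgebra.single g r = r • MonoidAlgebra.single g (1 : k) by simp]
      exact Submodule.smul_mem _ _ (Submodule.subset_span (MonoidAlgebra.isGroupLikeElem_single_one g))
  · have h : ψ (MonoidAlgebra.single (⟨a, ha⟩ : GroupLike k A) 1) = a := by rw [hlin]; simp
    rw [← h, KerHopf.mk_comp, (MonoidAlgebra.isGroupLikeElem_single_one _).counit_eq_one, map_one]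

end Groth.Agent.Comod.TrigUnip
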