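import Groth.Agent.Comod.Integral
import Mathlib.RingTheory.HopfAlgebra.Quotient

/-!
# The ideal cutting out the kernel of a homomorphism of affine groups is a Hopf ideal
-/

set_option autoImplicit false

universe u v w

noncomputable section

open TensorProduct WithConv

namespace Groth.Agent.Comod.KerHopf

variable {k : Type u} [CommRing k] {A : Type v} [CommRing A] [HopfAlgebra k A] {B : Type w} [CommRing B]
  [HopfAlgebra k B] (ψ : B →ₐc[k] A)

theorem map_antipode (x : B) : HopfAlgebra.antipode k (ψ x) = ψ (HopfAlgebra.antipode k x) := by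
  have h1 : toConv ((HopfAlgebra.antipodeAlgHom k A).comp (ψ : B →ₐ[k] A)) * toConv (ψ : B →ₐ[k] A) = 1 := by
    apply WithConv.ofConv_injective
    have e3 := AlgHom.convMul_comp_bialgHom_distrib (toConv (HopfAlgebra.antipodeAlgHom k A))
      (toConv (AlgHom.id k A)) ψ
    refine e3.symm.trans ?_
    rw [show toConv (HopfAlgebra.antipodeAlgHom k A) * toConv (AlgHom.id k A) = 1 from by
      simpa using antipode_comp_conv (AlgHom.id k A)]
    exact AlgHom.ext fun x => by simp
  have h2 := conv_comp_antipode (C := A) (ψ : B →ₐ[k] A)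
  exact DFunLike.congr_fun (congrArg WithConv.ofConv (left_inv_eq_right_inv h1 h2)) x

/-- the ideal generated by the image of the augmentation ideal -/
abbrev kerIdeal : Ideal A := Ideal.map (ψ : B →+* A) (RingHom.ker (Bialgebra.counitAlgHom k B))

theorem mk_comp (x : B) : Ideal.Quotient.mk (kerIdeal ψ) (ψ x) =
    algebraMap k (A ⧸ kerIdeal ψ) (Coalgebra.counit (R := k) x) := by
  rw [← Ideal.Quotient.mk_algebraMap, Ideal.Quotient.eq]
  have h : (ψ : B →+* A) (x - algebraMap k B (Coalgebra.counit (R := k) x)) ∈ kerIdeal ψ :=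
    Ideal.mem_map_of_mem _ (by simp [RingHom.mem_ker])
  rw [map_sub] at h
  exact (show (ψ : B →+* A) (algebraMap k B (Coalgebra.counit (R := k) x)) =
    algebraMap k A (Coalgebra.counit (R := k) x) from (ψ : B →ₐ[k] A).commutes _) ▸ h

theorem isHopfIdeal : (kerIdeal ψ).IsHopfIdeal k where
  counit_eq_zero x hx := by
    have h : kerIdeal ψ ≤ RingHom.ker (Bialgebra.counitAlgHom k A) := Ideal.map_le_iff_le_comap.2 fun b hb => by
      rw [RingHom.mem_ker, Bialgebra.counitAlgHom_apply] at hb
      simpa [Ideal.mem_comap, RingHom.mem_ker] using (CoalgHomClass.counit_comp_apply ψ b).trans hb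
    exact h hx
  map_mkQ_comul_eq_zero x hx := by
    let π := Ideal.Quotient.mkₐ k (kerIdeal ψ)
    have h : kerIdeal ψ ≤ RingHom.ker ((Algebra.TensorProduct.map π π).comp (Bialgebra.comulAlgHom k A)) := by
      refine Ideal.map_le_iff_le_comap.2 fun b hb => ?_
      rw [Ideal.mem_comap, RingHom.mem_ker, AlgHom.comp_apply, Bialgebra.comulAlgHom_apply]
      change Algebra.TensorProduct.map π π (Coalgebra.comul (R := k) (ψ b)) = 0
      rw [← CoalgHomClass.map_comp_comul_apply ψ b]
      have key : ∀ t : B ⊗[k] B,
          Algebra.TensorProduct.map π π (TensorProduct.map (ψ : B →ₗ[k] A) (ψ : B →ₗ[k] A) t) =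
            algebraMap k _ (Coalgebra.counit (R := k) (TensorProduct.lid k B
              ((Coalgebra.counit (R := k) (A := B)).rTensor B t))) := by
        intro t
        induction t using TensorProduct.induction_on with
        | zero => simp
        | tmul a c =>
          rw [TensorProduct.map_tmul, Algebra.TensorProduct.map_tmul]
          change Ideal.Quotient.mk _ (ψ a) ⊗ₜ[k] Ideal.Quotient.mk _ (ψ c) = _
          rw [mk_comp, mk_comp, LinearMap.rTensor_tmul, TensorProduct.lid_tmul, map_smul, smul_eq_mul]
          simp only [Algebra.algebraMap_eq_smul_one, Algebra.TensorProduct.one_def, TensorProduct.smul_tmul]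
          simp only [TensorProduct.tmul_smul, smul_smul]
        | add a c ha hc => simp only [map_add, ha, hc]
      rw [key, Coalgebra.rTensor_counit_comul, TensorProduct.lid_tmul, one_smul]
      rw [RingHom.mem_ker, Bialgebra.counitAlgHom_apply] at hb
      rw [hb, map_zero]
    exact h hx
  antipode_mem x hx := by
    have h : kerIdeal ψ ≤ (kerIdeal ψ).comap (HopfAlgebra.antipodeAlgHom k A : A →ₐ[k] A) := by
      refine Ideal.map_le_iff_le_comap.2 fun b hb => ?_
      rw [Ideal.mem_comap, Ideal.mem_comap]
      change HopfAlgebra.antipode k (ψ b) ∈ _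
      rw [map_antipode]
      refine Ideal.mem_map_of_mem _ ?_
      rw [RingHom.mem_ker, Bialgebra.counitAlgHom_apply, HopfAlgebra.counit_antipode]
      simpa [RingHom.mem_ker] using hb
    exact h hx

end Groth.Agent.Comod.KerHopf
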