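import Groth.Agent.GrpScheme.Cartier
import Groth.Agent.GrpScheme.HomFlat
import Mathlib.AlgebraicGeometry.Group.Affine

/-!
# Cartier: Hopf algebras of finite type in characteristic zero are reduced
-/

universe u

noncomputable section

open CategoryTheory AlgebraicGeometry

namespace Groth.Agent.Comod

theorem isReduced_of_charZero (k : Type u) [Field k] [CharZero k] (A : Type u) [CommRing A] [HopfAlgebra k A]
    [Algebra.FiniteType k A] : _root_.IsReduced A := by
  let G := (Spec (CommRingCat.of A)).asOver (Spec (CommRingCat.of k))
  haveI : LocallyOfFiniteType G.hom := by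
    change LocallyOfFiniteType (Spec.map (CommRingCat.ofHom (algebraMap k A)))
    rw [HasRingHomProperty.Spec_iff (P := @LocallyOfFiniteType)]
    exact RingHom.finiteType_algebraMap.mpr ‹_›
  haveI : Smooth G.hom := GrpScheme.Cartier.smooth_of_charZero G
  have h : IsReduced G.left := GrpScheme.HomFlat.isReduced_of_smooth G.hom
  exact (affine_isReduced_iff (CommRingCat.of A)).1 h

end Groth.Agent.Comod
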