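import Groth.Agent.Comod.Image2
import Groth.Agent.GalCohAux.Descent
import Groth.Agent.MultType.FieldSplit
import Mathlib.RingTheory.Bialgebra.TensorProduct
import Mathlib.FieldTheory.Galois.Basic
import Mathlib.FieldTheory.Normal.Closure

/-!
# Groups trigonalizable over a finite separable extension
-/

set_option autoImplicit false
set_option linter.style.haveILetI false

universe u

noncomputable section

open TensorProduct

namespace Groth.Agent.Comod.TrigGalois

open HopfRep

variable {k : Type u} [Field k] {A : Type u} [CommRing A] [HopfAlgebra k A]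

/-- base change of a bialgebra map -/
abbrev bcHom {B : Type u} [CommRing B] [HopfAlgebra k B] (K : Type u) [Field K] [Algebra k K] (ψ : B →ₐc[k] A) :
    K ⊗[k] B →ₐc[K] K ⊗[k] A := Bialgebra.TensorProduct.map (BialgHom.id K K) ψ

theorem bcHom_tmul {B : Type u} [CommRing B] [HopfAlgebra k B] (K : Type u) [Field K] [Algebra k K]
    (ψ : B →ₐc[k] A) (c : K) (b : B) : bcHom K ψ (c ⊗ₜ[k] b) = c ⊗ₜ[k] ψ b := rfl

theorem bcHom_injective {B : Type u} [CommRing B] [HopfAlgebra k B] (K : Type u) [Field K] [Algebra k K]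
    {ψ : B →ₐc[k] A} (hψ : Function.Injective ψ) : Function.Injective (bcHom K ψ) := by
  have h := Module.Flat.lTensor_preserves_injective_linearMap (M := K) (ψ : B →ₐ[k] A).toLinearMap hψ
  have e : ∀ z, bcHom K ψ z = (ψ : B →ₐ[k] A).toLinearMap.lTensor K z := by
    intro z
    induction z using TensorProduct.induction_on with
    | zero => simp
    | tmul c b => rfl
    | add x y hx hy => simp only [map_add, hx, hy]
  intro x y hxy
  rw [e, e] at hxy
  exact h hxy

/-- a unipotent kernel with quotient of multiplicative type: trigonalizable after a separable extension -/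
theorem exists_of_ker [Algebra.FiniteType k A] {B : Type u} [CommRing B] [HopfAlgebra k B] (ψ : B →ₐc[k] A)
    (hψ : Function.Injective ψ) (hB : IsDiagonalizable (AlgebraicClosure k) (AlgebraicClosure k ⊗[k] B))
    [(KerHopf.kerIdeal ψ).IsHopfIdeal k] (hU : HopfRep.IsUnipotent k (A ⧸ KerHopf.kerIdeal ψ)) :
    ∃ (k' : Type u) (_ : Field k') (_ : Algebra k k'),
      FiniteDimensional k k' ∧ Algebra.IsSeparable k k' ∧ HopfRep.IsTrigonalizable k' (k' ⊗[k] A) := by
  haveI := Image2.finiteType_of_injective ψ hψ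
  have hM : SGA3b.IsMultType k B :=
    Groth.Agent.MultType.Diag.isMultType_of_diag (AlgebraicClosure k) (Groth.Agent.MultType.Diag.isDiag_of_span hB)
  obtain ⟨k', _, _, hfin, hsep, M, _, -, ⟨e⟩⟩ :=
    Groth.Agent.MultType.FieldSplit.exists_separable_split hM inferInstance
  refine ⟨k', inferInstance, inferInstance, hfin, hsep, ?_⟩
  haveI := KerHopf.isHopfIdeal (bcHom k' ψ)
  let π' : (k' ⊗[k] A) →ₐc[k'] (k' ⊗[k] A) ⧸ KerHopf.kerIdeal (bcHom k' ψ) := Bialgebra.Quotient.mkBialgHom _
  let f₀ : A →ₐ[k] (k' ⊗[k] A) ⧸ KerHopf.kerIdeal (bcHom k' ψ) :=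
    (Ideal.Quotient.mkₐ k (KerHopf.kerIdeal (bcHom k' ψ))).comp Algebra.TensorProduct.includeRight
  have hf₀ : ∀ a ∈ KerHopf.kerIdeal ψ, f₀ a = 0 := by
    suffices KerHopf.kerIdeal ψ ≤ RingHom.ker f₀ from fun a ha => this ha
    refine Ideal.map_le_iff_le_comap.2 fun b hb => ?_
    rw [Ideal.mem_comap, RingHom.mem_ker]
    show Ideal.Quotient.mk _ (bcHom k' ψ ((1 : k') ⊗ₜ[k] b)) = 0
    rw [KerHopf.mk_comp]
    rw [RingHom.mem_ker, Bialgebra.counitAlgHom_apply] at hb
    simp [hb]
  let ι := (Ideal.Quotient.liftₐ (KerHopf.kerIdeal ψ) f₀ hf₀).toLinearMap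
  have hι₀ : ∀ (χ : (k' ⊗[k] A) ⧸ KerHopf.kerIdeal (bcHom k' ψ) →ₗ[k'] k') (a : A),
      contract χ (f₀.toLinearMap a) = Image.lam f₀.toLinearMap χ (Coalgebra.comul (R := k) a) :=
    Image2.comp_comul (Image.inc (k := k) k') (Image.inc_comul k') π' f₀.toLinearMap fun _ => rfl
  have hΔ : ∀ (χ : (k' ⊗[k] A) ⧸ KerHopf.kerIdeal (bcHom k' ψ) →ₗ[k'] k') (x : A ⧸ KerHopf.kerIdeal ψ),
      contract χ (ι x) = Image.lam ι χ (Coalgebra.comul (R := k) x) := by
    intro χ x
    obtain ⟨a, rfl⟩ := Ideal.Quotient.mk_surjective x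
    refine Eq.trans (hι₀ χ a) ?_
    rw [show Coalgebra.comul (R := k) (Ideal.Quotient.mk (KerHopf.kerIdeal ψ) a) =
      TensorProduct.map (Bialgebra.Quotient.mkBialgHom (R := k) (KerHopf.kerIdeal ψ) : A →ₗ[k] _)
        (Bialgebra.Quotient.mkBialgHom (R := k) (KerHopf.kerIdeal ψ) : A →ₗ[k] _) (Coalgebra.comul (R := k) a) from
        (CoalgHomClass.map_comp_comul_apply (Bialgebra.Quotient.mkBialgHom (R := k) (KerHopf.kerIdeal ψ)) a).symm]
    induction Coalgebra.comul (R := k) a using TensorProduct.induction_on with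
    | zero => simp
    | tmul y z => simp [ι]
    | add y z hy hz => simp only [map_add, hy, hz]
  have hspan : Submodule.span k' (Set.range ι) = ⊤ := by
    refine eq_top_iff.2 fun z _ => ?_
    obtain ⟨w, rfl⟩ := Ideal.Quotient.mk_surjective z
    induction w using TensorProduct.induction_on with
    | zero => rw [map_zero]; exact zero_mem _
    | tmul s a =>
      rw [show Ideal.Quotient.mk (KerHopf.kerIdeal (bcHom k' ψ)) (s ⊗ₜ[k] a) =
        s • ι (Ideal.Quotient.mk _ a) from ?_]
      · exact Submodule.smul_mem _ _ (Submodule.subset_span ⟨_, rfl⟩)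
      · rw [show (s ⊗ₜ[k] a : k' ⊗[k] A) = s • ((1 : k') ⊗ₜ[k] a) by
          rw [TensorProduct.smul_tmul', smul_eq_mul, mul_one]]
        rfl
    | add x y hx hy => rw [map_add]; exact add_mem (hx trivial) (hy trivial)
  have hU' := Image2.isUnipotent_image ι hΔ hspan (Image.flags_unip hU) (by rintro a rfl; exact map_one (Ideal.Quotient.liftₐ _ f₀ hf₀))
  exact TrigUnip.isTrigonalizable_of_ker (bcHom k' ψ) (bcHom_injective k' hψ)
    (Groth.Agent.MultType.Diag.span_of_equiv e) hU'

section Forward

open Groth.Agent.MultType Groth.Agent.MultType.GroupLike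

variable (L : Type u) [Field L] [Algebra k L]

/-- the span of the group-like elements after base change -/
abbrev S (A : Type u) [CommRing A] [HopfAlgebra k A] : Submodule L (L ⊗[k] A) :=
  Submodule.span L {z : L ⊗[k] A | IsGroupLikeElem L z}

theorem one_mem_S : (1 : L ⊗[k] A) ∈ S (k := k) L A := Submodule.subset_span IsGroupLikeElem.one

theorem mul_mem_S {x y : L ⊗[k] A} (hx : x ∈ S (k := k) L A) (hy : y ∈ S (k := k) L A) :
    x * y ∈ S (k := k) L A := by
  have h4 := Submodule.mul_mem_mul hx hy
  rw [Submodule.span_mul_span] at h4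
  refine Submodule.span_mono ?_ h4
  rintro _ ⟨x, hx, y, hy, rfl⟩
  exact hx.mul hy

/-- the descended subalgebra -/
def desc (A : Type u) [CommRing A] [HopfAlgebra k A] : Subalgebra k A where
  carrier := {a | (1 : L) ⊗ₜ[k] a ∈ S (k := k) L A}
  mul_mem' {a b} ha hb := by
    show (1 : L) ⊗ₜ[k] (a * b) ∈ S (k := k) L A
    have := mul_mem_S L ha hb
    rwa [Algebra.TensorProduct.tmul_mul_tmul, one_mul] at this
  one_mem' := one_mem_S L
  add_mem' {a b} ha hb := by
    show (1 : L) ⊗ₜ[k] (a + b) ∈ S (k := k) L A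
    rw [TensorProduct.tmul_add]
    exact add_mem ha hb
  zero_mem' := by
    show (1 : L) ⊗ₜ[k] (0 : A) ∈ S (k := k) L A
    rw [TensorProduct.tmul_zero]
    exact zero_mem _
  algebraMap_mem' r := by
    show (1 : L) ⊗ₜ[k] algebraMap k A r ∈ S (k := k) L A
    rw [Algebra.algebraMap_eq_smul_one, ← TensorProduct.smul_tmul, ← Algebra.algebraMap_eq_smul_one,
      show algebraMap k L r ⊗ₜ[k] (1 : A) = algebraMap k L r • (1 : L ⊗[k] A) by
        rw [Algebra.TensorProduct.one_def, TensorProduct.smul_tmul', smul_eq_mul, mul_one]]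
    exact Submodule.smul_mem _ _ (one_mem_S L)

theorem mem_desc {a : A} : a ∈ desc (k := k) L A ↔ (1 : L) ⊗ₜ[k] a ∈ S (k := k) L A := Iff.rfl

theorem slice_mem_desc {a : A} (ha : a ∈ desc (k := k) L A) (φ : A →ₗ[k] k) :
    slice φ (Coalgebra.comul (R := k) a) ∈ desc (k := k) L A := by
  rw [mem_desc] at ha ⊢
  let χ : L ⊗[k] A →ₗ[L] L := (TensorProduct.AlgebraTensorModule.rid k L L).toLinearMap ∘ₗ φ.baseChange L
  have h1 : contract χ ((1 : L) ⊗ₜ[k] a) ∈ S (k := k) L A := by
    have hgen : ∀ z ∈ S (k := k) L A, contract χ z ∈ S (k := k) L A := by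
      intro z hz
      induction hz using Submodule.span_induction with
      | mem z hz =>
        rw [contract_apply]
        change slice χ (Coalgebra.comul (R := L) z) ∈ _
        rw [hz.comul_eq_tmul_self, slice_tmul]
        exact Submodule.smul_mem _ _ (Submodule.subset_span hz)
      | zero => simp
      | add p q _ _ hp hq => rw [map_add]; exact add_mem hp hq
      | smul r p _ hp => rw [map_smul]; exact Submodule.smul_mem _ _ hp
    exact hgen _ ha
  have h2 : contract χ ((1 : L) ⊗ₜ[k] a) = (1 : L) ⊗ₜ[k] slice φ (Coalgebra.comul (R := k) a) := by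
    refine (Image.inc_comul L χ a).trans ?_
    induction Coalgebra.comul (R := k) a using TensorProduct.induction_on with
    | zero => simp
    | tmul x y =>
      simp [χ, Image.inc, TensorProduct.smul_tmul', TensorProduct.tmul_smul]
    | add x y hx hy => simp only [map_add, TensorProduct.tmul_add, hx, hy]
  rwa [h2] at h1

theorem antipode_mem_desc {a : A} (ha : a ∈ desc (k := k) L A) :
    HopfAlgebra.antipode k a ∈ desc (k := k) L A := by
  rw [mem_desc] at ha ⊢
  have h2 : HopfAlgebra.antipode L ((1 : L) ⊗ₜ[k] a) = (1 : L) ⊗ₜ[k] HopfAlgebra.antipode k a := by simp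
  have hgen : ∀ z ∈ S (k := k) L A, HopfAlgebra.antipode L z ∈ S (k := k) L A := by
    intro z hz
    induction hz using Submodule.span_induction with
    | mem z hz => exact Submodule.subset_span hz.antipode
    | zero => simp
    | add p q _ _ hp hq => rw [map_add]; exact add_mem hp hq
    | smul r p _ hp => rw [map_smul]; exact Submodule.smul_mem _ _ hp
  rw [← h2]
  exact hgen _ ha

theorem isHopf_desc : SGA3.IsHopfSubalgebra k A (desc (k := k) L A) := by
  refine ⟨fun a ha => ?_, fun a ha => antipode_mem_desc L ha⟩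
  have h := (mem_range_map_iff (Subalgebra.toSubmodule (desc (k := k) L A)) (Subalgebra.toSubmodule (desc (k := k) L A))
    (Coalgebra.comul (R := k) a)).2 ⟨fun φ => slice_mem_desc L ha φ, fun φ => ?_⟩
  · exact h
  · have h1 := slice_antipode_comul φ (HopfAlgebra.antipode k a)
    rw [antipode_antipode] at h1
    rw [h1]
    exact antipode_mem_desc L (slice_mem_desc L (antipode_mem_desc L ha) _)

variable [FiniteDimensional k L] [IsGalois k L]

theorem S_le_span : S (k := k) L A ≤ Submodule.span L ((fun a => (1 : L) ⊗ₜ[k] a) '' (desc (k := k) L A : Set A)) := by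
  classical
  let b := Module.Free.chooseBasis k A
  have hstab : ∀ (σ : L ≃ₐ[k] L) (z : L ⊗[k] A), z ∈ S (k := k) L A →
      bcMap σ.toAlgHom A z ∈ S (k := k) L A := by
    intro σ z hz
    induction hz using Submodule.span_induction with
    | mem z hz => exact Submodule.subset_span (map_isGroupLikeElem σ.toAlgHom hz)
    | zero => simp
    | add p q _ _ hp hq => rw [map_add]; exact add_mem hp hq
    | smul r p _ hp => rw [FieldSplit.bcMap_smul]; exact Submodule.smul_mem _ _ hp
  let s : (L ≃ₐ[k] L) → ↥(S (k := k) L A) →+ ↥(S (k := k) L A) := fun σ =>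
    AddMonoidHom.mk' (fun z => ⟨bcMap σ.toAlgHom A z, hstab σ z z.2⟩) fun x y => Subtype.ext (map_add _ _ _)
  have hs : GalCohAux.Descent.IsSemilinearAction s := by
    refine ⟨fun σ τ z => Subtype.ext ?_, fun z => Subtype.ext ?_, fun σ c z => Subtype.ext (FieldSplit.bcMap_smul _ _ _)⟩
    · show bcMap (σ * τ).toAlgHom A (z : L ⊗[k] A) = bcMap σ.toAlgHom A (bcMap τ.toAlgHom A (z : L ⊗[k] A))
      induction (z : L ⊗[k] A) using TensorProduct.induction_on with
      | zero => simp
      | tmul c a => simp [bcMap]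
      | add x y hx hy => simp only [map_add, hx, hy]
    · show bcMap (1 : L ≃ₐ[k] L).toAlgHom A (z : L ⊗[k] A) = (z : L ⊗[k] A)
      induction (z : L ⊗[k] A) using TensorProduct.induction_on with
      | zero => simp
      | tmul c a => simp [bcMap]
      | add x y hx hy => simp only [map_add, hx, hy]
  intro z hz
  have h := GalCohAux.Descent.span_fixedVec_eq_top hs
  have hmem : (⟨z, hz⟩ : ↥(S (k := k) L A)) ∈ Submodule.span L (GalCohAux.Descent.fixedVec hs : Set _) := by
    rw [h]; trivial
  have h2 := Submodule.mem_map_of_mem (f := (S (k := k) L A).subtype) hmem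
  rw [Submodule.map_span] at h2
  refine Submodule.span_mono ?_ h2
  rintro _ ⟨w, hw, rfl⟩
  have hfix : ∀ σ : L ≃ₐ[k] L, bcMap σ.toAlgHom A (w : L ⊗[k] A) = w := fun σ => congrArg Subtype.val (hw σ)
  have hrange : ∀ i, (b.baseChange L).repr (w : L ⊗[k] A) i ∈ Set.range (Algebra.ofId k L) := by
    intro i
    have hi : ∀ σ : L ≃ₐ[k] L, σ ((b.baseChange L).repr (w : L ⊗[k] A) i) = (b.baseChange L).repr (w : L ⊗[k] A) i :=
      fun σ => by
        have := FieldSplit.bcMap_basis σ.toAlgHom b (w : L ⊗[k] A) i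
        rw [hfix σ] at this
        exact this.symm
    obtain ⟨r, hr⟩ := IntermediateField.mem_bot.1 ((IsGalois.mem_bot_iff_fixed _).2 hi)
    exact ⟨r, hr⟩
  obtain ⟨y, hy⟩ := FieldSplit.exists_preimage (Algebra.ofId k L) b (w : L ⊗[k] A) hrange
  obtain ⟨a, rfl⟩ : ∃ a, y = (1 : k) ⊗ₜ[k] a :=
    ⟨TensorProduct.lid k A y, ((TensorProduct.lid k A).symm_apply_apply y).symm⟩
  have hw1 : (1 : L) ⊗ₜ[k] a = (w : L ⊗[k] A) := by rw [← hy]; simp [bcMap]
  exact ⟨a, mem_desc L |>.2 (hw1 ▸ w.2), hw1⟩

/-- the quotient of multiplicative type of a group trigonalizable over a Galois extension -/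
theorem exists_quotient (hT : HopfRep.IsTrigonalizable L (L ⊗[k] A)) :
    ∃ (B : Type u) (_ : CommRing B) (_ : HopfAlgebra k B) (ψ : B →ₐc[k] A) (J : Ideal A) (_ : J.IsHopfIdeal k),
      Function.Injective ψ ∧ HopfRep.IsDiagonalizable (AlgebraicClosure k) (AlgebraicClosure k ⊗[k] B) ∧
        J = Ideal.map (ψ : B →+* A) (RingHom.ker (Bialgebra.counitAlgHom k B)) ∧
        HopfRep.IsUnipotent k (A ⧸ J) := by
  classical
  have hD := isHopf_desc (k := k) (A := A) L
  let B : Type u := ↥(desc (k := k) L A)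
  letI : HopfAlgebra k B := Groth.Agent.HopfSub.hopfAlgebra hD
  let i : B →ₐc[k] A := Groth.Agent.HopfSub.incl hD
  have hi : Function.Injective i := Subtype.val_injective
  haveI := KerHopf.isHopfIdeal i
  have hgl : ∀ g : L ⊗[k] A, IsGroupLikeElem L g → ∃ g₀ : L ⊗[k] B, IsGroupLikeElem L g₀ ∧ bcHom L i g₀ = g := by
    intro g hg
    have hr : g ∈ LinearMap.range (bcHom L i : L ⊗[k] B →ₐ[L] L ⊗[k] A).toLinearMap := by
      refine Submodule.span_le.2 ?_ (S_le_span L (Submodule.subset_span hg))
      rintro _ ⟨a, ha, rfl⟩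
      exact ⟨(1 : L) ⊗ₜ[k] (⟨a, ha⟩ : B), rfl⟩
    obtain ⟨g₀, hg₀⟩ := hr
    change bcHom L i g₀ = g at hg₀
    refine ⟨g₀, ⟨?_, ?_⟩, hg₀⟩
    · rw [← CoalgHomClass.counit_comp_apply (bcHom L i), hg₀]
      exact hg.counit_eq_one
    · apply Groth.Agent.HopfSub.map_injective (bcHom L i : L ⊗[k] B →ₐ[L] L ⊗[k] A)
        (bcHom L i : L ⊗[k] B →ₐ[L] L ⊗[k] A) (bcHom_injective L hi) (bcHom_injective L hi)
      refine (CoalgHomClass.map_comp_comul_apply (bcHom L i) g₀).trans ?_
      rw [hg₀, hg.comul_eq_tmul_self]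
      show _ = bcHom L i g₀ ⊗ₜ[L] bcHom L i g₀
      rw [hg₀]
  have hspanB : Submodule.span L {z : L ⊗[k] B | IsGroupLikeElem L z} = ⊤ := by
    refine eq_top_iff.2 fun z _ => ?_
    have h1 : bcHom L i z ∈ S (k := k) L A := by
      induction z using TensorProduct.induction_on with
      | zero => simp
      | tmul c b =>
        rw [show bcHom L i (c ⊗ₜ[k] b) = c • ((1 : L) ⊗ₜ[k] (b : A)) by
          rw [TensorProduct.smul_tmul', smul_eq_mul, mul_one]; rfl]
        exact Submodule.smul_mem _ _ b.2
      | add x y hx hy => rw [map_add]; exact add_mem (hx trivial) (hy trivial)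
    have h2 : bcHom L i z ∈ (Submodule.span L {z : L ⊗[k] B | IsGroupLikeElem L z}).map
        (bcHom L i : L ⊗[k] B →ₐ[L] L ⊗[k] A).toLinearMap := by
      refine Submodule.span_le.2 ?_ h1
      intro g hg
      obtain ⟨g₀, hg₀, rfl⟩ := hgl g hg
      exact ⟨g₀, Submodule.subset_span hg₀, rfl⟩
    obtain ⟨w, hw, hwz⟩ := h2
    rwa [← bcHom_injective L hi hwz]
  refine ⟨B, inferInstance, inferInstance, i, KerHopf.kerIdeal i, inferInstance, hi, ?_, rfl, ?_⟩
  · haveI : Algebra.IsAlgebraic k L := Algebra.IsAlgebraic.of_finite k L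
    let h : L →ₐ[k] AlgebraicClosure k := IsAlgClosed.lift
    refine eq_top_iff.2 fun z _ => ?_
    induction z using TensorProduct.induction_on with
    | zero => exact zero_mem _
    | add x y hx hy => exact add_mem (hx trivial) (hy trivial)
    | tmul c b =>
      have hb : (1 : AlgebraicClosure k) ⊗ₜ[k] b ∈
          Submodule.span (AlgebraicClosure k) {z : AlgebraicClosure k ⊗[k] B | IsGroupLikeElem (AlgebraicClosure k) z} := by
        rw [show (1 : AlgebraicClosure k) ⊗ₜ[k] b = bcMap h B ((1 : L) ⊗ₜ[k] b) by simp [bcMap]]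
        have hmem : (1 : L) ⊗ₜ[k] b ∈ Submodule.span L {z : L ⊗[k] B | IsGroupLikeElem L z} := by
          rw [hspanB]; trivial
        generalize (1 : L) ⊗ₜ[k] b = t at hmem ⊢
        induction hmem using Submodule.span_induction with
        | mem z hz => exact Submodule.subset_span (map_isGroupLikeElem h hz)
        | zero => simp
        | add p q _ _ hp hq => rw [map_add]; exact add_mem hp hq
        | smul r p _ hp => rw [FieldSplit.bcMap_smul]; exact Submodule.smul_mem _ _ hp
      have := Submodule.smul_mem _ c hb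
      rwa [TensorProduct.smul_tmul', smul_eq_mul, mul_one] at this
  · let π := bcHom L (Bialgebra.Quotient.mkBialgHom (R := k) (KerHopf.kerIdeal i))
    refine Image.isUnipotent_of_baseChange L (Image2.isUnipotent_image (k := L)
      (π : L ⊗[k] A →ₐ[L] L ⊗[k] (A ⧸ KerHopf.kerIdeal i)).toLinearMap ?_ ?_ (Image.flags_trig hT) ?_)
    · intro χ z
      refine (TrigUnip.contract_comul_map π χ z).trans ?_
      rw [contract_apply]
      change π (slice _ (Coalgebra.comul (R := L) z)) = _
      induction Coalgebra.comul (R := L) z using TensorProduct.induction_on with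
      | zero => simp
      | tmul x y => simp
      | add x y hx hy => simp only [map_add, hx, hy]
    · refine eq_top_iff.2 fun z _ => Submodule.subset_span ?_
      have hs : Function.Surjective (Ideal.Quotient.mkₐ k (KerHopf.kerIdeal i)).toLinearMap :=
        Ideal.Quotient.mkₐ_surjective k _
      obtain ⟨w, rfl⟩ := LinearMap.lTensor_surjective L hs z
      refine ⟨w, ?_⟩
      induction w using TensorProduct.induction_on with
      | zero => simp
      | tmul x y => rfl
      | add x y hx hy => simp only [map_add, hx trivial, hy trivial]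
    · intro g hg
      obtain ⟨g₀, hg₀, rfl⟩ := hgl g hg
      show π (bcHom L i g₀) = 1
      have : ∀ w : L ⊗[k] B, π (bcHom L i w) = algebraMap L _ (Coalgebra.counit (R := L) w) := by
        intro w
        induction w using TensorProduct.induction_on with
        | zero => simp
        | tmul c b =>
          show c ⊗ₜ[k] Ideal.Quotient.mk (KerHopf.kerIdeal i) (i b) = _
          rw [KerHopf.mk_comp, Algebra.algebraMap_eq_smul_one, TensorProduct.tmul_smul]
          simp [Algebra.TensorProduct.one_def, TensorProduct.smul_tmul', Algebra.algebraMap_eq_smul_one, smul_smul, mul_comm]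
        | add x y hx hy => simp only [map_add, hx, hy]
      rw [this, hg₀.counit_eq_one, map_one]

end Forward

/-- pass from a separable extension to its Galois closure -/
theorem exists_galois (k' : Type u) [Field k'] [Algebra k k'] [FiniteDimensional k k'] [Algebra.IsSeparable k k']
    (hT : HopfRep.IsTrigonalizable k' (k' ⊗[k] A)) :
    ∃ (L : Type u) (_ : Field L) (_ : Algebra k L),
      FiniteDimensional k L ∧ IsGalois k L ∧ HopfRep.IsTrigonalizable L (L ⊗[k] A) := by
  let L := IntermediateField.normalClosure k k' (AlgebraicClosure k')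
  haveI : Normal k (AlgebraicClosure k') := normal_iff.2 fun x => ⟨(Algebra.IsAlgebraic.isAlgebraic x).isIntegral,
    IsAlgClosed.splits _⟩
  haveI : ∀ f : k' →ₐ[k] AlgebraicClosure k', Algebra.IsSeparable k f.fieldRange := fun f =>
    AlgEquiv.Algebra.isSeparable (AlgEquiv.ofInjectiveField f)
  haveI : Algebra.IsSeparable k L := IntermediateField.isSeparable_iSup _ _
  refine ⟨L, inferInstance, inferInstance, inferInstance, { }, ?_⟩
  let h : k' →ₐ[k] L := IsScalarTower.toAlgHom k k' L
  let ι : k' ⊗[k] A →ₗ[k'] L ⊗[k] A :=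
    { toFun := Groth.Agent.MultType.GroupLike.bcMap h A
      map_add' := map_add _
      map_smul' := fun r z => by
        rw [Groth.Agent.MultType.FieldSplit.bcMap_smul, RingHom.id_apply]
        exact IsScalarTower.algebraMap_smul L r _ }
  have hι : ∀ (r : k') (a : A), ι (r ⊗ₜ[k] a) = algebraMap k' L r ⊗ₜ[k] a := fun r a => rfl
  refine Image2.isTrigonalizable_image ι ?_ ?_ hT
  · intro χ z
    induction z using TensorProduct.induction_on with
    | zero => simp
    | add x y hx hy => simp only [map_add, hx, hy]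
    | tmul r a =>
      rw [show (r ⊗ₜ[k] a : k' ⊗[k] A) = r • ((1 : k') ⊗ₜ[k] a) by
        rw [TensorProduct.smul_tmul', smul_eq_mul, mul_one]]
      simp only [map_smul, LinearMap.map_smul_of_tower]
      congr 1
      rw [hι, map_one]
      refine (Image.inc_comul L χ a).trans ?_
      rw [TensorProduct.comul_tmul]
      induction Coalgebra.comul (R := k) a using TensorProduct.induction_on with
      | zero => simp
      | tmul x y => simp [hι, Algebra.TensorProduct.one_def]
      | add x y hx hy => simp only [TensorProduct.tmul_add, map_add, hx, hy]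
  · refine eq_top_iff.2 fun z _ => ?_
    induction z using TensorProduct.induction_on with
    | zero => exact zero_mem _
    | add x y hx hy => exact add_mem (hx trivial) (hy trivial)
    | tmul c a =>
      rw [show (c ⊗ₜ[k] a : L ⊗[k] A) = c • ι ((1 : k') ⊗ₜ[k] a) by
        rw [hι, map_one, TensorProduct.smul_tmul', smul_eq_mul, mul_one]]
      exact Submodule.smul_mem _ _ (Submodule.subset_span ⟨_, rfl⟩)

end Groth.Agent.Comod.TrigGalois
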