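import Groth.Agent.RegLoc.Homological
import Mathlib.RingTheory.Nakayama
import Mathlib.RingTheory.Localization.Integer
import Mathlib.RingTheory.RingHom.Flat

/-!
# A freeness criterion at a point of a finite extension
-/

set_option autoImplicit false
set_option linter.style.haveILetI false

universe u

namespace Groth.Agent.Comod.CSTFlat

variable {Q S : Type u} [CommRing Q] [CommRing S] [Algebra Q S]

/-- `a` lies in the ideal `I` after multiplying by an element outside `p` -/
def RelCond (p : Ideal Q) : Prop :=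
  ∀ (κ : Type u) [DecidableEq κ] (s : Finset κ) (g : κ → Q) (l₀ : κ), l₀ ∈ s →
    (∀ u : Q, u ∉ p → u * g l₀ ∉ Ideal.span (g '' (s.erase l₀ : Set κ))) →
    ∀ f : κ → S, ∑ l ∈ s, f l * algebraMap Q S (g l) = 0 →
      ∃ u : Q, u ∉ p ∧ u • f l₀ ∈ p.map (algebraMap Q S)

variable [Module.Finite Q S] (p : Ideal Q) [p.IsMaximal]

/-- generators independent up to localisation -/
theorem exists_indep (hkey : RelCond (S := S) p) :
    ∃ e : Finset S, (∀ r : S, ∃ u : Q, u ∉ p ∧ u • r ∈ Submodule.span Q (e : Set S)) ∧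
      ∀ c : S → Q, ∑ j ∈ e, c j • j = 0 → ∀ j ∈ e, ∃ u : Q, u ∉ p ∧ u * c j = 0 := by
  classical
  have h1p : (1 : Q) ∉ p := (Ideal.ne_top_iff_one _).1 (Ideal.IsMaximal.ne_top ‹_›)
  let Gen : ℕ → Prop := fun n => ∃ e : Finset S, e.card = n ∧
    ∀ r : S, ∃ u : Q, u ∉ p ∧ u • r ∈ Submodule.span Q (e : Set S)
  have hex : ∃ n, Gen n := by
    obtain ⟨G, hG⟩ := Module.Finite.fg_top (R := Q) (M := S)
    exact ⟨G.card, G, rfl, fun r => ⟨1, h1p, by rw [hG]; exact Submodule.mem_top⟩⟩
  obtain ⟨e, he, hegen⟩ := Nat.find_spec hex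
  refine ⟨e, hegen, fun c hc => ?_⟩
  have hmin : ∀ e₀ ∈ e, e₀ ∉ Submodule.span Q ((e.erase e₀ : Finset S) : Set S) ⊔
      p • (⊤ : Submodule Q S) := by
    intro e₀ he₀ hmem
    set N := Submodule.span Q ((e.erase e₀ : Finset S) : Set S) ⊔ p • (⊤ : Submodule Q S) with hN
    have htop : (⊤ : Submodule Q S) ≤ N := by
      intro r _
      obtain ⟨u, hu, hur⟩ := hegen r
      have hspan : Submodule.span Q (e : Set S) ≤ N := by
        refine Submodule.span_le.2 fun y hy => ?_
        by_cases hye : y = e₀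
        · rw [hye]; exact hmem
        · exact Submodule.mem_sup_left (Submodule.subset_span (Finset.mem_erase.2 ⟨hye, hy⟩))
      obtain ⟨c, q, hq, hcq⟩ := Ideal.IsMaximal.exists_inv ‹p.IsMaximal› hu
      rw [show r = c • (u • r) + q • r by rw [smul_smul, ← add_smul, hcq, one_smul]]
      exact add_mem (N.smul_mem c (hspan hur))
        (Submodule.mem_sup_right (Submodule.smul_mem_smul hq Submodule.mem_top))
    obtain ⟨r₀, hr₀, hle⟩ := Submodule.exists_sub_one_mem_and_smul_le_of_fg_of_le_sup
      (Module.Finite.fg_top (R := Q) (M := S)) le_rfl htop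
    refine Nat.find_min hex (m := (e.erase e₀).card) (he ▸ Finset.card_erase_lt_of_mem he₀)
      ⟨e.erase e₀, rfl, fun r => ⟨r₀, fun h => h1p ?_, ?_⟩⟩
    · simpa using sub_mem h hr₀
    · exact hle (Submodule.smul_mem_pointwise_smul r r₀ ⊤ Submodule.mem_top)
  by_contra hcon
  push Not at hcon
  obtain ⟨j₁, hj₁, hne⟩ := hcon
  let Sat : Finset S → Prop := fun J =>
    ∀ j ∈ e, ∃ u : Q, u ∉ p ∧ u * c j ∈ Ideal.span (c '' (J : Set S))
  have heSat : Sat e := fun j hj => ⟨1, h1p, by rw [one_mul]; exact Ideal.subset_span ⟨j, hj, rfl⟩⟩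
  obtain ⟨J, hJ, hJmin⟩ := Finset.exists_min_image (e.powerset.filter Sat) Finset.card
    ⟨e, Finset.mem_filter.2 ⟨Finset.mem_powerset.2 le_rfl, heSat⟩⟩
  obtain ⟨hJe, hJSat⟩ := Finset.mem_filter.1 hJ
  rw [Finset.mem_powerset] at hJe
  choose! u hu hmem using hJSat
  obtain ⟨l₀, hl₀⟩ : J.Nonempty := by
    rw [Finset.nonempty_iff_ne_empty]
    intro hJ0
    have h' := hmem j₁ hj₁
    rw [hJ0] at h'
    simp only [Finset.coe_empty, Set.image_empty, Ideal.span_empty, Submodule.mem_bot] at h'
    exact hne _ (hu j₁ hj₁) h'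
  let U : Q := ∏ j ∈ e, u j
  have hU : U ∉ p := fun h => by
    obtain ⟨j, hj, h'⟩ := (Ideal.IsPrime.prod_mem_iff (hp := Ideal.IsMaximal.isPrime ‹_›)).1 h
    exact hu j hj h'
  have hexa : ∀ j ∈ e, ∃ a : S → Q, (j ∈ J → ∀ l, a l = if l = j then U else 0) ∧
      ∑ l ∈ J, a l * c l = U * c j := by
    intro j hj
    by_cases hjJ : j ∈ J
    · exact ⟨fun l => if l = j then U else 0, fun _ l => rfl, by simp [hjJ]⟩
    · have h' := Ideal.mul_mem_left _ (∏ i ∈ e.erase j, u i) (hmem j hj)
      rw [← mul_assoc, Finset.prod_erase_mul _ _ hj] at h'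
      obtain ⟨a, ha⟩ := (Submodule.mem_span_image_finset_iff_exists_fun _).1 h'
      refine ⟨fun l => if h : l ∈ J then a ⟨l, h⟩ else 0, fun h => absurd h hjJ, ?_⟩
      rw [← ha, ← Finset.sum_attach]
      exact Finset.sum_congr rfl fun l _ => by simp
  choose! a ha1 ha2 using hexa
  let F : S → S := fun l => ∑ j ∈ e, a j l • j
  have hrel : ∑ l ∈ J, F l * algebraMap Q S (c l) = 0 := by
    have h1 : ∀ l, F l * algebraMap Q S (c l) = ∑ j ∈ e, (a j l * c l) • j := fun l => by
      rw [Finset.sum_mul]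
      exact Finset.sum_congr rfl fun j _ => by rw [Algebra.smul_def, Algebra.smul_def, map_mul]; ring
    simp only [h1]
    rw [Finset.sum_comm]
    simp only [← Finset.sum_smul]
    rw [Finset.sum_congr rfl fun j hj => by rw [ha2 j hj, mul_smul], ← Finset.smul_sum, hc, smul_zero]
  obtain ⟨v, hv, hvmem⟩ := hkey S J c l₀ hl₀ (fun w hw hwmem => by
    have hlt : (J.erase l₀).card < J.card := Finset.card_erase_lt_of_mem hl₀
    refine not_le.2 hlt (hJmin _ (Finset.mem_filter.2 ⟨Finset.mem_powerset.2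
      ((Finset.erase_subset _ _).trans hJe), fun j hj => ⟨w * u j, fun h => ?_, ?_⟩⟩))
    · rcases (Ideal.IsMaximal.isPrime ‹_›).mem_or_mem h with h' | h'
      exacts [hw h', hu j hj h']
    · obtain ⟨a', ha'⟩ := (Submodule.mem_span_image_finset_iff_exists_fun _).1 (hmem j hj)
      rw [mul_assoc, ← ha', Finset.mul_sum]
      refine Ideal.sum_mem _ fun l _ => ?_
      rw [smul_eq_mul, mul_left_comm]
      refine Ideal.mul_mem_left _ _ ?_
      rcases eq_or_ne (l : S) l₀ with h | h
      · rw [h]; exact hwmem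
      · exact Ideal.mul_mem_left _ _ (Ideal.subset_span ⟨l, Finset.mem_erase.2 ⟨h, l.2⟩, rfl⟩)) F hrel
  have hpS : v • F l₀ ∈ p • (⊤ : Submodule Q S) := by
    rw [Ideal.smul_top_eq_map]; exact hvmem
  have hl₀e := hJe hl₀
  set N := Submodule.span Q ((e.erase l₀ : Finset S) : Set S) ⊔ p • (⊤ : Submodule Q S)
  have h2 : (v * U) • l₀ ∈ N := by
    have h3 : v • F l₀ = (v * U) • l₀ + ∑ j ∈ e.erase l₀, (v * a j l₀) • j := by
      simp only [F, Finset.smul_sum, smul_smul]
      rw [← Finset.add_sum_erase _ _ hl₀e, ha1 l₀ hl₀e hl₀ l₀, if_pos rfl]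
    rw [show (v * U) • l₀ = v • F l₀ - ∑ j ∈ e.erase l₀, (v * a j l₀) • j by rw [h3, add_sub_cancel_right]]
    exact sub_mem (Submodule.mem_sup_right hpS) (Submodule.mem_sup_left (Submodule.sum_mem _ fun j hj =>
      Submodule.smul_mem _ _ (Submodule.subset_span hj)))
  have hvU : v * U ∉ p := fun h => by
    rcases (Ideal.IsMaximal.isPrime ‹_›).mem_or_mem h with h' | h'
    exacts [hv h', hU h']
  obtain ⟨d, q, hq, hdq⟩ := Ideal.IsMaximal.exists_inv ‹p.IsMaximal› hvU
  refine hmin l₀ hl₀e ?_
  have hl : d • ((v * U) • l₀) + q • l₀ = l₀ := by rw [smul_smul, ← add_smul, hdq, one_smul]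
  have h4 : d • ((v * U) • l₀) + q • l₀ ∈ N :=
    add_mem (N.smul_mem d h2) (Submodule.mem_sup_right (Submodule.smul_mem_smul hq Submodule.mem_top))
  rw [hl] at h4
  exact h4

variable (n : Ideal S) [n.IsPrime]

/-- regularity descends along a finite map which is free at the point -/
theorem isRegularLocalRing_of_relCond [IsNoetherianRing Q] (h : p = n.comap (algebraMap Q S))
    (hdiv : ∀ s ∉ n, ∃ u : Q, u ∉ p ∧ s ∣ algebraMap Q S u)
    (hkey : RelCond (S := S) p) [IsRegularLocalRing (Localization.AtPrime n)] :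
    IsRegularLocalRing (Localization.AtPrime p) := by
  classical
  obtain ⟨e, hgen, hind⟩ := exists_indep p hkey
  let φ : Localization.AtPrime p →+* Localization.AtPrime n :=
    Localization.localRingHom p n (algebraMap Q S) h
  letI := φ.toAlgebra
  haveI : IsLocalHom (algebraMap (Localization.AtPrime p) (Localization.AtPrime n)) :=
    inferInstanceAs (IsLocalHom φ)
  have hφ : ∀ q : Q, φ (algebraMap Q _ q) = algebraMap S _ (algebraMap Q S q) :=
    fun q => Localization.localRingHom_to_map _ _ _ h q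
  let ι : S →+* Localization.AtPrime n := algebraMap S _
  let v : e → Localization.AtPrime n := fun j => ι j
  have hli : LinearIndependent (Localization.AtPrime p) v := by
    rw [Fintype.linearIndependent_iff]
    intro C hC j
    obtain ⟨b, hb⟩ := IsLocalization.exist_integer_multiples p.primeCompl Finset.univ C
    choose c hc using fun i => hb i (Finset.mem_univ i)
    have hc' : ∀ i, algebraMap Q (Localization.AtPrime p) (c i) = algebraMap Q _ (b : Q) * C i := fun i =>
      (hc i).trans (Algebra.smul_def _ _)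
    let c' : S → Q := fun s => if h : s ∈ e then c ⟨s, h⟩ else 0
    have hsum : ι (∑ s ∈ e, c' s • s) = 0 := by
      rw [map_sum]
      calc ∑ s ∈ e, ι (c' s • s) = ∑ i : e, algebraMap Q (Localization.AtPrime p) (b : Q) • (C i • v i) := by
            rw [← Finset.sum_coe_sort]
            refine Finset.sum_congr rfl fun i _ => ?_
            simp only [c', dif_pos i.2, Subtype.coe_eta, v, smul_smul, ← hc']
            rw [Algebra.smul_def, Algebra.smul_def, map_mul]
            exact congrArg (· * _) (hφ (c i)).symm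
        _ = 0 := by rw [← Finset.smul_sum, hC, smul_zero]
    obtain ⟨⟨s, hs⟩, hs0⟩ := (IsLocalization.map_eq_zero_iff n.primeCompl _ _).1 hsum
    obtain ⟨u, hu, w, hw⟩ := hdiv s hs
    have h0 : ∑ x ∈ e, (u * c' x) • x = 0 := by
      simp only [mul_smul, ← Finset.smul_sum]
      rw [Algebra.smul_def, hw, mul_comm s w, mul_assoc, hs0, mul_zero]
    obtain ⟨u', hu', hu0⟩ := hind (fun x => u * c' x) h0 j j.2
    have hb' : IsUnit (algebraMap Q (Localization.AtPrime p) (b : Q)) := IsLocalization.map_units _ b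
    have huu : IsUnit (algebraMap Q (Localization.AtPrime p) (u' * u)) :=
      IsLocalization.map_units (M := p.primeCompl) _ ⟨u' * u, fun h => by
        rcases (Ideal.IsMaximal.isPrime ‹p.IsMaximal›).mem_or_mem h with h' | h'
        exacts [hu' h', hu h']⟩
    have h1 := congrArg (algebraMap Q (Localization.AtPrime p)) hu0
    rw [map_zero, ← mul_assoc, map_mul] at h1
    simp only [c', dif_pos j.2, Subtype.coe_eta, hc'] at h1
    exact hb'.mul_right_eq_zero.1 (huu.mul_right_eq_zero.1 h1)
  have hspan : ⊤ ≤ Submodule.span (Localization.AtPrime p) (Set.range v) := by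
    rintro z -
    obtain ⟨r, ⟨s, hs⟩, rfl⟩ := IsLocalization.exists_mk'_eq n.primeCompl z
    obtain ⟨u, hu, w, hw⟩ := hdiv s hs
    obtain ⟨u', hu', hmem⟩ := hgen (r * w)
    obtain ⟨a, ha⟩ := IsLocalization.map_units (Localization.AtPrime p)
      (⟨u' * u, fun h => by
        rcases (Ideal.IsMaximal.isPrime ‹p.IsMaximal›).mem_or_mem h with h' | h'
        exacts [hu' h', hu h']⟩ : p.primeCompl)
    have h1 : (a : Localization.AtPrime p) • IsLocalization.mk' (Localization.AtPrime n) r ⟨s, hs⟩ =
        ι (u' • (r * w)) := by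
      rw [ha, Algebra.smul_def]
      change φ (algebraMap Q _ (u' * u)) * _ = _
      rw [hφ, map_mul, hw, Algebra.smul_def, show algebraMap Q S u' * (s * w) = (algebraMap Q S u' * w) * s by ring,
        map_mul, mul_assoc, IsLocalization.mk'_spec'_mk, ← map_mul]
      exact congrArg ι (by ring)
    rw [show IsLocalization.mk' (Localization.AtPrime n) r ⟨s, hs⟩ =
        (↑a⁻¹ : Localization.AtPrime p) • ((a : Localization.AtPrime p) •
          IsLocalization.mk' (Localization.AtPrime n) r ⟨s, hs⟩) by rw [smul_smul, Units.inv_mul, one_smul], h1]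
    refine Submodule.smul_mem _ _ ?_
    clear h1
    generalize u' • (r * w) = y at hmem
    induction hmem using Submodule.span_induction with
    | mem x hx => exact Submodule.subset_span ⟨⟨x, hx⟩, rfl⟩
    | zero => simp [ι]
    | add x y _ _ hx hy => simpa [ι] using add_mem hx hy
    | smul q x _ hx =>
      rw [show ι (q • x) = algebraMap Q (Localization.AtPrime p) q • ι x by
        simp only [ι, Algebra.smul_def, map_mul]
        exact congrArg (· * _) (hφ q).symm]
      exact Submodule.smul_mem _ _ hx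
  haveI : Module.Flat (Localization.AtPrime p) (Localization.AtPrime n) :=
    have := Module.Free.of_basis (Module.Basis.mk hli hspan)
    inferInstance
  exact RegLoc.Homological.isRegularLocalRing_of_flat (Localization.AtPrime n)

end Groth.Agent.Comod.CSTFlat
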