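import Groth.Agent.Comod.Integral
import Mathlib.LinearAlgebra.Charpoly.BaseChange
import Mathlib.LinearAlgebra.Matrix.Charpoly.Coeff
import Mathlib.RingTheory.IntegralClosure.IsIntegral.Basic
import Mathlib.RingTheory.TensorProduct.Free

/-!
# Norms for actions of finite group schemes
-/

set_option autoImplicit false
set_option linter.unusedSectionVars false
set_option linter.style.haveILetI false

universe u v w

noncomputable section

open TensorProduct Polynomial WithConv

namespace Groth.Agent.Comod.FiniteNorm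

variable {k : Type u} [Field k] {A : Type v} [CommRing A] [HopfAlgebra k A] [Module.Finite k A]

variable (k A) in
/-- a basis of the Hopf algebra -/
def bas : Module.Basis (Fin (Module.finrank k A)) k A := Module.finBasis k A

variable {S : Type w} [CommRing S] [Algebra k S]

/-- the characteristic polynomial of multiplication on `S ⊗ A` over `S` -/
def cp (t : S ⊗[k] A) : S[X] :=
  (Algebra.leftMulMatrix (Algebra.TensorProduct.basis S (bas k A)) t).charpoly

theorem cp_map {S' : Type*} [CommRing S'] [Algebra k S'] (g : S →ₐ[k] S') (t : S ⊗[k] A) :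
    cp (Algebra.TensorProduct.map g (AlgHom.id k A) t) = (cp t).map g.toRingHom := by
  have hrepr : ∀ (y : S ⊗[k] A) (i : Fin (Module.finrank k A)),
      (Algebra.TensorProduct.basis S' (bas k A)).repr (Algebra.TensorProduct.map g (AlgHom.id k A) y) i =
        g ((Algebra.TensorProduct.basis S (bas k A)).repr y i) := by
    intro y i
    induction y using TensorProduct.induction_on with
    | zero => simp
    | tmul s a => simp [Algebra.TensorProduct.basis_repr_tmul]
    | add p q hp hq => simp [map_add, hp, hq]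
  unfold cp
  rw [← Matrix.charpoly_map]
  congr 1
  ext i j
  simp only [Matrix.map_apply, Algebra.leftMulMatrix_eq_repr_mul]
  rw [Algebra.TensorProduct.basis_apply, Algebra.TensorProduct.basis_apply]
  have := hrepr (t * ((1 : S) ⊗ₜ[k] bas k A j)) i
  rw [map_mul, Algebra.TensorProduct.map_tmul, map_one, AlgHom.id_apply] at this
  exact this

theorem cp_monic (t : S ⊗[k] A) : (cp t).Monic := Matrix.charpoly_monic _

theorem aeval_cp (t : S ⊗[k] A) : Polynomial.aeval t (cp t) = 0 := by
  refine Algebra.leftMulMatrix_injective (Algebra.TensorProduct.basis S (bas k A)) ?_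
  rw [map_zero, ← Polynomial.aeval_algHom_apply]
  exact Matrix.aeval_self_charpoly _

theorem cp_eq_charpoly (t : S ⊗[k] A) : cp t = (LinearMap.mulLeft S t).charpoly := by
  unfold cp
  rw [← LinearMap.charpoly_toMatrix (LinearMap.mulLeft S t) (Algebra.TensorProduct.basis S (bas k A))]
  rfl

theorem cp_algEquiv (e : (S ⊗[k] A) ≃ₐ[S] (S ⊗[k] A)) (t : S ⊗[k] A) : cp (e t) = cp t := by
  haveI : Module.Free S (S ⊗[k] A) := Module.Free.of_basis (Algebra.TensorProduct.basis S (bas k A))
  haveI : Module.Finite S (S ⊗[k] A) := Module.Finite.of_basis (Algebra.TensorProduct.basis S (bas k A))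
  rw [cp_eq_charpoly, cp_eq_charpoly, ← LinearEquiv.charpoly_conj e.toLinearEquiv (LinearMap.mulLeft S t)]
  congr 1
  ext y
  simp [LinearEquiv.conj_apply]

theorem cp_algebraMap (c : S) :
    cp (c ⊗ₜ[k] (1 : A)) = (Polynomial.X - Polynomial.C c) ^ Module.finrank k A := by
  unfold cp
  rw [show (c ⊗ₜ[k] (1 : A)) = algebraMap S (S ⊗[k] A) c from rfl, AlgHom.commutes,
    Matrix.algebraMap_eq_diagonal, Matrix.charpoly_diagonal]
  simp

theorem antipode_conv_cancel {C : Type*} [CommRing C] [Algebra k C] (f g : A →ₐ[k] C) :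
    toConv (f.comp (HopfAlgebra.antipodeAlgHom k A)) * (toConv f * toConv g) = toConv g := by
  rw [← mul_assoc, antipode_comp_conv, one_mul]

variable {R : Type w} [CommRing R] [Algebra k R] [HopfRep.Comod k A R] [GLin.IsCoactAlg k A R]

variable (k A R) in
/-- `a ↦ 1 ⊗ a ⊗ 1` -/
abbrev i2 : A →ₐ[k] (R ⊗[k] A) ⊗[k] A :=
  (Algebra.TensorProduct.includeLeft (R := k) (S := k) (A := R ⊗[k] A) (B := A)).comp
    (Algebra.TensorProduct.includeRight : A →ₐ[k] R ⊗[k] A)

variable (k A R) in
/-- `a ↦ 1 ⊗ 1 ⊗ a` -/
abbrev i3 : A →ₐ[k] (R ⊗[k] A) ⊗[k] A := Algebra.TensorProduct.includeRight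

variable (k A R) in
/-- `r ⊗ a ⊗ b ↦ r ⊗ a b₁ ⊗ b₂` -/
def shear : (R ⊗[k] A) ⊗[k] A →ₐ[R ⊗[k] A] (R ⊗[k] A) ⊗[k] A :=
  Algebra.TensorProduct.lift (Algebra.ofId _ _) ((toConv (i2 k A R) * toConv (i3 k A R)).ofConv) fun _ _ => Commute.all _ _

theorem shear_tmul (s : R ⊗[k] A) (b : A) :
    shear k A R (s ⊗ₜ[k] b) = algebraMap _ _ s * (toConv (i2 k A R) * toConv (i3 k A R)).ofConv b := by
  rw [shear, Algebra.TensorProduct.lift_tmul]
  rfl

theorem shear_surjective : Function.Surjective (shear k A R) := by
  rw [← AlgHom.range_eq_top, eq_top_iff]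
  rintro y -
  induction y using TensorProduct.induction_on with
  | zero => exact zero_mem _
  | add p q hp hq => exact add_mem hp hq
  | tmul s b =>
    rw [show s ⊗ₜ[k] b = algebraMap (R ⊗[k] A) _ s * ((1 : R ⊗[k] A) ⊗ₜ[k] b) by
      rw [Algebra.TensorProduct.algebraMap_apply, Algebra.TensorProduct.tmul_mul_tmul, mul_one, one_mul]
      rfl]
    refine mul_mem (Subalgebra.algebraMap_mem _ _) ⟨(toConv (((i2 k A R)).comp (HopfAlgebra.antipodeAlgHom k A)) *
      toConv (i3 k A R)).ofConv b, ?_⟩
    change shear k A R _ = _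
    have h1 : ((shear k A R).restrictScalars k).comp (i2 k A R) = (i2 k A R) := AlgHom.ext fun a => by
      change shear k A R (algebraMap (R ⊗[k] A) _ ((1 : R) ⊗ₜ[k] a)) = _
      rw [AlgHom.commutes]
      rfl
    have h2 : ((shear k A R).restrictScalars k).comp (i3 k A R) = (toConv (i2 k A R) * toConv (i3 k A R)).ofConv := AlgHom.ext fun a => by
      change shear k A R ((1 : R ⊗[k] A) ⊗ₜ[k] a) = _
      rw [shear_tmul, map_one, one_mul]
    have h3 : ∀ (φ ψ : A →ₐ[k] (R ⊗[k] A) ⊗[k] A),
        shear k A R ((toConv φ * toConv ψ).ofConv b) =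
          (toConv (((shear k A R).restrictScalars k).comp φ) *
            toConv (((shear k A R).restrictScalars k).comp ψ)).ofConv b := by
      intro φ ψ
      rw [AlgHom.convMul_apply, AlgHom.convMul_apply]
      induction Coalgebra.comul (R := k) b using TensorProduct.induction_on with
      | zero => simp
      | tmul c d => simp
      | add p q hp hq => simp only [map_add, hp, hq]
    rw [h3, ← AlgHom.comp_assoc, h1, h2]
    change (toConv ((i2 k A R).comp (HopfAlgebra.antipodeAlgHom k A)) * (toConv (i2 k A R) * toConv (i3 k A R))).ofConv b = _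
    rw [antipode_conv_cancel]
    rfl

theorem cp_coeff_mem (f : R) (n : ℕ) :
    (cp (HopfRep.Comod.coact (k := k) (A := A) f)).coeff n ∈ GLin.invariants k A R := by
  set t := HopfRep.Comod.coact (k := k) (A := A) f with ht
  haveI : Module.Finite (R ⊗[k] A) ((R ⊗[k] A) ⊗[k] A) :=
    Module.Finite.of_basis (Algebra.TensorProduct.basis (R ⊗[k] A) (bas k A))
  let e : ((R ⊗[k] A) ⊗[k] A) ≃ₐ[R ⊗[k] A] (R ⊗[k] A) ⊗[k] A :=
    AlgEquiv.ofBijective (shear k A R)
      (OrzechProperty.bijective_of_surjective_endomorphism (shear k A R).toLinearMap shear_surjective)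
  let inc : R →ₐ[k] R ⊗[k] A := Algebra.TensorProduct.includeLeft
  have hkey : e (Algebra.TensorProduct.map inc (AlgHom.id k A) t) =
      Algebra.TensorProduct.map (GLin.coactAlgHom k A R) (AlgHom.id k A) t := by
    have h1 : ∀ y : R ⊗[k] A, shear k A R (Algebra.TensorProduct.map inc (AlgHom.id k A) y) =
        (TensorProduct.assoc k R A A).symm ((Coalgebra.comul (R := k) (A := A)).lTensor R y) := by
      intro y
      induction y using TensorProduct.induction_on with
      | zero => simp
      | add p q hp hq => simp only [map_add, hp, hq]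
      | tmul r b =>
        rw [Algebra.TensorProduct.map_tmul, AlgHom.id_apply, shear_tmul, LinearMap.lTensor_tmul,
          AlgHom.convMul_apply, Algebra.TensorProduct.includeLeft_apply]
        induction Coalgebra.comul (R := k) b using TensorProduct.induction_on with
        | zero => simp
        | tmul c d => simp [Algebra.TensorProduct.algebraMap_apply, Algebra.TensorProduct.tmul_mul_tmul]
        | add p q hp hq => simp only [map_add, mul_add, tmul_add, hp, hq]
    change shear k A R _ = _
    have hassoc := LinearMap.congr_fun (HopfRep.Comod.coassoc (k := k) (A := A) (V := R)) f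
    simp only [LinearMap.comp_apply, LinearEquiv.coe_coe] at hassoc
    rw [h1, ht, ← hassoc, LinearEquiv.symm_apply_apply]
    rfl
  have h := cp_algEquiv e (Algebra.TensorProduct.map inc (AlgHom.id k A) t)
  rw [hkey, cp_map, cp_map] at h
  have h2 := congrArg (fun P => Polynomial.coeff P n) h
  simp only [Polynomial.coeff_map] at h2
  exact h2

theorem eval_cp (f : R) : Polynomial.eval f (cp (HopfRep.Comod.coact (k := k) (A := A) f)) = 0 := by
  let ε : R ⊗[k] A →ₐ[R] R :=
    Algebra.TensorProduct.lift (AlgHom.id R R) ((Algebra.ofId k R).comp (Bialgebra.counitAlgHom k A))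
      fun _ _ => Commute.all _ _
  have hε : ε (HopfRep.Comod.coact (k := k) (A := A) f) = f := by
    have hcu := LinearMap.congr_fun (HopfRep.Comod.counit_comp (k := k) (A := A) (V := R)) f
    simp only [LinearMap.comp_apply, LinearMap.flip_apply, TensorProduct.mk_apply] at hcu
    have h : ∀ y : R ⊗[k] A, ε y = TensorProduct.rid k R ((Coalgebra.counit (R := k) (A := A)).lTensor R y) := by
      intro y
      induction y using TensorProduct.induction_on with
      | zero => simp
      | tmul r a => simp [ε, Algebra.smul_def, mul_comm]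
      | add p q hp hq => simp only [map_add, hp, hq]
    rw [h, hcu]
    simp
  have := congrArg ε (aeval_cp (HopfRep.Comod.coact (k := k) (A := A) f))
  rwa [← Polynomial.aeval_algHom_apply, hε, map_zero, Polynomial.coe_aeval_eq_eval] at this

theorem isIntegral_invariants : Algebra.IsIntegral (GLin.invariants k A R) R := by
  refine ⟨fun f => ?_⟩
  let P := cp (HopfRep.Comod.coact (k := k) (A := A) f)
  have hlift : P ∈ Polynomial.lifts (algebraMap (GLin.invariants k A R) R) := by
    rw [Polynomial.lifts_iff_coeff_lifts]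
    exact fun n => ⟨⟨_, cp_coeff_mem f n⟩, rfl⟩
  obtain ⟨q, hq, -, hmon⟩ := Polynomial.lifts_and_natDegree_eq_and_monic hlift (cp_monic _)
  exact ⟨q, hmon, by rw [Polynomial.eval₂_eq_eval_map, hq]; exact eval_cp f⟩

/-- a function not vanishing at a fixed point divides an invariant not vanishing there -/
theorem exists_invariant_multiple (x : R →ₐ[k] k) (hx : GLin.IsFixedPt k A x) {f : R} (hf : x f ≠ 0) :
    ∃ u ∈ GLin.invariants k A R, x u ≠ 0 ∧ f ∣ u := by
  set t := HopfRep.Comod.coact (k := k) (A := A) f
  refine ⟨(cp t).coeff 0, cp_coeff_mem f 0, ?_, ?_⟩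
  · have hmap : Algebra.TensorProduct.map x (AlgHom.id k A) t = x f ⊗ₜ[k] (1 : A) := by
      apply (Algebra.TensorProduct.lid k A).injective
      have h := AlgHom.congr_fun hx f
      refine (Eq.trans ?_ h).trans ?_
      · rfl
      · simp [Algebra.algebraMap_eq_smul_one]
    have h := congrArg (fun P => Polynomial.coeff P 0) (cp_map x t)
    rw [hmap, cp_algebraMap] at h
    simp only [Polynomial.coeff_map] at h
    intro h0
    rw [show x.toRingHom ((cp t).coeff 0) = 0 from h0, Polynomial.coeff_zero_eq_eval_zero, Polynomial.eval_pow] at h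
    simp [hf] at h
  · have h := eval_cp (k := k) (A := A) f
    rw [Polynomial.eval_eq_sum_range, Finset.sum_range_succ', pow_zero, mul_one] at h
    have h1 : (cp t).coeff 0 = -∑ i ∈ Finset.range (cp t).natDegree, (cp t).coeff (i + 1) * f ^ (i + 1) :=
      eq_neg_of_add_eq_zero_right h
    rw [h1, dvd_neg]
    exact Finset.dvd_sum fun i _ => Dvd.dvd.mul_left (dvd_pow_self f (Nat.succ_ne_zero i)) _

end Groth.Agent.Comod.FiniteNorm
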