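import Groth.Agent.Comod.CST
import Groth.Agent.Comod.CSTFlat
import Groth.Agent.Comod.FiniteNorm
import Groth.Agent.RegLoc.Basic
import Groth.Agent.Omega.RankDim

/-!
# Pseudo-reflections at a fixed point of a smooth affine scheme
-/

set_option autoImplicit false
set_option linter.style.haveILetI false
set_option linter.unusedSectionVars false

universe u

noncomputable section

open TensorProduct

namespace Groth.Agent.Comod.CSTPt

variable {k : Type u} [Field k] {A : Type u} [CommRing A] [HopfAlgebra k A]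
  {R : Type u} [CommRing R] [Algebra k R] [HopfRep.Comod k A R] [GLin.IsCoactAlg k A R]

theorem x_contract {x : R →ₐ[k] k} (hx : GLin.IsFixedPt k A x) (φ : A →ₗ[k] k) (f : R) :
    x (contract φ f) = φ 1 * x f := by
  have h1 : φ (GLin.orbitHom k A x f) = x (contract φ f) := by
    change φ (TensorProduct.lid k A (TensorProduct.map x.toLinearMap LinearMap.id
      (HopfRep.Comod.coact (k := k) (A := A) f))) = _
    rw [contract_apply]
    induction HopfRep.Comod.coact (k := k) (A := A) f using TensorProduct.induction_on with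
    | zero => simp
    | tmul r a => simp [mul_comm]
    | add p q hp hq => simp only [map_add, hp, hq]
  rw [← h1, show GLin.orbitHom k A x = (Algebra.ofId k A).comp x from hx, AlgHom.comp_apply,
    Algebra.ofId_apply, Algebra.algebraMap_eq_smul_one, map_smul, smul_eq_mul, mul_comm]

theorem x_avg {x : R →ₐ[k] k} (hx : GLin.IsFixedPt k A x) {α : A →ₗ[k] k} (hα : IsIntegral k α) (f : R) :
    x (avg α f) = x f := by
  letI := HopfRep.Comod.trivial k A k
  have hx' : Hoch.IsComodHom A x.toLinearMap := by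
    rw [isComodHom_iff]
    intro φ r
    rw [AlgHom.toLinearMap_apply, AlgHom.toLinearMap_apply, x_contract hx, contract_apply]
    change _ = slice φ (x r ⊗ₜ[k] (1 : A))
    rw [slice_tmul, smul_eq_mul]
  have h := map_avg α hx' f
  rw [AlgHom.toLinearMap_apply, AlgHom.toLinearMap_apply] at h
  exact h.trans (avg_eq_self hα rfl)

theorem contract_mul_fixed (φ : A →ₗ[k] k) (r : R) {c : R} (hc : c ∈ GLin.invariants k A R) :
    contract φ (r * c) = contract φ r * c := by
  rw [contract_apply, GLin.IsCoactAlg.coact_mul,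
    show HopfRep.Comod.coact (k := k) (A := A) c = c ⊗ₜ[k] (1 : A) from hc,
    slice_mul_tmul_one, ← contract_apply]

theorem isSubcomod_pow_ker {x : R →ₐ[k] k} (hx : GLin.IsFixedPt k A x) (j : ℕ) :
    HopfRep.IsSubcomod (k := k) (A := A) ((RingHom.ker x ^ j).restrictScalars k) := by
  induction j with
  | zero =>
    rw [pow_zero, Ideal.one_eq_top, Submodule.restrictScalars_top]
    exact isSubcomod_top
  | succ j ih =>
    rw [pow_succ]
    refine isSubcomod_mul ih (isSubcomod_iff.2 fun φ v hv => ?_)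
    have hv' : x v = 0 := hv
    change x (contract φ v) = 0
    rw [x_contract hx, hv', mul_zero]

theorem contract_mem_pow {x : R →ₐ[k] k} (hx : GLin.IsFixedPt k A x) (φ : A →ₗ[k] k) {j : ℕ} {v : R}
    (hv : v ∈ RingHom.ker x ^ j) : contract φ v ∈ RingHom.ker x ^ j :=
  contract_mem (isSubcomod_pow_ker hx j) φ hv

/-- Krull's intersection theorem at a point -/
theorem exists_mul_mem [IsNoetherianRing R] (n : Ideal R) [n.IsPrime] (J : Ideal R) {a : R}
    (h : ∀ j : ℕ, a ∈ J ⊔ n ^ j) : ∃ u ∉ n, u * a ∈ J := by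
  have h1 : algebraMap R (Localization.AtPrime n) a ∈ J.map (algebraMap R (Localization.AtPrime n)) := by
    refine le_of_le_sup_pow (IsLocalRing.maximalIdeal.isMaximal (Localization.AtPrime n)).ne_top fun j => ?_
    rw [← Localization.AtPrime.map_eq_maximalIdeal, ← Ideal.map_pow, ← Ideal.map_sup]
    exact Ideal.mem_map_of_mem _ (h j)
  obtain ⟨u, hu, hua⟩ := (IsLocalization.algebraMap_mem_map_algebraMap_iff n.primeCompl _ J a).1 h1
  exact ⟨u, hu, hua⟩

/-- at the point, a pseudo-reflection moves every function by a multiple of one function -/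
theorem exists_local_eq [IsNoetherianRing R] {x : R →ₐ[k] k} (hx : GLin.IsFixedPt k A x) {I : Ideal A}
    (hI : GLin.IsPseudoReflAt k A R x I)
    (hsub : ∀ (J : Ideal A) [J.IsHopfIdeal k], HopfRep.IsLinearlyReductive k (A ⧸ J)) :
    ∃ l : R, x l = 0 ∧ l ∉ RingHom.ker x ^ 2 ∧ ∀ (φ : (A ⧸ I) →ₗ[k] k) (f : R),
      ∃ u, x u ≠ 0 ∧ l ∣ u * (contract (φ ∘ₗ (Ideal.Quotient.mkₐ k I).toLinearMap) f - φ 1 • f) := by
  classical
  haveI := hI.1
  obtain ⟨β, hβ⟩ := exists_integral_of_linRed (hsub I)
  let q : A →ₐc[k] (A ⧸ I) := Bialgebra.Quotient.mkBialgHom I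
  let cB : HopfRep.Comod k (A ⧸ I) R := CST.push q.toCoalgHom ‹HopfRep.Comod k A R›
  let π : A →ₗ[k] A ⧸ I := (Ideal.Quotient.mkₐ k I).toLinearMap
  let m : Submodule k R := (RingHom.ker x).restrictScalars k
  let m2 : Submodule k R := (RingHom.ker x ^ 2).restrictScalars k
  have hcB : ∀ (φ : (A ⧸ I) →ₗ[k] k) (v : R), slice φ (cB.coact v) = contract (φ ∘ₗ π) v := by
    intro φ v
    rw [contract_apply]
    change slice φ (π.lTensor R (HopfRep.Comod.coact (k := k) (A := A) v)) = _
    simp only [slice, LinearMap.comp_apply, ← LinearMap.lTensor_comp_apply]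
  have hm2m : m2 ≤ m := fun v hv => Ideal.pow_le_self two_ne_zero hv
  let F : Submodule k R := m ⊓ GLin.cotFixedLift k A R x I
  have hmap2 : ∀ (φ : (A ⧸ I) →ₗ[k] k) (y : R ⊗[k] A),
      slice φ (TensorProduct.map (Ideal.Quotient.mkₐ k (RingHom.ker x ^ 2)).toLinearMap π y) =
        Ideal.Quotient.mk _ (slice (φ ∘ₗ π) y) := by
    intro φ y
    induction y using TensorProduct.induction_on with
    | zero => simp
    | tmul r a =>
      simp only [TensorProduct.map_tmul, slice_tmul, LinearMap.comp_apply, AlgHom.toLinearMap_apply]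
      rfl
    | add p q hp hq => simp only [map_add, hp, hq]
  have hF : ∀ v, v ∈ F ↔ v ∈ m ∧ ∀ φ : (A ⧸ I) →ₗ[k] k, contract (φ ∘ₗ π) v - φ 1 • v ∈ m2 := by
    intro v
    refine and_congr_right fun _ => ⟨fun h φ => ?_, fun h => ?_⟩
    · have h1 := congrArg (slice φ) (h : TensorProduct.map _ π _ = _)
      rw [LinearMap.comp_apply] at h1
      rw [hmap2, ← contract_apply, LinearMap.comp_apply, LinearMap.flip_apply, TensorProduct.mk_apply,
        slice_tmul] at h1
      exact Ideal.Quotient.eq.1 (h1.trans (map_smul (Ideal.Quotient.mkₐ k (RingHom.ker x ^ 2)) (φ 1) v).symm)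
    · change TensorProduct.map _ π _ = _
      rw [← sub_eq_zero]
      refine eq_zero_of_slice _ fun φ => ?_
      rw [map_sub, hmap2, ← contract_apply, LinearMap.comp_apply, LinearMap.flip_apply, TensorProduct.mk_apply,
        slice_tmul, sub_eq_zero]
      exact (Ideal.Quotient.eq.2 (h φ)).trans (map_smul (Ideal.Quotient.mkₐ k (RingHom.ker x ^ 2)) (φ 1) v)
  have hm2F : m2 ≤ F := fun v hv => (hF v).2 ⟨hm2m hv, fun φ =>
    sub_mem (contract_mem_pow hx _ hv) (m2.smul_mem _ hv)⟩
  have hmB : @HopfRep.IsSubcomod k (A ⧸ I) _ _ _ _ R _ _ cB m := by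
    refine (@isSubcomod_iff k _ (A ⧸ I) _ _ R _ _ _ cB _ _).2 fun φ v hv => ?_
    change slice φ (cB.coact v) ∈ m
    rw [hcB]
    have := contract_mem_pow hx (φ ∘ₗ π) (j := 1) (by rw [pow_one]; exact hv)
    rwa [pow_one] at this
  have hm2B : @HopfRep.IsSubcomod k (A ⧸ I) _ _ _ _ R _ _ cB m2 := by
    refine (@isSubcomod_iff k _ (A ⧸ I) _ _ R _ _ _ cB _ _).2 fun φ v hv => ?_
    change slice φ (cB.coact v) ∈ m2
    rw [hcB]
    exact contract_mem_pow hx _ hv
  have hFB : @HopfRep.IsSubcomod k (A ⧸ I) _ _ _ _ R _ _ cB F := by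
    refine (@isSubcomod_iff k _ (A ⧸ I) _ _ R _ _ _ cB _ _).2 fun φ v hv => ?_
    change slice φ (cB.coact v) ∈ F
    rw [hcB, show contract (φ ∘ₗ π) v = (contract (φ ∘ₗ π) v - φ 1 • v) + φ 1 • v by abel]
    exact add_mem (hm2F (((hF v).1 hv).2 φ)) (F.smul_mem _ hv)
  obtain ⟨C, hC, hcompl⟩ := @IsIntegral.isSemisimpleComod k _ (A ⧸ I) _ _ β hβ R _ _ cB _ hFB
  let L : Submodule k R := C ⊓ m
  have hL : @HopfRep.IsSubcomod k (A ⧸ I) _ _ _ _ R _ _ cB L :=
    @isSubcomod_inf k _ (A ⧸ I) _ _ R _ _ _ cB _ _ _ hC hmB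
  have hsup : F ⊔ L = m := by
    change F ⊔ (C ⊓ m) = m
    rw [← sup_inf_assoc_of_le C inf_le_left, hcompl.sup_eq_top, top_inf_eq]
  have hinf : F ⊓ L = ⊥ := by
    refine le_bot_iff.1 ?_
    rw [← hcompl.inf_eq_bot]
    exact inf_le_inf le_rfl inf_le_left
  let Mk : R →ₗ[k] R ⧸ RingHom.ker x ^ 2 := (Ideal.Quotient.mkₐ k (RingHom.ker x ^ 2)).toLinearMap
  have hker : ∀ v, Mk v = 0 ↔ v ∈ m2 := fun v => Ideal.Quotient.eq_zero_iff_mem
  have hcs : GLin.cotSpace k R x = GLin.cotFixed k A R x I ⊔ L.map Mk := by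
    change m.map Mk = F.map Mk ⊔ L.map Mk
    rw [← Submodule.map_sup, hsup]
  have hinf' : GLin.cotFixed k A R x I ⊓ L.map Mk = ⊥ := by
    refine (Submodule.eq_bot_iff _).2 ?_
    rintro _ ⟨⟨f, hf, rfl⟩, l, hl, hlf⟩
    have h1 : l - f ∈ m2 := (hker _).1 (by rw [map_sub, hlf, sub_self])
    have h2 : l ∈ F ⊓ L := ⟨by simpa using add_mem (hm2F h1) hf, hl⟩
    rw [hinf, Submodule.mem_bot] at h2
    rw [← hlf, h2, map_zero]
  haveI : Module.Finite k ↥(GLin.cotSpace k R x) := Module.finite_of_finrank_eq_succ hI.2.symm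
  have hle : GLin.cotFixed k A R x I ≤ GLin.cotSpace k R x := by rw [hcs]; exact le_sup_left
  haveI : Module.Finite k ↥(GLin.cotFixed k A R x I) :=
    Module.Finite.of_injective (Submodule.inclusion hle) (Submodule.inclusion_injective _)
  haveI : Module.Finite k ↥(L.map Mk) :=
    Module.Finite.of_injective (Submodule.inclusion (show L.map Mk ≤ GLin.cotSpace k R x by
      rw [hcs]; exact le_sup_right)) (Submodule.inclusion_injective _)
  have hdim : Module.finrank k ↥(L.map Mk) = 1 := by
    have := Submodule.finrank_sup_add_finrank_inf_eq (GLin.cotFixed k A R x I) (L.map Mk)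
    rw [← hcs, hinf', finrank_bot] at this
    have := hI.2
    omega
  obtain ⟨⟨_, l, hlL, rfl⟩, hl0, hlspan⟩ := finrank_eq_one_iff'.1 hdim
  have hLspan : ∀ y ∈ L, ∃ c : k, c • l = y := by
    intro y hy
    obtain ⟨c, hc⟩ := hlspan ⟨Mk y, y, hy, rfl⟩
    refine ⟨c, ?_⟩
    have h1 : c • l - y ∈ m2 := (hker _).1 (by
      rw [map_sub, map_smul, sub_eq_zero]; exact congrArg Subtype.val hc)
    have h2 : c • l - y ∈ F ⊓ L := ⟨hm2F h1, sub_mem (L.smul_mem c hlL) hy⟩
    rw [hinf, Submodule.mem_bot, sub_eq_zero] at h2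
    exact h2
  refine ⟨l, hlL.2, fun h => hl0 (Subtype.ext ((hker l).2 h)), fun φ₀ f₀ => ?_⟩
  have hgoal : ∀ j : ℕ, contract (φ₀ ∘ₗ π) f₀ - φ₀ 1 • f₀ ∈ Ideal.span {l} ⊔ RingHom.ker x ^ j := by
    intro j
    let J : Ideal R := Ideal.span {l} ⊔ RingHom.ker x ^ j
    let ψ : R →ₐ[k] (R ⧸ J) ⊗[k] (A ⧸ I) :=
      (Algebra.TensorProduct.map (Ideal.Quotient.mkₐ k J) (Ideal.Quotient.mkₐ k I)).comp (GLin.coactAlgHom k A R)
    let ψ' : R →ₐ[k] (R ⧸ J) ⊗[k] (A ⧸ I) :=
      Algebra.TensorProduct.includeLeft.comp (Ideal.Quotient.mkₐ k J)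
    let E : Subalgebra k R := AlgHom.equalizer ψ ψ'
    have hmapJ : ∀ (φ : (A ⧸ I) →ₗ[k] k) (y : R ⊗[k] A),
        slice φ (Algebra.TensorProduct.map (Ideal.Quotient.mkₐ k J) (Ideal.Quotient.mkₐ k I) y) =
          Ideal.Quotient.mk J (slice (φ ∘ₗ π) y) := by
      intro φ y
      induction y using TensorProduct.induction_on with
      | zero => simp
      | tmul r a =>
        simp only [Algebra.TensorProduct.map_tmul, slice_tmul, LinearMap.comp_apply]
        rfl
      | add p q hp hq => simp only [map_add, hp, hq]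
    have hE : ∀ v, v ∈ E ↔ ∀ φ : (A ⧸ I) →ₗ[k] k, contract (φ ∘ₗ π) v - φ 1 • v ∈ J := by
      intro v
      constructor
      · intro h φ
        have h1 := congrArg (slice φ) (h : ψ v = ψ' v)
        simp only [ψ, ψ', AlgHom.comp_apply, GLin.coactAlgHom_apply, Algebra.TensorProduct.includeLeft_apply,
          hmapJ, slice_tmul, ← contract_apply, Ideal.Quotient.mkₐ_eq_mk] at h1
        exact Ideal.Quotient.eq.1 (h1.trans (map_smul (Ideal.Quotient.mkₐ k J) (φ 1) v).symm)
      · intro h
        change ψ v = ψ' v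
        rw [← sub_eq_zero]
        refine eq_zero_of_slice _ fun φ => ?_
        simp only [ψ, ψ', AlgHom.comp_apply, GLin.coactAlgHom_apply, Algebra.TensorProduct.includeLeft_apply,
          map_sub, hmapJ, slice_tmul, ← contract_apply, Ideal.Quotient.mkₐ_eq_mk, sub_eq_zero]
        exact (Ideal.Quotient.eq.2 (h φ)).trans (map_smul (Ideal.Quotient.mkₐ k J) (φ 1) v)
    let E' : Submodule k R := Subalgebra.toSubmodule E
    have hEj : (RingHom.ker x ^ j).restrictScalars k ≤ E' := fun v hv => (hE v).2 fun φ =>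
      Ideal.mem_sup_right (sub_mem (contract_mem_pow hx _ hv)
        (((RingHom.ker x ^ j).restrictScalars k).smul_mem _ hv))
    have hlJ : ∀ y ∈ L, y ∈ E := by
      intro y hy
      refine (hE y).2 fun φ => ?_
      have h1 : contract (φ ∘ₗ π) y ∈ L := by
        rw [← hcB]
        exact (@isSubcomod_iff k _ (A ⧸ I) _ _ R _ _ _ cB _ _).1 hL φ y hy
      have h2 : ∀ z ∈ L, z ∈ J := fun z hz => by
        obtain ⟨c, rfl⟩ := hLspan z hz
        rw [Algebra.smul_def]
        exact J.mul_mem_left _ (Ideal.mem_sup_left (Ideal.subset_span rfl))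
      exact sub_mem (h2 _ h1) (h2 _ (L.smul_mem _ hy))
    have hEF : F ≤ E' ⊔ m2 := by
      intro v hv
      have hfixq : v - @avg k _ (A ⧸ I) _ _ R _ _ cB β v ∈ m2 :=
        @CST.sub_avg_mem k _ (A ⧸ I) _ _ R _ _ cB β hβ m2 hm2B (fun K => K = ⊥)
          (le_bot_iff.1 (sSup_le fun K hK => hK.2 ⊥ rfl)) v (fun K hK φ => by
            subst hK
            have := ((hF v).1 hv).2 (φ ∘ₗ (Ideal.Quotient.mkₐ k (⊥ : Ideal (A ⧸ I))).toLinearMap)
            change slice _ (cB.coact v) - _ ∈ m2
            rw [hcB]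
            simpa using this)
      have havg : @avg k _ (A ⧸ I) _ _ R _ _ cB β v ∈ E := by
        refine (hE _).2 fun φ => ?_
        have h1 : cB.coact (@avg k _ (A ⧸ I) _ _ R _ _ cB β v) =
            (@avg k _ (A ⧸ I) _ _ R _ _ cB β v) ⊗ₜ[k] 1 := @avg_mem k _ (A ⧸ I) _ _ R _ _ cB β hβ v
        rw [← hcB, h1, slice_tmul, sub_self]
        exact zero_mem _
      rw [show v = @avg k _ (A ⧸ I) _ _ R _ _ cB β v + (v - @avg k _ (A ⧸ I) _ _ R _ _ cB β v) by abel]
      exact Submodule.add_mem_sup havg hfixq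
    have hstep : ∀ i, (RingHom.ker x ^ (i + 1)).restrictScalars k ≤
        E' ⊔ (RingHom.ker x ^ (i + 2)).restrictScalars k := by
      intro i
      induction i with
      | zero =>
        intro v hv
        rw [zero_add, pow_one] at hv
        obtain ⟨f, hf, y, hy, rfl⟩ := Submodule.mem_sup.1 (hsup.symm ▸ (show v ∈ m from hv))
        exact add_mem (hEF hf) (Submodule.mem_sup_left (hlJ y hy))
      | succ i ih =>
        intro v hv
        rw [Submodule.restrictScalars_mem, pow_succ] at hv
        induction hv using Submodule.mul_induction_on' with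
        | mem_mul_mem a ha b hb =>
          obtain ⟨e, he, a', ha', rfl⟩ := Submodule.mem_sup.1 (ih ha)
          obtain ⟨e', he', b', hb', rfl⟩ := Submodule.mem_sup.1
            ((show (RingHom.ker x).restrictScalars k ≤ E' ⊔ m2 from fun v hv => by
              obtain ⟨f, hf, y, hy, rfl⟩ := Submodule.mem_sup.1 (hsup.symm ▸ (show v ∈ m from hv))
              exact add_mem (hEF hf) (Submodule.mem_sup_left (hlJ y hy))) hb)
          rw [show (e + a') * (e' + b') = e * e' + (e * b' + a' * (e' + b')) by ring]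
          refine Submodule.add_mem_sup (E.mul_mem he he') (add_mem ?_ ?_)
          · have he2 : e ∈ RingHom.ker x ^ (i + 1) := by
              simpa using sub_mem ha (Ideal.pow_le_pow_right (Nat.le_succ (i + 1)) ha')
            have := Ideal.mul_mem_mul he2 hb'
            rwa [← pow_add] at this
          · have := Ideal.mul_mem_mul ha' hb
            rwa [← pow_succ] at this
        | add a _ b _ ha hb => exact add_mem ha hb
    have hall : ∀ t i, i + t = j → (RingHom.ker x ^ i).restrictScalars k ≤ E' := by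
      intro t
      induction t with
      | zero => intro i hi; rw [show i = j by omega]; exact hEj
      | succ t ih =>
        intro i hi
        rcases i with _ | i
        · intro v _
          have h1 : v - algebraMap k R (x v) ∈ E' := by
            refine ih 1 (by omega) ?_
            rw [Submodule.restrictScalars_mem, pow_one]
            simp [RingHom.mem_ker]
          have h2 := E'.add_mem h1 (show algebraMap k R (x v) ∈ E' from E.algebraMap_mem (x v))
          rwa [sub_add_cancel] at h2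
        · exact (hstep i).trans (sup_le le_rfl (ih (i + 2) (by omega)))
    exact (hE f₀).1 (hall j 0 (zero_add j) (by simp)) φ₀
  haveI : (RingHom.ker x).IsPrime := RingHom.ker_isPrime x
  obtain ⟨u, hu, hmem⟩ := exists_mul_mem (RingHom.ker x) _ hgoal
  exact ⟨u, hu, Ideal.mem_span_singleton.1 hmem⟩

variable [Algebra.FiniteType k R] [Module.Finite k A]

/-- Chevalley's lemma at a point -/
theorem relCond {x : R →ₐ[k] k} (hx : GLin.IsFixedPt k A x) (hgen : GLin.IsGenByPseudoReflAt k A R x)
    (hsub : ∀ (J : Ideal A) [J.IsHopfIdeal k], HopfRep.IsLinearlyReductive k (A ⧸ J))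
    {α : A →ₗ[k] k} (hα : IsIntegral k α) [(RingHom.ker x).IsPrime]
    [IsDomain (Localization.AtPrime (RingHom.ker x))] :
    CSTFlat.RelCond (S := R) (RingHom.ker (x.comp (GLin.invariants k A R).val)) := by
  classical
  intro κ _ s g l₀ hl₀ hg
  haveI : IsNoetherianRing R := Algebra.FiniteType.isNoetherianRing k R
  set p := RingHom.ker (x.comp (GLin.invariants k A R).val) with hp
  let H : Ideal R := p.map (algebraMap (GLin.invariants k A R) R)
  have hH : HopfRep.IsSubcomod (k := k) (A := A) (H.restrictScalars k) := by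
    refine isSubcomod_span_fixed ?_
    rintro _ ⟨u, -, rfl⟩
    exact u.2
  have hx0 : ∀ f : κ → R, ∑ l ∈ s, f l * (g l : R) = 0 → x (f l₀) = 0 := by
    intro f hf
    let a : κ → GLin.invariants k A R := fun l => ⟨avg α (f l), avg_mem hα _⟩
    have ha : ∑ l ∈ s, a l * g l = 0 := Subtype.ext (by
      rw [AddSubmonoidClass.coe_finsetSum, ZeroMemClass.coe_zero, ← map_zero (avg (k := k) (A := A) (V := R) α),
        ← hf, map_sum]
      exact Finset.sum_congr rfl fun l _ => (avg_mul_fixed α _ (g l).2).symm)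
    rw [← x_avg hx hα]
    by_contra hne
    refine hg (a l₀) hne ?_
    rw [← Finset.add_sum_erase _ _ hl₀, add_eq_zero_iff_eq_neg] at ha
    rw [ha]
    exact neg_mem (Ideal.sum_mem _ fun l hl => Ideal.mul_mem_left _ _ (Ideal.subset_span ⟨l, hl, rfl⟩))
  have key : ∀ (j : ℕ) (f : κ → R), ∑ l ∈ s, f l * (g l : R) = 0 → f l₀ ∈ H ⊔ RingHom.ker x ^ j := by
    intro j
    induction j with
    | zero => intro f _; simp
    | succ j ih =>
      intro f hf
      have hinv : avg α (f l₀) ∈ H :=
        Ideal.mem_map_of_mem _ (show (⟨avg α (f l₀), avg_mem hα _⟩ : GLin.invariants k A R) ∈ p from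
          ((x_avg hx hα _).trans (hx0 f hf) : x (avg α (f l₀)) = 0))
      suffices hd : f l₀ - avg α (f l₀) ∈ (H ⊔ RingHom.ker x ^ (j + 1)).restrictScalars k by
        simpa using add_mem (show f l₀ - avg α (f l₀) ∈ H ⊔ RingHom.ker x ^ (j + 1) from hd)
          (Ideal.mem_sup_left hinv)
      refine CST.sub_avg_mem hα ?_ (GLin.IsPseudoReflAt k A R x) hgen (f l₀) ?_
      · rw [Submodule.restrictScalars_sup]
        exact isSubcomod_sup hH (isSubcomod_pow_ker hx _)
      intro I hI φ
      obtain ⟨l, hl, hl2, hdiv⟩ := exists_local_eq hx hI hsub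
      let ψ := φ ∘ₗ (Ideal.Quotient.mkₐ k I).toLinearMap
      have hdiv' : ∀ i, ∃ u D, x u ≠ 0 ∧ u * (contract ψ (f i) - φ 1 • f i) = l * D := fun i => by
        obtain ⟨u, hu, D, hD⟩ := hdiv φ (f i)
        exact ⟨u, D, hu, hD⟩
      choose u D hu hD using hdiv'
      let U := ∏ i ∈ s, u i
      let D' : κ → R := fun i => (∏ i' ∈ s.erase i, u i') * D i
      have hD' : ∀ i ∈ s, U * (contract ψ (f i) - φ 1 • f i) = l * D' i := fun i hi => by
        simp only [U, D', ← Finset.mul_prod_erase _ _ hi]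
        rw [mul_comm (u i), mul_assoc, hD, mul_left_comm]
      have hsum : l * ∑ i ∈ s, D' i * (g i : R) = 0 := by
        rw [Finset.mul_sum, Finset.sum_congr rfl fun i hi => by rw [← mul_assoc, ← hD' i hi, mul_assoc, sub_mul,
          ← contract_mul_fixed ψ _ (g i).2, smul_mul_assoc]]
        rw [← Finset.mul_sum, Finset.sum_sub_distrib, ← map_sum, ← Finset.smul_sum, hf, map_zero, smul_zero,
          sub_zero, mul_zero]
      have hreg : ∃ v, x v ≠ 0 ∧ v * ∑ i ∈ s, D' i * (g i : R) = 0 := by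
        let ι := algebraMap R (Localization.AtPrime (RingHom.ker x))
        have h1 : ι l * ι (∑ i ∈ s, D' i * (g i : R)) = 0 := by rw [← map_mul, hsum, map_zero]
        rcases mul_eq_zero.1 h1 with h2 | h2
        · obtain ⟨⟨w, hw⟩, hwl⟩ := (IsLocalization.map_eq_zero_iff (RingHom.ker x).primeCompl _ _).1 h2
          refine absurd ?_ hl2
          have h3 : algebraMap k R (x w) * l = (algebraMap k R (x w) - w) * l := by rw [sub_mul, hwl, sub_zero]
          have h4 : (algebraMap k R (x w) - w) * l ∈ RingHom.ker x ^ 2 := by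
            rw [pow_two]
            exact Ideal.mul_mem_mul (by simp [RingHom.mem_ker]) hl
          have hw' : x w ≠ 0 := hw
          rw [← h3] at h4
          have h5 := (RingHom.ker x ^ 2).mul_mem_left (algebraMap k R (x w)⁻¹) h4
          rwa [← mul_assoc, ← map_mul, inv_mul_cancel₀ hw', map_one, one_mul] at h5
        · obtain ⟨⟨w, hw⟩, hwl⟩ := (IsLocalization.map_eq_zero_iff (RingHom.ker x).primeCompl _ _).1 h2
          exact ⟨w, hw, hwl⟩
      obtain ⟨v, hv, hv0⟩ := hreg
      have hmem := ih (fun i => v * D' i) (by simpa only [mul_assoc, ← Finset.mul_sum] using hv0)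
      have hlv : l * (v * D' l₀) ∈ H ⊔ RingHom.ker x ^ (j + 1) := by
        obtain ⟨a, ha, b, hb, hab⟩ := Submodule.mem_sup.1 hmem
        rw [← hab, mul_add]
        refine Submodule.add_mem_sup (H.mul_mem_left _ ha) ?_
        rw [pow_succ, mul_comm l b]
        exact Ideal.mul_mem_mul hb hl
      change contract ψ (f l₀) - φ 1 • f l₀ ∈ H ⊔ RingHom.ker x ^ (j + 1)
      set w := contract ψ (f l₀) - φ 1 • f l₀
      set J := H ⊔ RingHom.ker x ^ (j + 1)
      have hw : (v * U) * w ∈ J := by
        rw [mul_assoc, hD' l₀ hl₀, ← mul_left_comm]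
        exact hlv
      have hc : x (v * U) ≠ 0 := by
        rw [map_mul, map_prod]
        exact mul_ne_zero hv (Finset.prod_ne_zero_iff.2 fun i _ => hu i)
      set z := v * U
      have hz : 1 - algebraMap k R (x z)⁻¹ * z ∈ RingHom.ker x := by
        simp [RingHom.mem_ker, inv_mul_cancel₀ hc]
      have hunit : IsUnit (Ideal.Quotient.mk J z) := by
        have hnil : IsNilpotent (Ideal.Quotient.mk J (1 - algebraMap k R (x z)⁻¹ * z)) :=
          ⟨j + 1, by
            rw [← map_pow, Ideal.Quotient.eq_zero_iff_mem]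
            exact Ideal.mem_sup_right (Ideal.pow_mem_pow hz _)⟩
        have h1 := hnil.isUnit_one_sub
        rw [← map_one (Ideal.Quotient.mk J), ← map_sub, sub_sub_cancel, map_mul, IsUnit.mul_iff] at h1
        exact h1.2
      rw [← Ideal.Quotient.eq_zero_iff_mem]
      refine hunit.mul_right_eq_zero.1 ?_
      rw [← map_mul, Ideal.Quotient.eq_zero_iff_mem]
      exact hw
  intro f hf
  obtain ⟨u, hu, humem⟩ := exists_mul_mem (RingHom.ker x) H fun j => key j f hf
  obtain ⟨c, hc, hc0, w, hw⟩ := FiniteNorm.exists_invariant_multiple (k := k) (A := A) x hx (f := u) hu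
  refine ⟨⟨c, hc⟩, hc0, ?_⟩
  change c * f l₀ ∈ H
  rw [hw, mul_comm u w, mul_assoc]
  exact H.mul_mem_left _ humem

theorem isRegularLocalRing_invariants [Algebra.Smooth k R] {x : R →ₐ[k] k} (hx : GLin.IsFixedPt k A x)
    (hgen : GLin.IsGenByPseudoReflAt k A R x)
    (hsub : ∀ (J : Ideal A) [J.IsHopfIdeal k], HopfRep.IsLinearlyReductive k (A ⧸ J))
    {α : A →ₗ[k] k} (hα : IsIntegral k α) [(RingHom.ker (x.comp (GLin.invariants k A R).val)).IsPrime] :
    IsRegularLocalRing (Localization.AtPrime (RingHom.ker (x.comp (GLin.invariants k A R).val))) := by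
  haveI : (RingHom.ker x).IsPrime := RingHom.ker_isPrime x
  haveI : (RingHom.ker (x.comp (GLin.invariants k A R).val)).IsMaximal :=
    RingHom.ker_isMaximal_of_surjective _ fun c => ⟨algebraMap k _ c, by simp⟩
  haveI := invariants_finiteType (k := k) (A := A) (R := R) hα
  haveI : IsNoetherianRing (GLin.invariants k A R) := Algebra.FiniteType.isNoetherianRing k _
  haveI : Algebra.FiniteType (GLin.invariants k A R) R :=
    Algebra.FiniteType.of_restrictScalars_finiteType k _ R
  haveI := FiniteNorm.isIntegral_invariants (k := k) (A := A) (R := R)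
  haveI : Module.Finite (GLin.invariants k A R) R := Algebra.IsIntegral.finite
  haveI : IsRegularLocalRing (Localization.AtPrime (RingHom.ker x)) :=
    Omega.RankDim.isRegularLocalRing_of_isSmoothAt k R (RingHom.ker x) inferInstance
  haveI : IsDomain (Localization.AtPrime (RingHom.ker x)) := RegLoc.isDomain _
  refine CSTFlat.isRegularLocalRing_of_relCond (Q := GLin.invariants k A R) (S := R) _ (RingHom.ker x) rfl
    (fun s hs => ?_) (relCond hx hgen hsub hα)
  obtain ⟨c, hc, hc0, hdvd⟩ := FiniteNorm.exists_invariant_multiple (k := k) (A := A) x hx (f := s) hs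
  exact ⟨⟨c, hc⟩, hc0, hdvd⟩

end Groth.Agent.Comod.CSTPt
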