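import Groth.Agent.Comod.CatQuotLoc
import Groth.Agent.Comod.Integral
import Groth.Agent.S12921
import Mathlib.RingTheory.Spectrum.Prime.Topology

/-!
# The categorical quotient of a tame action
-/

set_option autoImplicit false

universe u

open CategoryTheory AlgebraicGeometry Limits
open scoped TensorProduct

namespace Groth.Agent.Comod.CatQuot

noncomputable section

variable {k : Type u} [CommRing k] {A : Type u} [CommRing A] [HopfAlgebra k A]
variable {B : Type u} [CommRing B] [Algebra k B] [HopfRep.Comod k A B] [GLin.IsCoactAlg k A B]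

variable (k A B) in
/-- the inclusion of the invariants -/
abbrev inc : GLin.invariants k A B →+* B := algebraMap (GLin.invariants k A B) B

theorem inc_injective : Function.Injective (inc k A B) := Subtype.val_injective

theorem inc_surjective [Module.Flat k A] (htame : ∃ α : A →ₗ[k] B, Hoch.IsComodHom A α ∧ α 1 = 1) :
    Function.Surjective (PrimeSpectrum.comap (inc k A B)) := fun p =>
  (PrimeSpectrum.mem_range_comap_iff (f := inc k A B)).2 (S12921.result k A B htame p.asIdeal)

theorem coact_eq {b : B} (hb : b ∈ GLin.invariants k A B) :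
    GLin.coactAlgHom k A B b = b ⊗ₜ[k] (1 : A) := hb

variable {Z : Scheme.{u}} (ψ : Spec (CommRingCat.of B) ⟶ Z)
  (hψ : Spec.map (CommRingCat.ofHom (GLin.coactAlgHom k A B).toRingHom) ≫ ψ =
    Spec.map (CommRingCat.ofHom
      (Algebra.TensorProduct.includeLeftRingHom : B →+* TensorProduct k B A)) ≫ ψ)

omit [HopfRep.Comod k A B] [GLin.IsCoactAlg k A B] [Algebra k B] in
/-- a morphism equalised by two ring maps descends locally to their equaliser -/
theorem exists_local {B' C : Type u} [CommRing B'] [CommRing C] (ρ il : B →+* B') (ι : C →+* B)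
    (hι : Function.Injective ι) (hfix : ∀ b, ρ b = il b ↔ b ∈ ι.range) {W : Scheme.{u}}
    (f : Spec (CommRingCat.of B) ⟶ W)
    (hf : Spec.map (CommRingCat.ofHom ρ) ≫ f = Spec.map (CommRingCat.ofHom il) ≫ f)
    (c : C) (U : W.Opens) (hU : IsAffineOpen U) (h : ∀ x : PrimeSpectrum B, ι c ∉ x.asIdeal → f x ∈ U) :
    ∃ χ : Spec (CommRingCat.of (Localization.Away c)) ⟶ W, qloc ι c ≫ χ = jj (ι c) ≫ f := by
  haveI : IsAffine (U : Scheme.{u}) := hU
  have hr : Set.range (jj (ι c) ≫ f) ⊆ Set.range U.ι := by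
    rw [Scheme.Opens.range_ι]
    rintro _ ⟨y, rfl⟩
    have : jj (ι c) y ∈ Set.range (jj (ι c)) := ⟨y, rfl⟩
    rw [range_jj] at this
    exact h _ this
  obtain ⟨g, hgU⟩ : ∃ g : Spec (CommRingCat.of (Localization.Away (ι c))) ⟶ (U : Scheme.{u}),
      g ≫ U.ι = jj (ι c) ≫ f := ⟨IsOpenImmersion.lift U.ι _ hr, IsOpenImmersion.lift_fac U.ι _ hr⟩
  let φ : Γ(W, U) ⟶ CommRingCat.of (Localization.Away (ι c)) := Spec.preimage (g ≫ hU.isoSpec.hom)
  let T := Localization.Away (il (ι c))
  have hρd : ρ (ι c) = il (ι c) := (hfix _).2 ⟨c, rfl⟩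
  have hρu : IsUnit (((algebraMap B' T).comp ρ) (ι c)) := by
    rw [RingHom.comp_apply, hρd]
    exact IsLocalization.Away.algebraMap_isUnit _
  have hiu : IsUnit (((algebraMap B' T).comp il) (ι c)) :=
    IsLocalization.Away.algebraMap_isUnit (S := T) (il (ι c))
  let ρc : Localization.Away (ι c) →+* T := IsLocalization.Away.lift (ι c) hρu
  let ic : Localization.Away (ι c) →+* T := IsLocalization.Away.lift (ι c) hiu
  have hsq : ∀ (e : B →+* B') (hu : IsUnit (((algebraMap B' T).comp e) (ι c))),
      Spec.map (CommRingCat.ofHom (IsLocalization.Away.lift (ι c) hu)) ≫ jj (ι c) =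
        Spec.map (CommRingCat.ofHom (algebraMap B' T)) ≫ Spec.map (CommRingCat.ofHom e) := by
    intro e hu
    rw [← Spec.map_comp, ← Spec.map_comp, ← CommRingCat.ofHom_comp, ← CommRingCat.ofHom_comp]
    congr 2
    exact IsLocalization.Away.lift_comp (ι c) hu
  have hinv : φ ≫ CommRingCat.ofHom ρc = φ ≫ CommRingCat.ofHom ic := by
    apply Spec.map_injective
    rw [Spec.map_comp, Spec.map_comp, Spec.map_preimage, ← Category.assoc, ← Category.assoc]
    congr 1
    rw [← cancel_mono U.ι, Category.assoc, Category.assoc, hgU, ← Category.assoc, ← Category.assoc,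
      hsq ρ hρu, hsq il hiu, Category.assoc, Category.assoc, hf]
  set L := IsLocalization.Away.map (Localization.Away c) (Localization.Away (ι c)) ι c with hL
  have hLinj : Function.Injective L := loc_injective _ hι c
  have hmem : ∀ r, φ.hom r ∈ L.range := by
    intro r
    obtain ⟨n, b, hnb⟩ := IsLocalization.Away.surj (ι c) (φ.hom r)
    have h1 : ρc (φ.hom r) = ic (φ.hom r) := congrArg (fun m => m.hom r) hinv
    have h2 : algebraMap B' T (ρ b) = algebraMap B' T (il b) := by
      have e1 := congrArg ρc hnb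
      have e2 := congrArg ic hnb
      rw [map_mul, map_pow, IsLocalization.Away.lift_eq, IsLocalization.Away.lift_eq,
        RingHom.comp_apply, RingHom.comp_apply, hρd] at e1
      rw [map_mul, map_pow, IsLocalization.Away.lift_eq, IsLocalization.Away.lift_eq,
        RingHom.comp_apply, RingHom.comp_apply] at e2
      rw [← e1, ← e2, h1]
    obtain ⟨⟨s, m, rfl⟩, hm⟩ := (IsLocalization.eq_iff_exists (Submonoid.powers (il (ι c))) T).1 h2
    obtain ⟨z, hz⟩ := (hfix (ι c ^ m * b)).1 (by rw [map_mul, map_mul, map_pow, map_pow, hρd]; exact hm)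
    have hu := IsLocalization.Away.algebraMap_pow_isUnit (S := Localization.Away c) c (m + n)
    refine ⟨algebraMap _ (Localization.Away c) z * ↑hu.unit⁻¹, ?_⟩
    have hud : IsUnit (algebraMap B (Localization.Away (ι c)) (ι c) ^ (m + n)) :=
      (IsLocalization.Away.algebraMap_isUnit (ι c)).pow _
    apply hud.mul_left_injective
    dsimp only
    have hd' : algebraMap B (Localization.Away (ι c)) (ι c) ^ (m + n) =
        L (algebraMap _ (Localization.Away c) c ^ (m + n)) := by
      rw [map_pow, hL, IsLocalization.Away.map, IsLocalization.map_eq]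
    conv_rhs => rw [pow_add, mul_comm (algebraMap B (Localization.Away (ι c)) (ι c) ^ m), ← mul_assoc, hnb]
    rw [hd', ← map_mul, mul_assoc, IsUnit.val_inv_mul hu, mul_one, hL, IsLocalization.Away.map,
      IsLocalization.map_eq, hz, map_mul, map_pow, mul_comm]
  choose pre hpre using hmem
  let φ' : Γ(W, U) →+* Localization.Away c :=
    { toFun := pre
      map_one' := hLinj (by rw [hpre, map_one, map_one])
      map_mul' := fun x y => hLinj (by rw [map_mul L, hpre, hpre, hpre, map_mul])
      map_zero' := hLinj (by rw [hpre, map_zero, map_zero])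
      map_add' := fun x y => hLinj (by rw [map_add L, hpre, hpre, hpre, map_add]) }
  refine ⟨Spec.map (CommRingCat.ofHom φ') ≫ hU.isoSpec.inv ≫ U.ι, ?_⟩
  have hfac : Spec.map (CommRingCat.ofHom L) ≫ Spec.map (CommRingCat.ofHom φ') = g ≫ hU.isoSpec.hom := by
    rw [← Spec.map_comp, ← Spec.map_preimage (g ≫ hU.isoSpec.hom)]
    congr 1
    exact CommRingCat.hom_ext (RingHom.ext hpre)
  rw [qloc, ← Category.assoc (Spec.map (CommRingCat.ofHom L)), hfac, Category.assoc, Iso.hom_inv_id_assoc, hgU]

include hψ in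
/-- around every point of the quotient an invariant morphism is affine-valued -/
theorem exists_nbhd [Module.Flat k A] {α : A →ₗ[k] B} (hα : Hoch.IsComodHom A α) (h1 : α 1 = 1)
    (p : PrimeSpectrum (GLin.invariants k A B)) :
    ∃ (c : GLin.invariants k A B) (U : Z.Opens), c ∉ p.asIdeal ∧ IsAffineOpen U ∧
      ∀ x : PrimeSpectrum B, (c : B) ∉ x.asIdeal → ψ x ∈ U := by
  by_contra hcon
  push Not at hcon
  let F : Z.affineOpens → Set (PrimeSpectrum B) := fun U => {x | ψ x ∉ (U : Z.Opens)}
  let I : Z.affineOpens → Ideal B := fun U => PrimeSpectrum.vanishingIdeal (F U)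
  have hclosed : ∀ U, IsClosed (F U) := fun U =>
    isOpen_compl_iff.1 (by
      have : (F U)ᶜ = ψ ⁻¹' ((U : Z.Opens) : Set Z) := by ext x; simp [F]; exact Iff.rfl
      rw [this]
      exact (U : Z.Opens).isOpen.preimage ψ.continuous)
  have hV : ∀ (U : Z.affineOpens) (x : PrimeSpectrum B), I U ≤ x.asIdeal → x ∈ F U := by
    intro U x hx
    have : x ∈ PrimeSpectrum.zeroLocus ((I U : Ideal B) : Set B) := hx
    rwa [PrimeSpectrum.zeroLocus_vanishingIdeal_eq_closure, (hclosed U).closure_eq] at this
  let φ : ∀ U : Z.affineOpens, B →ₐ[k] (B ⧸ I U) ⊗[k] A := fun U =>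
    (Algebra.TensorProduct.map (Ideal.Quotient.mkₐ k (I U)) (AlgHom.id k A)).comp (GLin.coactAlgHom k A B)
  let J : Z.affineOpens → Ideal B := fun U => RingHom.ker (φ U)
  have hR : ∀ U, ∀ y ∈ J U, TameAct.reynolds k A B B α y ∈ I U := by
    intro U y hy
    have key : ∀ t : B ⊗[k] A, Ideal.Quotient.mkₐ k (I U)
        (TensorProduct.lift (((Algebra.lsmul k k B : B →ₐ[k] Module.End k B).toLinearMap ∘ₗ α ∘ₗ
          (HopfAlgebraStruct.antipode (R := k) (A := A))).flip) t) =
        LinearMap.mul' k (B ⧸ I U) (((Ideal.Quotient.mkₐ k (I U)).toLinearMap ∘ₗ α ∘ₗ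
          (HopfAlgebraStruct.antipode (R := k) (A := A))).lTensor (B ⧸ I U)
          (Algebra.TensorProduct.map (Ideal.Quotient.mkₐ k (I U)) (AlgHom.id k A) t)) := by
      intro t
      induction t using TensorProduct.induction_on with
      | zero => simp
      | tmul a b => simp [mul_comm]
      | add a b ha hb => simp only [map_add, ha, hb]
    rw [← Ideal.Quotient.eq_zero_iff_mem]
    refine (key _).trans ?_
    rw [show Algebra.TensorProduct.map (Ideal.Quotient.mkₐ k (I U)) (AlgHom.id k A)
      (HopfRep.Comod.coact (k := k) (A := A) y) = 0 from hy, map_zero, map_zero]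
  have hmem : ∀ U, ∀ y ∈ J U, TameAct.reynolds k A B B α y ∈ p.asIdeal.map (inc k A B) := by
    intro U y hy
    let c : GLin.invariants k A B := ⟨_, Comod.reynolds_mem_fixedPts hα y⟩
    by_contra hc
    obtain ⟨x, hx, hxU⟩ := hcon c U (fun hcp => hc (Ideal.mem_map_of_mem (inc k A B) hcp)) U.2
    have hxF : x ∈ F U := hxU
    exact hx ((PrimeSpectrum.mem_vanishingIdeal _ _).1 (hR U y hy) x hxF)
  have htop : (⨆ U, J U) = ⊤ := by
    by_contra hne
    obtain ⟨M, hM, hle⟩ := Ideal.exists_le_maximal _ hne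
    let x : PrimeSpectrum B := ⟨M, hM.isPrime⟩
    obtain ⟨W, hW, hxW, -⟩ := exists_isAffineOpen_mem_and_subset (x := ψ x) (U := ⊤) trivial
    let U : Z.affineOpens := ⟨W, hW⟩
    refine hV U x (fun f hf => ?_) hxW
    have hnil : IsNilpotent (φ U f) := by
      rw [← mem_nilradical, nilradical_eq_sInf, Ideal.mem_sInf]
      intro Q hQ
      haveI : Q.IsPrime := hQ
      let π := Algebra.TensorProduct.map (Ideal.Quotient.mkₐ k (I U)) (AlgHom.id k A)
      let Q' : PrimeSpectrum (B ⊗[k] A) := PrimeSpectrum.comap π.toRingHom ⟨Q, hQ⟩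
      let il : B →+* B ⊗[k] A := Algebra.TensorProduct.includeLeftRingHom
      have h1' : PrimeSpectrum.comap il Q' ∈ F U := hV U _ fun g hg => by
        change π (g ⊗ₜ[k] (1 : A)) ∈ Q
        rw [show π (g ⊗ₜ[k] (1 : A)) = Ideal.Quotient.mk (I U) g ⊗ₜ[k] (1 : A) from rfl,
          Ideal.Quotient.eq_zero_iff_mem.2 hg, TensorProduct.zero_tmul]
        exact zero_mem _
      have h2' : PrimeSpectrum.comap (GLin.coactAlgHom k A B).toRingHom Q' ∈ F U := by
        have e := congrArg (fun m => m Q') (congrArg (fun m : Spec (CommRingCat.of (B ⊗[k] A)) ⟶ Z => (m : _ → Z)) hψ)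
        simp only [Scheme.Hom.comp_apply] at e
        change ψ (Spec.map (CommRingCat.ofHom (GLin.coactAlgHom k A B).toRingHom) Q') ∉ (U : Z.Opens)
        rw [e]
        exact h1'
      exact (PrimeSpectrum.mem_vanishingIdeal _ _).1 hf _ h2'
    obtain ⟨n, hn⟩ := hnil
    exact hM.isPrime.mem_of_pow_mem n (hle (Submodule.mem_iSup_of_mem U
      (show f ^ n ∈ J U by rw [RingHom.mem_ker, map_pow, hn])))
  have hone : TameAct.reynolds k A B B α 1 ∈ p.asIdeal.map (inc k A B) := by
    suffices hall : ∀ z ∈ ⨆ U, J U, TameAct.reynolds k A B B α z ∈ p.asIdeal.map (inc k A B) from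
      hall 1 (htop ▸ Submodule.mem_top)
    intro z hm
    induction hm using Submodule.iSup_induction' with
    | mem U y hy => exact hmem U y hy
    | zero => rw [map_zero]; exact zero_mem _
    | add a b _ _ ha hb => rw [map_add]; exact add_mem ha hb
  rw [Comod.reynolds_eq_self h1 (GLin.invariants k A B).one_mem] at hone
  refine p.2.ne_top ((Ideal.eq_top_iff_one _).2 ?_)
  rw [← S12921.result k A B ⟨α, hα, h1⟩ p.asIdeal, Ideal.mem_comap, map_one]
  exact hone

end

end Groth.Agent.Comod.CatQuot
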