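import Mathlib.AlgebraicGeometry.Cover.Open
import Mathlib.AlgebraicGeometry.AffineScheme
import Mathlib.AlgebraicGeometry.Gluing
import Mathlib.RingTheory.Localization.Away.Basic

/-!
# Injective surjective maps of spectra are epimorphisms of schemes; localised maps
-/

set_option autoImplicit false

universe u

open CategoryTheory AlgebraicGeometry Limits

namespace Groth.Agent.Comod.CatQuot

noncomputable section

variable {C B : Type u} [CommRing C] [CommRing B]

/-- the basic open immersion -/
abbrev jj (c : C) : Spec (CommRingCat.of (Localization.Away c)) ⟶ Spec (CommRingCat.of C) :=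
  Spec.map (CommRingCat.ofHom (algebraMap C (Localization.Away c)))

/-- the localised map of spectra -/
abbrev qloc (ι : C →+* B) (c : C) :
    Spec (CommRingCat.of (Localization.Away (ι c))) ⟶ Spec (CommRingCat.of (Localization.Away c)) :=
  Spec.map (CommRingCat.ofHom (IsLocalization.Away.map (Localization.Away c) (Localization.Away (ι c)) ι c))

theorem qloc_jj (ι : C →+* B) (c : C) : qloc ι c ≫ jj c = jj (ι c) ≫ Spec.map (CommRingCat.ofHom ι) := by
  rw [← Spec.map_comp, ← Spec.map_comp, ← CommRingCat.ofHom_comp, ← CommRingCat.ofHom_comp]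
  congr 2
  exact IsLocalization.map_comp _

theorem range_jj (c : C) : Set.range (jj c) = {x : Spec (CommRingCat.of C) | c ∉ x.asIdeal} := by
  have h := PrimeSpectrum.localization_away_comap_range (Localization.Away c) c
  change Set.range (PrimeSpectrum.comap (algebraMap C (Localization.Away c))) = _
  rw [h]
  rfl

instance (c : C) : IsOpenImmersion (jj c) := IsOpenImmersion.of_isLocalization c

theorem loc_injective (ι : C →+* B) (hι : Function.Injective ι) (c : C) :
    Function.Injective (IsLocalization.Away.map (Localization.Away c) (Localization.Away (ι c)) ι c) := by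
  rw [injective_iff_map_eq_zero]
  intro y hy
  obtain ⟨x, s, rfl⟩ := IsLocalization.exists_mk'_eq (Submonoid.powers c) y
  rw [IsLocalization.Away.map, IsLocalization.map_mk', IsLocalization.mk'_eq_zero_iff] at hy
  obtain ⟨⟨t, m, rfl⟩, ht⟩ := hy
  rw [IsLocalization.mk'_eq_zero_iff]
  refine ⟨⟨c ^ m, m, rfl⟩, hι ?_⟩
  rw [map_zero, map_mul, map_pow]
  exact ht

theorem loc_surjective (ι : C →+* B) (hs : Function.Surjective (PrimeSpectrum.comap ι)) (c : C) :
    Function.Surjective (PrimeSpectrum.comap
      (IsLocalization.Away.map (Localization.Away c) (Localization.Away (ι c)) ι c)) := by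
  intro P
  have hP : c ∉ (PrimeSpectrum.comap (algebraMap C (Localization.Away c)) P).asIdeal := by
    have : PrimeSpectrum.comap (algebraMap C (Localization.Away c)) P ∈
        Set.range (PrimeSpectrum.comap (algebraMap C (Localization.Away c))) := ⟨P, rfl⟩
    rw [PrimeSpectrum.localization_away_comap_range (Localization.Away c) c] at this
    exact this
  obtain ⟨x, hx⟩ := hs (PrimeSpectrum.comap (algebraMap C (Localization.Away c)) P)
  have hxc : x ∈ Set.range (PrimeSpectrum.comap (algebraMap B (Localization.Away (ι c)))) := by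
    rw [PrimeSpectrum.localization_away_comap_range (Localization.Away (ι c)) (ι c)]
    exact fun h => hP (by rw [← hx]; exact h)
  obtain ⟨X, hX⟩ := hxc
  refine ⟨X, PrimeSpectrum.localization_comap_injective (Localization.Away c) (Submonoid.powers c) ?_⟩
  rw [← PrimeSpectrum.comap_comp_apply, IsLocalization.Away.map, IsLocalization.map_comp,
    PrimeSpectrum.comap_comp_apply, hX, hx]

/-- an injective ring map which is surjective on spectra gives an epimorphism of schemes -/
theorem hom_ext (ι : C →+* B) (hι : Function.Injective ι) (hs : Function.Surjective (PrimeSpectrum.comap ι))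
    {Z : Scheme.{u}} (f g : Spec (CommRingCat.of C) ⟶ Z)
    (h : Spec.map (CommRingCat.ofHom ι) ≫ f = Spec.map (CommRingCat.ofHom ι) ≫ g) : f = g := by
  have htop : ∀ p, f p = g p := by
    intro p
    obtain ⟨x, hx⟩ := hs p
    have := congrArg (fun m => m x) (congrArg (fun m : Spec (CommRingCat.of B) ⟶ Z => (m : _ → Z)) h)
    simp only [Scheme.Hom.comp_apply] at this
    rwa [show Spec.map (CommRingCat.ofHom ι) x = p from hx] at this
  refine Scheme.hom_ext_of_forall f g fun p => ?_
  obtain ⟨U, hU, hpU, -⟩ := exists_isAffineOpen_mem_and_subset (x := f p) (U := ⊤) trivial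
  obtain ⟨_, ⟨e, rfl⟩, hpe, he⟩ := PrimeSpectrum.isTopologicalBasis_basic_opens.exists_subset_of_mem_open
    (show p ∈ f ⁻¹' (U : Set Z) from hpU) (U.isOpen.preimage f.continuous)
  refine ⟨(jj e).opensRange, ?_, ?_⟩
  · change p ∈ Set.range (jj e)
    rw [range_jj]
    exact hpe
  have hr : Set.range (jj e ≫ f) ⊆ (U : Set Z) := by
    rintro _ ⟨y, rfl⟩
    have : jj e y ∈ Set.range (jj e) := ⟨y, rfl⟩
    rw [range_jj] at this
    exact he this
  have hr' : Set.range (jj e ≫ g) ⊆ (U : Set Z) := by
    rintro _ ⟨y, rfl⟩
    have := hr ⟨y, rfl⟩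
    rwa [Scheme.Hom.comp_apply, htop] at this
  have key : jj e ≫ f = jj e ≫ g := by
    haveI : IsAffine (U : Scheme.{u}) := hU
    let fu := IsOpenImmersion.lift U.ι (jj e ≫ f) (by rw [Scheme.Opens.range_ι]; exact hr)
    let gu := IsOpenImmersion.lift U.ι (jj e ≫ g) (by rw [Scheme.Opens.range_ι]; exact hr')
    have e1 : qloc ι e ≫ fu = qloc ι e ≫ gu := by
      rw [← cancel_mono U.ι, Category.assoc, Category.assoc, IsOpenImmersion.lift_fac, IsOpenImmersion.lift_fac,
        ← Category.assoc, ← Category.assoc, qloc_jj, Category.assoc, Category.assoc, h]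
    have e2 : fu ≫ hU.isoSpec.hom = gu ≫ hU.isoSpec.hom := by
      rw [← Spec.map_preimage (fu ≫ hU.isoSpec.hom), ← Spec.map_preimage (gu ≫ hU.isoSpec.hom)]
      congr 1
      have e3 : Spec.map (Spec.preimage (fu ≫ hU.isoSpec.hom) ≫
          CommRingCat.ofHom (IsLocalization.Away.map (Localization.Away e) (Localization.Away (ι e)) ι e)) =
          Spec.map (Spec.preimage (gu ≫ hU.isoSpec.hom) ≫
          CommRingCat.ofHom (IsLocalization.Away.map (Localization.Away e) (Localization.Away (ι e)) ι e)) := by
        rw [Spec.map_comp, Spec.map_comp, Spec.map_preimage, Spec.map_preimage, ← Category.assoc,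
          ← Category.assoc, e1]
      ext r
      exact loc_injective ι hι e (congrArg (fun m => m.hom r) (Spec.map_injective e3))
    rw [cancel_mono] at e2
    rw [← IsOpenImmersion.lift_fac U.ι (jj e ≫ f) (by rw [Scheme.Opens.range_ι]; exact hr),
      ← IsOpenImmersion.lift_fac U.ι (jj e ≫ g) (by rw [Scheme.Opens.range_ι]; exact hr')]
    exact congrArg (· ≫ U.ι) e2
  have hopens : (jj e).opensRange.ι = (jj e).isoOpensRange.inv ≫ jj e := by
    rw [Iso.eq_inv_comp, Scheme.Hom.isoOpensRange_hom_ι]
  rw [hopens, Category.assoc, Category.assoc, key]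

end

end Groth.Agent.Comod.CatQuot
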