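import Groth.Agent.Comod.Eigen
import Mathlib.LinearAlgebra.Matrix.Charpoly.Coeff
import Mathlib.LinearAlgebra.Matrix.Charpoly.Eigs
import Mathlib.RingTheory.Adjoin.FG
import Mathlib.RingTheory.IntegralClosure.IsIntegralClosure.Basic
import Mathlib.RingTheory.Ideal.MinimalPrime.Noetherian
import Mathlib.RingTheory.Localization.FractionRing
import Mathlib.FieldTheory.IsAlgClosed.AlgebraicClosure

/-!
# Characters of a subgroup are finite over characters of the group
-/

universe u v w

noncomputable section

open TensorProduct Polynomial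

namespace Groth.Agent.Comod

section Idem

variable {k : Type u} [Field k] {B : Type v} [CommRing B] [HopfAlgebra k B]
variable {ι : Type w} [Fintype ι] [DecidableEq ι]

/-- a matrix corepresentation cut by a commuting idempotent -/
theorem exists_isMat_idem {K : ι → ι → B} (hK : IsMat k K) (E : Matrix ι ι k) (hE : E * E = E)
    (hc : E.map (algebraMap k B) * Matrix.of K = Matrix.of K * E.map (algebraMap k B)) :
    ∃ (r : ℕ) (N : Fin r → Fin r → B), IsMat k N ∧
      ∑ i, N i i = (E.map (algebraMap k B) * Matrix.of K).trace := by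
  classical
  let L := LinearMap.range (Matrix.toLin' E)
  let b := Module.finBasis k L
  let r := Module.finrank k L
  let X : Matrix ι (Fin r) k := Matrix.of fun i t => (b t : ι → k) i
  let p : (ι → k) →ₗ[k] L := (Matrix.toLin' E).rangeRestrict
  let Y : Matrix (Fin r) ι k := Matrix.of fun t i => b.repr (p (Pi.single i 1)) t
  have hXY : X * Y = E := by
    ext i j
    have := congrArg (fun z : L => (z : ι → k) i) (b.sum_repr (p (Pi.single j 1)))
    simp only [Submodule.coe_sum, Submodule.coe_smul, Finset.sum_apply, Pi.smul_apply, smul_eq_mul] at this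
    simp only [Matrix.mul_apply, X, Y, Matrix.of_apply]
    rw [show E i j = (p (Pi.single j 1) : ι → k) i by simp [p, Matrix.mulVec_single], ← this]
    exact Finset.sum_congr rfl fun t _ => mul_comm _ _
  have hfix : ∀ z : L, E.mulVec (z : ι → k) = z := by
    rintro ⟨_, y, rfl⟩
    simp [Matrix.mulVec_mulVec, hE]
  have hEX : E * X = X := by
    ext i t
    exact congrFun (hfix (b t)) i
  have hYX : Y * X = 1 := by
    ext s t
    have h1 : p (b t : ι → k) = b t := Subtype.ext (by simp [p, hfix])
    have h2 : (∑ i, (b t : ι → k) i • Pi.single i (1 : k)) = (b t : ι → k) := by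
      ext j; simp [Finset.sum_apply, Pi.single_apply]
    have := congrArg (fun z => b.repr (p z) s) h2
    simp only [map_sum, map_smul, Finsupp.finsetSum_apply, Finsupp.smul_apply, smul_eq_mul] at this
    rw [h1, Module.Basis.repr_self, Finsupp.single_apply] at this
    simp only [Matrix.mul_apply, X, Y, Matrix.of_apply, Matrix.one_apply]
    rw [Finset.sum_congr rfl fun i _ => mul_comm _ _, this]
    simp [eq_comm]
  let f := algebraMap k B
  let N : Matrix (Fin r) (Fin r) B := Y.map f * Matrix.of K * X.map f
  have hKX : Matrix.of K * X.map f = X.map f * N := by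
    calc Matrix.of K * X.map f = Matrix.of K * (E.map f * X.map f) := by rw [← Matrix.map_mul, hEX]
      _ = (E.map f * Matrix.of K) * X.map f := by rw [← Matrix.mul_assoc, hc]
      _ = X.map f * N := by rw [← hXY, Matrix.map_mul]; simp only [N, Matrix.mul_assoc]
  refine ⟨r, fun i j => N i j, ⟨fun i j => ?_, fun i j => ?_⟩, ?_⟩
  · have e1 : ∀ s t, N s t = ∑ p, ∑ q, (Y s p * X q t) • K p q := fun s t => by
      simp only [N, Matrix.mul_apply, Matrix.map_apply, Matrix.of_apply, Finset.sum_mul]
      rw [Finset.sum_comm]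
      refine Finset.sum_congr rfl fun a _ => Finset.sum_congr rfl fun b' _ => ?_
      simp only [f, Algebra.smul_def, map_mul]
      ring
    have e2 : ∀ l, ∑ q, X q j • K l q = ∑ t, X l t • N t j := fun l => by
      have := congrFun (congrFun hKX l) j
      simp only [Matrix.mul_apply, Matrix.map_apply, Matrix.of_apply] at this
      simp only [Algebra.smul_def]
      rw [Finset.sum_congr rfl fun q _ => mul_comm _ _]
      exact this
    have e3 : ∀ s t, N s t = ∑ l, ∑ p, (Y s p * X l t) • K p l := fun s t => (e1 s t).trans Finset.sum_comm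
    calc Coalgebra.comul (R := k) (N i j)
        = ∑ p, ∑ q, (Y i p * X q j) • ∑ l, K p l ⊗ₜ[k] K l q := by rw [e1, map_sum]; simp [map_sum, hK.comul]
      _ = ∑ p, ∑ l, Y i p • (K p l ⊗ₜ[k] ∑ q, X q j • K l q) := by
          refine Finset.sum_congr rfl fun p _ => ?_
          simp only [Finset.smul_sum, TensorProduct.tmul_sum, TensorProduct.tmul_smul, smul_smul]
          exact Finset.sum_comm
      _ = ∑ p, ∑ l, ∑ t, (Y i p * X l t) • (K p l ⊗ₜ[k] N t j) := by
          simp only [e2, TensorProduct.tmul_sum, TensorProduct.tmul_smul, Finset.smul_sum, smul_smul]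
      _ = ∑ t, N i t ⊗ₜ[k] N t j := by
          simp only [e3 i, TensorProduct.sum_tmul, ← TensorProduct.smul_tmul']
          rw [Finset.sum_comm, Finset.sum_congr rfl fun _ _ => Finset.sum_comm, Finset.sum_comm]
  · change Bialgebra.counitAlgHom k B (N i j) = _
    have hKc : (Bialgebra.counitAlgHom k B).mapMatrix (Matrix.of K) = 1 := by
      ext p q
      simp only [AlgHom.mapMatrix_apply, Matrix.map_apply, Matrix.of_apply, Matrix.one_apply]
      exact hK.counit p q
    have hN : N.map (Bialgebra.counitAlgHom k B) = 1 := by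
      simp only [N, Matrix.map_mul]
      rw [show (Matrix.of K).map (Bialgebra.counitAlgHom k B) = 1 from hKc, Matrix.mul_one, Matrix.map_map,
        Matrix.map_map]
      simp [f, Function.comp_def, hYX]
    exact congrFun (congrFun hN i) j |>.trans (Matrix.one_apply)
  · change N.trace = _
    rw [show N = Y.map f * (Matrix.of K * X.map f) from Matrix.mul_assoc _ _ _, Matrix.trace_mul_comm,
      Matrix.mul_assoc, ← Matrix.map_mul, hXY, hc]

/-- the antisymmetriser -/
def antisym (n : Type w) [DecidableEq n] (m : ℕ) : Matrix (Fin m → n) (Fin m → n) k :=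
  Matrix.of fun I J => (m.factorial : k)⁻¹ * (Matrix.of fun s t => if I s = J t then (1 : k) else 0).det

variable {n : Type w} [Fintype n] [DecidableEq n]

theorem antisym_eq (m : ℕ) (I J : Fin m → n) :
    antisym (k := k) n m I J = (m.factorial : k)⁻¹ *
      ∑ σ : Equiv.Perm (Fin m), if I ∘ σ = J then (Equiv.Perm.sign σ : k) else 0 := by
  simp only [antisym, Matrix.of_apply, Matrix.det_apply', Fintype.prod_boole]
  congr 1
  refine Finset.sum_congr rfl fun σ _ => ?_
  simp [funext_iff]

theorem antisym_map_mul (m : ℕ) (M : n → n → B) (I J : Fin m → n) :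
    ((antisym (k := k) n m).map (algebraMap k B) * Matrix.of fun P Q : Fin m → n => ∏ s, M (P s) (Q s)) I J =
      algebraMap k B (m.factorial : k)⁻¹ * (Matrix.of fun s t => M (I s) (J t)).det := by
  simp only [Matrix.mul_apply, Matrix.map_apply, Matrix.of_apply, antisym_eq, map_mul, map_sum, mul_assoc,
    ← Finset.mul_sum, Finset.sum_mul, apply_ite (algebraMap k B), map_zero, map_intCast, ite_mul, zero_mul]
  rw [Finset.sum_comm]
  simp only [Finset.sum_ite_eq, Finset.mem_univ, if_true, Matrix.det_apply', Matrix.of_apply, Function.comp_apply]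

theorem mul_antisym_map (m : ℕ) (M : n → n → B) (I J : Fin m → n) :
    ((Matrix.of fun P Q : Fin m → n => ∏ s, M (P s) (Q s)) * (antisym (k := k) n m).map (algebraMap k B)) I J =
      algebraMap k B (m.factorial : k)⁻¹ * (Matrix.of fun s t => M (I s) (J t)).det := by
  have hsymm : ∀ P Q : Fin m → n, antisym (k := k) n m P Q = antisym (k := k) n m Q P := fun P Q => by
    simp only [antisym, Matrix.of_apply]
    congr 1
    rw [← Matrix.det_transpose]
    congr 1
    ext s t
    simp [eq_comm]
  have := antisym_map_mul (k := k) m (fun a b => M b a) J I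
  rw [← Matrix.det_transpose (Matrix.of fun s t => M (I s) (J t))]
  refine Eq.trans ?_ (this.trans ?_)
  · simp only [Matrix.mul_apply, Matrix.map_apply, Matrix.of_apply]
    exact Finset.sum_congr rfl fun P _ => by rw [hsymm P J, mul_comm]
  · rfl

theorem antisym_idem [CharZero k] (m : ℕ) : antisym (k := k) n m * antisym (k := k) n m = antisym (k := k) n m := by
  ext I J
  have hperm : ∀ σ : Equiv.Perm (Fin m), antisym (k := k) n m (I ∘ σ) J =
      (Equiv.Perm.sign σ : k) * antisym (k := k) n m I J := fun σ => by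
    simp only [antisym, Matrix.of_apply]
    rw [mul_left_comm, ← Matrix.det_permute σ]
    rfl
  rw [Matrix.mul_apply]
  calc ∑ L, antisym (k := k) n m I L * antisym (k := k) n m L J
      = (m.factorial : k)⁻¹ * ∑ σ : Equiv.Perm (Fin m), (Equiv.Perm.sign σ : k) * antisym (k := k) n m (I ∘ σ) J := by
        simp only [antisym_eq m I, mul_assoc, ← Finset.mul_sum, Finset.sum_mul, ite_mul, zero_mul]
        rw [Finset.sum_comm]
        simp only [Finset.sum_ite_eq, Finset.mem_univ, if_true]
    _ = antisym (k := k) n m I J := by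
        simp only [hperm, ← mul_assoc]
        have hs : ∀ σ : Equiv.Perm (Fin m), (Equiv.Perm.sign σ : k) * (Equiv.Perm.sign σ : k) = 1 := fun σ => by
          rcases Int.units_eq_one_or (Equiv.Perm.sign σ) with h | h <;> simp [h]
        simp only [hs, one_mul, Finset.sum_const, Finset.card_univ, Fintype.card_perm, Fintype.card_fin, nsmul_eq_mul]
        rw [← mul_assoc, inv_mul_cancel₀ (Nat.cast_ne_zero.2 (Nat.factorial_ne_zero m)), one_mul]

theorem sum_det_diag {R : Type*} [CommRing R] (m : ℕ) (M : Matrix n n R) :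
    ∑ I : Fin m → n, (Matrix.of fun s t => M (I s) (I t)).det =
      m.factorial • ∑ s ∈ (Finset.univ : Finset n).powersetCard m,
        (M.submatrix (Subtype.val : s → n) (Subtype.val : s → n)).det := by
  classical
  have hz : ∀ I : Fin m → n, ¬ Function.Injective I → (Matrix.of fun s t => M (I s) (I t)).det = 0 := fun I hI => by
    obtain ⟨a, b, hab, hne⟩ := Function.not_injective_iff.1 hI
    exact Matrix.det_zero_of_row_eq hne (by ext t; simp [hab])
  rw [← Finset.sum_filter_of_ne (s := Finset.univ) (p := fun I : Fin m → n => Function.Injective I)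
    (fun I _ h => by by_contra hI; exact h (hz I hI))]
  rw [← Finset.sum_fiberwise_of_maps_to (t := (Finset.univ : Finset n).powersetCard m)
    (g := fun I : Fin m → n => Finset.univ.image I) (fun I hI => by
      simp [Finset.card_image_of_injective _ (Finset.mem_filter.1 hI).2])]
  rw [Finset.smul_sum]
  refine Finset.sum_congr rfl fun s hs => ?_
  have hcard : Fintype.card s = m := by simpa using (Finset.mem_powersetCard.1 hs).2
  let e₀ : Fin m ≃ s := (Fintype.equivFinOfCardEq hcard).symm
  calc _ = ∑ e : Fin m ≃ s, (Matrix.of fun a b => M (e a) (e b)).det := by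
        refine (Finset.sum_bij (fun e _ => fun a => ((e a : s) : n)) (fun e _ => ?_) (fun e _ e' _ h => ?_)
          (fun I hI => ?_) (fun e _ => rfl)).symm
        · simp only [Finset.mem_filter, Finset.mem_univ, true_and]
          refine ⟨fun a b h => e.injective (Subtype.ext h), ?_⟩
          ext x
          simp only [Finset.mem_image, Finset.mem_univ, true_and]
          exact ⟨fun ⟨a, ha⟩ => ha ▸ (e a).2, fun hx => ⟨e.symm ⟨x, hx⟩, by simp⟩⟩
        · exact Equiv.ext fun a => Subtype.ext (congrFun h a)
        · simp only [Finset.mem_filter, Finset.mem_univ, true_and] at hI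
          have hmem : ∀ a, I a ∈ s := fun a => hI.2 ▸ Finset.mem_image_of_mem I (Finset.mem_univ a)
          refine ⟨Equiv.ofBijective (fun a => (⟨I a, hmem a⟩ : s)) ⟨fun a b h => hI.1 (congrArg Subtype.val h), ?_⟩,
            Finset.mem_univ _, rfl⟩
          rintro ⟨x, hx⟩
          rw [← hI.2] at hx
          obtain ⟨a, -, ha⟩ := Finset.mem_image.1 hx
          exact ⟨a, Subtype.ext ha⟩
    _ = ∑ _e : Fin m ≃ s, (M.submatrix (Subtype.val : s → n) (Subtype.val : s → n)).det := by
        refine Finset.sum_congr rfl fun e _ => ?_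
        exact Matrix.det_submatrix_equiv_self e (M.submatrix (Subtype.val : s → n) (Subtype.val : s → n))
    _ = _ := by rw [Finset.sum_const, Finset.card_univ, Fintype.card_equiv e₀, Fintype.card_fin]

/-- tensor power of a matrix corepresentation -/
theorem isMat_pi' {M : n → n → B} (h : IsMat k M) (m : ℕ) :
    IsMat k fun (P Q : Fin m → n) => ∏ s, M (P s) (Q s) := by
  constructor
  · intro I J
    change Bialgebra.comulAlgHom k B (∏ s, M (I s) (J s)) = _
    rw [map_prod]
    simp only [Bialgebra.comulAlgHom_apply, h.comul]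
    rw [Fintype.prod_sum]
    refine Finset.sum_congr rfl fun L _ => ?_
    induction (Finset.univ : Finset (Fin m)) using Finset.induction with
    | empty => simp [Algebra.TensorProduct.one_def]
    | insert s t hs ih => simp [Finset.prod_insert hs, ih]
  · intro I J
    change Bialgebra.counitAlgHom k B (∏ s, M (I s) (J s)) = _
    rw [map_prod]
    simp only [Bialgebra.counitAlgHom_apply, h.counit, funext_iff]
    rw [Fintype.prod_boole]
    congr 1

/-- the coefficients of the characteristic polynomial of a corepresentation are characters up to sign -/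
theorem exists_isMat_minors [CharZero k] {M : n → n → B} (hM : IsMat k M) (m : ℕ) :
    ∃ (r : ℕ) (N : Fin r → Fin r → B), IsMat k N ∧
      ∑ i, N i i = ∑ s ∈ (Finset.univ : Finset n).powersetCard m,
        ((Matrix.of M).submatrix (Subtype.val : s → n) (Subtype.val : s → n)).det := by
  obtain ⟨r, N, hN, h⟩ := exists_isMat_idem (isMat_pi' hM m) (antisym (k := k) n m) (antisym_idem m) (by
    ext I J; rw [antisym_map_mul, mul_antisym_map])
  refine ⟨r, N, hN, h.trans ?_⟩
  simp only [Matrix.trace, Matrix.diag]
  simp only [antisym_map_mul (k := k) (B := B) m M, ← Finset.mul_sum]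
  rw [show (∑ I : Fin m → n, (Matrix.of fun s t => M (I s) (I t)).det) = _ from sum_det_diag m (Matrix.of M),
    nsmul_eq_mul, ← mul_assoc, ← map_natCast (algebraMap k B), ← map_mul,
    inv_mul_cancel₀ (Nat.cast_ne_zero.2 (Nat.factorial_ne_zero m)), map_one, one_mul]

end Idem

section Finite

variable {k : Type u} [Field k] [CharZero k] {B : Type v} [CommRing B] [HopfAlgebra k B]

variable (k B) in
/-- traces of matrix corepresentations -/
def charSet : Set B := {x | ∃ (r : ℕ) (N : Fin r → Fin r → B), IsMat k N ∧ x = ∑ i, N i i}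

theorem charSet_span_finite [IsReduced B] [Algebra.FiniteType k B] {n : ℕ} {M : Fin n → Fin n → B}
    (hM : IsMat k M) {d : B} (hd : Coalgebra.comul (R := k) d = d ⊗ₜ[k] d)
    (hgen : Algebra.adjoin k (Set.range (fun p : Fin n × Fin n => M p.1 p.2) ∪ {d}) = ⊤)
    (R₀ : Subalgebra k B) (hfg : R₀.FG) (hdR : d ∈ R₀)
    (hcR : ∀ i, (Matrix.of M).charpoly.coeff i ∈ R₀) :
    ∃ F : Finset B, (↑F : Set B) ⊆ charSet k B ∧ charSet k B ⊆ Submodule.span R₀ (↑F : Set B) := by
  classical
  haveI : IsNoetherianRing B := Algebra.FiniteType.isNoetherianRing k B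
  haveI : Algebra.FiniteType k R₀ := R₀.fg_iff_finiteType.1 hfg
  haveI : IsNoetherianRing R₀ := Algebra.FiniteType.isNoetherianRing k R₀
  let J := minimalPrimes B
  haveI : Finite J := (minimalPrimes.finite_of_isNoetherianRing B).to_subtype
  haveI : ∀ p : J, p.1.IsPrime := fun p => p.2.1.1
  let K : J → Type v := fun p => AlgebraicClosure (FractionRing (B ⧸ p.1))
  let q : ∀ p : J, B →+* K p := fun p => (algebraMap (FractionRing (B ⧸ p.1)) (K p)).comp
    ((algebraMap (B ⧸ p.1) (FractionRing (B ⧸ p.1))).comp (Ideal.Quotient.mk p.1))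
  letI : ∀ p : J, Algebra B (K p) := fun p => (q p).toAlgebra
  letI : ∀ p : J, Algebra k (K p) := fun p => ((q p).comp (algebraMap k B)).toAlgebra
  letI : ∀ p : J, Algebra R₀ (K p) := fun p => ((q p).comp R₀.val.toRingHom).toAlgebra
  let g : ∀ p : J, B →ₐ[k] K p := fun p => { q p with commutes' := fun _ => rfl }
  let Φ : B →ₗ[R₀] (∀ p : J, K p) :=
    { toFun := fun b p => q p b
      map_add' := fun a b => funext fun p => map_add (q p) a b
      map_smul' := fun r b => funext fun p => map_mul (q p) (r : B) b }
  have hΦ : Function.Injective Φ := by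
    rw [← LinearMap.ker_eq_bot, LinearMap.ker_eq_bot']
    intro b hb
    have hmem : ∀ p : J, b ∈ p.1 := fun p => by
      have h := congrFun hb p
      change algebraMap (FractionRing (B ⧸ p.1)) (K p) (algebraMap (B ⧸ p.1) _ (Ideal.Quotient.mk p.1 b)) = 0 at h
      rw [map_eq_zero, IsFractionRing.to_map_eq_zero_iff] at h
      exact Ideal.Quotient.eq_zero_iff_mem.1 h
    have hn : b ∈ nilradical B := by
      rw [nilradical_eq_sInf, Ideal.mem_sInf]
      intro P hP
      haveI : P.IsPrime := hP
      obtain ⟨p, hp, hle⟩ := Ideal.exists_minimalPrimes_le (I := ⊥) (J := P) bot_le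
      exact hle (hmem ⟨p, hp⟩)
    rwa [nilradical_eq_zero, Ideal.zero_eq_bot, Ideal.mem_bot] at hn
  let roots : ∀ p : J, Set (K p) := fun p => {x | ((Matrix.of M).map (g p)).charpoly.IsRoot x}
  let L : ∀ p : J, Submodule R₀ (K p) := fun p => (Algebra.adjoin R₀ (roots p)).toSubmodule
  have hroots : ∀ p, (roots p).Finite := fun p => Polynomial.finite_setOfPred_isRoot (Matrix.charpoly_monic _).ne_zero
  have hint : ∀ p, ∀ x ∈ roots p, IsIntegral R₀ x := by
    intro p x hx
    let c := (Matrix.of M).charpoly
    haveI : Nontrivial (K p) := inferInstance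
    haveI : Nontrivial B := (q p).domain_nontrivial
    obtain ⟨c₀, hc₀, -, hmon⟩ := Polynomial.lifts_and_degree_eq_and_monic (f := R₀.val.toRingHom) (p := c)
      ((Polynomial.lifts_iff_coeff_lifts c).2 fun i => ⟨⟨_, hcR i⟩, rfl⟩) (Matrix.charpoly_monic _)
    refine ⟨c₀, hmon, ?_⟩
    rw [← Polynomial.eval_map]
    have : c₀.map (algebraMap R₀ (K p)) = ((Matrix.of M).map (g p)).charpoly := by
      rw [show algebraMap R₀ (K p) = (q p).comp R₀.val.toRingHom from rfl, ← Polynomial.map_map, hc₀]
      exact (Matrix.charpoly_map (Matrix.of M) (q p)).symm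
    rw [this]
    exact hx
  have hLfg : ∀ p, (L p).FG := fun p => fg_adjoin_of_finite (hroots p) (hint p)
  have hchar : ∀ x ∈ charSet k B, ∀ p, q p x ∈ L p := by
    rintro _ ⟨r, N, hN, rfl⟩ p
    have h1 : q p (∑ i, N i i) = ((Matrix.of N).map (g p)).trace := by
      rw [map_sum]; rfl
    rw [h1, Matrix.trace_eq_sum_roots_charpoly]
    refine multiset_sum_mem _ fun x hx => ?_
    rw [Polynomial.mem_roots (Matrix.charpoly_monic _).ne_zero] at hx
    have h2 := root_mem_closure hM hd hgen (g p) hN hx
    have hle : Submonoid.closure (roots p ∪ {g p d}) ≤ (Algebra.adjoin R₀ (roots p)).toSubmonoid := by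
      refine Submonoid.closure_le.2 (Set.union_subset Algebra.subset_adjoin (Set.singleton_subset_iff.2 ?_))
      exact Subalgebra.algebraMap_mem (Algebra.adjoin R₀ (roots p)) ⟨d, hdR⟩
    exact hle h2
  let N0 : Submodule R₀ B := Submodule.span R₀ (charSet k B)
  let LL : Submodule R₀ (∀ p : J, K p) := Submodule.pi Set.univ L
  haveI : ∀ p, Module.Finite R₀ (L p) := fun p => Module.Finite.iff_fg.2 (hLfg p)
  haveI : Module.Finite R₀ LL := by
    let e : (∀ p : J, L p) →ₗ[R₀] LL :=
      { toFun := fun f => ⟨fun p => f p, fun p _ => (f p).2⟩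
        map_add' := fun _ _ => rfl
        map_smul' := fun _ _ => rfl }
    exact Module.Finite.of_surjective e fun f => ⟨fun p => ⟨f.1 p, f.2 p (Set.mem_univ p)⟩, rfl⟩
  haveI : IsNoetherian R₀ LL := isNoetherian_of_isNoetherianRing_of_finite R₀ LL
  have hN0 : N0.map Φ ≤ LL := by
    rw [Submodule.map_span_le]
    exact fun x hx p _ => hchar x hx p
  have hN0fg : N0.FG := Submodule.fg_of_fg_map_injective Φ hΦ (Submodule.FG.of_le (Module.Finite.iff_fg.1 ‹_›) hN0)
  obtain ⟨F, hF, hspan⟩ := (Submodule.fg_span_iff_fg_span_finset_subset _).1 hN0fg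
  exact ⟨F, hF, fun x hx => hspan ▸ Submodule.subset_span hx⟩

end Finite

end Groth.Agent.Comod
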