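import Groth.Agent.Comod.Cosemisimple
import Groth.Agent.Comod.Reynolds
import Mathlib.RingTheory.SimpleModule.Basic
import Mathlib.LinearAlgebra.Eigenspace.Triangularizable
import Mathlib.Algebra.Algebra.Pi

/-!
# Matrix coefficients of simple comodules and class functions
-/

set_option autoImplicit false
set_option linter.style.haveILetI false

universe u

noncomputable section

open TensorProduct

namespace Groth.Agent.Comod.Characters

open HopfRep Groth.Agent.Comod

variable {k : Type u} [Field k] {A : Type u} [CommRing A] [HopfAlgebra k A]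

theorem isSimpleModule_of_isSimpleComod {V : Type u} [AddCommGroup V] [Module k V] [HopfRep.Comod k A V]
    (h : HopfRep.IsSimpleComod (k := k) (A := A) (V := V)) : IsSimpleModule (Dual k A) V := by
  haveI := h.1
  haveI : Nontrivial (Submodule (Dual k A) V) := Submodule.nontrivial_iff (Dual k A) |>.2 inferInstance
  refine isSimpleModule_iff_toSpanSingleton_surjective.2 ⟨inferInstance, fun x hx => ?_⟩
  rw [← LinearMap.range_eq_top]
  rcases h.2 _ (isSubcomod_restrictScalars (LinearMap.range (LinearMap.toSpanSingleton (Dual k A) V x))) with e | e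
  · exfalso
    apply hx
    have : x ∈ (LinearMap.range (LinearMap.toSpanSingleton (Dual k A) V x)).restrictScalars k := ⟨1, one_smul _ x⟩
    rw [e] at this
    exact this
  · exact Submodule.restrictScalars_injective k _ _ (e.trans (Submodule.restrictScalars_top k (Dual k A) V).symm)

/-- Schur -/
theorem exists_scalar [IsAlgClosed k] {V : Type u} [AddCommGroup V] [Module k V] [HopfRep.Comod k A V]
    [FiniteDimensional k V] [IsSimpleModule (Dual k A) V] (g : V →ₗ[Dual k A] V) :
    ∃ c : k, ∀ v, g v = c • v := by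
  haveI := IsSimpleModule.nontrivial (Dual k A) V
  obtain ⟨c, hc⟩ := Module.End.exists_eigenvalue (g.restrictScalars k : Module.End k V)
  obtain ⟨v, hv⟩ := hc.exists_hasEigenvector
  refine ⟨c, ?_⟩
  let N : Submodule (Dual k A) V :=
    { carrier := {v | g v = c • v}
      add_mem' := fun {a b} (ha : g a = c • a) (hb : g b = c • b) => show g (a + b) = c • (a + b) by
        rw [map_add, ha, hb, smul_add]
      zero_mem' := show g 0 = c • (0 : V) by rw [map_zero, smul_zero]
      smul_mem' := fun φ {a} (ha : g a = c • a) => show g (φ • a) = c • φ • a by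
        rw [map_smul, ha]
        show contract φ.ofConv (c • a) = c • contract φ.ofConv a
        rw [map_smul] }
  have hN : N = ⊤ := (IsSimpleOrder.eq_bot_or_eq_top N).resolve_left fun e => hv.2 (by
    have : v ∈ N := hv.apply_eq_smul
    rwa [e] at this)
  exact fun w => show w ∈ N by rw [hN]; trivial

theorem bij_of_ne_zero {R M M' : Type*} [Ring R] [AddCommGroup M] [Module R M] [AddCommGroup M'] [Module R M']
    (N : Submodule R M) [IsSimpleModule R N] [IsSimpleModule R M'] (f : N →ₗ[R] M') (hf : f ≠ 0) :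
    Function.Bijective f :=
  (LinearMap.bijective_or_eq_zero f).resolve_right hf

section Indep

variable {ι : Type} [Fintype ι] (d : ι → ℕ) (V : ι → Type u) [∀ i, AddCommGroup (V i)] [∀ i, Module k (V i)]
  [∀ i, HopfRep.Comod k A (V i)] [∀ i, IsSimpleModule (Dual k A) (V i)]
  (b : ∀ i, Module.Basis (Fin (d i)) k (V i))
  (hne : ∀ i j, i ≠ j → IsEmpty (V i ≃ₗ[Dual k A] V j))

include hne in
/-- matrix coefficients of pairwise non-isomorphic simple comodules are linearly independent -/
theorem linearIndependent_mat [IsAlgClosed k] :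
    LinearIndependent k (fun t : Σ i, Fin (d i) × Fin (d i) => mat A (b t.1) t.2.1 t.2.2) := by
  classical
  haveI : ∀ i, FiniteDimensional k (V i) := fun i => Module.Finite.of_basis (b i)
  haveI : ∀ p : (Σ i, Fin (d i)), IsSemisimpleModule (Dual k A) (V p.1) := fun p => inferInstance
  let Φ : (∀ p : (Σ i, Fin (d i)), V p.1) →ₗ[Dual k A] A :=
    ∑ p : (Σ i, Fin (d i)), (homToDual (A := A) (mc A ((b p.1).coord p.2)) (isComodHom_mc _)).comp (LinearMap.proj p)
  have hΦ : ∀ w, Φ w = ∑ p : (Σ i, Fin (d i)), mc A ((b p.1).coord p.2) (w p) := fun w => by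
    simp [Φ, LinearMap.sum_apply]
  have hker : LinearMap.ker Φ = ⊥ := by
    by_contra hk
    haveI : IsSemisimpleModule (Dual k A) (∀ p : (Σ i, Fin (d i)), V p.1) := inferInstance
    obtain ⟨N, hN, hle⟩ := (IsAtomic.eq_bot_or_exists_atom_le (LinearMap.ker Φ)).resolve_left hk
    haveI : IsSimpleModule (Dual k A) N := isSimpleModule_iff_isAtom.2 hN
    let π : ∀ p : (Σ i, Fin (d i)), N →ₗ[Dual k A] V p.1 := fun p => (LinearMap.proj p).comp N.subtype
    obtain ⟨x, hx, hx0⟩ := (Submodule.ne_bot_iff N).1 hN.1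
    obtain ⟨p0, hp0⟩ : ∃ p, π p ≠ 0 := by
      by_contra! h
      exact hx0 (funext fun p => LinearMap.congr_fun (h p) ⟨x, hx⟩)
    let e0 : N ≃ₗ[Dual k A] V p0.1 := LinearEquiv.ofBijective (π p0) (bij_of_ne_zero N (π p0) hp0)
    have hsame : ∀ p : (Σ i, Fin (d i)), p.1 ≠ p0.1 → π p = 0 := fun p hp => by
      by_contra h
      exact (hne p.1 p0.1 hp).false ((LinearEquiv.ofBijective (π p) (bij_of_ne_zero N (π p) h)).symm.trans e0)
    have hsc : ∀ i : Fin (d p0.1), ∃ c : k, ∀ v : V p0.1, π ⟨p0.1, i⟩ (e0.symm v) = c • v := fun i =>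
      exists_scalar (V := V p0.1) ((π ⟨p0.1, i⟩).comp (e0.symm : V p0.1 →ₗ[Dual k A] N))
    choose c hc using hsc
    have hzero : ∀ v : V p0.1, mc A (∑ i, c i • (b p0.1).coord i) v = 0 := by
      intro v
      let n := e0.symm v
      have h1 : Φ ((n : ∀ p : (Σ i, Fin (d i)), V p.1)) = 0 := hle n.2
      rw [hΦ, Fintype.sum_sigma, Finset.sum_eq_single p0.1 (fun i _ hi => Finset.sum_eq_zero fun l _ => by
        rw [show (n : ∀ p : (Σ i, Fin (d i)), V p.1) ⟨i, l⟩ = 0 from LinearMap.congr_fun (hsame ⟨i, l⟩ hi) n, map_zero])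
        (fun h => absurd (Finset.mem_univ _) h)] at h1
      rw [← h1, mc, LinearMap.comp_apply]
      simp only [mc, LinearMap.comp_apply]
      rw [show sliceL (∑ i, c i • (b p0.1).coord i) = ∑ i, c i • sliceL (A := A) ((b p0.1).coord i) from ?_,
        LinearMap.sum_apply]
      · refine Finset.sum_congr rfl fun i _ => ?_
        rw [show (n : ∀ p : (Σ i, Fin (d i)), V p.1) ⟨p0.1, i⟩ = c i • v from hc i v, map_smul, map_smul]
        rfl
      · refine TensorProduct.ext' fun w a => ?_
        simp [LinearMap.sum_apply, Finset.sum_smul, smul_smul]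
    have hf : (∑ i, c i • (b p0.1).coord i) = 0 := LinearMap.ext fun v => by
      have := congrArg (Coalgebra.counit (R := k)) (hzero v)
      rwa [counit_mc, map_zero] at this
    have hc0 : ∀ i, c i = 0 := fun i => by
      simpa [Finsupp.single_apply] using LinearMap.congr_fun hf (b p0.1 i)
    apply hp0
    refine LinearMap.ext fun n => ?_
    have := hc p0.2 (e0 n)
    rw [e0.symm_apply_apply, hc0, zero_smul] at this
    exact this
  rw [Fintype.linearIndependent_iff]
  intro g hg t
  let w : ∀ p : (Σ i, Fin (d i)), V p.1 := fun p => ∑ j, g ⟨p.1, p.2, j⟩ • b p.1 j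
  have hw : Φ w = 0 := by
    rw [hΦ, ← hg, Fintype.sum_sigma, Fintype.sum_sigma]
    refine Finset.sum_congr rfl fun i _ => ?_
    rw [Fintype.sum_prod_type]
    refine Finset.sum_congr rfl fun l _ => ?_
    simp only [w, map_sum, map_smul]
    rfl
  have hw0 : w = 0 := by
    have : w ∈ LinearMap.ker Φ := hw
    rwa [hker] at this
  obtain ⟨i, l, j⟩ := t
  have h1 : ∑ j, g ⟨i, l, j⟩ • b i j = 0 := congrFun hw0 ⟨i, l⟩
  exact Fintype.linearIndependent_iff.1 (b i).linearIndependent _ h1 j

/-- the character -/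
def char' (i : ι) : A := ∑ t, mat A (b i) t t

include hne in
theorem linearIndependent_char [IsAlgClosed k] : LinearIndependent k (char' (A := A) d V b) := by
  classical
  have h := linearIndependent_mat d V b hne
  rw [Fintype.linearIndependent_iff] at h ⊢
  intro g hg i
  haveI := IsSimpleModule.nontrivial (Dual k A) (V i)
  obtain ⟨t⟩ : Nonempty (Fin (d i)) := (b i).index_nonempty
  have := h (fun s => if s.2.1 = s.2.2 then g s.1 else 0) ?_ ⟨i, t, t⟩
  · simpa using this
  · rw [← hg, Fintype.sum_sigma]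
    refine Finset.sum_congr rfl fun i _ => ?_
    rw [Fintype.sum_prod_type, char', Finset.smul_sum]
    simp [ite_smul]

end Indep

variable (k A) in
/-- conjugation `f ↦ Σ f₁ S(f₃) ⊗ f₂` -/
def cj : A →ₐ[k] A ⊗[k] A :=
  (Algebra.TensorProduct.lift
    ((Algebra.TensorProduct.lift Algebra.TensorProduct.includeLeft Algebra.TensorProduct.includeRight
      fun _ _ => Commute.all _ _).comp (Bialgebra.comulAlgHom k A))
    ((Algebra.TensorProduct.includeLeft : A →ₐ[k] A ⊗[k] A).comp (HopfAlgebra.antipodeAlgHom k A))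
    fun _ _ => Commute.all _ _).comp (Bialgebra.comulAlgHom k A)

theorem cj_mat {n : ℕ} {a : Fin n → Fin n → A} (ha : IsMat k a) (i j : Fin n) :
    cj k A (a i j) = ∑ m, ∑ l, (a i l * HopfAlgebra.antipode k (a m j)) ⊗ₜ[k] a l m := by
  simp only [cj, AlgHom.comp_apply, Bialgebra.comulAlgHom_apply, ha.comul, map_sum]
  refine Finset.sum_congr rfl fun m _ => ?_
  simp only [Algebra.TensorProduct.lift_tmul, AlgHom.comp_apply, Bialgebra.comulAlgHom_apply, ha.comul, map_sum,
    Algebra.TensorProduct.includeLeft_apply, Algebra.TensorProduct.includeRight_apply, Finset.sum_mul,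
    Algebra.TensorProduct.tmul_mul_tmul, one_mul, mul_one, HopfAlgebra.antipodeAlgHom_apply]

theorem cj_char {n : ℕ} {a : Fin n → Fin n → A} (ha : IsMat k a) :
    cj k A (∑ i, a i i) = (1 : A) ⊗ₜ[k] ∑ i, a i i := by
  classical
  simp only [map_sum, cj_mat ha]
  rw [Finset.sum_comm]
  rw [TensorProduct.tmul_sum]
  refine Finset.sum_congr rfl fun m _ => ?_
  rw [Finset.sum_comm]
  have : ∀ l, ∑ i, (a i l * HopfAlgebra.antipode k (a m i)) ⊗ₜ[k] a l m =
      (if m = l then (1 : A) else 0) ⊗ₜ[k] a l m := fun l => by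
    rw [← TensorProduct.sum_tmul, ← antipode_mul_mat ha m l]
    simp only [mul_comm]
  rw [Finset.sum_congr rfl fun l _ => this l]
  simp [ite_tmul]

/-- class functions are combinations of characters -/
theorem mem_span_char [IsAlgClosed k] (hred : HopfRep.IsLinearlyReductive k A) {f : A}
    (hf : cj k A f = (1 : A) ⊗ₜ[k] f) :
    f ∈ Submodule.span k {x : A | ∃ (n : ℕ) (a : Fin n → Fin n → A), IsMat k a ∧ x = ∑ i, a i i} := by
  classical
  obtain ⟨U, hfin, hfU, hU⟩ := exists_finite_subcomod (k := k) (A := A) (V := A) ({f} : Finset A)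
  have hfU' : f ∈ U := hfU (by simp)
  letI cU := ComodSub.Comod.restr (HopfRep.Comod.regular k A) U hU
  have hι : Hoch.IsComodHom A U.subtype :=
    (ComodSub.rTensor_subtype_comp_restrCoact (HopfRep.Comod.regular k A) U hU).symm
  haveI := Reynolds.isSemisimpleModule hred (U : Type u)
  have htop : (⟨f, hfU'⟩ : U) ∈ sSup {m : Submodule (Dual k A) U | IsSimpleModule (Dual k A) m} := by
    rw [IsSemisimpleModule.sSup_simples_eq_top]; trivial
  rw [sSup_eq_iSup'] at htop
  obtain ⟨S, hS⟩ := Submodule.exists_finset_of_mem_iSup _ htop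
  -- representatives
  obtain ⟨T, hT, hTrep⟩ : ∃ T : Finset {m : Submodule (Dual k A) U | IsSimpleModule (Dual k A) m},
      (∀ m ∈ T, ∀ m' ∈ T, m ≠ m' → IsEmpty (m.1 ≃ₗ[Dual k A] m'.1)) ∧
        ∀ m ∈ S, ∃ m' ∈ T, Nonempty (m.1 ≃ₗ[Dual k A] m'.1) := by
    clear hS
    induction S using Finset.induction with
    | empty => exact ⟨∅, by simp, by simp⟩
    | @insert m S hm ih =>
      obtain ⟨T, h1, h2⟩ := ih
      by_cases hex : ∃ m' ∈ T, Nonempty (m.1 ≃ₗ[Dual k A] m'.1)
      · exact ⟨T, h1, fun x hx => (Finset.mem_insert.1 hx).elim (fun e => e ▸ hex) (h2 x)⟩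
      · push Not at hex
        refine ⟨insert m T, fun a ha b hb hab => ?_, fun x hx => ?_⟩
        · rcases Finset.mem_insert.1 ha with rfl | ha' <;> rcases Finset.mem_insert.1 hb with rfl | hb'
          · exact absurd rfl hab
          · exact hex b hb'
          · exact ⟨fun e => (hex a ha').false e.symm⟩
          · exact h1 a ha' b hb' hab
        · rcases Finset.mem_insert.1 hx with rfl | hx
          · exact ⟨x, Finset.mem_insert_self _ _, ⟨LinearEquiv.refl _ _⟩⟩
          · obtain ⟨m', hm', he⟩ := h2 x hx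
            exact ⟨m', Finset.mem_insert_of_mem hm', he⟩
  let eT := T.equivFin
  let m0 : Fin T.card → Submodule (Dual k A) U := fun i => (eT.symm i).1.1
  obtain ⟨M, hM⟩ : ∃ M : Fin T.card → Submodule k U, ∀ i x, x ∈ M i ↔ x ∈ m0 i :=
    ⟨fun i => (m0 i).restrictScalars k, fun _ _ => Iff.rfl⟩
  have hMs : ∀ i, IsSubcomod (k := k) (A := A) (M i) := fun i =>
    isSubcomod_iff.2 fun φ v hv => (hM i _).2 ((m0 i).smul_mem (WithConv.toConv φ) ((hM i v).1 hv))
  letI : ∀ i, AddCommGroup ↥(M i) := fun i => (M i).addCommGroup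
  letI cm : ∀ i, HopfRep.Comod k A (M i) := fun i => ComodSub.Comod.restr cU _ (hMs i)
  have hsub : ∀ i, Hoch.IsComodHom A (M i).subtype := fun i =>
    (ComodSub.rTensor_subtype_comp_restrCoact cU _ (hMs i)).symm
  let eV : ∀ i, ↥(M i) ≃ₗ[Dual k A] m0 i := fun i =>
    { toFun := fun v => ⟨v.1, (hM i _).1 v.2⟩
      invFun := fun v => ⟨v.1, (hM i _).2 v.2⟩
      map_add' := fun _ _ => rfl
      map_smul' := fun φ v => Subtype.ext (map_contract (hsub i) φ.ofConv v)
      left_inv := fun _ => rfl
      right_inv := fun _ => rfl }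
  haveI : ∀ i, IsSimpleModule (Dual k A) ↥(M i) := fun i => by
    haveI : IsSimpleModule (Dual k A) (m0 i) := (eT.symm i).1.2
    exact IsSimpleModule.congr (N := ↥(m0 i)) (eV i)
  haveI : ∀ i, FiniteDimensional k ↥(M i) := fun i => FiniteDimensional.finiteDimensional_submodule (M i)
  let d : Fin T.card → ℕ := fun i => Module.finrank k ↥(M i)
  let b : ∀ i, Module.Basis (Fin (d i)) k ↥(M i) := fun i => Module.finBasis k ↥(M i)
  have hne : ∀ i j, i ≠ j → IsEmpty (↥(M i) ≃ₗ[Dual k A] ↥(M j)) := fun i j hij =>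
    ⟨fun e => (hT _ (eT.symm i).2 _ (eT.symm j).2 fun h => hij (eT.symm.injective (Subtype.ext h))).false
      (((eV i).symm.trans e).trans (eV j))⟩
  have hind := linearIndependent_mat d (fun i => ↥(M i)) b hne
  let a : ∀ i, Fin (d i) → Fin (d i) → A := fun i => mat A (b i)
  have ha : ∀ i, IsMat k (a i) := fun i => isMat_mat (b i)
  have hmem : f ∈ Submodule.span k (Set.range fun t : Σ i, Fin (d i) × Fin (d i) => mat A (b t.1) t.2.1 t.2.2) := by
    have hin : ∀ x ∈ (⨆ m ∈ S, (m : {m : Submodule (Dual k A) U | IsSimpleModule (Dual k A) m}).1),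
        (x : A) ∈ Submodule.span k (Set.range fun t : Σ i, Fin (d i) × Fin (d i) => mat A (b t.1) t.2.1 t.2.2) := by
      intro x hx
      induction hx using Submodule.iSup_induction' with
      | zero => exact zero_mem _
      | add y z _ _ hy hz => exact add_mem hy hz
      | mem m x hx =>
        induction hx using Submodule.iSup_induction' with
        | zero => exact zero_mem _
        | add y z _ _ hy hz => exact add_mem hy hz
        | mem hmS x hx =>
          obtain ⟨m', hm', ⟨e⟩⟩ := hTrep m hmS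
          let i := eT ⟨m', hm'⟩
          have hi : m0 i = m'.1 := by simp [m0, i]
          let e' : m.1 ≃ₗ[Dual k A] ↥(M i) := (e.trans (LinearEquiv.ofEq _ _ hi.symm)).trans (eV i).symm
          let g : ↥(M i) →ₗ[Dual k A] A :=
            ((homToDual (A := A) U.subtype hι).comp m.1.subtype).comp (e'.symm : ↥(M i) →ₗ[Dual k A] m.1)
          have hg : (x : A) = g (e' ⟨x, hx⟩) := by simp [g]
          rw [hg]
          have hr : g (e' ⟨x, hx⟩) ∈ coeff k A ↥(M i) :=
            range_le_coeff (isComodHom_restrictScalars g) ⟨_, rfl⟩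
          refine (iSup_le (fun φ => ?_) : coeff k A ↥(M i) ≤ _) hr
          rintro _ ⟨v, rfl⟩
          rw [← (b i).sum_repr v, map_sum]
          refine Submodule.sum_mem _ fun j _ => ?_
          rw [map_smul]
          refine Submodule.smul_mem _ _ ?_
          rw [mc, LinearMap.comp_apply, coact_basis, map_sum]
          refine Submodule.sum_mem _ fun l _ => ?_
          rw [sliceL_tmul]
          exact Submodule.smul_mem _ _ (Submodule.subset_span ⟨⟨i, l, j⟩, rfl⟩)
    exact hin ⟨f, hfU'⟩ hS
  obtain ⟨c, hc⟩ := Submodule.mem_span_range_iff_exists_fun k |>.1 hmem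
  -- coefficients in the right tensor factor
  have hcoef : ∀ s : Σ i, Fin (d i) × Fin (d i),
      ∑ i, ∑ j, c ⟨s.1, i, j⟩ • (a s.1 i s.2.1 * HopfAlgebra.antipode k (a s.1 s.2.2 j)) = c s • (1 : A) := by
    intro s
    obtain ⟨φ, hφ⟩ : ∃ φ : A →ₗ[k] k, ∀ t : Σ i, Fin (d i) × Fin (d i),
        φ (mat A (b t.1) t.2.1 t.2.2) = if t = s then (1 : k) else 0 := by
      obtain ⟨g, hg⟩ := LinearMap.exists_leftInverse_of_injective
        (Finsupp.linearCombination k fun t : Σ i, Fin (d i) × Fin (d i) => mat A (b t.1) t.2.1 t.2.2)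
        (LinearMap.ker_eq_bot.2 hind)
      refine ⟨Finsupp.lapply s ∘ₗ g, fun t => ?_⟩
      have := LinearMap.congr_fun hg (Finsupp.single t 1)
      simp only [LinearMap.comp_apply, Finsupp.linearCombination_single, one_smul, LinearMap.id_apply] at this
      rw [LinearMap.comp_apply, this]
      simp [Finsupp.single_apply]
    have hφf : φ f = c s := by
      rw [← hc, map_sum]; simp [hφ]
    have h := congrArg (slice φ) hf
    rw [slice_tmul, hφf] at h
    conv_lhs at h => rw [← hc]
    simp only [map_sum, map_smul, cj_mat (ha _), a, slice_tmul] at h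
    rw [← h, Fintype.sum_sigma, Finset.sum_eq_single s.1]
    · obtain ⟨i0, l0, m0⟩ := s
      rw [Fintype.sum_prod_type]
      refine Finset.sum_congr rfl fun i _ => Finset.sum_congr rfl fun j _ => ?_
      congr 1
      rw [Finset.sum_eq_single m0, Finset.sum_eq_single l0, hφ ⟨i0, l0, m0⟩, if_pos rfl, one_smul]
      · intro l _ hl
        rw [hφ ⟨i0, l, m0⟩, if_neg (by simpa using hl), zero_smul]
      · intro h'; exact absurd (Finset.mem_univ _) h'
      · intro m _ hm
        refine Finset.sum_eq_zero fun l _ => ?_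
        rw [hφ ⟨i0, l, m⟩, if_neg (by simp [hm]), zero_smul]
      · intro h'; exact absurd (Finset.mem_univ _) h'
    · intro i _ hi
      refine Finset.sum_eq_zero fun t _ => ?_
      refine smul_eq_zero_of_right _ (Finset.sum_eq_zero fun m _ => Finset.sum_eq_zero fun l _ => ?_)
      rw [hφ ⟨i, l, m⟩, if_neg (fun e => hi (congrArg Sigma.fst e)), zero_smul]
    · intro h'; exact absurd (Finset.mem_univ _) h'
  -- the coefficient matrices commute with the representations
  have hcomm : ∀ s (p l : Fin (d s)), ∑ i, c ⟨s, i, p⟩ • a s i l = ∑ m, c ⟨s, l, m⟩ • a s p m := by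
    intro s p l
    have h1 : ∀ m, c ⟨s, l, m⟩ • a s p m =
        ∑ i, ∑ j, c ⟨s, i, j⟩ • (a s i l * HopfAlgebra.antipode k (a s m j)) * a s p m := fun m => by
      rw [← Finset.sum_congr rfl fun i _ => Finset.sum_mul _ _ _, ← Finset.sum_mul, hcoef ⟨s, l, m⟩,
        smul_mul_assoc, one_mul]
    rw [Finset.sum_congr rfl fun m _ => h1 m, Finset.sum_comm]
    refine Finset.sum_congr rfl fun i _ => ?_
    rw [Finset.sum_comm]
    have h2 : ∀ j, ∑ m, c ⟨s, i, j⟩ • (a s i l * HopfAlgebra.antipode k (a s m j)) * a s p m =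
        c ⟨s, i, j⟩ • (a s i l * (if p = j then (1 : A) else 0)) := fun j => by
      rw [← mul_antipode_mat (ha s) p j, Finset.mul_sum, Finset.smul_sum]
      refine Finset.sum_congr rfl fun m _ => ?_
      rw [smul_mul_assoc]
      congr 1
      ring
    rw [Finset.sum_congr rfl fun j _ => h2 j]
    simp
  have hscal : ∀ s (p i : Fin (d s)), c ⟨s, i, p⟩ = if i = p then c ⟨s, p, p⟩ else 0 := by
    intro s p i
    split_ifs with h
    · rw [h]
    · have hp := hcomm s p p
      have hl := (Fintype.linearIndependent_iff.1 hind)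
        (fun t => if h : t.1 = s then
          (if Fin.cast (congrArg d h) t.2.2 = p then c ⟨s, Fin.cast (congrArg d h) t.2.1, p⟩ else 0) -
          (if Fin.cast (congrArg d h) t.2.1 = p then c ⟨s, p, Fin.cast (congrArg d h) t.2.2⟩ else 0) else 0) ?_ ⟨s, i, p⟩
      · simpa [h] using hl
      · rw [Fintype.sum_sigma, Finset.sum_eq_single s, Fintype.sum_prod_type]
        · simp only [dif_pos, Fin.cast_eq_self, sub_smul, ite_smul, zero_smul, Finset.sum_sub_distrib]
          rw [sub_eq_zero]
          simpa [a] using hp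
        · intro t _ ht
          exact Finset.sum_eq_zero fun q _ => by simp [ht]
        · intro h'; exact absurd (Finset.mem_univ _) h'
  have hdiag : ∀ s (p l : Fin (d s)), c ⟨s, p, p⟩ = c ⟨s, l, l⟩ := by
    intro s p l
    have hp := hcomm s p l
    rw [Finset.sum_eq_single p (fun i _ hi => by rw [hscal, if_neg hi, zero_smul]) (fun h' => absurd (Finset.mem_univ _) h'),
      Finset.sum_eq_single l (fun m _ hm => by rw [hscal, if_neg (Ne.symm hm), zero_smul])
        (fun h' => absurd (Finset.mem_univ _) h')] at hp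
    have := hind.ne_zero ⟨s, p, l⟩
    exact (smul_left_injective k this) hp
  rw [← hc, Fintype.sum_sigma]
  refine Submodule.sum_mem _ fun s _ => ?_
  rw [Fintype.sum_prod_type]
  haveI := IsSimpleModule.nontrivial (Dual k A) ↥(M s)
  obtain ⟨p⟩ : Nonempty (Fin (d s)) := (b s).index_nonempty
  have : ∑ i, ∑ j, c ⟨s, i, j⟩ • a s i j = c ⟨s, p, p⟩ • ∑ i, a s i i := by
    rw [Finset.smul_sum]
    refine Finset.sum_congr rfl fun i _ => ?_
    rw [Finset.sum_eq_single i (fun j _ hj => by rw [hscal, if_neg (Ne.symm hj), zero_smul])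
      (fun h' => absurd (Finset.mem_univ _) h'), hdiag s i p]
  exact this ▸ Submodule.smul_mem _ _ (Submodule.subset_span ⟨d s, a s, ha s, rfl⟩)

end Groth.Agent.Comod.Characters
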