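import Groth.Agent.Chevalley.Basic
import Mathlib.RingTheory.Artinian.Module
import Mathlib.RingTheory.AdicCompletion.Noetherian

/-!
# Chevalley's lemma and precompleteness for finite modules over complete Noetherian local rings
-/

set_option autoImplicit false

namespace Groth.Agent.Comod.ChevalleyMod

open IsLocalRing

variable {R : Type*} [CommRing R] {N : Type*} [AddCommGroup N] [Module R N]

theorem isPrecomplete_finite (I : Ideal R) [IsPrecomplete I R] [Module.Finite R N] : IsPrecomplete I N := by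
  classical
  obtain ⟨n, g, hg⟩ := Module.Finite.exists_fin (R := R) (M := N)
  refine ⟨fun f hf => ?_⟩
  have hdiff : ∀ d, ∃ c : Fin n → R, (∀ i, c i ∈ I ^ d) ∧ f (d + 1) - f d = ∑ i, c i • g i := by
    intro d
    have h := SModEq.sub_mem.1 (hf (Nat.le_succ d))
    rw [← neg_mem_iff, neg_sub, ← hg, Submodule.mem_ideal_smul_span_iff_exists_sum] at h
    obtain ⟨a, ha, he⟩ := h
    refine ⟨fun i => a i, ha, ?_⟩
    rw [← he, Finsupp.sum_fintype]
    simp
  choose c hc hcs using hdiff
  have h0 : f 0 ∈ Submodule.span R (Set.range g) := hg ▸ Submodule.mem_top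
  obtain ⟨a0, ha0⟩ := (Submodule.mem_span_range_iff_exists_fun R).1 h0
  let F : Fin n → ℕ → R := fun i d => a0 i + ∑ e ∈ Finset.range d, c e i
  have hF : ∀ d, f d = ∑ i, F i d • g i := by
    intro d
    induction d with
    | zero => simp [F, ha0]
    | succ d ih =>
      rw [← sub_add_cancel (f (d + 1)) (f d), hcs, ih, ← Finset.sum_add_distrib]
      refine Finset.sum_congr rfl fun i _ => ?_
      simp only [F, Finset.sum_range_succ, add_smul]
      abel
  have hcauchy : ∀ i {a b}, a ≤ b → F i a ≡ F i b [SMOD (I ^ a • ⊤ : Submodule R R)] := by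
    intro i a b hab
    rw [SModEq.sub_mem, smul_eq_mul, Ideal.mul_top]
    induction b, hab using Nat.le_induction with
    | base => simp
    | succ b hb ih =>
      have h2 := sub_mem ih (Ideal.pow_le_pow_right hb (hc b i))
      convert h2 using 1
      simp only [F, Finset.sum_range_succ]
      ring
  choose L hL using fun i => IsPrecomplete.prec (inferInstance : IsPrecomplete I R) (f := F i) (fun h => hcauchy i h)
  refine ⟨∑ i, L i • g i, fun d => ?_⟩
  rw [SModEq.sub_mem, hF, ← Finset.sum_sub_distrib]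
  refine Submodule.sum_mem _ fun i _ => ?_
  rw [← sub_smul]
  refine Submodule.smul_mem_smul ?_ trivial
  have := SModEq.sub_mem.1 (hL i d)
  rwa [smul_eq_mul, Ideal.mul_top] at this

variable [IsNoetherianRing R] [IsLocalRing R]

theorem isArtinian_quotient_pow [Module.Finite R N] (j : ℕ) :
    IsArtinian R (N ⧸ (maximalIdeal R ^ j • ⊤ : Submodule R N)) := by
  have := Groth.Agent.Chevalley.isArtinianRing_quotient_pow R j
  have : Module.Finite (R ⧸ maximalIdeal R ^ j) (N ⧸ (maximalIdeal R ^ j • ⊤ : Submodule R N)) :=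
    Module.Finite.of_restrictScalars_finite R _ _
  exact isArtinian_of_surjective_algebraMap (R := R ⧸ maximalIdeal R ^ j) Ideal.Quotient.mk_surjective

/-- **Chevalley's lemma** for a finite module -/
theorem exists_le_pow [IsPrecomplete (maximalIdeal R) R] [Module.Finite R N] (K : ℕ → Submodule R N)
    (hK : Antitone K) (h0 : ∀ x, (∀ n, x ∈ K n) → x = 0) (j : ℕ) :
    ∃ n, K n ≤ maximalIdeal R ^ j • (⊤ : Submodule R N) := by
  set m := maximalIdeal R
  have := isPrecomplete_finite (N := N) m
  have stab : ∀ i, ∃ S, ∀ n, S ≤ n → K S ≤ K n ⊔ m ^ i • ⊤ := by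
    intro i
    have := isArtinian_quotient_pow (R := R) (N := N) i
    obtain ⟨S, hS⟩ := IsArtinian.monotone_stabilizes (R := R) (M := N ⧸ (m ^ i • ⊤ : Submodule R N))
      ⟨fun n => OrderDual.toDual ((K n).map (Submodule.mkQ _)), fun a b hab => Submodule.map_mono (hK hab)⟩
    refine ⟨S, fun n hn => ?_⟩
    have h := congrArg (fun J : Submodule R (N ⧸ (m ^ i • ⊤ : Submodule R N)) => J.comap (Submodule.mkQ _)) (hS n hn)
    change _ = _ at h
    have h' : K S ≤ ((K n).map (Submodule.mkQ (m ^ i • ⊤ : Submodule R N))).comap (Submodule.mkQ _) :=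
      (Submodule.le_comap_map _ _).trans h.le
    rwa [Submodule.comap_map_mkQ, sup_comm] at h'
  choose S hS using stab
  let M : ℕ → ℕ := fun i => Nat.rec (S 0) (fun k r => max r (S (k + 1))) i
  have hMN : ∀ i, S i ≤ M i := fun i => by cases i with | zero => exact le_rfl | succ k => exact le_max_right _ _
  have hM : ∀ i n, K (M i) ≤ K n ⊔ m ^ i • ⊤ := by
    intro i n
    rcases le_total n (S i) with h | h
    · exact ((hK (h.trans (hMN i))).trans le_sup_left)
    · exact (hK (hMN i)).trans (hS i n h)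
  refine ⟨M j, fun x₀ hx₀ => ?_⟩
  have step : ∀ i (x : K (M i)), ∃ y : K (M (i + 1)), (x : N) - y ∈ m ^ i • (⊤ : Submodule R N) := by
    intro i x
    obtain ⟨y, hy, e, he, hye⟩ := Submodule.mem_sup.mp (hM i (M (i + 1)) x.2)
    exact ⟨⟨y, hy⟩, by simpa [← hye] using he⟩
  choose next hnext using step
  let x : (d : ℕ) → (K (M (j + d)) : Submodule R N) := fun d =>
    Nat.rec (motive := fun d => ↥(K (M (j + d)))) ⟨x₀, hx₀⟩ (fun d y => next (j + d) y) d
  have hx : ∀ d, ((x d).1 : N) - (x (d + 1)).1 ∈ m ^ (j + d) • (⊤ : Submodule R N) := fun d => hnext (j + d) (x d)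
  have hle : ∀ {a b : ℕ}, a ≤ b → (m ^ b • ⊤ : Submodule R N) ≤ m ^ a • ⊤ := fun h =>
    Submodule.smul_mono_left (Ideal.pow_le_pow_right h)
  have hcauchy : ∀ {a b}, a ≤ b → (x a : N) - x b ∈ m ^ (j + a) • (⊤ : Submodule R N) := by
    intro a b hab
    induction b, hab using Nat.le_induction with
    | base => simp
    | succ b hb ih =>
      have := add_mem ih (hle (Nat.add_le_add_left hb j) (hx b))
      simpa using this
  obtain ⟨L, hL⟩ := IsPrecomplete.prec (inferInstance : IsPrecomplete m N)
    (f := fun d => (x d : N)) (fun {a b} hab => by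
      rw [SModEq.sub_mem]
      exact hle (Nat.le_add_left a j) (hcauchy hab))
  have hL' : ∀ d, (x d : N) - L ∈ m ^ d • (⊤ : Submodule R N) := fun d => SModEq.sub_mem.mp (hL d)
  have hmem : ∀ n, L ∈ K n := by
    intro n
    have h1 : ∀ d, L ∈ K n ⊔ m ^ d • ⊤ := by
      intro d
      have h2 : (x d : N) ∈ K n ⊔ m ^ d • ⊤ :=
        sup_le_sup le_rfl (hle (Nat.le_add_left d j)) (hM (j + d) n (x d).2)
      have := sub_mem h2 (Submodule.mem_sup_right (hL' d) : (x d : N) - L ∈ K n ⊔ m ^ d • ⊤)
      simpa using this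
    rw [← Submodule.Quotient.mk_eq_zero]
    have h3 : Submodule.mkQ (K n) L ∈ ⨅ d, m ^ d • (⊤ : Submodule R (N ⧸ K n)) := by
      rw [Submodule.mem_iInf]
      intro d
      have h4 := Submodule.mem_map_of_mem (f := (K n).mkQ) (h1 d)
      rwa [Submodule.map_sup, Submodule.map_smul'', Submodule.mkQ_map_self, bot_sup_eq, Submodule.map_top,
        Submodule.range_mkQ] at h4
    rw [Ideal.iInf_pow_smul_eq_bot_of_isLocalRing m (IsLocalRing.maximalIdeal.isMaximal R).ne_top,
      Submodule.mem_bot] at h3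
    exact h3
  have hfin := add_mem (hcauchy (Nat.zero_le j)) (hL' j)
  rw [h0 L hmem, sub_zero, sub_add_cancel] at hfin
  exact hfin

end Groth.Agent.Comod.ChevalleyMod
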