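import Groth.Agent.Comod.Matrix
import Mathlib.LinearAlgebra.Eigenspace.Triangularizable
import Mathlib.LinearAlgebra.Matrix.Charpoly.Eigs
import Mathlib.LinearAlgebra.Matrix.ToLin
import Mathlib.LinearAlgebra.Eigenspace.Charpoly

/-!
# Eigenvalues of a point in every corepresentation are monomials in those of a generating one
-/

universe u v w w'

noncomputable section

open TensorProduct

namespace Groth.Agent.Comod

section Mult

variable {K : Type*} [Field K] {R : Type*} [CommRing R] [Algebra K R] (f : R →ₐ[K] R)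

theorem pow_mul_eq_zero (a b : K) : ∀ (i j : ℕ) (x y : R),
    ((f.toLinearMap - a • 1) ^ i) x = 0 → ((f.toLinearMap - b • 1) ^ j) y = 0 →
    ((f.toLinearMap - (a * b) • 1) ^ (i + j)) (x * y) = 0 := by
  intro i j
  induction hn : i + j generalizing i j with
  | zero =>
    intro x y hx _
    obtain ⟨rfl, rfl⟩ : i = 0 ∧ j = 0 := by omega
    simp at hx
    simp [hx]
  | succ n ih =>
    intro x y hx hy
    rcases i with _ | i
    · simp at hx
      simp [hx]
    rcases j with _ | j
    · simp at hy
      simp [hy]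
    have hsplit : (f.toLinearMap - (a * b) • 1) (x * y) =
        (f.toLinearMap - a • 1) x * f y + a • (x * (f.toLinearMap - b • 1) y) := by
      simp only [LinearMap.sub_apply, AlgHom.toLinearMap_apply, LinearMap.smul_apply, Module.End.one_apply, map_mul,
        sub_mul, mul_sub, smul_sub, smul_mul_assoc, mul_smul_comm, smul_smul]
      abel
    rw [pow_succ, Module.End.mul_apply, hsplit, map_add, map_smul]
    have hfy : ((f.toLinearMap - b • 1) ^ (j + 1)) (f y) = 0 := by
      have hc : Commute ((f.toLinearMap - b • 1) ^ (j + 1)) f.toLinearMap :=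
        (((Commute.refl f.toLinearMap).sub_left ((Commute.one_left _).smul_left b))).pow_left _
      have := LinearMap.congr_fun hc.eq y
      simp only [Module.End.mul_apply, hy, map_zero] at this
      exact this
    rw [pow_succ, Module.End.mul_apply] at hx hy
    rw [ih i (j + 1) (by omega) _ _ hx hfy]
    have hx' : ((f.toLinearMap - a • 1) ^ (i + 1)) x = 0 := by rwa [pow_succ, Module.End.mul_apply]
    rw [ih (i + 1) j (by omega) _ _ hx' hy]
    simp

theorem mul_mem_maxGen {a b : K} {x y : R} (hx : x ∈ Module.End.maxGenEigenspace f.toLinearMap a)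
    (hy : y ∈ Module.End.maxGenEigenspace f.toLinearMap b) :
    x * y ∈ Module.End.maxGenEigenspace f.toLinearMap (a * b) := by
  rw [Module.End.mem_maxGenEigenspace] at hx hy ⊢
  obtain ⟨i, hi⟩ := hx
  obtain ⟨j, hj⟩ := hy
  exact ⟨i + j, pow_mul_eq_zero f a b i j x y hi hj⟩

theorem one_mem_maxGen : (1 : R) ∈ Module.End.maxGenEigenspace f.toLinearMap 1 :=
  Module.End.mem_maxGenEigenspace _ _ _ |>.2 ⟨1, by simp⟩

theorem map_mem_maxGen {V : Type*} [AddCommGroup V] [Module K V] (G : Module.End K V) (T : Module.End K R)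
    (φ : V →ₗ[K] R) (h : T ∘ₗ φ = φ ∘ₗ G) {a : K} {v : V} (hv : v ∈ Module.End.maxGenEigenspace G a) :
    φ v ∈ Module.End.maxGenEigenspace T a := by
  rw [Module.End.mem_maxGenEigenspace] at hv ⊢
  obtain ⟨m, hm⟩ := hv
  refine ⟨m, ?_⟩
  have key : ∀ (m : ℕ) (v : V), ((T - a • 1) ^ m) (φ v) = φ (((G - a • 1) ^ m) v) := by
    intro m
    induction m with
    | zero => simp
    | succ m ih =>
      intro v
      rw [pow_succ, pow_succ, Module.End.mul_apply, Module.End.mul_apply]
      have : (T - a • 1) (φ v) = φ ((G - a • 1) v) := by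
        have := LinearMap.congr_fun h v
        simp only [LinearMap.comp_apply] at this
        simp [this, map_sub, map_smul]
      rw [this, ih]
  rw [key, hm, map_zero]

end Mult

section Trans

variable {k : Type u} [Field k] {B : Type v} [CommRing B] [HopfAlgebra k B] {K : Type w} [Field K] [Algebra k K]

/-- right translation by the point `g` -/
def transl (g : B →ₐ[k] K) : K ⊗[k] B →ₐ[K] K ⊗[k] B :=
  Algebra.TensorProduct.lift (Algebra.ofId K (K ⊗[k] B))
    ((Algebra.TensorProduct.comm k B K).toAlgHom.comp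
      ((Algebra.TensorProduct.map (AlgHom.id k B) g).comp (Bialgebra.comulAlgHom k B)))
    fun _ _ => Commute.all _ _

theorem transl_mat {r : Type*} [Fintype r] [DecidableEq r] {N : r → r → B} (hN : IsMat k N) (g : B →ₐ[k] K)
    (i l : r) :
    transl g ((1 : K) ⊗ₜ[k] N i l) = ∑ j, g (N j l) ⊗ₜ[k] N i j := by
  simp [transl, hN.comul, ← Algebra.TensorProduct.one_def]

theorem row_comp {r : Type*} [Fintype r] [DecidableEq r] {N : r → r → B} (hN : IsMat k N) (g : B →ₐ[k] K)
    (i : r) :
    (transl g).toLinearMap ∘ₗ Fintype.linearCombination K (fun l => (1 : K) ⊗ₜ[k] N i l) =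
      Fintype.linearCombination K (fun l => (1 : K) ⊗ₜ[k] N i l) ∘ₗ Matrix.toLin' ((Matrix.of N).map g) := by
  refine (Pi.basisFun K r).ext fun l => ?_
  simp [Fintype.linearCombination_apply, transl_mat hN, Pi.single_apply, ite_smul, Matrix.toLin'_apply,
    Matrix.mulVec_single, TensorProduct.smul_tmul']

/-- eigenvalues of `g` in a corepresentation, when `B` is generated by a matrix and a group-like element -/
theorem root_mem_closure [IsAlgClosed K] {n : Type*} [Fintype n] [DecidableEq n] {M : n → n → B} (hM : IsMat k M)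
    {d : B} (hd : Coalgebra.comul (R := k) d = d ⊗ₜ[k] d)
    (hgen : Algebra.adjoin k (Set.range (fun p : n × n => M p.1 p.2) ∪ {d}) = ⊤) (g : B →ₐ[k] K)
    {r : Type*} [Fintype r] [DecidableEq r] {N : r → r → B} (hN : IsMat k N) {lam : K}
    (hlam : ((Matrix.of N).map g).charpoly.IsRoot lam) :
    lam ∈ Submonoid.closure ({x | ((Matrix.of M).map g).charpoly.IsRoot x} ∪ {g d}) := by
  classical
  set Lam := Submonoid.closure ({x | ((Matrix.of M).map g).charpoly.IsRoot x} ∪ {g d})
  let T : Module.End K (K ⊗[k] B) := (transl g).toLinearMap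
  let S : Submodule K (K ⊗[k] B) := ⨆ (a : K) (_ : a ∈ Lam), Module.End.maxGenEigenspace T a
  have hmem : ∀ a ∈ Lam, ∀ x ∈ Module.End.maxGenEigenspace T a, x ∈ S := fun a ha x hx =>
    Submodule.mem_iSup_of_mem a (Submodule.mem_iSup_of_mem ha hx)
  have hmul : S * S ≤ S := by
    simp only [S, Submodule.iSup_mul, Submodule.mul_iSup, iSup_le_iff]
    intro a ha b hb
    first
    | exact Submodule.mul_le.2 fun x hx y hy => hmem _ (Lam.mul_mem ha hb) _ (mul_mem_maxGen (transl g) hx hy)
    | exact Submodule.mul_le.2 fun x hx y hy => hmem _ (Lam.mul_mem hb ha) _ (mul_mem_maxGen (transl g) hx hy)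
  have hMmem : ∀ i l, (1 : K) ⊗ₜ[k] M i l ∈ S := by
    intro i l
    let G : Module.End K (n → K) := Matrix.toLin' ((Matrix.of M).map g)
    let φ := Fintype.linearCombination K (fun l => (1 : K) ⊗ₜ[k] M i l)
    have hle : (⊤ : Submodule K (n → K)) ≤ S.comap φ := by
      rw [← Module.End.iSup_maxGenEigenspace_eq_top G]
      refine iSup_le fun a v hv => ?_
      by_cases hv0 : v = 0
      · simp [hv0]
      have ha : G.HasEigenvalue a := by
        refine Module.End.hasEigenvalue_of_hasGenEigenvalue (k := Module.finrank K (n → K)) ?_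
        intro hbot
        rw [Module.End.maxGenEigenspace_eq_genEigenspace_finrank] at hv
        exact hv0 ((Submodule.eq_bot_iff _).1 hbot v hv)
      rw [Module.End.hasEigenvalue_iff_isRoot_charpoly, Matrix.charpoly_toLin'] at ha
      exact hmem a (Submonoid.subset_closure (Or.inl ha)) _ (map_mem_maxGen G T φ (row_comp hM g i) hv)
    have := hle (Submodule.mem_top : Pi.single l (1 : K) ∈ _)
    simpa [φ, Fintype.linearCombination_apply, Pi.single_apply, ite_smul] using this
  have hdmem : (1 : K) ⊗ₜ[k] d ∈ S := by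
    refine hmem (g d) (Submonoid.subset_closure (Or.inr rfl)) _ (Module.End.mem_maxGenEigenspace _ _ _ |>.2 ⟨1, ?_⟩)
    simp [T, transl, hd, TensorProduct.smul_tmul']
  have hone : (1 : K ⊗[k] B) ∈ S := hmem 1 Lam.one_mem _ (one_mem_maxGen _)
  have hall : ∀ b : B, (1 : K) ⊗ₜ[k] b ∈ S := by
    intro b
    have hb : b ∈ Algebra.adjoin k (Set.range (fun p : n × n => M p.1 p.2) ∪ {d}) := hgen ▸ Algebra.mem_top
    induction hb using Algebra.adjoin_induction with
    | mem y hy =>
      rcases hy with ⟨p, rfl⟩ | hy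
      · exact hMmem _ _
      · rw [Set.mem_singleton_iff.1 hy]; exact hdmem
    | algebraMap c =>
      rw [Algebra.algebraMap_eq_smul_one, TensorProduct.tmul_smul, ← Algebra.TensorProduct.one_def]
      exact S.smul_of_tower_mem c hone
    | add y z _ _ hy hz => rw [TensorProduct.tmul_add]; exact add_mem hy hz
    | mul y z _ _ hy hz =>
      have : (1 : K) ⊗ₜ[k] (y * z) = ((1 : K) ⊗ₜ[k] y) * ((1 : K) ⊗ₜ[k] z) := by simp
      rw [this]
      exact hmul (Submodule.mul_mem_mul hy hz)
  have htop : S = ⊤ := by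
    refine eq_top_iff.2 fun z _ => ?_
    induction z using TensorProduct.induction_on with
    | zero => exact zero_mem _
    | add y z hy hz => exact add_mem (hy trivial) (hz trivial)
    | tmul c b =>
      rw [show c ⊗ₜ[k] b = c • ((1 : K) ⊗ₜ[k] b) by simp [TensorProduct.smul_tmul']]
      exact S.smul_mem c (hall b)
  rw [← Matrix.charpoly_toLin', ← Module.End.hasEigenvalue_iff_isRoot_charpoly] at hlam
  obtain ⟨v, hv⟩ := hlam.exists_hasEigenvector
  obtain ⟨i, hi⟩ : ∃ i, v i ≠ 0 := Function.ne_iff.1 hv.2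
  let φ := Fintype.linearCombination K (fun l => (1 : K) ⊗ₜ[k] N i l)
  have hmem' : φ v ∈ Module.End.maxGenEigenspace T lam := by
    refine map_mem_maxGen _ T φ (row_comp hN g i) (Module.End.mem_maxGenEigenspace _ _ _ |>.2 ⟨1, ?_⟩)
    simp [hv.apply_eq_smul]
  have hne : φ v ≠ 0 := by
    intro h0
    refine hi ?_
    have := congrArg ((TensorProduct.AlgebraTensorModule.rid k K K).toLinearMap ∘ₗ
      (Coalgebra.counit (R := k) (A := B)).baseChange K) h0
    simpa [φ, Fintype.linearCombination_apply, map_sum, hN.counit, TensorProduct.smul_tmul'] using this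
  by_contra hnot
  have hdis : Disjoint (Module.End.maxGenEigenspace T lam) S := by
    refine (Module.End.independent_maxGenEigenspace T lam).mono_right ?_
    exact iSup₂_le fun a ha => le_iSup₂ (f := fun a _ => Module.End.maxGenEigenspace T a) a fun h => hnot (h ▸ ha)
  exact hne (Submodule.disjoint_def.1 hdis _ hmem' (htop ▸ Submodule.mem_top))

end Trans

end Groth.Agent.Comod
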