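import Groth.Agent.Comod.Orbit
import Groth.Agent.Comod.CartierRed
import Groth.Agent.CotTLib.Smooth
import Groth.Agent.RegLoc.Basic
import Groth.Agent.VarDim.Algebra
import Groth.Agent.Dim.LocalHom
import Mathlib.RingTheory.Ideal.Height

/-!
# Dimension and regularity at a free closed orbit
-/

universe u

noncomputable section

open TensorProduct CategoryTheory AlgebraicGeometry

namespace Groth.Agent.Comod

theorem smooth_of_charZero (k : Type u) [Field k] [CharZero k] (A : Type u) [CommRing A] [HopfAlgebra k A]
    [Algebra.FiniteType k A] : Algebra.Smooth k A := by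
  let G := (Spec (CommRingCat.of A)).asOver (Spec (CommRingCat.of k))
  have : LocallyOfFiniteType G.hom := by
    change LocallyOfFiniteType (Spec.map (CommRingCat.ofHom (algebraMap k A)))
    rw [HasRingHomProperty.Spec_iff (P := @LocallyOfFiniteType)]
    exact RingHom.finiteType_algebraMap.mpr ‹_›
  have hs : AlgebraicGeometry.Smooth (Spec.map (CommRingCat.ofHom (algebraMap k A))) :=
    GrpScheme.Cartier.smooth_of_charZero G
  exact RingHom.smooth_algebraMap.1 ((HasRingHomProperty.Spec_iff (P := @AlgebraicGeometry.Smooth)).1 hs)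

theorem isRegularLocalRing_hopf (k : Type u) [Field k] [CharZero k] (A : Type u) [CommRing A] [HopfAlgebra k A]
    [Algebra.FiniteType k A] (q : Ideal A) [q.IsPrime] : IsRegularLocalRing (Localization.AtPrime q) :=
  have := smooth_of_charZero k A
  CotTLib.isRegularLocalRing_of_formallySmooth k A q

variable {k : Type u} [Field k] {A : Type u} [CommRing A] [HopfAlgebra k A]

/-- left translation -/
def ltr (g : A →ₐ[k] k) : A →ₐ[k] A :=
  (Algebra.TensorProduct.lid k A).toAlgHom.comp
    ((Algebra.TensorProduct.map g (AlgHom.id k A)).comp (Bialgebra.comulAlgHom k A))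

theorem ltr_apply (g : A →ₐ[k] k) (a : A) :
    ltr g a = TensorProduct.lid k A (g.toLinearMap.rTensor A (Coalgebra.comul (R := k) a)) := rfl

theorem ltr_inv (g h : A →ₐ[k] k)
    (hgh : ∀ a, LinearMap.mul' k k (TensorProduct.map g.toLinearMap h.toLinearMap
      (Coalgebra.comul (R := k) a)) = Coalgebra.counit (R := k) a) (a : A) : ltr h (ltr g a) = a := by
  let U : A ⊗[k] (A ⊗[k] A) →ₗ[k] A :=
    (TensorProduct.lid k A).toLinearMap ∘ₗ TensorProduct.map g.toLinearMap
      ((TensorProduct.lid k A).toLinearMap ∘ₗ h.toLinearMap.rTensor A)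
  have e1 : ∀ z : A ⊗[k] A, ltr h (TensorProduct.lid k A (g.toLinearMap.rTensor A z)) =
      U ((Coalgebra.comul (R := k) (A := A)).lTensor A z) := by
    intro z
    induction z using TensorProduct.induction_on with
    | zero => simp
    | add y z hy hz => simp only [map_add, hy, hz]
    | tmul p q => simp [U, ltr_apply]
  have e2 : ∀ z : A ⊗[k] A, U (TensorProduct.assoc k A A A ((Coalgebra.comul (R := k) (A := A)).rTensor A z)) =
      TensorProduct.lid k A ((Coalgebra.counit (R := k) (A := A)).rTensor A z) := by
    intro z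
    induction z using TensorProduct.induction_on with
    | zero => simp
    | add y z hy hz => simp only [map_add, hy, hz]
    | tmul p q =>
      have e3 : ∀ y : A ⊗[k] A, U (TensorProduct.assoc k A A A (y ⊗ₜ[k] q)) =
          LinearMap.mul' k k (TensorProduct.map g.toLinearMap h.toLinearMap y) • q := by
        intro y
        induction y using TensorProduct.induction_on with
        | zero => simp
        | tmul s t => simp [U, smul_smul, mul_comm]
        | add y z hy hz => simp only [TensorProduct.add_tmul, map_add, add_smul, hy, hz]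
      simp only [LinearMap.rTensor_tmul, e3, hgh, TensorProduct.lid_tmul]
  rw [ltr_apply g a, e1, ← Coalgebra.coassoc_apply, e2, Coalgebra.rTensor_counit_comul]
  simp

theorem height_point [IsAlgClosed k] [Algebra.FiniteType k A] (M : Ideal A) [M.IsMaximal] :
    M.height = (RingHom.ker (Bialgebra.counitAlgHom k A)).height := by
  let _ : Field (A ⧸ M) := Ideal.Quotient.field M
  have : Module.Finite k (A ⧸ M) := finite_of_finite_type_of_isJacobsonRing k (A ⧸ M)
  let e : k ≃ₐ[k] A ⧸ M := AlgEquiv.ofBijective (Algebra.ofId k _)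
    IsAlgClosed.algebraMap_bijective_of_isIntegral
  let g : A →ₐ[k] k := e.symm.toAlgHom.comp (Ideal.Quotient.mkₐ k M)
  have hM : M = RingHom.ker g := by
    refine Ideal.ext fun a => ⟨fun h => ?_, fun h => ?_⟩
    · change e.symm (Ideal.Quotient.mk M a) = 0
      rw [Ideal.Quotient.eq_zero_iff_mem.2 h, map_zero]
    · have h' : e.symm (Ideal.Quotient.mk M a) = 0 := h
      exact Ideal.Quotient.eq_zero_iff_mem.1 (by rw [← e.apply_symm_apply (Ideal.Quotient.mk M a), h', map_zero])
  let h := g.comp (HopfAlgebra.antipodeAlgHom k A)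
  have h1 : ∀ a, LinearMap.mul' k k (TensorProduct.map g.toLinearMap h.toLinearMap
      (Coalgebra.comul (R := k) a)) = Coalgebra.counit (R := k) a := fun a => by
    have := DFunLike.congr_fun (congrArg WithConv.ofConv (conv_comp_antipode g)) a
    refine Eq.trans ?_ (by simpa [AlgHom.convMul_apply, AlgHom.convOne_apply] using this)
    induction Coalgebra.comul (R := k) a using TensorProduct.induction_on with
    | zero => simp
    | tmul p q => simp [h]
    | add y z hy hz => simp only [map_add, hy, hz]
  have h2 : ∀ a, LinearMap.mul' k k (TensorProduct.map h.toLinearMap g.toLinearMap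
      (Coalgebra.comul (R := k) a)) = Coalgebra.counit (R := k) a := fun a => by
    have := DFunLike.congr_fun (congrArg WithConv.ofConv (antipode_comp_conv g)) a
    refine Eq.trans ?_ (by simpa [AlgHom.convMul_apply, AlgHom.convOne_apply] using this)
    induction Coalgebra.comul (R := k) a using TensorProduct.induction_on with
    | zero => simp
    | tmul p q => simp [h]
    | add y z hy hz => simp only [map_add, hy, hz]
  let T : A ≃+* A :=
    { (ltr g).toRingHom with
      invFun := ltr h
      left_inv := ltr_inv g h h1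
      right_inv := ltr_inv h g h2 }
  have hT : (RingHom.ker (Bialgebra.counitAlgHom k A)).comap (T : A →+* A) = M := by
    rw [hM]
    refine Ideal.ext fun a => ?_
    change Coalgebra.counit (R := k) (ltr g a) = 0 ↔ g a = 0
    suffices Coalgebra.counit (R := k) (ltr g a) = g a by rw [this]
    have e : ∀ z : A ⊗[k] A, Coalgebra.counit (R := k) (TensorProduct.lid k A (g.toLinearMap.rTensor A z)) =
        g (TensorProduct.rid k A ((Coalgebra.counit (R := k) (A := A)).lTensor A z)) := fun z => by
      induction z using TensorProduct.induction_on with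
      | zero => simp
      | tmul p q => simp [mul_comm]
      | add y z hy hz => simp only [map_add, hy, hz]
    rw [ltr_apply, e, Coalgebra.lTensor_counit_comul]
    simp
  rw [← hT]
  exact RingEquiv.height_comap T _

theorem ringKrullDim_hopf [IsAlgClosed k] [Algebra.FiniteType k A] [Nontrivial A] :
    ((RingHom.ker (Bialgebra.counitAlgHom k A)).height : WithBot ℕ∞) = ringKrullDim A := by
  have hq : (RingHom.ker (Bialgebra.counitAlgHom k A)).IsMaximal :=
    RingHom.ker_isMaximal_of_surjective (Bialgebra.counitAlgHom k A).toRingHom fun c => ⟨algebraMap k A c, by simp⟩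
  rw [← Ideal.sup_isMaximal_height_eq_ringKrullDim]
  congr 1
  refine le_antisymm (le_iSup₂ (f := fun (M : Ideal A) (_ : M.IsMaximal) => M.height) _ hq) (iSup₂_le fun M hM => ?_)
  exact (height_point (k := k) M).le

variable {R : Type u} [CommRing R] [Algebra k R] [HopfRep.Comod k A R] [GLin.IsCoactAlg k A R]

theorem regular_quotient_point [IsAlgClosed k] [CharZero k] [Algebra.FiniteType k A] [Algebra.FiniteType k R]
    [IsDomain R] (x : R →ₐ[k] k) (hx : Function.Surjective (GLin.orbitHom k A x)) (I : Ideal R)
    (hI : I = RingHom.ker (GLin.orbitHom k A x)) {r : ℕ} (f : Fin r → GLin.invariants k A R)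
    (hf : ∀ i, (f i : R) ∈ I) (b : GLin.invariants k A R)
    (hind : LinearIndependent (R ⧸ I) (fun i => I.toCotangent ⟨(f i : R), hf i⟩))
    (hspan : Submodule.span (R ⧸ I) (Set.range fun i => I.toCotangent ⟨(f i : R), hf i⟩) = ⊤)
    (hb : GLin.orbitHom k A x b = 1)
    (hby : ∀ y ∈ I, (b : R) * y ∈ Ideal.span (Set.range fun i => (f i : R)))
    (hby' : ∀ y : GLin.invariants k A R, (y : R) ∈ I → b * y ∈ Ideal.span (Set.range f))
    [IsNoetherianRing (GLin.invariants k A R)]
    (hreg : ∀ (P : Ideal R) [P.IsPrime], I ≤ P → IsRegularLocalRing (Localization.AtPrime P))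
    (Q : Ideal (GLin.invariants k A R)) [Q.IsPrime] (hQ : Ideal.comap (GLin.invariants k A R).val I ≤ Q) :
    IsRegularLocalRing (Localization.AtPrime Q) ∧
      ringKrullDim (Localization.AtPrime Q) + ringKrullDim A = ringKrullDim R := by
  classical
  set o := GLin.orbitHom k A x with ho
  have hε : ∀ y, Coalgebra.counit (R := k) (o y) = x y := counit_orbitHom x
  have : Nontrivial A := ⟨⟨1, 0, fun h => by simpa using congrArg (Coalgebra.counit (R := k) (A := A)) h⟩⟩
  have : IsNoetherianRing R := Algebra.FiniteType.isNoetherianRing k R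
  set q := RingHom.ker (Bialgebra.counitAlgHom k A) with hq
  have : q.IsMaximal := hq ▸
    RingHom.ker_isMaximal_of_surjective (Bialgebra.counitAlgHom k A).toRingHom fun c => ⟨algebraMap k A c, by simp⟩
  let P : Ideal R := q.comap o.toRingHom
  have hPmax : P.IsMaximal := Ideal.comap_isMaximal_of_surjective o.toRingHom hx
  have hIP : I ≤ P := fun y hy => by
    rw [hI, RingHom.mem_ker] at hy
    change o y ∈ q
    rw [show o y = 0 from hy]; exact q.zero_mem
  have hxb : x (b : R) = 1 := by rw [← hε, hb, Bialgebra.counit_one]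
  have hbP : (b : R) ∉ P := fun h => by
    have h' : Coalgebra.counit (R := k) (o (b : R)) = 0 := h
    rw [hb, Bialgebra.counit_one] at h'
    exact one_ne_zero h'
  -- `Q` is the point below `P`
  have hQP : Q = P.comap (algebraMap (GLin.invariants k A R) R) := by
    have hcomap : ∀ y : (GLin.invariants k A R), (y : R) ∈ P → (y : R) ∈ I := fun y hy => by
      have h0 : x (y : R) = 0 := by rw [← hε]; exact hy
      rw [hI, RingHom.mem_ker, orbit_of_fixed x y.2, h0, zero_smul]
    have hle : P.comap (algebraMap (GLin.invariants k A R) R) ≤ Q := fun y hy => hQ (hcomap y hy)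
    have hmax : (P.comap (algebraMap (GLin.invariants k A R) R)).IsMaximal := by
      have : P.comap (algebraMap (GLin.invariants k A R) R) = RingHom.ker (x.comp (GLin.invariants k A R).val) := Ideal.ext fun y => by
        change Coalgebra.counit (R := k) (o (y : R)) = 0 ↔ x (y : R) = 0
        rw [hε]
      rw [this]
      exact RingHom.ker_isMaximal_of_surjective (x.comp (GLin.invariants k A R).val).toRingHom fun c => ⟨algebraMap k (GLin.invariants k A R) c, by simp⟩
    exact (hmax.eq_of_le ‹Q.IsPrime›.ne_top hle).symm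
  have hregP := hreg P hIP
  obtain ⟨n, hn, -⟩ := RegLoc.exists_natCast_eq_ringKrullDim (Localization.AtPrime P)
  have hnR : ringKrullDim R = n := by
    rw [← hn, IsLocalization.AtPrime.ringKrullDim_eq_height P (Localization.AtPrime P),
      Groth.Agent.VarDim.height_eq_ringKrullDim_of_isMaximal k R P]
  have hregq := isRegularLocalRing_hopf k A q
  obtain ⟨d, hd, -⟩ := RegLoc.exists_natCast_eq_ringKrullDim (Localization.AtPrime q)
  have hdA : ringKrullDim A = d := by
    rw [← hd, IsLocalization.AtPrime.ringKrullDim_eq_height q (Localization.AtPrime q), hq, ringKrullDim_hopf]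
  -- the orbit in the local ring
  let φ : Localization.AtPrime P →+* Localization.AtPrime q := Localization.localRingHom P q o.toRingHom rfl
  have hφ : ∀ (y : R) (s : P.primeCompl), φ (IsLocalization.mk' _ y s) =
      IsLocalization.mk' _ (o y) (⟨o s, s.2⟩ : q.primeCompl) := fun y s =>
    Localization.localRingHom_mk' _ _ _ _ _ _
  have hφs : Function.Surjective φ := by
    intro z
    obtain ⟨⟨a, s⟩, rfl⟩ := IsLocalization.mk'_surjective q.primeCompl z
    obtain ⟨a', ha⟩ := hx a
    obtain ⟨s', hs⟩ := hx s
    have hs' : s' ∈ P.primeCompl := fun h => s.2 (hs ▸ h)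
    refine ⟨IsLocalization.mk' _ a' (⟨s', hs'⟩ : P.primeCompl), (hφ _ _).trans ?_⟩
    congr 1
    exact Subtype.ext hs
  set J := I.map (algebraMap R (Localization.AtPrime P)) with hJ
  have hker : RingHom.ker φ = J := by
    refine le_antisymm (fun z hz => ?_) (Ideal.map_le_iff_le_comap.2 fun y hy => ?_)
    · obtain ⟨⟨y, s⟩, rfl⟩ := IsLocalization.mk'_surjective P.primeCompl z
      rw [RingHom.mem_ker, hφ, IsLocalization.mk'_eq_zero_iff] at hz
      obtain ⟨⟨t, ht⟩, hty⟩ := hz
      obtain ⟨t', rfl⟩ := hx t
      rw [IsLocalization.mk'_mem_iff, hJ,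
        IsLocalization.algebraMap_mem_map_algebraMap_iff P.primeCompl]
      refine ⟨t', fun h => ht h, ?_⟩
      rw [hI, RingHom.mem_ker, map_mul]
      exact hty
    · rw [Ideal.mem_comap, RingHom.mem_ker, Localization.localRingHom_to_map,
        show o.toRingHom y = 0 from RingHom.mem_ker.1 (hI ▸ hy), map_zero]
  let e : (Localization.AtPrime P ⧸ J) ≃+* Localization.AtPrime q :=
    (Ideal.quotEquivOfEq hker.symm).trans (RingHom.quotientKerEquivOfSurjective hφs)
  have : IsRegularLocalRing (Localization.AtPrime P ⧸ J) := IsRegularLocalRing.of_ringEquiv e.symm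
  obtain ⟨s, t, hs, hst, hcard⟩ := RegLoc.exists_finset_span_eq_of_quotient hn J
  have hsd : s.card + d = n := by
    obtain ⟨-, e', he', hsum, -⟩ := RegLoc.isRegularLocalRing_quotient_of_sup_eq (a := s.card) (b := t.card) hn hst
      ((Submodule.spanFinrank_span_le_ncard_of_finite (Finset.finite_toSet _)).trans
        (Set.ncard_coe_finset _).le)
      ((Submodule.spanFinrank_span_le_ncard_of_finite (Finset.finite_toSet _)).trans
        (Set.ncard_coe_finset _).le) hcard.le
    have h1 : ringKrullDim (Localization.AtPrime P ⧸ Ideal.span (s : Set (Localization.AtPrime P))) = d := by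
      rw [hs, ringKrullDim_eq_of_ringEquiv e, hd]
    rw [he'] at h1
    have : e' = d := by exact_mod_cast h1
    omega
  -- the conormal rank
  have hrs : r ≤ s.card := by
    have hli : LinearIndependent (R ⧸ I) (fun i => I.toCotangent ⟨(f i : R), hf i⟩) := hind
    let B := Module.Basis.mk hli hspan.ge
    let xb : R ⧸ I →+* k := Ideal.Quotient.lift I x.toRingHom fun y hy => by
      have := RingHom.mem_ker.1 (hI ▸ hy)
      change x y = 0
      rw [← hε, show o y = 0 from this, map_zero]
    let θ : I →+ (Fin r → k) :=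
      { toFun := fun y i => xb (B.repr (I.toCotangent y) i)
        map_zero' := funext fun i => by simp
        map_add' := fun y y' => funext fun i => by simp }
    have hθ : ∀ (c : R) (y : I), θ (c • y) = x c • θ y := fun c y => funext fun i => by
      change xb (B.repr (I.toCotangent (c • y)) i) = x c * xb (B.repr (I.toCotangent y) i)
      rw [map_smul, ← algebraMap_smul (R ⧸ I) c (I.toCotangent y), map_smul, Finsupp.smul_apply, smul_eq_mul,
        map_mul]
      rfl
    have hθf : ∀ i, θ ⟨(f i : R), hf i⟩ = Pi.single i 1 := fun i => funext fun j => by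
      change xb (B.repr (I.toCotangent ⟨(f i : R), hf i⟩) j) = _
      rw [show I.toCotangent ⟨(f i : R), hf i⟩ = B i from (Module.Basis.mk_apply hli hspan.ge i).symm,
        B.repr_self]
      rcases eq_or_ne i j with rfl | h
      · simp
      · rw [Finsupp.single_eq_of_ne h.symm, map_zero, Pi.single_eq_of_ne h.symm]
    have hnum : ∀ z ∈ J, ∃ (y : R) (u : P.primeCompl), y ∈ I ∧ z * algebraMap R _ (u : R) = algebraMap R _ y := by
      intro z hz
      obtain ⟨⟨⟨y, hy⟩, u⟩, h⟩ := (IsLocalization.mem_map_algebraMap_iff P.primeCompl _).1 hz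
      exact ⟨y, u, hy, h⟩
    have hsJ : ∀ a : (s : Set (Localization.AtPrime P)), (a : Localization.AtPrime P) ∈ J := fun a => by
      rw [← hs]; exact Ideal.subset_span a.2
    choose y u hy hyu using fun a : (s : Set (Localization.AtPrime P)) => hnum a (hsJ a)
    let Y : ↥(s : Set (Localization.AtPrime P)) → (Fin r → k) := fun a => θ ⟨y a, hy a⟩
    have key : ∀ z ∈ Ideal.span (s : Set (Localization.AtPrime P)), ∃ (w : R) (v : P.primeCompl) (hw : w ∈ I),
        z * algebraMap R _ (v : R) = algebraMap R _ w ∧ θ ⟨w, hw⟩ ∈ Submodule.span k (Set.range Y) := by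
      intro z hz
      induction hz using Submodule.span_induction with
      | mem a ha => exact ⟨y ⟨a, ha⟩, u ⟨a, ha⟩, hy _, hyu _, Submodule.subset_span ⟨⟨a, ha⟩, rfl⟩⟩
      | zero => exact ⟨0, 1, I.zero_mem, by simp, by
          rw [show (⟨0, I.zero_mem⟩ : I) = 0 from rfl, map_zero]; exact zero_mem _⟩
      | add a c _ _ ha hc =>
        obtain ⟨w, v, hw, h, hθw⟩ := ha
        obtain ⟨w', v', hw', h', hθw'⟩ := hc
        refine ⟨(v' : R) * w + (v : R) * w', v * v', add_mem (I.mul_mem_left _ hw) (I.mul_mem_left _ hw'), ?_, ?_⟩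
        · rw [Submonoid.coe_mul, map_mul, map_add, map_mul, map_mul, ← h, ← h']
          ring
        · rw [show (⟨(v' : R) * w + (v : R) * w', _⟩ : I) = (v' : R) • (⟨w, hw⟩ : I) + (v : R) • (⟨w', hw'⟩ : I)
            from rfl, map_add, hθ, hθ]
          exact add_mem (Submodule.smul_mem _ _ hθw) (Submodule.smul_mem _ _ hθw')
      | smul c a _ ha =>
        obtain ⟨w, v, hw, h, hθw⟩ := ha
        obtain ⟨⟨c', v'⟩, hc⟩ := IsLocalization.surj P.primeCompl c
        refine ⟨c' * w, v' * v, I.mul_mem_left _ hw, ?_, ?_⟩
        · rw [Submonoid.coe_mul, map_mul, map_mul, ← h, ← hc, smul_eq_mul]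
          ring
        · rw [show (⟨c' * w, _⟩ : I) = c' • (⟨w, hw⟩ : I) from rfl, hθ]
          exact Submodule.smul_mem _ _ hθw
    have htop : Submodule.span k (Set.range Y) = ⊤ := by
      refine eq_top_iff.2 ?_
      rw [← (Pi.basisFun k (Fin r)).span_eq, Submodule.span_le]
      rintro _ ⟨i, rfl⟩
      obtain ⟨w, v, hw, h, hθw⟩ := key (algebraMap R _ (f i : R)) (hs ▸ Ideal.mem_map_of_mem _ (hf i))
      rw [← map_mul] at h
      have h' : (f i : R) * v = w := IsLocalization.injective (Localization.AtPrime P)
        P.primeCompl_le_nonZeroDivisors h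
      have h2 : θ ⟨w, hw⟩ = x (v : R) • θ ⟨(f i : R), hf i⟩ := by
        rw [← hθ]
        congr 1
        exact Subtype.ext (show w = (v : R) • (f i : R) by rw [← h', mul_comm]; rfl)
      have hv : x (v : R) ≠ 0 := fun h0 => v.2 (show Coalgebra.counit (R := k) (o (v : R)) = 0 by rw [hε, h0])
      rw [SetLike.mem_coe, Pi.basisFun_apply, ← hθf, ← inv_smul_smul₀ hv (θ ⟨(f i : R), hf i⟩), ← h2]
      exact Submodule.smul_mem _ _ hθw
    have := finrank_range_le_card (R := k) Y
    rw [show Set.finrank k (Set.range Y) = r by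
      rw [Set.finrank, htop, finrank_top, Module.finrank_fin_fun]] at this
    simpa using this
  -- the base
  subst hQP
  set L := Localization.AtPrime (P.comap (algebraMap (GLin.invariants k A R) R))
  have hgen : (IsLocalRing.maximalIdeal L).spanFinrank ≤ r := by
    have heq : IsLocalRing.maximalIdeal L = Ideal.span (Set.range fun i => algebraMap (GLin.invariants k A R) L (f i)) := by
      rw [← Localization.AtPrime.map_eq_maximalIdeal]
      refine le_antisymm (Ideal.map_le_iff_le_comap.2 fun y hy => ?_) (Ideal.span_le.2 ?_)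
      · have hyI : (y : R) ∈ I := by
          have h0 : x (y : R) = 0 := by rw [← hε]; exact hy
          rw [hI, RingHom.mem_ker, orbit_of_fixed x y.2, h0, zero_smul]
        have h := Ideal.mem_map_of_mem (algebraMap (GLin.invariants k A R) L) (hby' y hyI)
        rw [Ideal.map_span, ← Set.range_comp, map_mul] at h
        rw [Ideal.mem_comap]
        exact (Ideal.unit_mul_mem_iff_mem _ (IsLocalization.map_units L
          (⟨b, hbP⟩ : (P.comap (algebraMap (GLin.invariants k A R) R)).primeCompl))).1 h
      · rintro _ ⟨i, rfl⟩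
        exact Ideal.mem_map_of_mem _ (hIP (hf i))
    rw [heq]
    refine (Submodule.spanFinrank_span_le_ncard_of_finite (Set.finite_range _)).trans ?_
    rw [← Set.image_univ]
    exact (Set.ncard_image_le Set.finite_univ).trans (by simp)
  obtain ⟨D, hD, -⟩ := RegLoc.exists_natCast_eq_ringKrullDim L
  let ψ : L →+* Localization.AtPrime P := Localization.localRingHom _ P (algebraMap (GLin.invariants k A R) R) rfl
  letI : Algebra L (Localization.AtPrime P) := ψ.toAlgebra
  haveI : IsLocalHom (algebraMap L (Localization.AtPrime P)) :=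
    Localization.isLocalHom_localRingHom _ P (algebraMap (GLin.invariants k A R) R) rfl
  have hm : (IsLocalRing.maximalIdeal L).map (algebraMap L (Localization.AtPrime P)) = J := by
    rw [← Localization.AtPrime.map_eq_maximalIdeal, Ideal.map_map]
    have hc : (algebraMap L (Localization.AtPrime P)).comp (algebraMap (GLin.invariants k A R) L) =
        (algebraMap R (Localization.AtPrime P)).comp (algebraMap (GLin.invariants k A R) R) :=
      RingHom.ext fun y => Localization.localRingHom_to_map _ P (algebraMap (GLin.invariants k A R) R) rfl y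
    rw [hc, ← Ideal.map_map]
    refine le_antisymm (Ideal.map_le_iff_le_comap.2 fun z hz => ?_) (Ideal.map_le_iff_le_comap.2 fun z hz => ?_)
    · refine Ideal.mem_map_of_mem _ ?_
      refine Ideal.map_le_iff_le_comap.2 (fun y hy => ?_) hz
      have h0 : x (y : R) = 0 := by rw [← hε]; exact hy
      change (y : R) ∈ I
      rw [hI, RingHom.mem_ker, orbit_of_fixed x y.2, h0, zero_smul]
    · have h := Ideal.mem_map_of_mem (algebraMap R (Localization.AtPrime P)) (hby z hz)
      rw [map_mul] at h
      rw [Ideal.mem_comap]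
      refine (Ideal.unit_mul_mem_iff_mem _ (IsLocalization.map_units _ (⟨(b : R), hbP⟩ : P.primeCompl))).1 ?_
      refine Ideal.map_mono (Ideal.span_le.2 ?_) h
      rintro _ ⟨i, rfl⟩
      exact Ideal.mem_map_of_mem (algebraMap (GLin.invariants k A R) R) (show f i ∈ P.comap (algebraMap (GLin.invariants k A R) R) from hIP (hf i))
  have hineq := Groth.Agent.Dim.ringKrullDim_le_add_fibre L (Localization.AtPrime P)
  rw [hn, hD, ringKrullDim_eq_of_ringEquiv ((Ideal.quotEquivOfEq hm).trans e), hd] at hineq
  have hle : n ≤ D + d := by exact_mod_cast hineq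
  have hDs : D ≤ (IsLocalRing.maximalIdeal L).spanFinrank := by
    have := ringKrullDim_le_spanFinrank_maximalIdeal L
    rw [hD] at this
    exact_mod_cast this
  refine ⟨IsRegularLocalRing.of_spanFinrank_maximalIdeal_le _ ?_, ?_⟩
  · rw [hD]
    exact_mod_cast (by omega : (IsLocalRing.maximalIdeal L).spanFinrank ≤ D)
  · rw [hD, hdA, hnR]
    exact_mod_cast (by omega : D + d = n)

end Groth.Agent.Comod
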