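import Groth.Agent.Comod.Basic
import Groth.Agent.Comod.OrbitDim
import Groth.Prelude.Def_GLin
import Groth.Prelude.Def_ComodSub
import Mathlib.RingTheory.Smooth.IntegralClosure
import Mathlib.RingTheory.ZariskisMainTheorem
import Mathlib.AlgebraicGeometry.Morphisms.OpenImmersion
import Mathlib.AlgebraicGeometry.Morphisms.RingHomProperties

/-!
# The equivariant form of Zariski's Main Theorem
-/

set_option autoImplicit false
set_option linter.style.haveILetI false
set_option linter.unusedSectionVars false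

universe u

noncomputable section

open TensorProduct AlgebraicGeometry CategoryTheory

namespace Groth.Agent.Comod.EquivZMT

/-- a map of affine schemes which is an isomorphism over basic opens covering the source is an open immersion -/
theorem isOpenImmersion_of_awayMap {B R : Type u} [CommRing B] [CommRing R] (i : B →+* R) (s : Set B)
    (hs : ∀ q : Ideal R, q.IsPrime → ∃ r ∈ s, i r ∉ q)
    (hb : ∀ r ∈ s, Function.Bijective (Localization.awayMap i r)) :
    IsOpenImmersion (Spec.map (CommRingCat.ofHom i)) := by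
  refine IsZariskiLocalAtTarget.of_range_subset_iSup (P := @IsOpenImmersion)
    (fun r : s => PrimeSpectrum.basicOpen (r : B)) ?_ fun r => ?_
  · rintro _ ⟨q, rfl⟩
    obtain ⟨r, hr, hrq⟩ := hs q.asIdeal q.isPrime
    exact (TopologicalSpace.Opens.mem_iSup (ι := s)).2 ⟨⟨r, hr⟩, hrq⟩
  · refine (MorphismProperty.arrow_mk_iso_iff @IsOpenImmersion
      (SpecMapRestrictBasicOpenIso (CommRingCat.ofHom i) (r : B))).2 ?_
    haveI : IsIso (CommRingCat.ofHom (Localization.awayMap i (r : B))) :=
      (RingEquiv.ofBijective _ (hb _ r.2)).toCommRingCatIso.isIso_hom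
    infer_instance

/-- enlarging the subalgebra keeps the localised inclusion bijective -/
theorem bijective_awayMap_of_le {S R : Type u} [CommRing S] [CommRing R] [Algebra S R] {S' B : Subalgebra S R}
    (hle : S' ≤ B) (r : S') (b : B) (hrb : (r : R) = b)
    (h : Function.Bijective (Localization.awayMap S'.val.toRingHom r)) :
    Function.Bijective (Localization.awayMap B.val.toRingHom b) := by
  refine ⟨IsLocalization.map_injective_of_injective _ _ _ Subtype.val_injective, fun z => ?_⟩
  obtain ⟨c, ⟨_, m, rfl⟩, rfl⟩ := IsLocalization.exists_mk'_eq (Submonoid.powers (B.val.toRingHom b)) z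
  obtain ⟨w, hw⟩ := h.2 (algebraMap R _ c)
  obtain ⟨a, ⟨_, n, rfl⟩, rfl⟩ := IsLocalization.exists_mk'_eq (Submonoid.powers r) w
  simp only [Localization.awayMap, IsLocalization.Away.map, IsLocalization.map_mk'] at hw
  rw [IsLocalization.mk'_eq_iff_eq_mul, ← map_mul,
    IsLocalization.eq_iff_exists (Submonoid.powers (S'.val.toRingHom r))] at hw
  obtain ⟨⟨_, l, rfl⟩, hl⟩ := hw
  refine ⟨IsLocalization.mk' _ (⟨(r : R) ^ l * (a : R), hle (S'.mul_mem (pow_mem r.2 l) a.2)⟩ : B)
    (⟨b ^ (l + n + m), l + n + m, rfl⟩ : Submonoid.powers b), ?_⟩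
  simp only [Localization.awayMap, IsLocalization.Away.map, IsLocalization.map_mk']
  rw [IsLocalization.mk'_eq_iff_eq]
  refine congrArg _ ?_
  simp only [AlgHom.toRingHom_eq_coe, RingHom.coe_coe, Subalgebra.coe_val, map_pow] at hl ⊢
  rw [← hrb, hl]
  ring

variable {k : Type u} [Field k] {A : Type u} [CommRing A] [HopfAlgebra k A]
  {S : Type u} [CommRing S] [Algebra k S] [HopfRep.Comod k A S] [GLin.IsCoactAlg k A S]
  {R : Type u} [CommRing R] [Algebra k R] [HopfRep.Comod k A R] [GLin.IsCoactAlg k A R]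
  [Algebra S R] [IsScalarTower k S R]

/-- the integral closure of the base is stable under the coaction -/
theorem coact_mem_integralClosure [Algebra.Smooth k A]
    (hequiv : ∀ s : S, HopfRep.Comod.coact (k := k) (A := A) (algebraMap S R s) =
      Algebra.TensorProduct.map (IsScalarTower.toAlgHom k S R) (AlgHom.id k A) (HopfRep.Comod.coact (k := k) (A := A) s))
    {c : R} (hc : _root_.IsIntegral S c) :
    HopfRep.Comod.coact (k := k) (A := A) c ∈
      LinearMap.range ((Subalgebra.toSubmodule ((integralClosure S R).restrictScalars k)).subtype.rTensor A) := by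
  let T := S ⊗[k] A
  let θ : T →ₐ[k] R ⊗[k] A := Algebra.TensorProduct.map (IsScalarTower.toAlgHom k S R) (AlgHom.id k A)
  letI : Algebra T (R ⊗[k] A) := θ.toRingHom.toAlgebra
  let Φ : T ⊗[S] R →ₐ[S] R ⊗[k] A :=
    Algebra.TensorProduct.lift
      (⟨θ.toRingHom, fun s => by
        change Algebra.TensorProduct.map (IsScalarTower.toAlgHom k S R) (AlgHom.id k A) (s ⊗ₜ[k] (1 : A)) = _
        rw [Algebra.TensorProduct.map_tmul, AlgHom.id_apply]
        rfl⟩ : T →ₐ[S] R ⊗[k] A)
      (Algebra.TensorProduct.includeLeft : R →ₐ[S] R ⊗[k] A) fun _ _ => Commute.all _ _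
  let jR : R →ₐ[k] T ⊗[S] R :=
    (Algebra.TensorProduct.includeRight : R →ₐ[S] T ⊗[S] R).restrictScalars k
  let jA : A →ₐ[k] T ⊗[S] R :=
    ((Algebra.TensorProduct.includeLeft : T →ₐ[S] T ⊗[S] R).restrictScalars k).comp
      (Algebra.TensorProduct.includeRight : A →ₐ[k] T)
  let Ψ : R ⊗[k] A →ₐ[k] T ⊗[S] R := Algebra.TensorProduct.lift jR jA fun _ _ => Commute.all _ _
  have hΨθ : ∀ t : T, Ψ (θ t) = t ⊗ₜ[S] (1 : R) := by
    intro t
    induction t using TensorProduct.induction_on with
    | zero => simp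
    | add p q hp hq => rw [map_add, map_add, hp, hq, add_tmul]
    | tmul s a =>
      change (1 : T) ⊗ₜ[S] (algebraMap S R s) * ((1 : S) ⊗ₜ[k] a) ⊗ₜ[S] (1 : R) = _
      rw [Algebra.TensorProduct.tmul_mul_tmul, one_mul, mul_one, Algebra.algebraMap_eq_smul_one,
        ← TensorProduct.smul_tmul, TensorProduct.smul_tmul' s ((1 : S)) a, smul_eq_mul, mul_one]
  have hΦΨ : ∀ y, Φ (Ψ y) = y := by
    intro y
    induction y using TensorProduct.induction_on with
    | zero => simp
    | add p q hp hq => rw [map_add, map_add, hp, hq]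
    | tmul r a =>
      change Φ ((1 : T) ⊗ₜ[S] r * ((1 : S) ⊗ₜ[k] a) ⊗ₜ[S] (1 : R)) = _
      rw [Algebra.TensorProduct.tmul_mul_tmul, one_mul, mul_one, Algebra.TensorProduct.lift_tmul]
      change θ ((1 : S) ⊗ₜ[k] a) * (r ⊗ₜ[k] (1 : A)) = _
      refine (congrArg (· * (r ⊗ₜ[k] (1 : A))) (Algebra.TensorProduct.map_tmul _ _ _ _)).trans ?_
      rw [Algebra.TensorProduct.tmul_mul_tmul, map_one, one_mul, AlgHom.id_apply, mul_one]
  have hint : _root_.IsIntegral T (Ψ (HopfRep.Comod.coact (k := k) (A := A) c)) := by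
    obtain ⟨p, hp, hpc⟩ := hc
    refine ⟨p.map (GLin.coactAlgHom k A S).toRingHom, hp.map _, ?_⟩
    rw [Polynomial.eval₂_map]
    have h := congrArg (fun r => Ψ (GLin.coactAlgHom k A R r)) hpc
    simp only [Polynomial.hom_eval₂, map_zero] at h
    rw [← h]
    change _ = (Ψ.comp (GLin.coactAlgHom k A R)).toRingHom (Polynomial.eval₂ _ c p)
    rw [Polynomial.hom_eval₂]
    congr 1
    refine RingHom.ext fun s => ?_
    change GLin.coactAlgHom k A S s ⊗ₜ[S] (1 : R) = Ψ (GLin.coactAlgHom k A R (algebraMap S R s))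
    rw [GLin.coactAlgHom_apply k A R, hequiv, ← GLin.coactAlgHom_apply k A S]
    exact (hΨθ _).symm
  obtain ⟨z, hz⟩ := (TensorProduct.toIntegralClosure_bijective_of_smooth (R := S) (S := T) (B := R)).2 ⟨_, hint⟩
  have hz' : Algebra.TensorProduct.map (AlgHom.id T T) (integralClosure S R).val z =
      Ψ (HopfRep.Comod.coact (k := k) (A := A) c) := congrArg Subtype.val hz
  rw [← hΦΨ (HopfRep.Comod.coact (k := k) (A := A) c), ← hz']
  clear hz hz'
  induction z using TensorProduct.induction_on with
  | zero => simp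
  | add p q hp hq => rw [map_add, map_add]; exact add_mem hp hq
  | tmul t d =>
    rw [Algebra.TensorProduct.map_tmul, AlgHom.id_apply, Algebra.TensorProduct.lift_tmul]
    induction t using TensorProduct.induction_on with
    | zero => simp
    | add p q hp hq => rw [map_add, add_mul]; exact add_mem hp hq
    | tmul s a =>
      refine ⟨(⟨algebraMap S R s * d, (integralClosure S R).mul_mem (Subalgebra.algebraMap_mem _ s) d.2⟩ :
        Subalgebra.toSubmodule ((integralClosure S R).restrictScalars k)) ⊗ₜ[k] a, ?_⟩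
      rw [LinearMap.rTensor_tmul]
      change _ = θ (s ⊗ₜ[k] a) * ((d : R) ⊗ₜ[k] (1 : A))
      refine Eq.trans ?_ (congrArg (· * ((d : R) ⊗ₜ[k] (1 : A))) (Algebra.TensorProduct.map_tmul _ _ _ _)).symm
      rw [Algebra.TensorProduct.tmul_mul_tmul, AlgHom.id_apply, mul_one]
      rfl

omit [HopfRep.Comod k A S] [GLin.IsCoactAlg k A S] [Algebra S R] [IsScalarTower k S R] in
/-- a subalgebra with stable generators is a subcomodule -/
theorem isSubcomod_of_generators (B : Subalgebra k R) (X : Set R) (hB : B ≤ Algebra.adjoin k X)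
    (hX : ∀ x ∈ X, HopfRep.Comod.coact (k := k) (A := A) x ∈
      LinearMap.range ((Subalgebra.toSubmodule B).subtype.rTensor A)) :
    HopfRep.IsSubcomod (k := k) (A := A) (Subalgebra.toSubmodule B) := by
  let ι : B ⊗[k] A →ₐ[k] R ⊗[k] A := Algebra.TensorProduct.map B.val (AlgHom.id k A)
  have hι : ι.toLinearMap = (Subalgebra.toSubmodule B).subtype.rTensor A :=
    TensorProduct.ext' fun x a => rfl
  have hrange : ∀ y, y ∈ LinearMap.range ((Subalgebra.toSubmodule B).subtype.rTensor A) ↔ y ∈ ι.range := by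
    intro y
    rw [← hι]
    exact Iff.rfl
  have h : Algebra.adjoin k X ≤ ι.range.comap (GLin.coactAlgHom k A R) :=
    Algebra.adjoin_le fun x hx => (hrange _).1 (hX x hx)
  intro b hb
  exact (hrange _).2 (h (hB hb))

omit [HopfRep.Comod k A S] [GLin.IsCoactAlg k A S] [GLin.IsCoactAlg k A R] [HopfRep.Comod k A R] in
theorem le_adjoin_union (V : Set R) (B : Subalgebra k R) (hB : ∀ b, b ∈ B ↔ b ∈ Algebra.adjoin S V) :
    B ≤ Algebra.adjoin k (Set.range (algebraMap S R) ∪ V) := by
  intro b hb
  have hb' := (hB b).1 hb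
  clear hb hB
  induction hb' using Algebra.adjoin_induction with
  | mem v hv => exact Algebra.subset_adjoin (Or.inr hv)
  | algebraMap s => exact Algebra.subset_adjoin (Or.inl ⟨s, rfl⟩)
  | add x y _ _ hx hy => exact Subalgebra.add_mem _ hx hy
  | mul x y _ _ hx hy => exact Subalgebra.mul_mem _ hx hy

/-- the subalgebra generated by the base and a subcomodule is a subcomodule -/
theorem isSubcomod_adjoin
    (hequiv : ∀ s : S, HopfRep.Comod.coact (k := k) (A := A) (algebraMap S R s) =
      Algebra.TensorProduct.map (IsScalarTower.toAlgHom k S R) (AlgHom.id k A) (HopfRep.Comod.coact (k := k) (A := A) s))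
    {V : Submodule k R} (hV : HopfRep.IsSubcomod (k := k) (A := A) V)
    (B : Subalgebra k R) (hB : ∀ b, b ∈ B ↔ b ∈ Algebra.adjoin S (V : Set R)) :
    HopfRep.IsSubcomod (k := k) (A := A) (Subalgebra.toSubmodule B) := by
  refine isSubcomod_of_generators B (Set.range (algebraMap S R) ∪ (V : Set R)) (le_adjoin_union _ B hB) ?_
  have hS : ∀ s, algebraMap S R s ∈ B := fun s => (hB _).2 (Subalgebra.algebraMap_mem _ s)
  have hVB : ∀ v ∈ V, v ∈ B := fun v hv => (hB v).2 (Algebra.subset_adjoin hv)
  clear hB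
  rintro x (⟨s, rfl⟩ | hx)
  · rw [hequiv]
    induction HopfRep.Comod.coact (k := k) (A := A) s using TensorProduct.induction_on with
    | zero => rw [map_zero]; exact zero_mem _
    | tmul t a =>
      rw [Algebra.TensorProduct.map_tmul]
      exact ⟨(⟨algebraMap S R t, hS t⟩ : Subalgebra.toSubmodule B) ⊗ₜ[k] a,
        by rw [LinearMap.rTensor_tmul]; rfl⟩
    | add p q hp hq => rw [map_add]; exact add_mem hp hq
  · obtain ⟨y, hy⟩ := hV x hx
    rw [← hy]
    clear hy
    induction y using TensorProduct.induction_on with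
    | zero => rw [map_zero]; exact zero_mem _
    | tmul w a =>
      rw [LinearMap.rTensor_tmul]
      exact ⟨(⟨(w : R), hVB _ w.2⟩ : Subalgebra.toSubmodule B) ⊗ₜ[k] a,
        by rw [LinearMap.rTensor_tmul]; rfl⟩
    | add p q hp hq => rw [map_add]; exact add_mem hp hq

theorem exists_factorization [CharZero k] [Algebra.FiniteType k A] [Algebra.FiniteType k S]
    [Algebra.FiniteType k R] [Algebra.QuasiFinite S R]
    (hequiv : ∀ s : S, HopfRep.Comod.coact (k := k) (A := A) (algebraMap S R s) =
      Algebra.TensorProduct.map (IsScalarTower.toAlgHom k S R) (AlgHom.id k A) (HopfRep.Comod.coact (k := k) (A := A) s)) :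
    ∃ B : Subalgebra S R, Module.Finite S B ∧
      HopfRep.IsSubcomod (k := k) (A := A) (Subalgebra.toSubmodule (B.restrictScalars k)) ∧
      IsOpenImmersion (Spec.map (CommRingCat.ofHom B.val.toRingHom)) := by
  classical
  haveI := smooth_of_charZero k A
  haveI : Algebra.FiniteType S R := Algebra.FiniteType.of_restrictScalars_finiteType k S R
  have hzm : ∀ q : PrimeSpectrum R, ∃ S' : Subalgebra S R, S'.toSubmodule.FG ∧ ∃ r : S',
      r.1 ∉ q.asIdeal ∧ Function.Bijective (Localization.awayMap S'.val.toRingHom r) := fun q =>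
    Algebra.QuasiFiniteAt.exists_fg_and_exists_notMem_and_awayMap_bijective q.asIdeal
  choose S' hfg r hr hbij using hzm
  have hcov : Ideal.span (Set.range fun q => (r q : R)) = ⊤ := by
    by_contra hne
    obtain ⟨m, hm, hle⟩ := Ideal.exists_le_maximal _ hne
    exact hr ⟨m, hm.isPrime⟩ (hle (Ideal.subset_span ⟨⟨m, hm.isPrime⟩, rfl⟩))
  obtain ⟨T, hT, hTtop⟩ := Submodule.mem_span_finite_of_mem_span ((Ideal.eq_top_iff_one _).1 hcov)
  choose pick hpick using fun y : T => hT y.2
  choose G hG using fun q => hfg q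
  let F : Finset R := T ∪ T.attach.biUnion fun y => G (pick y)
  have hGint : ∀ q, ∀ z ∈ S' q, _root_.IsIntegral S z := fun q z hz =>
    _root_.IsIntegral.of_mem_of_fg _ (hfg q) z hz
  let C : Submodule k R := Subalgebra.toSubmodule ((integralClosure S R).restrictScalars k)
  have hC : HopfRep.IsSubcomod (k := k) (A := A) C := fun c hc => coact_mem_integralClosure hequiv hc
  have hFC : (F : Set R) ⊆ C := by
    intro z hz
    rcases Finset.mem_union.1 hz with hz | hz
    · rw [show z = r (pick ⟨z, hz⟩) from (hpick ⟨z, hz⟩).symm]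
      exact hGint _ _ (r (pick ⟨z, hz⟩)).2
    · obtain ⟨y, -, hzy⟩ := Finset.mem_biUnion.1 hz
      exact hGint (pick y) z (show z ∈ (S' (pick y)).toSubmodule from hG (pick y) ▸ Submodule.subset_span hzy)
  obtain ⟨U, hUfin, hFU, hU⟩ := exists_finite_subcomod (k := k) (A := A) F
  let V : Submodule k R := U ⊓ C
  haveI : Module.Finite k V :=
    Module.Finite.of_injective (Submodule.inclusion inf_le_left) (Submodule.inclusion_injective _)
  let B : Subalgebra S R := Algebra.adjoin S (V : Set R)
  refine ⟨B, ?_, isSubcomod_adjoin hequiv (isSubcomod_inf hU hC) (B.restrictScalars k) fun _ => Iff.rfl, ?_⟩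
  · obtain ⟨g, hg⟩ := Module.Finite.fg_top (R := k) (M := V)
    have hB : B = Algebra.adjoin S ((Subtype.val : V → R) '' (g : Set V)) := by
      refine le_antisymm (Algebra.adjoin_le fun v hv => ?_) (Algebra.adjoin_mono ?_)
      · have h1 : (⟨v, hv⟩ : V) ∈ Submodule.span k (g : Set V) := hg ▸ Submodule.mem_top
        have h2 := Submodule.apply_mem_span_image_of_mem_span V.subtype h1
        exact Submodule.span_le (p := Subalgebra.toSubmodule ((Algebra.adjoin S
          ((Subtype.val : V → R) '' (g : Set V))).restrictScalars k)).2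
          (fun w hw => Algebra.subset_adjoin hw) h2
      · rintro _ ⟨v, -, rfl⟩
        exact v.2
    refine (Module.Finite.iff_fg (N := Subalgebra.toSubmodule B)).2 ?_
    change B.toSubmodule.FG
    rw [hB]
    exact fg_adjoin_of_finite (g.finite_toSet.image _) (by rintro _ ⟨v, -, rfl⟩; exact v.2.2)
  · have hVB : (F : Set R) ⊆ B := fun z hz => Algebra.subset_adjoin (show z ∈ V from ⟨hFU hz, hFC hz⟩)
    have hS'B : ∀ y : T, S' (pick y) ≤ B := by
      intro y z hz
      have : z ∈ Submodule.span S (G (pick y) : Set R) := by rw [hG]; exact hz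
      exact Submodule.span_le (p := B.toSubmodule).2
        (fun w hw => hVB (Finset.mem_union_right _ (Finset.mem_biUnion.2 ⟨y, T.mem_attach y, hw⟩))) this
    refine isOpenImmersion_of_awayMap B.val.toRingHom {b | (b : R) ∈ T} (fun q hq => ?_) fun b hb => ?_
    · by_contra hcon
      push Not at hcon
      refine hq.ne_top (top_le_iff.1 ?_)
      rw [← (Ideal.eq_top_iff_one _).2 hTtop]
      exact Ideal.span_le.2 fun y hy => hcon ⟨y, hVB (Finset.mem_union_left _ hy)⟩ hy
    · exact bijective_awayMap_of_le (hS'B ⟨b, hb⟩) (r (pick ⟨b, hb⟩)) b (hpick ⟨b, hb⟩) (hbij (pick ⟨b, hb⟩))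

end Groth.Agent.Comod.EquivZMT

namespace Groth.Agent.Comod.EquivZMT

variable {k : Type u} [Field k] {A : Type u} [CommRing A] [HopfAlgebra k A]
  {R : Type u} [CommRing R] [Algebra k R] [HopfRep.Comod k A R] [GLin.IsCoactAlg k A R]

/-- a stable subalgebra with its restricted coaction -/
theorem exists_restr (B : Subalgebra k R) (hB : HopfRep.IsSubcomod (k := k) (A := A) (Subalgebra.toSubmodule B)) :
    ∃ c : HopfRep.Comod k A B, @GLin.IsCoactAlg k _ A _ _ B _ _ c ∧
      ∀ b : B, HopfRep.Comod.coact (k := k) (A := A) (b : R) =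
        Algebra.TensorProduct.map B.val (AlgHom.id k A) (c.coact b) := by
  let c : HopfRep.Comod k A B := ComodSub.Comod.restr ‹HopfRep.Comod k A R› (Subalgebra.toSubmodule B) hB
  have hι : ∀ y : B ⊗[k] A, (Subalgebra.toSubmodule B).subtype.rTensor A y =
      Algebra.TensorProduct.map B.val (AlgHom.id k A) y := by
    intro y
    exact LinearMap.congr_fun (TensorProduct.ext' (g := (Subalgebra.toSubmodule B).subtype.rTensor A)
      (h := (Algebra.TensorProduct.map B.val (AlgHom.id k A)).toLinearMap) fun x a => rfl) y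
  have hc : ∀ b : B, HopfRep.Comod.coact (k := k) (A := A) (b : R) =
      Algebra.TensorProduct.map B.val (AlgHom.id k A) (c.coact b) := fun b => by
    rw [← hι]
    exact (ComodSub.restr_coact_coe _ _ hB b).symm
  have hinj : Function.Injective (Algebra.TensorProduct.map B.val (AlgHom.id k A)) := fun p q h => by
    rw [← hι, ← hι] at h
    exact ComodSub.rTensor_subtype_injective _ h
  refine ⟨c, @GLin.IsCoactAlg.mk k _ A _ _ B _ _ c (hinj ?_) fun f g => hinj ?_, hc⟩
  · rw [← hc, OneMemClass.coe_one, GLin.IsCoactAlg.coact_one (k := k) (A := A) (R := R), map_one]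
  · rw [← hc, map_mul, ← hc, ← hc, MulMemClass.coe_mul, GLin.IsCoactAlg.coact_mul]

end Groth.Agent.Comod.EquivZMT
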