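import Groth.Agent.Comod.Integral
import Mathlib.RingTheory.Finiteness.Projective

/-!
# The comodule of linear maps from a finite projective Hopf algebra to a comodule algebra
-/

universe u

noncomputable section

open TensorProduct WithConv

namespace Groth.Agent.Comod.HomMod

variable {k : Type u} [CommRing k] {A : Type u} [CommRing A] [HopfAlgebra k A]
variable {B : Type u} [CommRing B] [Algebra k B]

/-- `φ ⊗ c ↦ (a ↦ φ a ⊗ c)` -/
def iota (Q : Type u) [AddCommGroup Q] [Module k Q] : (A →ₗ[k] B) ⊗[k] Q →ₗ[k] A →ₗ[k] B ⊗[k] Q :=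
  TensorProduct.lift (LinearMap.mk₂ k (fun φ c => (TensorProduct.mk k B Q).flip c ∘ₗ φ)
    (fun φ φ' c => by rw [LinearMap.comp_add]) (fun r φ c => by rw [LinearMap.comp_smul])
    (fun φ c c' => by rw [map_add, LinearMap.add_comp]) (fun r φ c => by rw [map_smul, LinearMap.smul_comp]))

@[simp] theorem iota_tmul (Q : Type u) [AddCommGroup Q] [Module k Q] (φ : A →ₗ[k] B) (c : Q) (a : A) :
    iota Q (φ ⊗ₜ c) a = φ a ⊗ₜ c := rfl

section Fin

variable (Q : Type u) [AddCommGroup Q] [Module k Q] {n : ℕ} (g : (Fin n → k) →ₗ[k] A) (s : A →ₗ[k] Fin n → k)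

/-- the inverse of `iota` from a finite coordinate system -/
def iotaInv : (A →ₗ[k] B ⊗[k] Q) →ₗ[k] (A →ₗ[k] B) ⊗[k] Q :=
  ∑ i, ((LinearMap.smulRightₗ (LinearMap.proj i ∘ₗ s) : B →ₗ[k] A →ₗ[k] B).rTensor Q) ∘ₗ
    LinearMap.applyₗ (g (Pi.single i 1))

variable {Q g s}

theorem sum_coord (hgs : g ∘ₗ s = LinearMap.id) (a : A) : ∑ i, s a i • g (Pi.single i 1) = a := by
  have h : a = g (s a) := (LinearMap.congr_fun hgs a).symm
  conv_rhs => rw [h, ← Finset.univ_sum_single (s a), map_sum]
  exact Finset.sum_congr rfl fun i _ => by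
    rw [← map_smul]; congr 1
    ext j
    simp [Pi.single_apply]

theorem iotaInv_iota (hgs : g ∘ₗ s = LinearMap.id) (z : (A →ₗ[k] B) ⊗[k] Q) :
    iotaInv Q g s (iota Q z) = z := by
  induction z using TensorProduct.induction_on with
  | zero => simp
  | add x y hx hy => simp only [map_add, hx, hy]
  | tmul φ c =>
    simp only [iotaInv, LinearMap.sum_apply, LinearMap.comp_apply, LinearMap.applyₗ_apply_apply, iota_tmul,
      LinearMap.rTensor_tmul]
    rw [← TensorProduct.sum_tmul]
    congr 1
    refine LinearMap.ext fun a => ?_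
    rw [LinearMap.sum_apply]
    conv_rhs => rw [← sum_coord hgs a, map_sum]
    exact Finset.sum_congr rfl fun i _ => by simp

theorem iota_iotaInv (hgs : g ∘ₗ s = LinearMap.id) (T : A →ₗ[k] B ⊗[k] Q) :
    iota Q (iotaInv Q g s T) = T := by
  refine LinearMap.ext fun a => ?_
  have key : ∀ (i : Fin n) (y : B ⊗[k] Q),
      iota Q ((LinearMap.smulRightₗ (LinearMap.proj i ∘ₗ s) : B →ₗ[k] A →ₗ[k] B).rTensor Q y) a = s a i • y := by
    intro i y
    induction y using TensorProduct.induction_on with
    | zero => simp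
    | tmul b c => simp [TensorProduct.smul_tmul']
    | add x y hx hy => simp only [map_add, LinearMap.add_apply, hx, hy, smul_add]
  simp only [iotaInv, LinearMap.sum_apply, LinearMap.comp_apply, LinearMap.applyₗ_apply_apply, map_sum, key]
  conv_rhs => rw [← sum_coord hgs a, map_sum]
  simp only [map_smul]

end Fin

variable [HopfRep.Comod k A B]

/-- `inr ∘ S` -/
def invR : A →ₐ[k] B ⊗[k] A :=
  (Algebra.TensorProduct.includeRight : A →ₐ[k] B ⊗[k] A).comp (HopfAlgebra.antipodeAlgHom k A)

/-- the twisted coaction of a linear map -/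
def theta : (A →ₗ[k] B) →ₗ[k] A →ₗ[k] B ⊗[k] A where
  toFun φ := (toConv (HopfRep.Comod.coact (k := k) (A := A) ∘ₗ φ) * toConv (invR (B := B)).toLinearMap).ofConv
  map_add' φ φ' := by rw [LinearMap.comp_add, toConv_add, add_mul, ofConv_add]
  map_smul' r φ := by rw [LinearMap.comp_smul, toConv_smul, smul_mul_assoc, ofConv_smul]; rfl

theorem theta_apply (φ : A →ₗ[k] B) (a : A) : theta φ a = LinearMap.mul' k (B ⊗[k] A)
    (TensorProduct.map (HopfRep.Comod.coact (k := k) (A := A) ∘ₗ φ) (invR (B := B)).toLinearMap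
      (Coalgebra.comul (R := k) a)) := rfl

theorem toLinear_conv {C : Type*} [CommRing C] [Algebra k C] (f g : A →ₐ[k] C) :
    toConv (toConv f * toConv g).ofConv.toLinearMap = toConv f.toLinearMap * toConv g.toLinearMap := rfl

theorem toLinear_one {C : Type*} [CommRing C] [Algebra k C] :
    toConv (1 : WithConv (A →ₐ[k] C)).ofConv.toLinearMap = (1 : WithConv (A →ₗ[k] C)) := rfl

variable [GLin.IsCoactAlg k A B]

theorem theta_smul (b : B) (φ : A →ₗ[k] B) :
    theta (b • φ) = LinearMap.mulLeft k (HopfRep.Comod.coact (k := k) (A := A) b) ∘ₗ theta φ := by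
  refine LinearMap.ext fun a => ?_
  rw [LinearMap.comp_apply, theta_apply, theta_apply, LinearMap.mulLeft_apply]
  induction Coalgebra.comul (R := k) a using TensorProduct.induction_on with
  | zero => simp
  | tmul p q => simp [GLin.IsCoactAlg.coact_mul, mul_assoc]
  | add x y hx hy => simp only [map_add, hx, hy, mul_add]

theorem theta_counit (φ : A →ₗ[k] B) (a : A) :
    (Coalgebra.counit (R := k) (A := A)).lTensor B (theta φ a) = φ a ⊗ₜ[k] (1 : k) := by
  let E : B ⊗[k] A →ₐ[k] B :=
    (Algebra.TensorProduct.rid k k B).toAlgHom.comp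
      (Algebra.TensorProduct.map (AlgHom.id k B) (Bialgebra.counitAlgHom k A))
  have hE : ∀ y : B ⊗[k] A, (Coalgebra.counit (R := k) (A := A)).lTensor B y = E y ⊗ₜ[k] (1 : k) := by
    intro y
    induction y using TensorProduct.induction_on with
    | zero => simp
    | tmul p q => simp [E, TensorProduct.smul_tmul]
    | add x y hx hy => simp only [map_add, hx, hy, TensorProduct.add_tmul]
  have h1 : E.toLinearMap ∘ₗ (HopfRep.Comod.coact (k := k) (A := A) ∘ₗ φ) = φ := by
    refine LinearMap.ext fun x => ?_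
    have h := LinearMap.congr_fun (HopfRep.Comod.counit_comp (k := k) (A := A) (V := B)) (φ x)
    simp only [LinearMap.comp_apply, LinearMap.flip_apply, TensorProduct.mk_apply, hE] at h
    simpa using congrArg (TensorProduct.rid k B) h
  have h2 : toConv (E.toLinearMap ∘ₗ (invR (B := B)).toLinearMap) = (1 : WithConv (A →ₗ[k] B)) := by
    apply WithConv.ofConv_injective
    refine LinearMap.ext fun x => ?_
    simp [E, invR, Algebra.algebraMap_eq_smul_one]
  rw [hE]
  congr 1
  have h := LinearMap.congr_fun (LinearMap.algHom_comp_convMul_distrib E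
    (toConv (HopfRep.Comod.coact (k := k) (A := A) ∘ₗ φ)) (toConv (invR (B := B)).toLinearMap)) a
  refine h.trans ?_
  rw [ofConv_toConv, ofConv_toConv, h1, h2, mul_one]

/-- `(ρ ⊗ id)` followed by reassociation -/
def bigL : B ⊗[k] A →ₐ[k] B ⊗[k] (A ⊗[k] A) :=
  (Algebra.TensorProduct.assoc k k k B A A).toAlgHom.comp
    (Algebra.TensorProduct.map (GLin.coactAlgHom k A B) (AlgHom.id k A))

/-- `id ⊗ Δ` -/
def bigR : B ⊗[k] A →ₐ[k] B ⊗[k] (A ⊗[k] A) :=
  Algebra.TensorProduct.map (AlgHom.id k B) (Bialgebra.comulAlgHom k A)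

/-- the middle inclusion -/
def j2 : A →ₐ[k] B ⊗[k] (A ⊗[k] A) :=
  (Algebra.TensorProduct.includeRight : A ⊗[k] A →ₐ[k] B ⊗[k] (A ⊗[k] A)).comp Algebra.TensorProduct.includeLeft

/-- the last inclusion -/
def j3 : A →ₐ[k] B ⊗[k] (A ⊗[k] A) :=
  (Algebra.TensorProduct.includeRight : A ⊗[k] A →ₐ[k] B ⊗[k] (A ⊗[k] A)).comp Algebra.TensorProduct.includeRight

/-- the diagonal inclusion -/
def jd : A →ₐ[k] B ⊗[k] (A ⊗[k] A) :=
  (Algebra.TensorProduct.includeRight : A ⊗[k] A →ₐ[k] B ⊗[k] (A ⊗[k] A)).comp (Bialgebra.comulAlgHom k A)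

omit [HopfRep.Comod k A B] [GLin.IsCoactAlg k A B] in
theorem monoid_key {M : Type*} [Monoid M] {a a' b b' d d' : M} (h : a * b = d) (ha : a' * a = 1) (hb : b' * b = 1)
    (hd : d * d' = 1) : b' * a' = d' := by
  refine left_inv_eq_right_inv (a := d) ?_ hd
  rw [← h, mul_assoc, ← mul_assoc a', ha, one_mul, hb]

omit [HopfRep.Comod k A B] [GLin.IsCoactAlg k A B] in
theorem j23_inv :
    toConv ((j3 (B := B) (k := k) (A := A)).comp (HopfAlgebra.antipodeAlgHom k A)) *
        toConv ((j2 (B := B)).comp (HopfAlgebra.antipodeAlgHom k A)) =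
      toConv ((jd (B := B)).comp (HopfAlgebra.antipodeAlgHom k A)) := by
  have h : toConv (j2 (B := B) (k := k) (A := A)) * toConv (j3 (B := B)) = toConv (jd (B := B)) := by
    apply WithConv.ofConv_injective
    refine AlgHom.ext fun a => ?_
    change Algebra.TensorProduct.lmul' k (Algebra.TensorProduct.map (j2 (B := B)) (j3 (B := B))
      (Coalgebra.comul (R := k) a)) = (1 : B) ⊗ₜ[k] (Coalgebra.comul (R := k) a)
    induction Coalgebra.comul (R := k) a using TensorProduct.induction_on with
    | zero => simp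
    | tmul p q => simp [j2, j3]
    | add x y hx hy => simp only [map_add, hx, hy, TensorProduct.tmul_add]
  exact monoid_key h (Comod.antipode_comp_conv _) (Comod.antipode_comp_conv _) (Comod.conv_comp_antipode _)

theorem theta_theta (φ : A →ₗ[k] B) (z : (A →ₗ[k] B) ⊗[k] A) (hz : iota A z = theta φ)
    (C : (A →ₗ[k] B) →ₗ[k] (A →ₗ[k] B) ⊗[k] A) (hC : ∀ ψ, iota A (C ψ) = theta ψ) :
    iota (A ⊗[k] A) (TensorProduct.assoc k (A →ₗ[k] B) A A (C.rTensor A z)) =
      iota (A ⊗[k] A) ((Coalgebra.comul (R := k) (A := A)).lTensor (A →ₗ[k] B) z) := by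
  let H : (B ⊗[k] A) ⊗[k] A →ₐ[k] B ⊗[k] (A ⊗[k] A) := (Algebra.TensorProduct.assoc k k k B A A).toAlgHom
  have hL : ∀ w : (A →ₗ[k] B) ⊗[k] A, iota (A ⊗[k] A) (TensorProduct.assoc k (A →ₗ[k] B) A A (C.rTensor A w)) =
      (toConv ((bigL (k := k) (A := A) (B := B)).toLinearMap ∘ₗ iota A w) *
        toConv ((j2 (B := B)).comp (HopfAlgebra.antipodeAlgHom k A)).toLinearMap).ofConv := by
    intro w
    induction w using TensorProduct.induction_on with
    | zero => simp
    | add x y hx hy => simp only [map_add, hx, hy, LinearMap.comp_add, toConv_add, add_mul, ofConv_add]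
    | tmul ψ c =>
      refine LinearMap.ext fun a => ?_
      have h1 : ∀ y : (A →ₗ[k] B) ⊗[k] A,
          iota (A ⊗[k] A) (TensorProduct.assoc k (A →ₗ[k] B) A A (y ⊗ₜ[k] c)) a = H (iota A y a ⊗ₜ[k] c) := by
        intro y
        induction y using TensorProduct.induction_on with
        | zero => simp
        | tmul p q => simp [H]
        | add p q hp hq => simp only [TensorProduct.add_tmul, map_add, LinearMap.add_apply, hp, hq]
      rw [LinearMap.rTensor_tmul, h1, hC, theta_apply]
      change _ = LinearMap.mul' k _ (TensorProduct.map ((bigL (k := k) (A := A) (B := B)).toLinearMap ∘ₗ iota A (ψ ⊗ₜ[k] c))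
        ((j2 (B := B)).comp (HopfAlgebra.antipodeAlgHom k A)).toLinearMap (Coalgebra.comul (R := k) a))
      induction Coalgebra.comul (R := k) a using TensorProduct.induction_on with
      | zero => simp
      | add p q hp hq => simp only [map_add, TensorProduct.add_tmul, hp, hq]
      | tmul p q =>
        simp only [TensorProduct.map_tmul, LinearMap.mul'_apply, LinearMap.comp_apply, iota_tmul]
        conv_lhs => rw [show c = c * 1 from (mul_one c).symm, ← Algebra.TensorProduct.tmul_mul_tmul, map_mul]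
        congr 1
  have hR : ∀ w : (A →ₗ[k] B) ⊗[k] A,
      iota (A ⊗[k] A) ((Coalgebra.comul (R := k) (A := A)).lTensor (A →ₗ[k] B) w) = (bigR (k := k) (A := A) (B := B)).toLinearMap ∘ₗ iota A w := by
    intro w
    induction w using TensorProduct.induction_on with
    | zero => simp
    | add x y hx hy => simp only [map_add, hx, hy, LinearMap.comp_add]
    | tmul ψ c => exact LinearMap.ext fun a => rfl
  rw [hL, hR, hz]
  have e1 : (bigL (k := k) (A := A) (B := B)).toLinearMap ∘ₗ (HopfRep.Comod.coact (k := k) (A := A) ∘ₗ φ) =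
      (bigR (k := k) (A := A) (B := B)).toLinearMap ∘ₗ (HopfRep.Comod.coact (k := k) (A := A) ∘ₗ φ) := by
    refine LinearMap.ext fun x => ?_
    have h := LinearMap.congr_fun (HopfRep.Comod.coassoc (k := k) (A := A) (V := B)) (φ x)
    simp only [LinearMap.comp_apply, LinearEquiv.coe_coe] at h
    have e : ∀ y : B ⊗[k] A, bigL (k := k) (A := A) (B := B) y = TensorProduct.assoc k B A A
        ((HopfRep.Comod.coact (k := k) (A := A) (V := B)).rTensor A y) := by
      intro y
      induction y using TensorProduct.induction_on with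
      | zero => simp
      | add p q hp hq => simp only [map_add, hp, hq]
      | tmul p q =>
        simp only [bigL, AlgHom.comp_apply, Algebra.TensorProduct.map_tmul, LinearMap.rTensor_tmul]
        rw [GLin.coactAlgHom_apply]
        rfl
    exact (e _).trans (h.trans rfl)
  have e2 : (bigL (k := k) (A := A) (B := B)).toLinearMap ∘ₗ (invR (B := B)).toLinearMap =
      ((j3 (B := B) (k := k) (A := A)).comp (HopfAlgebra.antipodeAlgHom k A)).toLinearMap := by
    refine LinearMap.ext fun x => ?_
    simp [bigL, invR, j3, GLin.IsCoactAlg.coact_one (k := k) (A := A) (R := B), Algebra.TensorProduct.one_def]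
  have e3 : (bigR (k := k) (A := A) (B := B)).toLinearMap ∘ₗ (invR (B := B)).toLinearMap =
      ((jd (B := B) (k := k) (A := A)).comp (HopfAlgebra.antipodeAlgHom k A)).toLinearMap :=
    LinearMap.ext fun x => rfl
  have d1 := LinearMap.algHom_comp_convMul_distrib (bigL (k := k) (A := A) (B := B))
    (toConv (HopfRep.Comod.coact (k := k) (A := A) ∘ₗ φ)) (toConv (invR (B := B)).toLinearMap)
  have d2 := LinearMap.algHom_comp_convMul_distrib (bigR (k := k) (A := A) (B := B))
    (toConv (HopfRep.Comod.coact (k := k) (A := A) ∘ₗ φ)) (toConv (invR (B := B)).toLinearMap)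
  change (toConv ((bigL (k := k) (A := A) (B := B)).toLinearMap ∘ₗ (toConv (HopfRep.Comod.coact (k := k) (A := A) ∘ₗ φ) *
    toConv (invR (B := B)).toLinearMap).ofConv) * _).ofConv = (bigR (k := k) (A := A) (B := B)).toLinearMap ∘ₗ
    (toConv (HopfRep.Comod.coact (k := k) (A := A) ∘ₗ φ) * toConv (invR (B := B)).toLinearMap).ofConv
  rw [d1, d2, ofConv_toConv, ofConv_toConv, e1, e2, e3, toConv_ofConv, mul_assoc, ← toLinear_conv, j23_inv]

end Groth.Agent.Comod.HomMod
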