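import Groth.Agent.Comod.Basic
import Groth.Agent.HopfPts.CharZero
import Groth.Agent.LieKolchin.Points
import Groth.Prelude.Def_GLin
import Mathlib.RingTheory.Nullstellensatz
import Mathlib.RingTheory.Spectrum.Prime.Jacobson

/-!
# Linearisations of the trivial line bundle
-/

set_option autoImplicit false
set_option linter.style.haveILetI false

universe u

noncomputable section

open TensorProduct

namespace Groth.Agent.Comod.LineBundle

open HopfRep Groth.Agent.Comod

variable {k : Type u} [Field k] {A : Type u} [CommRing A] [HopfAlgebra k A]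
  {R : Type u} [CommRing R] [Algebra k R]

/-- evaluation of the first factor at a point -/
def evL (x : R →ₐ[k] k) : R ⊗[k] A →ₐ[k] A :=
  Algebra.TensorProduct.lift ((Algebra.ofId k A).comp x) (AlgHom.id k A) fun _ _ => Commute.all _ _

theorem evL_tmul (x : R →ₐ[k] k) (r : R) (a : A) : evL x (r ⊗ₜ[k] a) = x r • a := by
  simp [evL, Algebra.smul_def]

/-- evaluation of the second factor at a point -/
def evR (g : A →ₐ[k] k) : R ⊗[k] A →ₐ[k] R :=
  Algebra.TensorProduct.lift (AlgHom.id k R) ((Algebra.ofId k R).comp g) fun _ _ => Commute.all _ _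

theorem evR_tmul (g : A →ₐ[k] k) (r : R) (a : A) : evR g (r ⊗ₜ[k] a) = g a • r := by
  simp [evR, Algebra.smul_def, mul_comm]

theorem evR_eq_slice (g : A →ₐ[k] k) (z : R ⊗[k] A) : evR g z = slice g.toLinearMap z := by
  induction z using TensorProduct.induction_on with
  | zero => simp
  | tmul r a => simp [evR_tmul]
  | add x y hx hy => simp only [map_add, hx, hy]

theorem slice_evL (φ : A →ₗ[k] k) (x : R →ₐ[k] k) (z : R ⊗[k] A) : φ (evL x z) = x (slice φ z) := by
  induction z using TensorProduct.induction_on with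
  | zero => simp
  | tmul r a => simp [evL_tmul, mul_comm]
  | add p q hp hq => simp only [map_add, hp, hq]

variable [HopfRep.Comod k A R] [GLin.IsCoactAlg k A R] (θ : R ⊗[k] A)

/-- the twisted coaction -/
abbrev M : R →ₗ[k] R ⊗[k] A := LinearMap.mulRight k θ ∘ₗ HopfRep.Comod.coact (k := k) (A := A) (V := R)

variable
  (hassoc : (TensorProduct.assoc k R A A).toLinearMap ∘ₗ (M θ).rTensor A ∘ₗ M θ =
      (CoalgebraStruct.comul (R := k) (A := A)).lTensor R ∘ₗ M θ)
  (hcounit : (CoalgebraStruct.counit (R := k) (A := A)).lTensor R ∘ₗ M θ = (TensorProduct.mk k R k).flip 1)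

theorem M_one : M θ (1 : R) = θ := by
  simp [M, GLin.IsCoactAlg.coact_one (k := k) (A := A) (R := R)]

include hcounit in
theorem counit_theta : (CoalgebraStruct.counit (R := k) (A := A)).lTensor R θ = (1 : R) ⊗ₜ[k] (1 : k) := by
  have := LinearMap.congr_fun hcounit 1
  rwa [LinearMap.comp_apply, M_one] at this

include hassoc in
theorem cocycle : TensorProduct.assoc k R A A ((M θ).rTensor A θ) = (CoalgebraStruct.comul (R := k) (A := A)).lTensor R θ := by
  have : TensorProduct.assoc k R A A ((M θ).rTensor A (M θ 1)) =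
      (CoalgebraStruct.comul (R := k) (A := A)).lTensor R (M θ 1) := LinearMap.congr_fun hassoc 1
  rwa [M_one] at this

include hassoc hcounit in
theorem isUnit_evL (x : R →ₐ[k] k) : IsUnit (evL x θ) := by
  let P : A ⊗[k] A →ₗ[k] A := LinearMap.mul' k A ∘ₗ (HopfAlgebra.antipode k (A := A)).lTensor A
  let Ψ : R ⊗[k] (A ⊗[k] A) →ₗ[k] A :=
    (TensorProduct.lid k A).toLinearMap ∘ₗ TensorProduct.map x.toLinearMap P
  have h := congrArg Ψ (cocycle θ hassoc)
  have hR : Ψ ((CoalgebraStruct.comul (R := k) (A := A)).lTensor R θ) = 1 := by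
    have e : ∀ z : R ⊗[k] A, Ψ ((CoalgebraStruct.comul (R := k) (A := A)).lTensor R z) =
        algebraMap k A (x (TensorProduct.rid k R ((CoalgebraStruct.counit (R := k) (A := A)).lTensor R z))) := by
      intro z
      induction z using TensorProduct.induction_on with
      | zero => simp
      | tmul r a =>
        have := LinearMap.congr_fun (HopfAlgebra.mul_antipode_lTensor_comul (R := k) (A := A)) a
        simp only [LinearMap.comp_apply, Algebra.linearMap_apply] at this
        simp [Ψ, P, this, Algebra.smul_def, mul_comm]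
      | add p q hp hq => simp only [map_add, hp, hq]
    rw [e, counit_theta θ hcounit]
    simp
  let T : R ⊗[k] A →ₗ[k] A :=
    LinearMap.mul' k A ∘ₗ TensorProduct.map ((evL (A := A) x).toLinearMap ∘ₗ HopfRep.Comod.coact (k := k) (A := A) (V := R))
      (HopfAlgebra.antipode k (A := A))
  have hL : ∀ z : R ⊗[k] A, Ψ (TensorProduct.assoc k R A A ((M θ).rTensor A z)) = evL x θ * T z := by
    intro z
    induction z using TensorProduct.induction_on with
    | zero => simp
    | tmul r a =>
      have e2 : ∀ w : R ⊗[k] A, Ψ (TensorProduct.assoc k R A A (w ⊗ₜ[k] a)) = evL x w * HopfAlgebra.antipode k a := by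
        intro w
        induction w using TensorProduct.induction_on with
        | zero => simp
        | tmul p b => simp [Ψ, P, evL_tmul]
        | add p q hp hq => simp only [TensorProduct.add_tmul, map_add, hp, hq, add_mul]
      rw [LinearMap.rTensor_tmul, e2, M, LinearMap.comp_apply, LinearMap.mulRight_apply, map_mul]
      simp [T]
      ring
    | add p q hp hq => simp only [map_add, hp, hq, mul_add]
  rw [hL, hR] at h
  exact IsUnit.of_mul_eq_one _ h

include hassoc hcounit in
theorem isUnit_evR (g : A →ₐ[k] k) : IsUnit (evR g θ) := by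
  let P : A ⊗[k] A →ₗ[k] k := g.toLinearMap ∘ₗ LinearMap.mul' k A ∘ₗ (HopfAlgebra.antipode k (A := A)).lTensor A
  let Ψ : R ⊗[k] (A ⊗[k] A) →ₗ[k] R := (TensorProduct.rid k R).toLinearMap ∘ₗ P.lTensor R
  have h := congrArg Ψ (cocycle θ hassoc)
  have hR : Ψ ((CoalgebraStruct.comul (R := k) (A := A)).lTensor R θ) = 1 := by
    have e : ∀ z : R ⊗[k] A, Ψ ((CoalgebraStruct.comul (R := k) (A := A)).lTensor R z) =
        TensorProduct.rid k R ((CoalgebraStruct.counit (R := k) (A := A)).lTensor R z) := by
      intro z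
      induction z using TensorProduct.induction_on with
      | zero => simp
      | tmul r a =>
        have := LinearMap.congr_fun (HopfAlgebra.mul_antipode_lTensor_comul (R := k) (A := A)) a
        simp only [LinearMap.comp_apply, Algebra.linearMap_apply] at this
        simp [Ψ, P, this]
      | add p q hp hq => simp only [map_add, hp, hq]
    rw [e, counit_theta θ hcounit]
    simp
  let T : R ⊗[k] A →ₗ[k] R :=
    (TensorProduct.rid k R).toLinearMap ∘ₗ
      TensorProduct.map ((evR (R := R) g).toLinearMap ∘ₗ HopfRep.Comod.coact (k := k) (A := A) (V := R))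
        (g.toLinearMap ∘ₗ HopfAlgebra.antipode k (A := A))
  have hL : ∀ z : R ⊗[k] A, Ψ (TensorProduct.assoc k R A A ((M θ).rTensor A z)) = evR g θ * T z := by
    intro z
    induction z using TensorProduct.induction_on with
    | zero => simp
    | tmul r a =>
      have e2 : ∀ w : R ⊗[k] A, Ψ (TensorProduct.assoc k R A A (w ⊗ₜ[k] a)) = g (HopfAlgebra.antipode k a) • evR g w := by
        intro w
        induction w using TensorProduct.induction_on with
        | zero => simp
        | tmul p b => simp [Ψ, P, evR_tmul, smul_smul, mul_comm]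
        | add p q hp hq => simp only [TensorProduct.add_tmul, map_add, hp, hq, smul_add]
      rw [LinearMap.rTensor_tmul, e2, M, LinearMap.comp_apply, LinearMap.mulRight_apply, map_mul]
      simp [T, Algebra.smul_def]
      ring
    | add p q hp hq => simp only [map_add, hp, hq, mul_add]
  rw [hL, hR] at h
  exact IsUnit.of_mul_eq_one _ h

include hassoc hcounit in
theorem isGroupLikeElem_of_eq [Nontrivial R] (x : R →ₐ[k] k) {a : A} (hθ : θ = (1 : R) ⊗ₜ[k] a) :
    IsGroupLikeElem k a := by
  constructor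
  · have := congrArg (fun z => x (TensorProduct.rid k R z)) (counit_theta θ hcounit)
    simpa [hθ] using this
  · have := congrArg ((TensorProduct.lid k (A ⊗[k] A)).toLinearMap ∘ₗ x.toLinearMap.rTensor (A ⊗[k] A))
      (cocycle θ hassoc)
    simp [hθ, M, GLin.IsCoactAlg.coact_one (k := k) (A := A) (R := R)] at this
    exact this.symm

variable [IsAlgClosed k] [Algebra.FiniteType k R] [_root_.IsReduced R]

theorem exists_point_ker {m : Ideal R} (hm : m.IsMaximal) : ∃ x : R →ₐ[k] k, ∀ r, x r = 0 ↔ r ∈ m := by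
  haveI : IsJacobsonRing R := isJacobsonRing_of_finiteType (A := k)
  letI : Field (R ⧸ m) := Ideal.Quotient.field _
  haveI : Algebra.FiniteType k (R ⧸ m) :=
    Algebra.FiniteType.of_surjective (Ideal.Quotient.mkₐ k m) (Ideal.Quotient.mkₐ_surjective k _)
  haveI : Module.Finite k (R ⧸ m) := finite_of_finite_type_of_isJacobsonRing k _
  have hbij := IsAlgClosed.algebraMap_bijective_of_isIntegral (k := k) (K := R ⧸ m)
  let e := (AlgEquiv.ofBijective (Algebra.ofId k _) hbij).symm
  refine ⟨(e : R ⧸ m →ₐ[k] k).comp (Ideal.Quotient.mkₐ k m), fun r => ?_⟩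
  simp [Ideal.Quotient.eq_zero_iff_mem]

omit θ [HopfRep.Comod k A R] [GLin.IsCoactAlg k A R] in
theorem eq_zero_of_forall (r : R) (h : ∀ x : R →ₐ[k] k, x r = 0) : r = 0 := by
  haveI : IsJacobsonRing R := isJacobsonRing_of_finiteType (A := k)
  have hj : (⊥ : Ideal R).jacobson = ⊥ := IsJacobsonRing.out (R := R) inferInstance (by
    rw [Ideal.isRadical_iff_quotient_reduced]
    exact isReduced_of_injective (RingEquiv.quotientBot R) (RingEquiv.quotientBot R).injective)
  rw [← Ideal.mem_bot, ← hj, Ideal.jacobson, Submodule.mem_sInf]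
  rintro m ⟨-, hm⟩
  obtain ⟨x, hx⟩ := exists_point_ker (k := k) hm
  exact (hx r).1 (h x)

omit θ [HopfRep.Comod k A R] [GLin.IsCoactAlg k A R] in
theorem eq_one_tmul_of_forall {z : R ⊗[k] A} {a : A} (h : ∀ x : R →ₐ[k] k, evL x z = a) :
    z = (1 : R) ⊗ₜ[k] a := by
  rw [← sub_eq_zero]
  refine eq_zero_of_slice _ fun φ => eq_zero_of_forall (k := k) _ fun x => ?_
  rw [← slice_evL, map_sub, h, evL_tmul, map_one, one_smul, sub_self, map_zero]

omit θ [HopfRep.Comod k A R] [GLin.IsCoactAlg k A R] in
/-- finitely many possible values on a connected variety: constant -/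
theorem const_of_finite [ConnectedSpace (PrimeSpectrum R)] {z : R ⊗[k] A} {G : Set A} (hG : G.Finite)
    (h : ∀ x : R →ₐ[k] k, evL x z ∈ G) : ∃ a ∈ G, ∀ x : R →ₐ[k] k, evL x z = a := by
  classical
  haveI : IsJacobsonRing R := isJacobsonRing_of_finiteType (A := k)
  let Z : A → Set (PrimeSpectrum R) := fun a =>
    PrimeSpectrum.zeroLocus (Set.range fun φ : A →ₗ[k] k => slice φ z - algebraMap k R (φ a))
  have hev : ∀ (x : R →ₐ[k] k) (p : PrimeSpectrum R), (∀ r, x r = 0 ↔ r ∈ p.asIdeal) → ∀ a, p ∈ Z a ↔ evL x z = a := by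
    intro x p hp a
    rw [PrimeSpectrum.mem_zeroLocus, Set.range_subset_iff]
    constructor
    · intro h'
      refine sub_eq_zero.1 ((Module.forall_dual_apply_eq_zero_iff k _).1 fun φ => ?_)
      rw [map_sub, slice_evL]
      simpa using (hp _).2 (h' φ)
    · intro h' φ
      refine (hp _).1 ?_
      rw [map_sub, ← slice_evL, h']
      simp
  have hclosed : ∀ a, IsClosed (Z a) := fun a => PrimeSpectrum.isClosed_zeroLocus _
  have hcp : ∀ p ∈ closedPoints (PrimeSpectrum R), ∃ x : R →ₐ[k] k, ∀ r, x r = 0 ↔ r ∈ p.asIdeal := fun p hp =>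
    exists_point_ker ((PrimeSpectrum.isClosed_singleton_iff_isMaximal p).1 hp)
  have hcover : (⋃ a ∈ G, Z a) = Set.univ := by
    rw [← Set.univ_subset_iff, ← closure_closedPoints]
    refine closure_minimal (fun p hp => ?_) (hG.isClosed_biUnion fun a _ => hclosed a)
    obtain ⟨x, hx⟩ := hcp p hp
    exact Set.mem_biUnion (h x) ((hev x p hx _).2 rfl)
  have hdisj : ∀ a b, a ≠ b → Disjoint (Z a) (Z b) := by
    intro a b hab
    rw [Set.disjoint_iff_inter_eq_empty]
    by_contra hne
    obtain ⟨p, hpZ, hp⟩ : ((Z a ∩ Z b) ∩ closedPoints (PrimeSpectrum R)).Nonempty :=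
      nonempty_inter_closedPoints (Set.nonempty_iff_ne_empty.2 hne) ((hclosed a).inter (hclosed b)).isLocallyClosed
    obtain ⟨x, hx⟩ := hcp p hp
    exact hab (((hev x p hx a).1 hpZ.1).symm.trans ((hev x p hx b).1 hpZ.2))
  obtain ⟨p0⟩ : Nonempty (PrimeSpectrum R) := inferInstance
  obtain ⟨a, haG, hpa⟩ := Set.mem_iUnion₂.1 (hcover.symm ▸ Set.mem_univ p0 : p0 ∈ ⋃ a ∈ G, Z a)
  have hopen : IsOpen (Z a) := by
    have : Z a = (⋃ b ∈ G \ {a}, Z b)ᶜ := by
      ext p
      simp only [Set.mem_compl_iff, Set.mem_iUnion, not_exists]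
      refine ⟨fun hp b hb hpb => Set.disjoint_left.1 (hdisj a b fun e => hb.2 e.symm) hp hpb, fun hp => ?_⟩
      obtain ⟨b, hbG, hpb⟩ := Set.mem_iUnion₂.1 (hcover.symm ▸ Set.mem_univ p : p ∈ ⋃ a ∈ G, Z a)
      by_cases e : b = a
      · exact e ▸ hpb
      · exact absurd hpb (hp b ⟨hbG, e⟩)
    rw [this]
    exact ((hG.subset Set.sdiff_subset).isClosed_biUnion fun b _ => hclosed b).isOpen_compl
  have huniv : Z a = Set.univ := (isClopen_iff.1 ⟨hclosed a, hopen⟩).resolve_left (Set.nonempty_iff_ne_empty.1 ⟨p0, hpa⟩)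
  refine ⟨a, haG, fun x => ?_⟩
  let p : PrimeSpectrum R := ⟨RingHom.ker x, RingHom.ker_isPrime _⟩
  exact (hev x p (fun r => Iff.rfl) a).1 (huniv ▸ Set.mem_univ p)

include hassoc hcounit in
theorem exists_groupLike [CharZero k] [Algebra.FiniteType k A] [ConnectedSpace (PrimeSpectrum R)]
    (h : (∀ u : Aˣ, ∃ (c : k) (χ : A), IsGroupLikeElem k χ ∧ (u : A) = c • χ) ∨
      (∀ u : Rˣ, (u : R) ∈ Set.range (algebraMap k R))) :
    ∃ χ : A, IsGroupLikeElem k χ ∧ θ = (1 : R) ⊗ₜ[k] χ := by
  classical
  obtain ⟨p0⟩ : Nonempty (PrimeSpectrum R) := inferInstance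
  obtain ⟨m, hm, -⟩ := Ideal.exists_le_maximal p0.asIdeal p0.isPrime.ne_top
  obtain ⟨x0, hx0⟩ := exists_point_ker (k := k) hm
  haveI : Nontrivial R := x0.toRingHom.domain_nontrivial
  haveI : _root_.IsReduced A := Groth.Agent.HopfPts.isReduced_of_charZero' (k := k)
  rcases h with h | h
  · obtain ⟨s, hs⟩ := TensorProduct.exists_finset (R := k) θ
    let W : Submodule k A := Submodule.span k (↑(s.image Prod.snd) : Set A)
    let G : Set A := {a | IsGroupLikeElem k a} ∩ W
    have hGfin : G.Finite := by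
      haveI : FiniteDimensional k W := FiniteDimensional.span_of_finite k (s.image Prod.snd).finite_toSet
      have hli : LinearIndependent k (fun a : G => (⟨a.1, a.2.2⟩ : W)) :=
        LinearIndependent.of_comp W.subtype ((linearIndepOn_isGroupLikeElem (R := k) (A := A)).mono Set.inter_subset_left)
      exact Set.finite_coe_iff.1 hli.finite
    have hval : ∀ x : R →ₐ[k] k, evL x θ ∈ G := by
      intro x
      refine ⟨?_, ?_⟩
      · obtain ⟨c, χ, hχ, hc⟩ := h (isUnit_evL θ hassoc hcounit x).unit
        rw [IsUnit.unit_spec] at hc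
        have h1 : Coalgebra.counit (R := k) (evL x θ) = 1 := by
          rw [slice_evL Coalgebra.counit x θ]
          have := congrArg (TensorProduct.rid k R) (counit_theta θ hcounit)
          rw [TensorProduct.rid_tmul, one_smul] at this
          rw [show slice (Coalgebra.counit (R := k)) θ = TensorProduct.rid k R ((CoalgebraStruct.counit (R := k) (A := A)).lTensor R θ) from rfl,
            this, map_one]
        rw [hc, map_smul, hχ.counit_eq_one, smul_eq_mul, mul_one] at h1
        rw [hc, h1, one_smul]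
        exact hχ
      · rw [hs, map_sum]
        refine Submodule.sum_mem _ fun i hi => ?_
        rw [evL_tmul]
        exact Submodule.smul_mem _ _ (Submodule.subset_span (Finset.mem_coe.2 (Finset.mem_image_of_mem _ hi)))
    obtain ⟨a, ha, hconst⟩ := const_of_finite hGfin hval
    exact ⟨a, ha.1, eq_one_tmul_of_forall hconst⟩
  · let a := evL x0 θ
    have hθ : θ = (1 : R) ⊗ₜ[k] a := by
      refine eq_one_tmul_of_forall fun x => sub_eq_zero.1 (Groth.Agent.LieKolchin.eq_zero_of_forall_point (k := k) _ fun g => ?_)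
      obtain ⟨c, hc⟩ := h (isUnit_evR θ hassoc hcounit g).unit
      rw [IsUnit.unit_spec, evR_eq_slice] at hc
      rw [map_sub, show g (evL x θ) = g.toLinearMap (evL x θ) from rfl, show g a = g.toLinearMap (evL x0 θ) from rfl,
        slice_evL, slice_evL, ← hc, AlgHom.commutes, AlgHom.commutes, sub_self]
    exact ⟨a, isGroupLikeElem_of_eq θ hassoc hcounit x0 hθ, hθ⟩

end Groth.Agent.Comod.LineBundle
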