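import Groth.Agent.Comod.Orbit
import Groth.Agent.Comod.OrbitDim
import Mathlib.FieldTheory.IsAlgClosed.AlgebraicClosure
import Mathlib.FieldTheory.Normal.Basic
import Mathlib.FieldTheory.Separable
import Mathlib.FieldTheory.Perfect
import Mathlib.RingTheory.Filtration
import Mathlib.RingTheory.Unramified.LocalRing
import Mathlib.RingTheory.Spectrum.Prime.Topology

/-!
# Luna's lemma for finite equivariant morphisms étale at a closed orbit
-/

universe u

noncomputable section

open TensorProduct

namespace Groth.Agent.Comod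

variable {k : Type u} [Field k] {A : Type u} [CommRing A] [HopfAlgebra k A]

theorem mem_range_of_forall_aut {K Ω : Type*} [Field K] [Field Ω] [Algebra K Ω] [Normal K Ω] [CharZero K]
    (a : Ω) (h : ∀ σ : Ω ≃ₐ[K] Ω, σ a = a) : a ∈ (algebraMap K Ω).range := by
  classical
  have hint : _root_.IsIntegral K a := (Normal.isIntegral ‹Normal K Ω› a)
  have hsep : (minpoly K a).Separable := (minpoly.irreducible hint).separable
  refine minpoly.natDegree_eq_one_iff.1 ?_
  rw [← Polynomial.card_rootSet_eq_natDegree hsep (Normal.splits ‹Normal K Ω› a), Fintype.card_eq_one_iff]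
  refine ⟨⟨a, Polynomial.mem_rootSet.2 ⟨minpoly.ne_zero hint, minpoly.aeval K a⟩⟩, fun ⟨b, hb⟩ => Subtype.ext ?_⟩
  obtain ⟨σ, hσ⟩ := minpoly.exists_algEquiv_of_root' (x := b) hint.isAlgebraic (Polynomial.mem_rootSet.1 hb).2
  change b = a
  rw [← hσ, h]

theorem counit_ltr (h : A →ₐ[k] k) (a : A) : Coalgebra.counit (R := k) (ltr h a) = h a := by
  have e : ∀ z : A ⊗[k] A, Coalgebra.counit (R := k) (TensorProduct.lid k A (h.toLinearMap.rTensor A z)) =
      h (TensorProduct.rid k A ((Coalgebra.counit (R := k) (A := A)).lTensor A z)) := fun z => by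
    induction z using TensorProduct.induction_on with
    | zero => simp
    | tmul p q => simp [mul_comm]
    | add y z hy hz => simp only [map_add, hy, hz]
  rw [ltr_apply, e, Coalgebra.lTensor_counit_comul]
  simp

theorem ltr_antipode_left (g : A →ₐ[k] k) (a : A) :
    ltr g (ltr (g.comp (HopfAlgebra.antipodeAlgHom k A)) a) = a := by
  refine ltr_inv _ g (fun b => ?_) a
  have := DFunLike.congr_fun (congrArg WithConv.ofConv (antipode_comp_conv g)) b
  refine Eq.trans ?_ (by simpa [AlgHom.convMul_apply, AlgHom.convOne_apply] using this)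
  induction Coalgebra.comul (R := k) b using TensorProduct.induction_on with
  | zero => simp
  | tmul p q => simp
  | add y z hy hz => simp only [map_add, hy, hz]

theorem ltr_antipode_right (g : A →ₐ[k] k) (a : A) :
    ltr (g.comp (HopfAlgebra.antipodeAlgHom k A)) (ltr g a) = a := by
  refine ltr_inv g _ (fun b => ?_) a
  have := DFunLike.congr_fun (congrArg WithConv.ofConv (conv_comp_antipode g)) b
  refine Eq.trans ?_ (by simpa [AlgHom.convMul_apply, AlgHom.convOne_apply] using this)
  induction Coalgebra.comul (R := k) b using TensorProduct.induction_on with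
  | zero => simp
  | tmul p q => simp
  | add y z hy hz => simp only [map_add, hy, hz]

variable {R : Type u} [CommRing R] [Algebra k R] [HopfRep.Comod k A R] [GLin.IsCoactAlg k A R]

theorem orbitHom_actPt (g : A →ₐ[k] k) (x : R →ₐ[k] k) (r : R) :
    GLin.orbitHom k A (GLin.actPt k g x) r = ltr g (GLin.orbitHom k A x r) := by
  rw [ltr_apply, comul_orbitHom, orbitHom_apply_eq]
  induction HopfRep.Comod.coact (k := k) (A := A) r using TensorProduct.induction_on with
  | zero => simp
  | tmul p q => simp [GLin.actPt]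
  | add y z hy hz => simp only [map_add, hy, hz]

theorem actPt_counit (x : R →ₐ[k] k) : GLin.actPt k (Bialgebra.counitAlgHom k A) x = x :=
  AlgHom.ext fun r => counit_orbitHom x r

theorem actPt_antipode (g : A →ₐ[k] k) (x : R →ₐ[k] k) :
    GLin.actPt k g (GLin.actPt k (g.comp (HopfAlgebra.antipodeAlgHom k A)) x) = x := by
  refine AlgHom.ext fun r => ?_
  change g (GLin.orbitHom k A (GLin.actPt k (g.comp _) x) r) = x r
  rw [orbitHom_actPt, ← counit_ltr, ltr_antipode_left]
  exact counit_orbitHom x r

theorem actPt_antipode' (g : A →ₐ[k] k) (x : R →ₐ[k] k) :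
    GLin.actPt k (g.comp (HopfAlgebra.antipodeAlgHom k A)) (GLin.actPt k g x) = x := by
  refine AlgHom.ext fun r => ?_
  change g.comp (HopfAlgebra.antipodeAlgHom k A) (GLin.orbitHom k A (GLin.actPt k g x) r) = x r
  rw [orbitHom_actPt, ← counit_ltr, ltr_antipode_right]
  exact counit_orbitHom x r

theorem exists_point_of_closedOrbit [IsAlgClosed k] [Algebra.FiniteType k A] (x : R →ₐ[k] k)
    (hx : GLin.IsClosedOrbit k A x) (z : R →ₐ[k] k) (hz : RingHom.ker (GLin.orbitHom k A x) ≤ RingHom.ker z) :
    ∃ g : A →ₐ[k] k, ∀ r, g (GLin.orbitHom k A x r) = z r := by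
  set o := GLin.orbitHom k A x
  have hP : (RingHom.ker z).IsMaximal :=
    RingHom.ker_isMaximal_of_surjective z.toRingHom fun c => ⟨algebraMap k R c, by simp⟩
  obtain ⟨p, hp⟩ : (⟨RingHom.ker z, hP.isPrime⟩ : PrimeSpectrum R) ∈ Set.range (PrimeSpectrum.comap o.toRingHom) := by
    rw [← IsClosed.closure_eq hx, PrimeSpectrum.closure_range_comap]
    exact hz
  obtain ⟨M, hM, hpM⟩ := Ideal.exists_le_maximal p.asIdeal p.isPrime.ne_top
  let _ : Field (A ⧸ M) := Ideal.Quotient.field M
  have : Module.Finite k (A ⧸ M) := finite_of_finite_type_of_isJacobsonRing k (A ⧸ M)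
  let e : k ≃ₐ[k] A ⧸ M := AlgEquiv.ofBijective (Algebra.ofId k _)
    IsAlgClosed.algebraMap_bijective_of_isIntegral
  refine ⟨e.symm.toAlgHom.comp (Ideal.Quotient.mkₐ k M), fun r => ?_⟩
  have hr : r - algebraMap k R (z r) ∈ p.asIdeal.comap o.toRingHom := by
    rw [← PrimeSpectrum.comap_asIdeal, hp]
    simp [RingHom.mem_ker]
  have h0 : Ideal.Quotient.mk M (o (r - algebraMap k R (z r))) = 0 := Ideal.Quotient.eq_zero_iff_mem.2 (hpM hr)
  rw [map_sub, AlgHom.commutes, map_sub, sub_eq_zero] at h0
  change e.symm (Ideal.Quotient.mk M (o r)) = z r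
  rw [h0]
  exact e.symm.commutes (z r)

/-- a slice stable ideal containing a function nonzero on a closed orbit is the unit ideal -/
theorem eq_top_of_stable [IsAlgClosed k] [Algebra.FiniteType k A] [Algebra.FiniteType k R] (x : R →ₐ[k] k)
    (hx : GLin.IsClosedOrbit k A x) (N : Ideal R) (hker : RingHom.ker (GLin.orbitHom k A x) ≤ N)
    (hN : ∀ (ψ : A →ₗ[k] k), ∀ r ∈ N, slice ψ (HopfRep.Comod.coact (k := k) (A := A) r) ∈ N)
    {t : R} (ht : t ∈ N) (ht0 : GLin.orbitHom k A x t ≠ 0) : N = ⊤ := by
  set o := GLin.orbitHom k A x with ho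
  by_contra hne
  obtain ⟨P, hP, hNP⟩ := Ideal.exists_le_maximal N hne
  let _ : Field (R ⧸ P) := Ideal.Quotient.field P
  have : Module.Finite k (R ⧸ P) := finite_of_finite_type_of_isJacobsonRing k (R ⧸ P)
  let e : k ≃ₐ[k] R ⧸ P := AlgEquiv.ofBijective (Algebra.ofId k _)
    IsAlgClosed.algebraMap_bijective_of_isIntegral
  let z : R →ₐ[k] k := e.symm.toAlgHom.comp (Ideal.Quotient.mkₐ k P)
  have hz : ∀ r ∈ P, z r = 0 := fun r hr => by
    change e.symm (Ideal.Quotient.mk P r) = 0
    rw [Ideal.Quotient.eq_zero_iff_mem.2 hr, map_zero]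
  obtain ⟨g, hg⟩ := exists_point_of_closedOrbit x hx z fun r hr => hz r (hNP (hker hr))
  have hT : ltr g (o t) = 0 := by
    refine (Module.forall_dual_apply_eq_zero_iff k _).1 fun ψ => ?_
    have h := hz _ (hNP (hN ψ t ht))
    rw [← hg] at h
    rw [← h, ltr_apply, comul_orbitHom, ← ho]
    induction HopfRep.Comod.coact (k := k) (A := A) t using TensorProduct.induction_on with
    | zero => simp
    | tmul p q => simp [slice, mul_comm]
    | add y z hy hz => simp only [map_add, hy, hz]
  refine ht0 ?_
  rw [← ltr_antipode_right g (o t), hT, map_zero]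

/-- `Σ Δ(a₀) (1 ⊗ S a₁) = a ⊗ 1` pushed to an orbit -/
theorem orbit_antipode_identity (x : R →ₐ[k] k) (r : R) :
    TensorProduct.lift (LinearMap.mk₂ k
      (fun v c => Coalgebra.comul (R := k) (GLin.orbitHom k A x v) * ((1 : A) ⊗ₜ[k] HopfAlgebra.antipode k c))
      (fun a b c => by simp [map_add, add_mul]) (fun s a c => by simp [Algebra.smul_mul_assoc])
      (fun a b c => by simp [map_add, TensorProduct.tmul_add, mul_add])
      (fun s a c => by simp [TensorProduct.tmul_smul]))
      (HopfRep.Comod.coact (k := k) (A := A) r) = GLin.orbitHom k A x r ⊗ₜ[k] (1 : A) := by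
  let o := GLin.orbitHom k A x
  let Ψ : R ⊗[k] (A ⊗[k] A) →ₗ[k] A ⊗[k] A :=
    TensorProduct.map o.toLinearMap (LinearMap.mul' k A ∘ₗ (HopfAlgebra.antipode k).lTensor A)
  have h := LinearMap.congr_fun (HopfRep.Comod.coassoc (k := k) (A := A) (V := R)) r
  simp only [LinearMap.comp_apply, LinearEquiv.coe_coe] at h
  have hc := LinearMap.congr_fun (HopfRep.Comod.counit_comp (k := k) (A := A) (V := R)) r
  simp only [LinearMap.comp_apply, LinearMap.flip_apply, TensorProduct.mk_apply] at hc
  have e1 : ∀ w : R ⊗[k] A, TensorProduct.lift (LinearMap.mk₂ k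
      (fun v c => Coalgebra.comul (R := k) (o v) * ((1 : A) ⊗ₜ[k] HopfAlgebra.antipode k c))
      (fun a b c => by simp [map_add, add_mul]) (fun s a c => by simp [Algebra.smul_mul_assoc])
      (fun a b c => by simp [map_add, TensorProduct.tmul_add, mul_add])
      (fun s a c => by simp [TensorProduct.tmul_smul])) w =
      Ψ (TensorProduct.assoc k R A A ((HopfRep.Comod.coact (k := k) (A := A) (V := R)).rTensor A w)) := by
    intro w
    induction w using TensorProduct.induction_on with
    | zero => simp
    | add y z hy hz => simp only [map_add, hy, hz]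
    | tmul v c =>
      simp only [TensorProduct.lift.tmul, LinearMap.mk₂_apply, LinearMap.rTensor_tmul, o, comul_orbitHom]
      induction HopfRep.Comod.coact (k := k) (A := A) v using TensorProduct.induction_on with
      | zero => simp
      | add y z hy hz => simp only [map_add, TensorProduct.add_tmul, add_mul, hy, hz]
      | tmul a b => simp [Ψ, o]
  have e2 : ∀ w : R ⊗[k] A, Ψ ((Coalgebra.comul (R := k) (A := A)).lTensor R w) =
      TensorProduct.map o.toLinearMap (Algebra.linearMap k A) ((Coalgebra.counit (R := k) (A := A)).lTensor R w) := by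
    intro w
    induction w using TensorProduct.induction_on with
    | zero => simp
    | add y z hy hz => simp only [map_add, hy, hz]
    | tmul v c => simp [Ψ, HopfAlgebra.mul_antipode_lTensor_comul_apply]
  refine (e1 _).trans ?_
  rw [h, e2, hc]
  simp [o]

variable {S : Type u} [CommRing S] [Algebra k S] [HopfRep.Comod k A S] [GLin.IsCoactAlg k A S]

theorem orbitHom_comp {θ : S →ₐ[k] R} (hθ : Hoch.IsComodHom A θ.toLinearMap) (x : R →ₐ[k] k) (s : S) :
    GLin.orbitHom k A x (θ s) = GLin.orbitHom k A (x.comp θ) s := by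
  rw [orbitHom_apply_eq, orbitHom_apply_eq,
    show HopfRep.Comod.coact (k := k) (A := A) (θ s) = θ.toLinearMap.rTensor A
      (HopfRep.Comod.coact (k := k) (A := A) s) from LinearMap.congr_fun hθ s,
    ← LinearMap.rTensor_comp_apply]
  rfl

theorem isClosedOrbit_comp {θ : S →ₐ[k] R} (hθ : Hoch.IsComodHom A θ.toLinearMap) (hfin : θ.toRingHom.IsIntegral)
    (x : R →ₐ[k] k) (hx : GLin.IsClosedOrbit k A x) : GLin.IsClosedOrbit k A (x.comp θ) := by
  have he : (GLin.orbitHom k A (x.comp θ)).toRingHom = (GLin.orbitHom k A x).toRingHom.comp θ.toRingHom :=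
    RingHom.ext fun s => (orbitHom_comp hθ x s).symm
  unfold GLin.IsClosedOrbit
  rw [he, PrimeSpectrum.comap_comp, Set.range_comp]
  exact PrimeSpectrum.isClosedMap_comap_of_isIntegral θ.toRingHom hfin _ hx

variable [IsAlgClosed k] [CharZero k] [IsDomain A] [Algebra.FiniteType k A] [Algebra.FiniteType k R]
  [Algebra.FiniteType k S] [Algebra S R] [IsScalarTower k S R] [Module.Finite S R]

set_option synthInstance.maxHeartbeats 200000 in
/-- a finite equivariant map injective on an orbit does not shrink its coordinate ring -/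
theorem range_orbit_le (hθ : Hoch.IsComodHom A (IsScalarTower.toAlgHom k S R).toLinearMap)
    (x : R →ₐ[k] k) (hx : GLin.IsClosedOrbit k A x)
    (hinj : ∀ g : A →ₐ[k] k, GLin.actPt k g (x.comp (IsScalarTower.toAlgHom k S R)) =
      x.comp (IsScalarTower.toAlgHom k S R) → GLin.actPt k g x = x) (r : R) :
    ∃ s : S, GLin.orbitHom k A x (algebraMap S R s) = GLin.orbitHom k A x r := by
  classical
  set θ := IsScalarTower.toAlgHom k S R with hθdef
  set o := GLin.orbitHom k A x with ho
  set y := x.comp θ
  have hoθ : ∀ s, o (algebraMap S R s) = GLin.orbitHom k A y s := fun s => orbitHom_comp hθ x s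
  set I := RingHom.ker o with hI
  -- (1) in the fraction field
  let L := FractionRing A
  let j : A →ₐ[k] L := IsScalarTower.toAlgHom k A L
  have hj : Function.Injective j := IsFractionRing.injective A L
  let K : IntermediateField k L :=
    IntermediateField.adjoin k (((GLin.orbitHom k A y).range.map j : Subalgebra k L) : Set L)
  have hK : ∀ s, j (GLin.orbitHom k A y s) ∈ K := fun s =>
    IntermediateField.subset_adjoin k _ ⟨_, ⟨s, rfl⟩, rfl⟩
  have hint : ∀ r, _root_.IsIntegral K (j (o r)) := fun r =>
    _root_.IsIntegral.map_of_comp_eq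
      ({ toFun := fun s => ⟨j (GLin.orbitHom k A y s), hK s⟩
         map_one' := Subtype.ext (by simp)
         map_mul' := fun a b => Subtype.ext (by simp)
         map_zero' := Subtype.ext (by simp)
         map_add' := fun a b => Subtype.ext (by simp) } : S →+* K)
      (j.comp o).toRingHom (RingHom.ext fun s => by
        change j (GLin.orbitHom k A y s) = j (o (algebraMap S R s))
        rw [hoθ]) (Algebra.IsIntegral.isIntegral (R := S) r)
  let Ω := AlgebraicClosure L
  let Ω' := algebraicClosure K Ω
  have : IsAlgClosure K Ω' := algebraicClosure.isAlgClosure K Ω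
  have : Normal K Ω' := IsAlgClosure.normal K Ω'
  have hmem : ∀ r, algebraMap L Ω (j (o r)) ∈ Ω' := fun r =>
    mem_algebraicClosure_iff.2 ((hint r).isAlgebraic.algebraMap)
  let z₁ : R →+* Ω' :=
    ((algebraMap L Ω).comp (j.comp o).toRingHom).codRestrict Ω'.toSubfield.toSubring hmem
  let T := (R ⧸ I) ⊗[S] (R ⧸ I)
  have : Algebra.FiniteType S T := inferInstance
  have : Algebra.FiniteType k T := Algebra.FiniteType.trans (S := S) inferInstance inferInstance
  have : IsJacobsonRing T := isJacobsonRing_of_finiteType (A := k)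
  have hjKall : ∀ r, j (o r) ∈ K := by
    intro r
    let d : T := Ideal.Quotient.mk I r ⊗ₜ[S] 1 - 1 ⊗ₜ[S] Ideal.Quotient.mk I r
    have hd : IsNilpotent d := by
      rw [← mem_nilradical, nilradical, Ideal.radical_eq_jacobson, Ideal.jacobson, Ideal.mem_sInf]
      rintro M ⟨-, hM⟩
      let _ : Field (T ⧸ M) := Ideal.Quotient.field M
      have : Module.Finite k (T ⧸ M) := finite_of_finite_type_of_isJacobsonRing k (T ⧸ M)
      let e : k ≃ₐ[k] T ⧸ M := AlgEquiv.ofBijective (Algebra.ofId k _)
        IsAlgClosed.algebraMap_bijective_of_isIntegral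
      let w : T →ₐ[k] k := e.symm.toAlgHom.comp (Ideal.Quotient.mkₐ k M)
      let za : R →ₐ[k] k := w.comp (((Algebra.TensorProduct.includeLeft : (R ⧸ I) →ₐ[S] T).restrictScalars k).comp
        (Ideal.Quotient.mkₐ k I))
      let zb : R →ₐ[k] k := w.comp (((Algebra.TensorProduct.includeRight : (R ⧸ I) →ₐ[S] T).restrictScalars k).comp
        (Ideal.Quotient.mkₐ k I))
      have hza : RingHom.ker o ≤ RingHom.ker za := fun a ha => by
        change w ((Ideal.Quotient.mk I a) ⊗ₜ[S] 1) = 0
        rw [Ideal.Quotient.eq_zero_iff_mem.2 ha, TensorProduct.zero_tmul, map_zero]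
      have hzb : RingHom.ker o ≤ RingHom.ker zb := fun a ha => by
        change w (1 ⊗ₜ[S] (Ideal.Quotient.mk I a)) = 0
        rw [Ideal.Quotient.eq_zero_iff_mem.2 ha, TensorProduct.tmul_zero, map_zero]
      obtain ⟨g, hg⟩ := exists_point_of_closedOrbit x hx za hza
      obtain ⟨g', hg'⟩ := exists_point_of_closedOrbit x hx zb hzb
      have hab : ∀ s, za (algebraMap S R s) = zb (algebraMap S R s) := fun s => by
        change w ((algebraMap S (R ⧸ I) s) ⊗ₜ[S] 1) = w (1 ⊗ₜ[S] (algebraMap S (R ⧸ I) s))
        rw [Algebra.algebraMap_eq_smul_one, TensorProduct.smul_tmul]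
      let gi := g.comp (HopfAlgebra.antipodeAlgHom k A)
      have hy' : GLin.actPt k g' y = GLin.actPt k g y := AlgHom.ext fun s => by
        change g' (GLin.orbitHom k A y s) = g (GLin.orbitHom k A y s)
        rw [← hoθ, hg, hg', hab]
      -- the stabiliser of the image stabilises the point
      let h : A →ₐ[k] k := gi.comp (ltr g')
      have hact : ∀ {R' : Type u} [CommRing R'] [Algebra k R'] [HopfRep.Comod k A R'] [GLin.IsCoactAlg k A R']
          (p : R' →ₐ[k] k), GLin.actPt k h p = GLin.actPt k gi (GLin.actPt k g' p) := fun p =>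
        AlgHom.ext fun q => by
          change gi (ltr g' (GLin.orbitHom k A p q)) = gi (GLin.orbitHom k A (GLin.actPt k g' p) q)
          rw [orbitHom_actPt]
      have hhx := hinj h (by rw [hact, hy', actPt_antipode'])
      rw [hact] at hhx
      have hgx : GLin.actPt k g' x = GLin.actPt k g x := by
        conv_rhs => rw [← hhx, actPt_antipode]
      have : w d = 0 := by
        rw [map_sub, sub_eq_zero]
        change za r = zb r
        rw [← hg, ← hg']
        exact (DFunLike.congr_fun hgx r).symm
      have : Ideal.Quotient.mk M d = 0 := e.symm.injective (by rw [map_zero]; exact this)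
      exact Ideal.Quotient.eq_zero_iff_mem.1 this
    suffices h : ∀ σ : Ω' ≃ₐ[K] Ω', σ (z₁ r) = z₁ r by
      obtain ⟨c, hc⟩ := mem_range_of_forall_aut (z₁ r) h
      have h' : algebraMap L Ω (algebraMap K L c) = algebraMap L Ω (j (o r)) := by
        rw [← IsScalarTower.algebraMap_apply K L Ω]
        exact congrArg Subtype.val hc
      rw [← (algebraMap L Ω).injective h']
      exact c.2
    intro σ
    let z₂ : R →+* Ω' := σ.toRingEquiv.toRingHom.comp z₁
    have hker : ∀ q ∈ I, z₁ q = 0 := fun q hq => Subtype.ext (by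
      change algebraMap L Ω (j (o q)) = 0
      rw [show o q = 0 from hq, map_zero, map_zero])
    let _ : Algebra S Ω' := (z₁.comp (algebraMap S R)).toAlgebra
    let f₁ : (R ⧸ I) →ₐ[S] Ω' :=
      { Ideal.Quotient.lift I z₁ hker with
        commutes' := fun s => rfl }
    let f₂ : (R ⧸ I) →ₐ[S] Ω' :=
      { Ideal.Quotient.lift I z₂ (fun q hq => by
          change σ (z₁ q) = 0
          rw [hker q hq, map_zero]) with
        commutes' := fun s => by
          change σ (z₁ (algebraMap S R s)) = z₁ (algebraMap S R s)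
          have : z₁ (algebraMap S R s) = algebraMap K Ω' ⟨j (GLin.orbitHom k A y s), hK s⟩ := Subtype.ext (by
            change algebraMap L Ω (j (o (algebraMap S R s))) =
              algebraMap K Ω (⟨j (GLin.orbitHom k A y s), hK s⟩ : K)
            rw [IsScalarTower.algebraMap_apply K L Ω, hoθ]
            rfl)
          rw [this, AlgEquiv.commutes] }
    have h0 := (hd.map (Algebra.TensorProduct.lift f₁ f₂ fun _ _ => Commute.all _ _)).eq_zero
    simp only [d, map_sub, Algebra.TensorProduct.lift_tmul, map_one, one_mul, mul_one, sub_eq_zero] at h0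
    erw [Algebra.TensorProduct.lift_tmul, Algebra.TensorProduct.lift_tmul, map_one, map_one, one_mul, mul_one] at h0
    exact h0.symm
  -- (2) the conductor
  have hfrac : ∀ r, j (o r) ∈ K → ∃ a b : S, GLin.orbitHom k A y b ≠ 0 ∧
      GLin.orbitHom k A y b * o r = GLin.orbitHom k A y a := by
    intro r hr
    obtain ⟨a, ha, b, hb, hab⟩ := IntermediateField.mem_adjoin_iff_div.1 hr
    rw [Algebra.adjoin_eq] at ha hb
    obtain ⟨_, ⟨a, rfl⟩, rfl⟩ := ha
    obtain ⟨_, ⟨b, rfl⟩, rfl⟩ := hb
    change j (o r) = j (GLin.orbitHom k A y a) / j (GLin.orbitHom k A y b) at hab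
    by_cases hb0 : j (GLin.orbitHom k A y b) = 0
    · refine ⟨0, 1, by simp, ?_⟩
      rw [hb0, div_zero, map_eq_zero_iff _ hj] at hab
      simp [hab]
    · refine ⟨a, b, fun h => hb0 (by rw [h, map_zero]), hj ?_⟩
      rw [map_mul, hab, mul_comm, div_mul_cancel₀ _ hb0]
  obtain ⟨U, hUfin, hrU, hU⟩ := exists_finite_subcomod (k := k) (A := A) (V := R) {r}
  let N : Ideal S :=
    { carrier := {s | ∀ u ∈ U, GLin.orbitHom k A y s * o u ∈ (GLin.orbitHom k A y).range}
      zero_mem' := fun u _ => by simp
      add_mem' := fun {p q} hp hq u hu => by rw [map_add, add_mul]; exact add_mem (hp u hu) (hq u hu)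
      smul_mem' := fun c p hp u hu => by
        rw [smul_eq_mul, map_mul, mul_assoc]; exact mul_mem ⟨c, rfl⟩ (hp u hu) }
  suffices hNtop : N = ⊤ by
    have h1 : (1 : S) ∈ N := hNtop ▸ Submodule.mem_top
    obtain ⟨s, hs⟩ := h1 r (hrU (by simp))
    change GLin.orbitHom k A y s = _ at hs
    exact ⟨s, by rw [hoθ, hs, map_one, one_mul]⟩
  -- the denominators
  have hKall : ∀ u, j (o u) ∈ K := hjKall
  have hb : ∀ u : R, ∃ b : S, GLin.orbitHom k A y b ≠ 0 ∧
      GLin.orbitHom k A y b * o u ∈ (GLin.orbitHom k A y).range := fun u => by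
    obtain ⟨a, b, hb0, hab⟩ := hfrac u (hKall u)
    exact ⟨b, hb0, a, hab.symm⟩
  choose den hden0 hden using hb
  let B := Module.finBasis k U
  have hyN : RingHom.ker (GLin.orbitHom k A y) ≤ N := fun s hs u _ => by
    rw [show GLin.orbitHom k A y s = 0 from hs, zero_mul]
    exact zero_mem _
  refine eq_top_of_stable y (isClosedOrbit_comp hθ (RingHom.IsIntegral.of_finite (RingHom.finite_algebraMap.2 ‹_›)) x hx)
    N hyN ?_ (t := ∏ i, den (B i : R)) ?_ ?_
  · intro ψ s hs u hu
    have key : (GLin.orbitHom k A y).toLinearMap.rTensor A (HopfRep.Comod.coact (k := k) (A := A) s) *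
        (o u ⊗ₜ[k] (1 : A)) ∈
          LinearMap.range ((Subalgebra.toSubmodule (GLin.orbitHom k A y).range).subtype.rTensor A) := by
      rw [← orbit_antipode_identity, ← comul_orbitHom]
      obtain ⟨w, hw⟩ := hU u hu
      rw [← hw]
      clear hw
      induction w using TensorProduct.induction_on with
      | zero => simp
      | add p q hp hq => simp only [map_add, mul_add]; exact add_mem hp hq
      | tmul v c =>
        simp only [LinearMap.rTensor_tmul, TensorProduct.lift.tmul, LinearMap.mk₂_apply, Submodule.coe_subtype]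
        rw [← mul_assoc, ← Bialgebra.comul_mul]
        obtain ⟨q, hq⟩ := hs v v.2
        rw [← hq, show Coalgebra.comul (R := k) ((GLin.orbitHom k A y).toRingHom q) =
          Coalgebra.comul (R := k) (GLin.orbitHom k A y q) from rfl, comul_orbitHom]
        induction HopfRep.Comod.coact (k := k) (A := A) q using TensorProduct.induction_on with
        | zero => simp
        | add p p' hp hp' => simp only [map_add, add_mul]; exact add_mem hp hp'
        | tmul p e =>
          exact ⟨(⟨GLin.orbitHom k A y p, p, rfl⟩ : Subalgebra.toSubmodule (GLin.orbitHom k A y).range) ⊗ₜ[k]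
            (e * HopfAlgebra.antipode k c), by simp⟩
    have h := slice_mem_of_mem_range ψ _ key
    refine (congrArg (· ∈ (GLin.orbitHom k A y).range) ?_).mp h
    induction HopfRep.Comod.coact (k := k) (A := A) s using TensorProduct.induction_on with
    | zero => simp
    | tmul p e => simp [slice]
    | add p q hp hq => simp only [map_add, add_mul, hp, hq]
  · intro u hu
    have hbasis : ∀ i, GLin.orbitHom k A y (∏ i, den (B i : R)) * o (B i : R) ∈ (GLin.orbitHom k A y).range := by
      intro i
      rw [← Finset.prod_erase_mul _ _ (Finset.mem_univ i), map_mul, mul_assoc]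
      exact mul_mem ⟨_, rfl⟩ (hden _)
    rw [show u = ((⟨u, hu⟩ : U) : R) from rfl, ← B.sum_repr ⟨u, hu⟩, Submodule.coe_sum, map_sum, Finset.mul_sum]
    refine sum_mem fun i _ => ?_
    rw [Submodule.coe_smul_of_tower, map_smul, mul_smul_comm]
    exact Subalgebra.smul_mem _ (hbasis i) _
  · rw [map_prod]
    exact Finset.prod_ne_zero_iff.2 fun i _ => hden0 _

end Groth.Agent.Comod
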