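import Groth.Agent.EtStruct.FiniteLevel
import Groth.Agent.EtStruct.Core
import Mathlib.RingTheory.Flat.Localization
import Mathlib.RingTheory.RingHom.EssFiniteType

/-!
# Étale points detected on infinitesimal neighbourhoods
-/

set_option autoImplicit false
set_option linter.style.haveILetI false

universe u

open IsLocalRing

namespace Groth.Agent.Comod.LunaAlg

variable {S R : Type u} [CommRing S] [CommRing R] [Algebra S R]

/-- an ideal of the base is seen at a point where the map is étale -/
theorem exists_mul_mem_of_map_mem [Algebra.FinitePresentation S R] (m : Ideal R) [m.IsPrime]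
    [Algebra.IsEtaleAt S m] (I : Ideal S) {s : S}
    (hs : algebraMap S (Localization.AtPrime m) s ∈ I.map (algebraMap S (Localization.AtPrime m))) :
    ∃ u : S, u ∉ m.comap (algebraMap S R) ∧ u * s ∈ I := by
  let n := m.comap (algebraMap S R)
  have : m.LiesOver n := ⟨rfl⟩
  let _ := Localization.AtPrime.algebraOfLiesOver n m
  let Sn := Localization.AtPrime n
  let Rm := Localization.AtPrime m
  have : Module.Flat S Rm := EtStruct.flat_of_isEtaleAt m
  have : Module.Flat Sn Rm := (Module.flat_iff_of_isLocalization Sn n.primeCompl Rm).2 inferInstance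
  have : Module.FaithfullyFlat Sn Rm := Module.FaithfullyFlat.of_flat_of_isLocalHom
  rw [IsScalarTower.algebraMap_eq S Sn Rm, ← Ideal.map_map, RingHom.comp_apply, ← Ideal.mem_comap,
    Ideal.comap_map_eq_self_of_faithfullyFlat] at hs
  obtain ⟨u, hu, h⟩ := (IsLocalization.algebraMap_mem_map_algebraMap_iff n.primeCompl Sn I s).1 hs
  exact ⟨u, hu, h⟩

/-- unramified with trivial residue extension and injective on infinitesimal neighbourhoods: étale -/
theorem isEtaleAt_of_pow_comap [IsNoetherianRing S] [IsNoetherianRing R] [Algebra.FiniteType S R]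
    (m : Ideal R) [m.IsMaximal] [(m.comap (algebraMap S R)).IsMaximal]
    [Algebra.IsUnramifiedAt S m]
    (hres : ∀ r : R, ∃ s : S, r - algebraMap S R s ∈ m)
    (hker : ∀ (N : ℕ) (s : S), algebraMap S R s ∈ m ^ N →
      ∃ u : S, u ∉ m.comap (algebraMap S R) ∧ u * s ∈ m.comap (algebraMap S R) ^ N) :
    Algebra.IsEtaleAt S m := by
  let n := m.comap (algebraMap S R)
  have : m.LiesOver n := ⟨rfl⟩
  let _ := Localization.AtPrime.algebraOfLiesOver n m
  let Sn := Localization.AtPrime n
  let Rm := Localization.AtPrime m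
  have : Algebra.EssFiniteType S Rm := .comp S R Rm
  have : Algebra.EssFiniteType Sn Rm := Algebra.EssFiniteType.of_comp S Sn Rm
  have : Algebra.FormallyUnramified Sn Rm := Algebra.FormallyUnramified.of_restrictScalars S Sn Rm
  have hflat : Module.Flat Sn Rm := by
    refine EtStruct.flat_of_quotient_bijective (fun z => ?_) fun N => le_antisymm (fun z hz => ?_) ?_
    · obtain ⟨⟨r, v, hv⟩, rfl⟩ := IsLocalization.mk'_surjective m.primeCompl z
      obtain ⟨c, hc⟩ := Ideal.IsMaximal.exists_inv ‹m.IsMaximal› hv
      obtain ⟨a, ha, hca⟩ := hc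
      obtain ⟨s, hs⟩ := hres (r * c)
      refine ⟨algebraMap S Sn s, ?_⟩
      refine (Ideal.unit_mul_mem_iff_mem _ (IsLocalization.map_units Rm (⟨v, hv⟩ : m.primeCompl))).1 ?_
      rw [mul_sub, IsLocalization.mk'_spec', ← IsScalarTower.algebraMap_apply S Sn Rm,
        IsScalarTower.algebraMap_apply S R Rm, ← map_mul, ← map_sub, ← Localization.AtPrime.map_eq_maximalIdeal]
      refine Ideal.mem_map_of_mem _ ?_
      rw [show r - v * algebraMap S R s = v * (r * c - algebraMap S R s) + r * a by linear_combination (-r) * hca]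
      exact add_mem (m.mul_mem_left _ hs) (m.mul_mem_left _ ha)
    · obtain ⟨⟨s, v⟩, rfl⟩ := IsLocalization.mk'_surjective n.primeCompl z
      rw [Ideal.mem_comap] at hz
      have h1 : algebraMap R Rm (algebraMap S R s) ∈ maximalIdeal Rm ^ N := by
        have h2 := Ideal.mul_mem_left _ (algebraMap Sn Rm (algebraMap S Sn (v : S))) hz
        rw [← map_mul, IsLocalization.mk'_spec', ← IsScalarTower.algebraMap_apply S Sn Rm,
          IsScalarTower.algebraMap_apply S R Rm] at h2
        exact h2
      rw [← Ideal.mem_comap, ← Ideal.under_def, IsLocalization.AtPrime.under_maximalIdeal_pow m Rm] at h1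
      obtain ⟨u, hu, hus⟩ := hker N s h1
      rw [← Localization.AtPrime.map_eq_maximalIdeal, ← Ideal.map_pow, IsLocalization.mk'_mem_iff,
        IsLocalization.algebraMap_mem_map_algebraMap_iff n.primeCompl]
      exact ⟨u, hu, hus⟩
    · rw [← Ideal.map_le_iff_le_comap, Ideal.map_pow]
      exact Ideal.pow_right_mono (((local_hom_TFAE (algebraMap Sn Rm)).out 0 2 rfl rfl).mp inferInstance) N
  have : Module.Flat S Rm := Module.Flat.trans S Sn Rm
  exact EtStruct.isEtaleAt_of_isUnramifiedAt_of_flat m

end Groth.Agent.Comod.LunaAlg
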