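import Groth.Agent.Comod.LunaEtale
import Groth.Agent.Comod.Invariants

/-!
# Stable ideals meeting closed orbits
-/

set_option autoImplicit false
set_option linter.style.haveILetI false
set_option linter.unusedSectionVars false

universe u

noncomputable section

open TensorProduct

namespace Groth.Agent.Comod.LunaStable

variable {k : Type u} [Field k] [IsAlgClosed k] {A : Type u} [CommRing A] [HopfAlgebra k A] [Algebra.FiniteType k A]
  {R : Type u} [CommRing R] [Algebra k R] [Algebra.FiniteType k R] [HopfRep.Comod k A R] [GLin.IsCoactAlg k A R]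

/-- a stable ideal not vanishing on a closed orbit contains an invariant not vanishing there -/
theorem exists_fixed_mem {α : A →ₗ[k] k} (hα : IsIntegral k α) (x : R →ₐ[k] k) (hx : GLin.IsClosedOrbit k A x)
    {N : Ideal R} (hN : HopfRep.IsSubcomod (k := k) (A := A) (N.restrictScalars k)) {t : R} (ht : t ∈ N)
    (ht0 : x t ≠ 0) : ∃ w ∈ N, w ∈ HopfRep.fixedPts k A R ∧ x w ≠ 0 := by
  set o := GLin.orbitHom k A x with ho
  have hxo : ∀ r, o r = 0 → x r = 0 := fun r hr => by
    rw [← counit_orbitHom (A := A) x, ← ho, hr, map_zero]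
  have hI := isSubcomod_ker_orbit (A := A) x
  have htop : N ⊔ RingHom.ker o = ⊤ := by
    refine eq_top_of_stable x hx _ le_sup_right (fun ψ r hr => ?_) (Submodule.mem_sup_left ht)
      fun h => ht0 (hxo t h)
    obtain ⟨a, ha, b, hb, rfl⟩ := Submodule.mem_sup.1 hr
    rw [map_add, map_add]
    exact Submodule.add_mem_sup (slice_mem_of_mem_range ψ _ (hN a ha)) (slice_mem_of_mem_range ψ _ (hI b hb))
  obtain ⟨a, ha, b, hb, hab⟩ := Submodule.mem_sup.1 (htop ▸ Submodule.mem_top : (1 : R) ∈ N ⊔ RingHom.ker o)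
  refine ⟨avg α a, avg_mem_of_isSubcomod α hN (show a ∈ N.restrictScalars k from ha), avg_mem hα a, ?_⟩
  have h1 : avg α (1 : R) = 1 := avg_eq_self hα (GLin.IsCoactAlg.coact_one (k := k) (A := A) (R := R))
  have hb' : x (avg α b) = 0 :=
    hxo _ (avg_mem_of_isSubcomod α hI (show b ∈ (RingHom.ker o).restrictScalars k from hb))
  intro h0
  have h2 := congrArg (fun r => x (avg α r)) hab
  simp only [map_add, h0, hb', h1, map_one, add_zero, zero_ne_one] at h2

/-- colon ideals of stable ideals are stable -/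
theorem isSubcomod_colon {I J N : Ideal R} (hI : HopfRep.IsSubcomod (k := k) (A := A) (I.restrictScalars k))
    (hJ : HopfRep.IsSubcomod (k := k) (A := A) (J.restrictScalars k)) (hN : ∀ r, r ∈ N ↔ ∀ y ∈ I, r * y ∈ J) :
    HopfRep.IsSubcomod (k := k) (A := A) (N.restrictScalars k) := by
  refine isSubcomod_of_slice N fun ψ r hr => (hN _).2 fun y hy => ?_
  have h := slice_mem_of_mem_range ψ _ (colon_coact hI hJ ((hN r).1 hr) hy)
  rwa [slice_mul_tmul_one] at h

/-- membership of an invariant in an extended ideal of invariants, seen near a closed orbit -/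
theorem exists_mul_mem {α : A →ₗ[k] k} (hα : IsIntegral k α) (x : R →ₐ[k] k) (hx : GLin.IsClosedOrbit k A x)
    {R₀ : Type u} [CommRing R₀] [Algebra k R₀] [Algebra R₀ R] [IsScalarTower k R₀ R]
    (hR₀i : Function.Injective (algebraMap R₀ R)) (hR₀ : (IsScalarTower.toAlgHom k R₀ R).range = GLin.invariants k A R)
    (a : Ideal R₀) {c : R₀} {u : R} (hu : x u ≠ 0) (huc : u * algebraMap R₀ R c ∈ a.map (algebraMap R₀ R)) :
    ∃ w : R₀, x (algebraMap R₀ R w) ≠ 0 ∧ w * c ∈ a := by
  classical
  have hmem : ∀ e : R₀, algebraMap R₀ R e ∈ HopfRep.fixedPts k A R := fun e =>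
    (hR₀ ▸ (⟨e, rfl⟩ : algebraMap R₀ R e ∈ (IsScalarTower.toAlgHom k R₀ R).range) :
      algebraMap R₀ R e ∈ GLin.invariants k A R)
  have hlift : ∀ r ∈ HopfRep.fixedPts k A R, ∃ e : R₀, algebraMap R₀ R e = r := fun r hr => by
    have : r ∈ (IsScalarTower.toAlgHom k R₀ R).range := by rw [hR₀]; exact hr
    exact this
  set K := a.map (algebraMap R₀ R) with hKdef
  have hK : HopfRep.IsSubcomod (k := k) (A := A) (K.restrictScalars k) :=
    isSubcomod_span_fixed (by rintro _ ⟨e, -, rfl⟩; exact hmem e)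
  have hcontr : ∀ z ∈ K, ∀ r : R, ∃ e ∈ a, algebraMap R₀ R e = avg α (r * z) := by
    intro z hz
    induction hz using Submodule.span_induction with
    | mem b hb =>
      obtain ⟨e, he, rfl⟩ := hb
      intro r
      obtain ⟨e', he'⟩ := hlift _ (avg_mem hα r)
      exact ⟨e' * e, a.mul_mem_left _ he, by rw [map_mul, he', avg_mul_fixed α _ (hmem e)]⟩
    | zero => exact fun r => ⟨0, a.zero_mem, by simp⟩
    | add b b' _ _ hb hb' =>
      intro r
      obtain ⟨e, he, h⟩ := hb r
      obtain ⟨e', he', h'⟩ := hb' r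
      exact ⟨e + e', add_mem he he', by rw [map_add, mul_add, map_add, h, h']⟩
    | smul s b _ hb =>
      intro r
      obtain ⟨e, he, h⟩ := hb (r * s)
      exact ⟨e, he, by rw [h, smul_eq_mul, mul_assoc]⟩
  let N : Ideal R :=
    { carrier := {r | r * algebraMap R₀ R c ∈ K}
      zero_mem' := by simp
      add_mem' := fun {p q} hp hq => by
        change (p + q) * _ ∈ K
        rw [add_mul]
        exact K.add_mem hp hq
      smul_mem' := fun s p hp => by
        change s • p * _ ∈ K
        rw [smul_eq_mul, mul_assoc]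
        exact K.mul_mem_left _ hp }
  have hN : HopfRep.IsSubcomod (k := k) (A := A) (N.restrictScalars k) := by
    refine isSubcomod_of_slice N fun ψ r (hr : r * algebraMap R₀ R c ∈ K) => ?_
    change slice ψ _ * algebraMap R₀ R c ∈ K
    rw [← slice_mul_tmul_one, ← show HopfRep.Comod.coact (k := k) (A := A) (algebraMap R₀ R c) =
      algebraMap R₀ R c ⊗ₜ[k] (1 : A) from hmem c, ← GLin.IsCoactAlg.coact_mul]
    exact slice_mem_of_mem_range ψ _ (hK _ hr)
  obtain ⟨v, hv, hvfix, hv0⟩ := exists_fixed_mem hα x hx hN (t := u) huc hu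
  obtain ⟨w, rfl⟩ := hlift v hvfix
  refine ⟨w, hv0, ?_⟩
  obtain ⟨e, he, h⟩ := hcontr _ (show algebraMap R₀ R w * algebraMap R₀ R c ∈ K from hv) 1
  rw [one_mul, ← map_mul, avg_eq_self hα (hmem _)] at h
  exact hR₀i h ▸ he

end Groth.Agent.Comod.LunaStable
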