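import Groth.Agent.Comod.LunaStable
import Mathlib.RingTheory.TensorProduct.Maps

/-!
# The coaction on the fibre product over the quotient
-/

set_option autoImplicit false
set_option linter.style.haveILetI false
set_option linter.unusedSectionVars false

universe u

noncomputable section

open TensorProduct

namespace Groth.Agent.Comod.LunaTensor

variable {k : Type u} [Field k] {A : Type u} [CommRing A] [HopfAlgebra k A]

theorem isHopfMod_of_equivariant {S R : Type u} [CommRing S] [CommRing R] [Algebra k S] [Algebra k R]
    [HopfRep.Comod k A S] [HopfRep.Comod k A R] [GLin.IsCoactAlg k A S] [GLin.IsCoactAlg k A R]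
    [Algebra S R] [IsScalarTower k S R]
    (hθ : Hoch.IsComodHom A (IsScalarTower.toAlgHom k S R).toLinearMap) :
    TameAct.IsHopfMod k A S R := by
  refine ⟨fun b m => ?_⟩
  rw [Algebra.smul_def, GLin.IsCoactAlg.coact_mul,
    show HopfRep.Comod.coact (k := k) (A := A) (algebraMap S R b) =
      (IsScalarTower.toAlgHom k S R).toLinearMap.rTensor A (HopfRep.Comod.coact (k := k) (A := A) b) from
        LinearMap.congr_fun hθ b]
  induction HopfRep.Comod.coact (k := k) (A := A) b using TensorProduct.induction_on with
  | zero => simp
  | add p q hp hq => simp only [map_add, LinearMap.add_apply, add_mul, hp, hq]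
  | tmul p a =>
    induction HopfRep.Comod.coact (k := k) (A := A) m using TensorProduct.induction_on with
    | zero => simp
    | add y z hy hz => simp only [map_add, mul_add, hy, hz]
    | tmul y c => simp [Algebra.smul_def]

variable {S : Type u} [CommRing S] [Algebra k S] [HopfRep.Comod k A S] [GLin.IsCoactAlg k A S]
  {S₀ : Type u} [CommRing S₀] [Algebra k S₀] [Algebra S₀ S] [IsScalarTower k S₀ S]
  {R₀ : Type u} [CommRing R₀] [Algebra k R₀] [Algebra S₀ R₀] [IsScalarTower k S₀ R₀]

set_option maxHeartbeats 800000 in
theorem exists_tensorComod (hS₀ : ∀ c : S₀, algebraMap S₀ S c ∈ HopfRep.fixedPts k A S) :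
    ∃ c : HopfRep.Comod k A (S ⊗[S₀] R₀), @GLin.IsCoactAlg k _ A _ _ (S ⊗[S₀] R₀) _ _ c ∧
      (∀ s : S, c.coact (s ⊗ₜ[S₀] (1 : R₀)) =
        (IsScalarTower.toAlgHom k S (S ⊗[S₀] R₀)).toLinearMap.rTensor A (HopfRep.Comod.coact (k := k) (A := A) s)) ∧
      ∀ r : R₀, c.coact ((1 : S) ⊗ₜ[S₀] r) = ((1 : S) ⊗ₜ[S₀] r) ⊗ₜ[k] (1 : A) := by
  let T := S ⊗[S₀] R₀
  let ι : S →ₐ[k] T := IsScalarTower.toAlgHom k S T
  let μ : S →ₐ[k] T ⊗[k] A :=
    (Algebra.TensorProduct.map ι (AlgHom.id k A)).comp (GLin.coactAlgHom k A S)
  have hι : ∀ s, ι s = s ⊗ₜ[S₀] (1 : R₀) := fun s => rfl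
  let f : S →ₐ[S₀] T ⊗[k] A :=
    { μ.toRingHom with
      commutes' := fun c => by
        change μ (algebraMap S₀ S c) = _
        simp only [μ, AlgHom.comp_apply, GLin.coactAlgHom_apply,
          show HopfRep.Comod.coact (k := k) (A := A) (algebraMap S₀ S c) =
            algebraMap S₀ S c ⊗ₜ[k] (1 : A) from hS₀ c, Algebra.TensorProduct.map_tmul, AlgHom.id_apply]
        rfl }
  let g : R₀ →ₐ[S₀] T ⊗[k] A :=
    (Algebra.TensorProduct.includeLeft : T →ₐ[S₀] T ⊗[k] A).comp
      (Algebra.TensorProduct.includeRight : R₀ →ₐ[S₀] T)
  let F : T →ₐ[k] T ⊗[k] A := (Algebra.TensorProduct.lift f g fun _ _ => Commute.all _ _).restrictScalars k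
  have hFl : ∀ s : S, F (s ⊗ₜ[S₀] (1 : R₀)) = ι.toLinearMap.rTensor A (HopfRep.Comod.coact (k := k) (A := A) s) := by
    intro s
    refine (Algebra.TensorProduct.lift_tmul (f := f) (g := g) (fun _ _ => Commute.all _ _) _ _).trans ?_
    rw [map_one, mul_one]
    change μ s = _
    simp only [μ, AlgHom.comp_apply, GLin.coactAlgHom_apply]
    induction HopfRep.Comod.coact (k := k) (A := A) s using TensorProduct.induction_on with
    | zero => simp
    | add p q hp hq => simp only [map_add, hp, hq]
    | tmul p a => simp
  have hFr : ∀ r : R₀, F ((1 : S) ⊗ₜ[S₀] r) = ((1 : S) ⊗ₜ[S₀] r) ⊗ₜ[k] (1 : A) := by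
    intro r
    refine (Algebra.TensorProduct.lift_tmul (f := f) (g := g) (fun _ _ => Commute.all _ _) _ _).trans ?_
    rw [map_one, one_mul]
    rfl
  have hmul : ∀ (s : S) (r : R₀), s ⊗ₜ[S₀] r = (s ⊗ₜ[S₀] (1 : R₀)) * ((1 : S) ⊗ₜ[S₀] r) := fun s r => by
    simp
  let c : HopfRep.Comod k A T :=
    { coact := F.toLinearMap
      coassoc := by
        let L : T →ₐ[k] T ⊗[k] (A ⊗[k] A) := ((Algebra.TensorProduct.assoc k k k T A A).toAlgHom.comp
            (Algebra.TensorProduct.map F (AlgHom.id k A))).comp F
        let M : T →ₐ[k] T ⊗[k] (A ⊗[k] A) :=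
          (Algebra.TensorProduct.map (AlgHom.id k T) (Bialgebra.comulAlgHom k A)).comp F
        have key : L = M := by
          refine AlgHom.ext fun z => ?_
          induction z using TensorProduct.induction_on with
          | zero => simp
          | add p q hp hq => simp only [map_add, hp, hq]
          | tmul s r =>
            rw [hmul, map_mul, map_mul]
            congr 1
            · simp only [L, M, AlgHom.comp_apply, hFl]
              have h := congrArg (ι.toLinearMap.rTensor (A ⊗[k] A))
                (LinearMap.congr_fun (HopfRep.Comod.coassoc (k := k) (A := A) (V := S)) s)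
              simp only [LinearMap.comp_apply, LinearEquiv.coe_coe] at h
              refine Eq.trans ?_ (h.trans ?_)
              · induction HopfRep.Comod.coact (k := k) (A := A) s using TensorProduct.induction_on with
                | zero => simp
                | add p q hp hq => simp only [map_add, hp, hq]
                | tmul p a =>
                  simp only [LinearMap.rTensor_tmul, Algebra.TensorProduct.map_tmul, AlgHom.id_apply,
                    AlgHom.toLinearMap_apply, hι, hFl]
                  induction HopfRep.Comod.coact (k := k) (A := A) p using TensorProduct.induction_on with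
                  | zero => simp
                  | add y z hy hz => simp only [map_add, TensorProduct.add_tmul, hy, hz]
                  | tmul y b => simp
              · induction HopfRep.Comod.coact (k := k) (A := A) s using TensorProduct.induction_on with
                | zero => simp
                | add p q hp hq => simp only [map_add, hp, hq]
                | tmul p a => simp
            · simp only [L, M, AlgHom.comp_apply, hFr, Algebra.TensorProduct.map_tmul, AlgHom.id_apply, map_one]
              simp [Algebra.TensorProduct.one_def]
        exact LinearMap.ext fun z => AlgHom.congr_fun key z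
      counit_comp := by
        let L : T →ₐ[k] T ⊗[k] k :=
          (Algebra.TensorProduct.map (AlgHom.id k T) (Bialgebra.counitAlgHom k A)).comp F
        let M : T →ₐ[k] T ⊗[k] k := Algebra.TensorProduct.includeLeft
        have key : L = M := by
          refine AlgHom.ext fun z => ?_
          induction z using TensorProduct.induction_on with
          | zero => simp
          | add p q hp hq => simp only [map_add, hp, hq]
          | tmul s r =>
            rw [hmul, map_mul, map_mul]
            congr 1
            · simp only [L, M, AlgHom.comp_apply, hFl, Algebra.TensorProduct.includeLeft_apply]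
              have h := congrArg (ι.toLinearMap.rTensor k)
                (LinearMap.congr_fun (HopfRep.Comod.counit_comp (k := k) (A := A) (V := S)) s)
              simp only [LinearMap.comp_apply, LinearMap.flip_apply, TensorProduct.mk_apply,
                LinearMap.rTensor_tmul, AlgHom.toLinearMap_apply, hι] at h
              refine Eq.trans ?_ h
              induction HopfRep.Comod.coact (k := k) (A := A) s using TensorProduct.induction_on with
              | zero => simp
              | add p q hp hq => simp only [map_add, hp, hq]
              | tmul p a => simp [hι]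
            · simp only [L, M, AlgHom.comp_apply, hFr, Algebra.TensorProduct.map_tmul, AlgHom.id_apply, map_one,
                Algebra.TensorProduct.includeLeft_apply]
        exact LinearMap.ext fun z => AlgHom.congr_fun key z }
  exact ⟨c, @GLin.IsCoactAlg.mk k _ A _ _ T _ _ c (map_one F) (map_mul F), hFl, hFr⟩

end Groth.Agent.Comod.LunaTensor
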