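import Groth.Agent.InvQLib.Dim
import Groth.Agent.Comod.Luna
import Mathlib.RingTheory.Spectrum.Prime.Chevalley
import Mathlib.RingTheory.Ideal.GoingUp

/-!
# Closed orbits can be detected on rational points; finite maps
-/

universe u

noncomputable section

open TensorProduct

namespace Groth.Agent.Comod

open InvQLib (move orbitIdeal)

variable {k : Type u} [Field k] [IsAlgClosed k] {A : Type u} [CommRing A] [HopfAlgebra k A] [Algebra.FiniteType k A]
  {R : Type u} [CommRing R] [Algebra k R] [HopfRep.Comod k A R] [GLin.IsCoactAlg k A R] [Algebra.FiniteType k R]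

/-- an orbit containing all rational points of its closure is closed -/
theorem isClosedOrbit_of_points (x : R →ₐ[k] k)
    (h : ∀ z : R →ₐ[k] k, RingHom.ker (GLin.orbitHom k A x) ≤ RingHom.ker z → ∃ g : A →ₐ[k] k, z = move g x) :
    GLin.IsClosedOrbit k A x := by
  classical
  set o := GLin.orbitHom k A x
  have : IsNoetherianRing R := Algebra.FiniteType.isNoetherianRing k R
  have : IsJacobsonRing R := isJacobsonRing_of_finiteType (A := k)
  let _ : Algebra R A := o.toRingHom.toAlgebra
  have : IsScalarTower k R A := IsScalarTower.of_algebraMap_eq fun c => (o.commutes c).symm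
  have : Algebra.FiniteType R A := Algebra.FiniteType.of_restrictScalars_finiteType k R A
  have hfp : o.toRingHom.FinitePresentation :=
    RingHom.finitePresentation_algebraMap.2 (Algebra.FinitePresentation.of_finiteType.1 inferInstance)
  have hc : Topology.IsConstructible (PrimeSpectrum.zeroLocus (RingHom.ker o : Set R) \ Set.range (PrimeSpectrum.comap o.toRingHom)) := by
    refine Topology.IsConstructible.sdiff ?_ (PrimeSpectrum.isConstructible_range_comap hfp)
    obtain ⟨s, hs⟩ := (IsNoetherian.noetherian (RingHom.ker o) : Submodule.FG _)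
    rw [← hs, PrimeSpectrum.zeroLocus_span, ← Topology.isConstructible_compl]
    exact (PrimeSpectrum.isRetrocompact_zeroLocus_compl s.finite_toSet).isConstructible
      (PrimeSpectrum.isClosed_zeroLocus _).isOpen_compl
  obtain ⟨D, hD⟩ := PrimeSpectrum.exists_constructibleSetData_iff.2 hc
  have hpts : ∀ P : PrimeSpectrum R, P.asIdeal.IsMaximal → RingHom.ker o ≤ P.asIdeal →
      P ∈ Set.range (PrimeSpectrum.comap o.toRingHom) := by
    intro P hP hle
    let _ : Field (R ⧸ P.asIdeal) := Ideal.Quotient.field P.asIdeal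
    have : Module.Finite k (R ⧸ P.asIdeal) := finite_of_finite_type_of_isJacobsonRing k (R ⧸ P.asIdeal)
    let e : k ≃ₐ[k] R ⧸ P.asIdeal := AlgEquiv.ofBijective (Algebra.ofId k _)
      IsAlgClosed.algebraMap_bijective_of_isIntegral
    let z : R →ₐ[k] k := e.symm.toAlgHom.comp (Ideal.Quotient.mkₐ k P.asIdeal)
    have hz : ∀ r, z r = 0 ↔ r ∈ P.asIdeal := fun r => by
      change e.symm (Ideal.Quotient.mk P.asIdeal r) = 0 ↔ _
      rw [map_eq_zero_iff _ e.symm.injective, Ideal.Quotient.eq_zero_iff_mem]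
    obtain ⟨g, hg⟩ := h z fun r hr => (hz r).2 (hle hr)
    refine ⟨⟨RingHom.ker g, RingHom.ker_isPrime g⟩, PrimeSpectrum.ext (Ideal.ext fun r => ?_)⟩
    rw [← hz, hg]
    rfl
  have hempty : PrimeSpectrum.zeroLocus (RingHom.ker o : Set R) \ Set.range (PrimeSpectrum.comap o.toRingHom) = ∅ := by
    rw [← hD]
    by_contra hne
    obtain ⟨P, hP⟩ := Set.nonempty_iff_ne_empty.2 hne
    obtain ⟨C, hC, hPg, hPf⟩ : ∃ C ∈ D, (∀ i, C.g i ∈ P.asIdeal) ∧ C.f ∉ P.asIdeal := by
      simp only [PrimeSpectrum.ConstructibleSetData.toSet, Set.mem_iUnion, PrimeSpectrum.BasicConstructibleSetData.toSet,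
        Set.mem_sdiff, PrimeSpectrum.mem_zeroLocus, Set.range_subset_iff, Set.singleton_subset_iff, SetLike.mem_coe] at hP
      obtain ⟨C, hC, hg, hf⟩ := hP
      exact ⟨C, hC, hg, hf⟩
    obtain ⟨M, hPM, hM, hfM⟩ : ∃ M : Ideal R, P.asIdeal ≤ M ∧ M.IsMaximal ∧ C.f ∉ M := by
      by_contra hc'
      push Not at hc'
      refine hPf ?_
      rw [← IsJacobsonRing.out (inferInstance) P.isPrime.isRadical, Ideal.jacobson, Ideal.mem_sInf]
      rintro M ⟨hle, hM⟩
      exact hc' M hle hM
    have hmem : (⟨M, hM.isPrime⟩ : PrimeSpectrum R) ∈ D.toSet := by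
      simp only [PrimeSpectrum.ConstructibleSetData.toSet, Set.mem_iUnion, PrimeSpectrum.BasicConstructibleSetData.toSet,
        Set.mem_sdiff, PrimeSpectrum.mem_zeroLocus, Set.range_subset_iff, Set.singleton_subset_iff, SetLike.mem_coe]
      exact ⟨C, hC, fun i => hPM (hPg i), hfM⟩
    rw [hD] at hmem
    exact hmem.2 (hpts _ hM hmem.1)
  have hr : Set.range (PrimeSpectrum.comap o.toRingHom) = PrimeSpectrum.zeroLocus (RingHom.ker o : Set R) := by
    refine Set.Subset.antisymm ?_ (Set.sdiff_eq_empty.1 hempty)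
    rintro _ ⟨p, rfl⟩ r hr
    change o r ∈ p.asIdeal
    rw [show o r = 0 from hr]
    exact p.asIdeal.zero_mem
  change IsClosed (Set.range (PrimeSpectrum.comap o.toRingHom))
  rw [hr]
  exact PrimeSpectrum.isClosed_zeroLocus _

/-- the automorphism of functions given by a point of the group -/
def actAlg (g : A →ₐ[k] k) : R →ₐ[k] R :=
  (Algebra.TensorProduct.rid k k R).toAlgHom.comp
    ((Algebra.TensorProduct.map (AlgHom.id k R) g).comp (GLin.coactAlgHom k A R))

omit [IsAlgClosed k] [Algebra.FiniteType k A] [Algebra.FiniteType k R] in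
theorem point_actAlg (g : A →ₐ[k] k) (x : R →ₐ[k] k) (r : R) : x (actAlg g r) = move g x r := by
  change x (Algebra.TensorProduct.rid k k R (Algebra.TensorProduct.map (AlgHom.id k R) g
    (HopfRep.Comod.coact (k := k) (A := A) r))) = g (GLin.orbitHom k A x r)
  rw [orbitHom_apply_eq]
  induction HopfRep.Comod.coact (k := k) (A := A) r using TensorProduct.induction_on with
  | zero => simp
  | tmul p q => simp [mul_comm]
  | add y z hy hz => simp only [map_add, hy, hz]

theorem mem_orbitIdeal {x : R →ₐ[k] k} {r : R} :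
    r ∈ orbitIdeal k A x ↔ ∀ g : A →ₐ[k] k, move g x r = 0 := by
  rw [InvQLib.mem_orbitIdeal_iff]
  exact forall_congr' fun g => by rw [InvQLib.move_apply]

theorem actAlg_mem (g : A →ₐ[k] k) {x : R →ₐ[k] k} {r : R} (hr : r ∈ orbitIdeal k A x) :
    actAlg g r ∈ orbitIdeal k A x := by
  refine mem_orbitIdeal.2 fun g' => ?_
  rw [point_actAlg, InvQLib.move_move]
  exact mem_orbitIdeal.1 hr _

theorem actAlg_eq_act (g : A →ₐ[k] k) (r : R) : actAlg g r = HopfRep.Comod.act k A R g r := by
  rw [InvQLib.act_eq_contract, contract_apply]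
  change Algebra.TensorProduct.rid k k R (Algebra.TensorProduct.map (AlgHom.id k R) g
    (HopfRep.Comod.coact (k := k) (A := A) r)) = _
  induction HopfRep.Comod.coact (k := k) (A := A) r using TensorProduct.induction_on with
  | zero => simp
  | tmul p q => simp [slice]
  | add y z hy hz => simp only [map_add, hy, hz]

theorem actAlg_pinv (g : A →ₐ[k] k) (r : R) : actAlg g (actAlg (InvQLib.pinv g) r) = r := by
  rw [actAlg_eq_act, actAlg_eq_act, InvQLib.act_act, InvQLib.pmul_pinv_self, InvQLib.act_eq_contract]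
  exact contract_counit r

theorem pinv_pinv (g : A →ₐ[k] k) : InvQLib.pinv (InvQLib.pinv g) = g :=
  AlgHom.ext fun a => by simp [InvQLib.pinv, antipode_invol]

theorem comap_actAlg_minimal (g : A →ₐ[k] k) {x : R →ₐ[k] k} {q : Ideal R}
    (hq : q ∈ (orbitIdeal k A x).minimalPrimes) :
    q.comap (actAlg (R := R) g) ∈ (orbitIdeal k A x).minimalPrimes := by
  refine ⟨⟨Ideal.IsPrime.comap (hK := hq.1.1) _, fun r hr => hq.1.2 (actAlg_mem g hr)⟩, fun q' hq' hle => ?_⟩
  intro r hr
  have h := hq.2 (y := q'.comap (actAlg (R := R) (InvQLib.pinv g)))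
    ⟨Ideal.IsPrime.comap (hK := hq'.1) _, fun r hr => hq'.2 (actAlg_mem _ hr)⟩ (fun r hr => by
      have := hle hr
      rw [Ideal.mem_comap, actAlg_pinv] at this
      exact this) hr
  rw [Ideal.mem_comap] at h
  have e := actAlg_pinv (InvQLib.pinv g) r
  rw [pinv_pinv] at e
  rwa [e] at h

/-- minimal primes of an orbit are permuted transitively by the group -/
theorem exists_actAlg_le (x : R →ₐ[k] k) {p q : Ideal R} (hp : p ∈ (orbitIdeal k A x).minimalPrimes)
    (hq : q ∈ (orbitIdeal k A x).minimalPrimes) :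
    ∃ g : A →ₐ[k] k, p = q.comap (actAlg (R := R) g) := by
  classical
  have : IsNoetherianRing R := Algebra.FiniteType.isNoetherianRing k R
  have hfin := Ideal.finite_minimalPrimes_of_isNoetherianRing R (orbitIdeal k A x)
  obtain ⟨f, hfo, hfp⟩ : ∃ f : R, (∀ Q ∈ (orbitIdeal k A x).minimalPrimes, Q ≠ p → f ∈ Q) ∧ f ∉ p := by
    obtain ⟨f, hf, hfp⟩ : ∃ f ∈ (hfin.toFinset.erase p).inf id, f ∉ p := by
      refine Set.not_subset.1 fun hle => ?_
      obtain ⟨Q, hQ, hQp⟩ := (Ideal.IsPrime.inf_le' hp.1.1).1 hle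
      have hQm := hfin.mem_toFinset.1 (Finset.mem_erase.1 hQ).2
      exact (Finset.mem_erase.1 hQ).1 (le_antisymm hQp (hp.2 hQm.1 hQp))
    exact ⟨f, fun Q hQ hne => Finset.inf_le (f := id) (Finset.mem_erase.2 ⟨hne, hfin.mem_toFinset.2 hQ⟩) hf, hfp⟩
  -- points of `p` off the other components
  obtain ⟨g, hg, hgf⟩ := InvQLib.exists_move_mem x hp f hfp
  obtain ⟨g', hg', -⟩ := InvQLib.exists_move_mem x hq 1 fun h => hq.1.1.ne_top ((Ideal.eq_top_iff_one _).2 h)
  refine ⟨InvQLib.pmul (InvQLib.pinv g') g, ?_⟩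
  set τ := actAlg (R := R) (InvQLib.pmul (InvQLib.pinv g') g) with hτ
  have hprime : (q.comap τ).IsPrime := Ideal.IsPrime.comap (hK := hq.1.1) τ
  obtain ⟨Q, hQ, hQle⟩ := Ideal.exists_minimalPrimes_le (I := orbitIdeal k A x) (J := q.comap τ)
    fun r hr => hq.1.2 (actAlg_mem _ hr)
  suffices hQp : Q = p by
    subst hQp
    exact le_antisymm hQle ((comap_actAlg_minimal _ hq).2 hQ.1 hQle)
  by_contra hne
  refine hgf ?_
  have h0 : move g' x (τ f) = 0 := hg' (hQle (hfo Q hQ hne))
  have e : InvQLib.pmul g' (InvQLib.pmul (InvQLib.pinv g') g) = g := by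
    unfold InvQLib.pmul InvQLib.pinv
    rw [WithConv.toConv_ofConv, ← mul_assoc, conv_comp_antipode, one_mul]
  rw [hτ, point_actAlg, InvQLib.move_move, e] at h0
  exact h0

variable {S : Type u} [CommRing S] [Algebra k S] [HopfRep.Comod k A S] [GLin.IsCoactAlg k A S] [Algebra.FiniteType k S]
  [Algebra S R] [IsScalarTower k S R] [Module.Finite S R]

omit [IsAlgClosed k] [Algebra.FiniteType k A] [Algebra.FiniteType k R] [Algebra.FiniteType k S] [Module.Finite S R] in
theorem comap_orbitIdeal (hθ : Hoch.IsComodHom A (IsScalarTower.toAlgHom k S R).toLinearMap) (x : R →ₐ[k] k) :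
    (orbitIdeal k A x).comap (algebraMap S R) = orbitIdeal k A (x.comp (IsScalarTower.toAlgHom k S R)) := by
  unfold InvQLib.orbitIdeal
  rw [Ideal.comap_radical]
  congr 1
  refine Ideal.ext fun s => ?_
  rw [Ideal.mem_comap, RingHom.mem_ker, RingHom.mem_ker, ← orbitHom_comp hθ]
  rfl

omit [IsAlgClosed k] [Algebra.FiniteType k A] [Algebra.FiniteType k R] [Algebra.FiniteType k S] [Module.Finite S R] in
theorem actAlg_algebraMap (hθ : Hoch.IsComodHom A (IsScalarTower.toAlgHom k S R).toLinearMap) (g : A →ₐ[k] k) (s : S) :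
    actAlg g (algebraMap S R s) = algebraMap S R (actAlg g s) := by
  change Algebra.TensorProduct.rid k k R (Algebra.TensorProduct.map (AlgHom.id k R) g
    (HopfRep.Comod.coact (k := k) (A := A) (algebraMap S R s))) =
      algebraMap S R (Algebra.TensorProduct.rid k k S (Algebra.TensorProduct.map (AlgHom.id k S) g
        (HopfRep.Comod.coact (k := k) (A := A) s)))
  rw [show HopfRep.Comod.coact (k := k) (A := A) (algebraMap S R s) =
    (IsScalarTower.toAlgHom k S R).toLinearMap.rTensor A (HopfRep.Comod.coact (k := k) (A := A) s) from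
      LinearMap.congr_fun hθ s]
  induction HopfRep.Comod.coact (k := k) (A := A) s using TensorProduct.induction_on with
  | zero => simp
  | tmul p e => simp [Algebra.smul_def, ← IsScalarTower.algebraMap_apply k S R]
  | add y z hy hz => simp only [map_add, hy, hz]

/-- contractions of components of an orbit are components of the image orbit -/
theorem comap_mem_minimalPrimes (hθ : Hoch.IsComodHom A (IsScalarTower.toAlgHom k S R).toLinearMap)
    (x : R →ₐ[k] k) {q : Ideal R} (hq : q ∈ (orbitIdeal k A x).minimalPrimes) :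
    q.comap (algebraMap S R) ∈ (orbitIdeal k A (x.comp (IsScalarTower.toAlgHom k S R))).minimalPrimes := by
  set y := x.comp (IsScalarTower.toAlgHom k S R)
  have hle : orbitIdeal k A y ≤ q.comap (algebraMap S R) := by
    rw [← comap_orbitIdeal hθ]
    exact Ideal.comap_mono hq.1.2
  refine ⟨⟨Ideal.IsPrime.comap (hK := hq.1.1) _, hle⟩, fun Q hQ hQle => ?_⟩
  obtain ⟨Q₀, hQ₀, hQ₀le⟩ := @Ideal.exists_minimalPrimes_le _ _ (orbitIdeal k A y) Q hQ.1 hQ.2
  have hQ₀' : Q₀ ∈ ((orbitIdeal k A x).comap (algebraMap S R)).minimalPrimes := by rwa [comap_orbitIdeal hθ]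
  obtain ⟨p, hp, hpQ⟩ := Ideal.exists_minimalPrimes_comap_eq (algebraMap S R) Q₀ hQ₀'
  obtain ⟨g, hg⟩ := exists_actAlg_le x hp hq
  have hQS : Q₀ = (q.comap (algebraMap S R)).comap (actAlg (R := S) g) := by
    refine Ideal.ext fun s => ?_
    rw [← hpQ, hg]
    change actAlg g (algebraMap S R s) ∈ q ↔ algebraMap S R (actAlg g s) ∈ q
    rw [actAlg_algebraMap hθ]
  have hmin : q.comap (algebraMap S R) ∈ (orbitIdeal k A y).minimalPrimes := by
    have h := comap_actAlg_minimal (InvQLib.pinv g) hQ₀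
    have e : Q₀.comap (actAlg (R := S) (InvQLib.pinv g)) = q.comap (algebraMap S R) := by
      refine Ideal.ext fun s => ?_
      rw [hQS, Ideal.mem_comap, Ideal.mem_comap, actAlg_pinv]
    rwa [e] at h
  exact hmin.2 hQ hQle

/-- a point of a fibre in an orbit closure lies on the orbit when the image orbit is closed -/
theorem isClosedOrbit_of_comp (hθ : Hoch.IsComodHom A (IsScalarTower.toAlgHom k S R).toLinearMap)
    (x : R →ₐ[k] k) (hy : GLin.IsClosedOrbit k A (x.comp (IsScalarTower.toAlgHom k S R))) :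
    GLin.IsClosedOrbit k A x := by
  classical
  set θ := IsScalarTower.toAlgHom k S R
  refine isClosedOrbit_of_points x fun z hz => ?_
  have hzx : orbitIdeal k A x ≤ RingHom.ker z := (Ideal.IsPrime.radical_le_iff (RingHom.ker_isPrime _)).2 hz
  obtain ⟨g, hg⟩ := exists_point_of_closedOrbit _ hy (z.comp θ) fun s hs => by
    refine hz ?_
    rw [RingHom.mem_ker]
    exact (orbitHom_comp hθ x s).trans hs
  have hyz : orbitIdeal k A (z.comp θ) = orbitIdeal k A (x.comp θ) := by
    rw [← show move g (x.comp θ) = z.comp θ from AlgHom.ext hg, InvQLib.orbitIdeal_move]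
  have hxz : orbitIdeal k A x ≤ orbitIdeal k A z := InvQLib.orbitIdeal_le_of_le_ker hzx
  refine InvQLib.exists_move_eq (le_antisymm hxz fun r hr => ?_)
  rw [← (InvQLib.isRadical_orbitIdeal (k := k) (A := A) x).radical, ← Ideal.sInf_minimalPrimes, Ideal.mem_sInf]
  intro p hp
  have hne : orbitIdeal k A z ≠ ⊤ := fun h => by
    have := InvQLib.orbitIdeal_le_move (Bialgebra.counitAlgHom k A) z
    rw [h, top_le_iff] at this
    exact RingHom.ker_ne_top _ this
  obtain ⟨q, hq⟩ := Ideal.nonempty_minimalPrimes hne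
  obtain ⟨p', hp', hp'q⟩ := @Ideal.exists_minimalPrimes_le _ _ (orbitIdeal k A x) q hq.1.1 (hxz.trans hq.1.2)
  have hqp' : q = p' := by
    refine (eq_of_le_of_not_lt hp'q fun hlt => ?_).symm
    have := hp'.1.1
    have := hq.1.1
    have : Algebra.IsIntegral S R := inferInstance
    have h1 := Ideal.comap_lt_comap_of_integral_mem_sdiff hp'q (Classical.choose_spec (SetLike.exists_of_lt hlt)) (Algebra.IsIntegral.isIntegral (R := S) _)
    have h2 := comap_mem_minimalPrimes hθ x hp'
    have h3 := comap_mem_minimalPrimes hθ z hq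
    rw [hyz] at h3
    exact absurd (h3.2 h2.1 h1.le) (not_le_of_gt h1)
  obtain ⟨g', hg'⟩ := exists_actAlg_le x hp hp'
  rw [hg', ← hqp', Ideal.mem_comap]
  exact hq.1.2 (actAlg_mem g' hr)

end Groth.Agent.Comod
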