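import Groth.Agent.Comod.LunaAlg
import Groth.Agent.Comod.LunaStable
import Groth.Agent.Comod.LunaTensor
import Groth.Agent.Comod.OrbitClosed
import Groth.Agent.Comod.EquivZMT
import Groth.Agent.RegLoc.Basic

/-!
# Luna's fundamental lemma for finite equivariant morphisms
-/

set_option autoImplicit false
set_option linter.style.haveILetI false
set_option linter.unusedSectionVars false

universe u

noncomputable section

open TensorProduct

namespace Groth.Agent.Comod.LunaFund

variable {k : Type u} [Field k] {A : Type u} [CommRing A] [HopfAlgebra k A]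

/-- the colon of two subcomodules of a comodule algebra is stable -/
theorem colon_coact_submodule {R : Type u} [CommRing R] [Algebra k R] [HopfRep.Comod k A R] [GLin.IsCoactAlg k A R]
    {I J : Submodule k R} (hI : HopfRep.IsSubcomod (k := k) (A := A) I) (hJ : HopfRep.IsSubcomod (k := k) (A := A) J)
    {r : R} (hr : ∀ y ∈ I, r * y ∈ J) {y : R} (hy : y ∈ I) :
    HopfRep.Comod.coact (k := k) (A := A) r * y ⊗ₜ[k] (1 : A) ∈ LinearMap.range (J.subtype.rTensor A) := by
  let Φ : R ⊗[k] A →ₗ[k] R ⊗[k] A := TensorProduct.lift (LinearMap.mk₂ k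
    (fun v c => HopfRep.Comod.coact (k := k) (A := A) v * ((1 : R) ⊗ₜ[k] HopfAlgebra.antipode k c))
    (fun a b c => by simp [map_add, add_mul]) (fun s a c => by simp [Algebra.smul_mul_assoc])
    (fun a b c => by simp [map_add, TensorProduct.tmul_add, mul_add])
    (fun s a c => by simp [TensorProduct.tmul_smul]))
  have hΦ : Φ (HopfRep.Comod.coact (k := k) (A := A) y) = y ⊗ₜ[k] (1 : A) := by
    let Ψ : R ⊗[k] (A ⊗[k] A) →ₗ[k] R ⊗[k] A :=
      (LinearMap.mul' k A ∘ₗ (HopfAlgebra.antipode k).lTensor A).lTensor R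
    have e1 : ∀ w : R ⊗[k] A, Φ w = Ψ (TensorProduct.assoc k R A A
        ((HopfRep.Comod.coact (k := k) (A := A) (V := R)).rTensor A w)) := by
      intro w
      induction w using TensorProduct.induction_on with
      | zero => simp
      | add y z hy hz => simp only [map_add, hy, hz]
      | tmul v c =>
        simp only [Φ, LinearMap.rTensor_tmul, TensorProduct.lift.tmul, LinearMap.mk₂_apply]
        induction HopfRep.Comod.coact (k := k) (A := A) v using TensorProduct.induction_on with
        | zero => simp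
        | add y z hy hz => simp only [TensorProduct.add_tmul, map_add, add_mul, hy, hz]
        | tmul a b => simp [Ψ]
    have h := LinearMap.congr_fun (HopfRep.Comod.coassoc (k := k) (A := A) (V := R)) y
    simp only [LinearMap.comp_apply, LinearEquiv.coe_coe] at h
    have hc := LinearMap.congr_fun (HopfRep.Comod.counit_comp (k := k) (A := A) (V := R)) y
    simp only [LinearMap.comp_apply, LinearMap.flip_apply, TensorProduct.mk_apply] at hc
    have e2 : ∀ w : R ⊗[k] A, Ψ ((Coalgebra.comul (R := k) (A := A)).lTensor R w) =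
        (Algebra.linearMap k A).lTensor R ((Coalgebra.counit (R := k) (A := A)).lTensor R w) := by
      intro w
      induction w using TensorProduct.induction_on with
      | zero => simp
      | add y z hy hz => simp only [map_add, hy, hz]
      | tmul v c => simp [Ψ, HopfAlgebra.mul_antipode_lTensor_comul_apply]
    rw [e1, h, e2, hc]
    simp
  rw [← hΦ]
  obtain ⟨t, ht⟩ := hI y hy
  rw [← ht]
  clear ht hΦ
  induction t using TensorProduct.induction_on with
  | zero => simp
  | add y z hy hz => simp only [map_add, mul_add]; exact add_mem hy hz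
  | tmul v c =>
    simp only [Φ, LinearMap.rTensor_tmul, TensorProduct.lift.tmul, LinearMap.mk₂_apply, Submodule.coe_subtype]
    rw [← mul_assoc, ← GLin.IsCoactAlg.coact_mul]
    obtain ⟨t', ht'⟩ := hJ _ (hr v v.2)
    rw [← ht']
    clear ht'
    induction t' using TensorProduct.induction_on with
    | zero => simp
    | add y z hy hz => rw [map_add, add_mul]; exact add_mem hy hz
    | tmul a b => exact ⟨a ⊗ₜ[k] (b * HopfAlgebra.antipode k c), by simp⟩

/-- membership of slices in a colon -/
theorem slice_mul_mem {R : Type u} [CommRing R] [Algebra k R] [HopfRep.Comod k A R] [GLin.IsCoactAlg k A R]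
    {I J : Submodule k R} (hI : HopfRep.IsSubcomod (k := k) (A := A) I) (hJ : HopfRep.IsSubcomod (k := k) (A := A) J)
    (ψ : A →ₗ[k] k) {r : R} (hr : ∀ y ∈ I, r * y ∈ J) {y : R} (hy : y ∈ I) :
    slice ψ (HopfRep.Comod.coact (k := k) (A := A) r) * y ∈ J := by
  have h := slice_mem_of_mem_range ψ _ (colon_coact_submodule hI hJ hr hy)
  rwa [slice_mul_tmul_one] at h

variable [IsAlgClosed k] [Algebra.FiniteType k A]

/-- closed orbits are separated by the invariants -/
theorem exists_actPt_eq_of_invariants {R : Type u} [CommRing R] [Algebra k R] [Algebra.FiniteType k R]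
    [HopfRep.Comod k A R] [GLin.IsCoactAlg k A R] {α : A →ₗ[k] k} (hα : IsIntegral k α) (x z : R →ₐ[k] k)
    (hx : GLin.IsClosedOrbit k A x) (hz : GLin.IsClosedOrbit k A z)
    (h : ∀ w ∈ HopfRep.fixedPts k A R, x w = z w) : ∃ g : A →ₐ[k] k, GLin.actPt k g z = x := by
  have hle : RingHom.ker (GLin.orbitHom k A z) ≤ RingHom.ker x := by
    intro t ht
    rw [RingHom.mem_ker]
    by_contra ht0
    obtain ⟨w, hw, hwfix, hw0⟩ := LunaStable.exists_fixed_mem hα x hx (isSubcomod_ker_orbit z) ht ht0
    refine hw0 ?_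
    rw [h w hwfix, ← counit_orbitHom (A := A) z, RingHom.mem_ker.1 hw, map_zero]
  obtain ⟨g, hg⟩ := exists_point_of_closedOrbit z hz x hle
  exact ⟨g, AlgHom.ext fun r => hg r⟩

/-- a maximal ideal of a finitely generated algebra is the kernel of a point -/
theorem exists_point {R : Type u} [CommRing R] [Algebra k R] [Algebra.FiniteType k R] (P : Ideal R) [P.IsMaximal] :
    ∃ z : R →ₐ[k] k, ∀ r, z r = 0 ↔ r ∈ P := by
  let _ : Field (R ⧸ P) := Ideal.Quotient.field P
  have : Module.Finite k (R ⧸ P) := finite_of_finite_type_of_isJacobsonRing k (R ⧸ P)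
  let e : k ≃ₐ[k] R ⧸ P := AlgEquiv.ofBijective (Algebra.ofId k _)
    IsAlgClosed.algebraMap_bijective_of_isIntegral
  refine ⟨e.symm.toAlgHom.comp (Ideal.Quotient.mkₐ k P), fun r => ?_⟩
  change e.symm (Ideal.Quotient.mk P r) = 0 ↔ _
  rw [map_eq_zero_iff _ e.symm.injective, Ideal.Quotient.eq_zero_iff_mem]

theorem isScalarTower_invariants {S R S₀ R₀ : Type u} [CommRing S] [CommRing R] [CommRing S₀] [CommRing R₀]
    [Algebra k S] [Algebra k R] [Algebra k S₀] [Algebra k R₀] [Algebra S R] [IsScalarTower k S R]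
    [Algebra S₀ S] [IsScalarTower k S₀ S] [Algebra R₀ R] [IsScalarTower k R₀ R] [Algebra S₀ R₀] [Algebra S₀ R]
    [IsScalarTower S₀ S R] [IsScalarTower S₀ R₀ R] (hR₀i : Function.Injective (algebraMap R₀ R)) :
    IsScalarTower k S₀ R₀ :=
  IsScalarTower.of_algebraMap_eq fun c => hR₀i (by
    rw [← IsScalarTower.algebraMap_apply k R₀ R, ← IsScalarTower.algebraMap_apply S₀ R₀ R,
      IsScalarTower.algebraMap_apply S₀ S R, ← IsScalarTower.algebraMap_apply k S₀ S,
      ← IsScalarTower.algebraMap_apply k S R])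

section Finite

variable [CharZero k] [IsDomain A]
  {S : Type u} [CommRing S] [Algebra k S] [Algebra.FiniteType k S] [HopfRep.Comod k A S] [GLin.IsCoactAlg k A S]
  {R : Type u} [CommRing R] [Algebra k R] [Algebra.FiniteType k R] [HopfRep.Comod k A R] [GLin.IsCoactAlg k A R]
  [Algebra S R] [IsScalarTower k S R] [Module.Finite S R]
  {S₀ : Type u} [CommRing S₀] [Algebra k S₀] [Algebra S₀ S] [IsScalarTower k S₀ S]
  {R₀ : Type u} [CommRing R₀] [Algebra k R₀] [Algebra R₀ R] [IsScalarTower k R₀ R]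
  [Algebra S₀ R₀] [Algebra S₀ R] [IsScalarTower S₀ S R] [IsScalarTower S₀ R₀ R]

/-- the invariants form a finite module over the invariants below -/
theorem finite_invariants {α : A →ₗ[k] k} (hα : IsIntegral k α)
    (hθ : Hoch.IsComodHom A (IsScalarTower.toAlgHom k S R).toLinearMap)
    (hS₀ : (IsScalarTower.toAlgHom k S₀ S).range = GLin.invariants k A S)
    (hR₀i : Function.Injective (algebraMap R₀ R))
    (hR₀ : (IsScalarTower.toAlgHom k R₀ R).range = GLin.invariants k A R) : Module.Finite S₀ R₀ := by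
  classical
  have := LunaTensor.isHopfMod_of_equivariant hθ
  have : IsNoetherianRing S := Algebra.FiniteType.isNoetherianRing k S
  obtain ⟨s, hs, hgen⟩ := exists_fixed_generators (R := S) (M := R) hα
  have hlift : ∀ r ∈ HopfRep.fixedPts k A R, ∃ e : R₀, algebraMap R₀ R e = r := fun r hr => by
    have : r ∈ (IsScalarTower.toAlgHom k R₀ R).range := by rw [hR₀]; exact hr
    exact this
  choose e he using fun y : s => hlift y (hs y.2)
  refine ⟨⟨Finset.univ.image e, eq_top_iff.2 fun r _ => ?_⟩⟩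
  have hr : algebraMap R₀ R r ∈ HopfRep.fixedPts k A R :=
    (hR₀ ▸ (⟨r, rfl⟩ : algebraMap R₀ R r ∈ (IsScalarTower.toAlgHom k R₀ R).range) :
      algebraMap R₀ R r ∈ GLin.invariants k A R)
  obtain ⟨c, hc, hsum⟩ := hgen _ hr
  choose d hd using fun y : s => (show c y ∈ (IsScalarTower.toAlgHom k S₀ S).range by rw [hS₀]; exact hc y)
  have : r = ∑ y : s, d y • e y := hR₀i (by
    rw [map_sum, hsum, ← Finset.sum_coe_sort s]
    refine Finset.sum_congr rfl fun y _ => ?_
    rw [Algebra.smul_def, Algebra.smul_def, map_mul, he, ← IsScalarTower.algebraMap_apply,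
      IsScalarTower.algebraMap_apply S₀ S R, show algebraMap S₀ S (d y) = c y from hd y])
  rw [this]
  exact Submodule.sum_mem _ fun y _ =>
    Submodule.smul_mem _ _ (Submodule.subset_span (Finset.mem_coe.2 (Finset.mem_image_of_mem _ (Finset.mem_univ y))))

theorem le_map_sup_pow {Q : Type u} [CommRing Q] {a b : Ideal Q} (h : b ≤ a ⊔ b ^ 2) (N M : ℕ) :
    b ^ N ≤ a ^ N ⊔ b ^ (M + 1) := by
  have h1 : ∀ M, b ≤ a ⊔ b ^ (M + 1) := by
    intro M
    induction M with
    | zero => rw [zero_add, pow_one]; exact le_sup_right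
    | succ M ih =>
      calc b ≤ a ⊔ b ^ 2 := h
        _ ≤ a ⊔ b * (a ⊔ b ^ (M + 1)) := by rw [pow_two]; exact sup_le_sup_left (Ideal.mul_mono_right ih) _
        _ ≤ a ⊔ b ^ (M + 1 + 1) := by
          rw [Ideal.mul_sup, pow_succ' b (M + 1)]
          exact sup_le le_sup_left (sup_le (le_sup_of_le_left Ideal.mul_le_right) le_sup_right)
  have h2 : ∀ c : Ideal Q, (a ⊔ c) ^ N ≤ a ^ N ⊔ c := by
    intro c
    induction N with
    | zero => simp
    | succ N ih =>
      rw [pow_succ]
      refine (Ideal.mul_mono_left ih).trans ?_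
      rw [Ideal.sup_mul, Ideal.mul_sup, pow_succ a]
      exact sup_le (sup_le le_sup_left (le_sup_of_le_right Ideal.mul_le_right))
        (le_sup_of_le_right Ideal.mul_le_left)
  exact (Ideal.pow_right_mono (h1 M) N).trans (h2 _)

/-- Luna's lemma: the map on invariants is étale at the image of the point -/
theorem exists_etale_invariants {α : A →ₗ[k] k} (hα : IsIntegral k α)
    (hθ : Hoch.IsComodHom A (IsScalarTower.toAlgHom k S R).toLinearMap)
    (hS₀i : Function.Injective (algebraMap S₀ S))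
    (hS₀ : (IsScalarTower.toAlgHom k S₀ S).range = GLin.invariants k A S)
    (hR₀i : Function.Injective (algebraMap R₀ R))
    (hR₀ : (IsScalarTower.toAlgHom k R₀ R).range = GLin.invariants k A R)
    (x : R →ₐ[k] k) (hx : GLin.IsClosedOrbit k A x) (m : Ideal R) [m.IsMaximal] (hm : m = RingHom.ker x.toRingHom)
    (het : Algebra.IsEtaleAt S m)
    (hinj : ∀ g : A →ₐ[k] k, GLin.actPt k g (x.comp (IsScalarTower.toAlgHom k S R)) =
      x.comp (IsScalarTower.toAlgHom k S R) → GLin.actPt k g x = x) :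
    (∃ f : R₀, x (algebraMap R₀ R f) ≠ 0 ∧ Algebra.Etale S₀ (Localization.Away f)) ∧
      m.comap (algebraMap R₀ R) ≤
        ((m.comap (algebraMap R₀ R)).comap (algebraMap S₀ R₀)).map (algebraMap S₀ R₀) ⊔
          (m.comap (algebraMap R₀ R)) ^ 2 := by
  classical
  have hsurj := fun r => range_orbit_le hθ x hx hinj r
  have hsq := ker_le_map_sup_sq hθ x hx hsurj m hm
  have hkey := maximal_eq_map_sup_sq hα hθ x hx (exists_approx x hsurj hsq) S₀ hS₀ R₀ hR₀i hR₀ m hm
  refine ⟨?_, hkey⟩
  have := isScalarTower_invariants (k := k) (S := S) (R := R) (S₀ := S₀) hR₀i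
  have := finite_invariants hα hθ hS₀ hR₀i hR₀
  let eS : S₀ ≃ₐ[k] GLin.invariants k A S :=
    (AlgEquiv.ofInjective (IsScalarTower.toAlgHom k S₀ S) hS₀i).trans (Subalgebra.equivOfEq _ _ hS₀)
  have : Algebra.FiniteType k (GLin.invariants k A S) := invariants_finiteType hα
  have : Algebra.FiniteType k S₀ := Algebra.FiniteType.equiv inferInstance eS.symm
  have : IsNoetherianRing S₀ := Algebra.FiniteType.isNoetherianRing k S₀
  have : IsNoetherianRing R₀ := IsNoetherianRing.of_finite S₀ R₀
  have : IsNoetherianRing S := Algebra.FiniteType.isNoetherianRing k S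
  have : IsNoetherianRing R := Algebra.FiniteType.isNoetherianRing k R
  have : Algebra.FinitePresentation S R := Algebra.FinitePresentation.of_finiteType.1 inferInstance
  have : Algebra.FinitePresentation S₀ R₀ := Algebra.FinitePresentation.of_finiteType.1 inferInstance
  have hm' : ∀ r, r ∈ m ↔ x r = 0 := fun r => by subst hm; exact RingHom.mem_ker
  set m₀ := m.comap (algebraMap R₀ R) with hm₀
  set n₀ := m₀.comap (algebraMap S₀ R₀) with hn₀
  -- residue fields are `k`
  have hres : ∀ r : R₀, r - algebraMap k R₀ (x (algebraMap R₀ R r)) ∈ m₀ := fun r => by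
    change algebraMap R₀ R _ ∈ m
    rw [hm', map_sub, map_sub, ← IsScalarTower.algebraMap_apply k R₀ R]
    simp
  have : m₀.IsMaximal := by
    have e : m₀ = RingHom.ker (x.comp (IsScalarTower.toAlgHom k R₀ R)).toRingHom :=
      Ideal.ext fun r => hm' _
    rw [e]
    exact RingHom.ker_isMaximal_of_surjective _ fun c => ⟨algebraMap k R₀ c, by simp⟩
  have : n₀.IsMaximal := Ideal.isMaximal_comap_of_isIntegral_of_isMaximal (R := S₀) m₀
  have : m₀.LiesOver n₀ := ⟨rfl⟩
  let _ := Localization.AtPrime.algebraOfLiesOver n₀ m₀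
  have hsurjres : Function.Surjective (algebraMap n₀.ResidueField m₀.ResidueField) := by
    intro z
    obtain ⟨r, rfl⟩ := m₀.algebraMap_residueField_surjective z
    refine ⟨algebraMap S₀ n₀.ResidueField (algebraMap k S₀ (x (algebraMap R₀ R r))), ?_⟩
    rw [← IsScalarTower.algebraMap_apply S₀ n₀.ResidueField m₀.ResidueField,
      IsScalarTower.algebraMap_apply S₀ R₀ m₀.ResidueField, ← IsScalarTower.algebraMap_apply k S₀ R₀]
    have := Ideal.algebraMap_residueField_eq_zero.2 (hres r)
    rw [map_sub, sub_eq_zero] at this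
    exact this.symm
  have hunr : Algebra.IsUnramifiedAt S₀ m₀ := by
    refine (Algebra.isUnramifiedAt_iff_map_eq S₀ n₀ m₀).2 ⟨?_, ?_⟩
    · let e : n₀.ResidueField ≃ₐ[n₀.ResidueField] m₀.ResidueField :=
        AlgEquiv.ofBijective (Algebra.ofId n₀.ResidueField m₀.ResidueField)
          ⟨(algebraMap n₀.ResidueField m₀.ResidueField).injective, hsurjres⟩
      exact AlgEquiv.Algebra.isSeparable e
    · refine RegLoc.eq_maximalIdeal_of_le_sup_sq ?_ ?_
      · rw [← Localization.AtPrime.map_eq_maximalIdeal, IsScalarTower.algebraMap_eq S₀ R₀, ← Ideal.map_map]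
        exact Ideal.map_mono Ideal.map_comap_le
      · have h := Ideal.map_mono (f := algebraMap R₀ (Localization.AtPrime m₀)) hkey
        rwa [Ideal.map_sup, Ideal.map_pow, Localization.AtPrime.map_eq_maximalIdeal, Ideal.map_map,
          ← IsScalarTower.algebraMap_eq] at h
  let θ := IsScalarTower.toAlgHom k S R
  have hyc : GLin.IsClosedOrbit k A (x.comp θ) :=
    isClosedOrbit_comp hθ ((RingHom.Finite.to_isIntegral (RingHom.finite_algebraMap.2 inferInstance))) x hx
  have hetale : Algebra.IsEtaleAt S₀ m₀ := by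
    refine LunaAlg.isEtaleAt_of_pow_comap m₀
      (fun r => ⟨algebraMap k S₀ (x (algebraMap R₀ R r)), by
        rw [← IsScalarTower.algebraMap_apply k S₀ R₀]; exact hres r⟩) fun N s hs => ?_
    let Rm := Localization.AtPrime m
    let φ : R₀ →+* Rm := (algebraMap R Rm).comp (algebraMap R₀ R)
    have hφm : m₀.map φ ≤ IsLocalRing.maximalIdeal Rm := by
      rw [← Localization.AtPrime.map_eq_maximalIdeal, ← Ideal.map_map]
      exact Ideal.map_mono Ideal.map_comap_le
    have hmap : φ.comp (algebraMap S₀ R₀) = (algebraMap S Rm).comp (algebraMap S₀ S) :=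
      RingHom.ext fun c => by
        change algebraMap R Rm (algebraMap R₀ R (algebraMap S₀ R₀ c)) = algebraMap S Rm (algebraMap S₀ S c)
        rw [← IsScalarTower.algebraMap_apply S₀ R₀ R, IsScalarTower.algebraMap_apply S₀ S R,
          ← IsScalarTower.algebraMap_apply S R Rm]
    have hmem : algebraMap S Rm (algebraMap S₀ S s) ∈
        ((n₀ ^ N).map (algebraMap S₀ S)).map (algebraMap S Rm) := by
      refine le_of_le_sup_pow (I := IsLocalRing.maximalIdeal Rm)
        (IsLocalRing.maximalIdeal.isMaximal Rm).ne_top fun j => ?_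
      have h1 := Ideal.mem_map_of_mem φ (le_map_sup_pow hkey N j hs)
      rw [Ideal.map_sup, ← RingHom.comp_apply, hmap, RingHom.comp_apply, ← Ideal.map_pow, Ideal.map_map, hmap,
        ← Ideal.map_map] at h1
      have hle : (m₀ ^ (j + 1)).map φ ≤ IsLocalRing.maximalIdeal Rm ^ j := by
        rw [Ideal.map_pow]
        exact (Ideal.pow_right_mono hφm (j + 1)).trans (Ideal.pow_le_pow_right (Nat.le_succ j))
      exact SetLike.le_def.1 (sup_le_sup le_rfl hle) h1
    obtain ⟨u, hu, hus⟩ := LunaAlg.exists_mul_mem_of_map_mem m ((n₀ ^ N).map (algebraMap S₀ S)) hmem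
    obtain ⟨w, hw, hws⟩ := LunaStable.exists_mul_mem hα (x.comp θ) hyc hS₀i hS₀ (n₀ ^ N)
      (fun h => hu ((hm' _).2 h)) hus
    refine ⟨w, fun h => hw ?_, hws⟩
    have h' := (hm' _).1 (show algebraMap R₀ R (algebraMap S₀ R₀ w) ∈ m from h)
    rw [← IsScalarTower.algebraMap_apply S₀ R₀ R, IsScalarTower.algebraMap_apply S₀ S R] at h'
    exact h'
  obtain ⟨f, hf, hfet⟩ := Algebra.exists_etale_of_isEtaleAt (R := S₀) m₀
  exact ⟨f, fun h => hf ((hm' _).2 h), hfet⟩

omit [Algebra.FiniteType k A] [CharZero k] [IsDomain A] [Algebra.FiniteType k R] [Module.Finite S R]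
  [Algebra.FiniteType k S] [IsAlgClosed k] [GLin.IsCoactAlg k A S] in
theorem isComodHom_productMap [IsScalarTower k S₀ R₀] (hθ : Hoch.IsComodHom A (IsScalarTower.toAlgHom k S R).toLinearMap)
    (cT : HopfRep.Comod k A (S ⊗[S₀] R₀)) (hcT : @GLin.IsCoactAlg k _ A _ _ (S ⊗[S₀] R₀) _ _ cT)
    (hl : ∀ s : S, cT.coact (s ⊗ₜ[S₀] (1 : R₀)) =
      (IsScalarTower.toAlgHom k S (S ⊗[S₀] R₀)).toLinearMap.rTensor A (HopfRep.Comod.coact (k := k) (A := A) s))
    (hr : ∀ r : R₀, cT.coact ((1 : S) ⊗ₜ[S₀] r) = ((1 : S) ⊗ₜ[S₀] r) ⊗ₜ[k] (1 : A))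
    (hR₀ : (IsScalarTower.toAlgHom k R₀ R).range = GLin.invariants k A R) (P : S ⊗[S₀] R₀ →ₐ[k] R)
    (hP : ∀ s r, P (s ⊗ₜ[S₀] r) = algebraMap S R s * algebraMap R₀ R r) :
    letI := cT
    Hoch.IsComodHom A P.toLinearMap := by
  letI := cT
  haveI := hcT
  refine LinearMap.ext fun z => ?_
  change HopfRep.Comod.coact (k := k) (A := A) (P z) = P.toLinearMap.rTensor A (cT.coact z)
  have hPT : ∀ w : (S ⊗[S₀] R₀) ⊗[k] A,
      P.toLinearMap.rTensor A w = Algebra.TensorProduct.map P (AlgHom.id k A) w := by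
    intro w
    induction w using TensorProduct.induction_on with
    | zero => simp
    | add p q hp hq => simp only [map_add, hp, hq]
    | tmul p a => simp
  induction z using TensorProduct.induction_on with
  | zero => simp
  | add p q hp hq => simp only [map_add, hp, hq]
  | tmul s r =>
    rw [hPT, show s ⊗ₜ[S₀] r = (s ⊗ₜ[S₀] (1 : R₀)) * ((1 : S) ⊗ₜ[S₀] r) by simp,
      GLin.IsCoactAlg.coact_mul, map_mul P, GLin.IsCoactAlg.coact_mul, map_mul]
    congr 1
    · rw [hl, ← hPT, ← LinearMap.rTensor_comp_apply,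
        show P.toLinearMap ∘ₗ (IsScalarTower.toAlgHom k S (S ⊗[S₀] R₀)).toLinearMap =
          (IsScalarTower.toAlgHom k S R).toLinearMap from LinearMap.ext fun p => by
            change P (p ⊗ₜ[S₀] (1 : R₀)) = algebraMap S R p
            rw [hP, map_one, mul_one], hP, map_one, mul_one]
      exact LinearMap.congr_fun hθ s
    · rw [hr, hP, map_one, one_mul, Algebra.TensorProduct.map_tmul, AlgHom.id_apply, hP, map_one, one_mul]
      exact (hR₀ ▸ (⟨r, rfl⟩ : algebraMap R₀ R r ∈ (IsScalarTower.toAlgHom k R₀ R).range) :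
        algebraMap R₀ R r ∈ GLin.invariants k A R)

set_option maxHeartbeats 800000 in
/-- the map from the fibre product over the quotient is injective near the fibre -/
theorem exists_mul_ker_eq_zero {α : A →ₗ[k] k} (hα : IsIntegral k α)
    (hθ : Hoch.IsComodHom A (IsScalarTower.toAlgHom k S R).toLinearMap)
    (hS₀ : (IsScalarTower.toAlgHom k S₀ S).range = GLin.invariants k A S)
    (hR₀i : Function.Injective (algebraMap R₀ R))
    (hR₀ : (IsScalarTower.toAlgHom k R₀ R).range = GLin.invariants k A R)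
    (x : R →ₐ[k] k) (hx : GLin.IsClosedOrbit k A x) (m : Ideal R) [m.IsMaximal] (hm : m = RingHom.ker x.toRingHom)
    (het : Algebra.IsEtaleAt S m)
    (hkey : m.comap (algebraMap R₀ R) ≤
        ((m.comap (algebraMap R₀ R)).comap (algebraMap S₀ R₀)).map (algebraMap S₀ R₀) ⊔
          (m.comap (algebraMap R₀ R)) ^ 2) :
    ∃ w : R₀, x (algebraMap R₀ R w) ≠ 0 ∧ ∀ z : S ⊗[S₀] R₀,
      Algebra.TensorProduct.productMap (IsScalarTower.toAlgHom S₀ S R) (IsScalarTower.toAlgHom S₀ R₀ R) z = 0 →
        ((1 : S) ⊗ₜ[S₀] w) * z = 0 := by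
  classical
  have := isScalarTower_invariants (k := k) (S := S) (R := R) (S₀ := S₀) hR₀i
  have := finite_invariants hα hθ hS₀ hR₀i hR₀
  have hS₀mem : ∀ c : S₀, algebraMap S₀ S c ∈ HopfRep.fixedPts k A S := fun c =>
    (hS₀ ▸ (⟨c, rfl⟩ : algebraMap S₀ S c ∈ (IsScalarTower.toAlgHom k S₀ S).range) :
      algebraMap S₀ S c ∈ GLin.invariants k A S)
  have hm' : ∀ r, r ∈ m ↔ x r = 0 := fun r => by subst hm; exact RingHom.mem_ker
  let T := S ⊗[S₀] R₀
  obtain ⟨cT, hcT, hl, hr⟩ := LunaTensor.exists_tensorComod (R₀ := R₀) (A := A) hS₀mem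
  letI : HopfRep.Comod k A T := cT
  haveI : GLin.IsCoactAlg k A T := hcT
  haveI : Algebra.FiniteType S T := Module.Finite.finiteType _
  haveI : Algebra.FiniteType k T := Algebra.FiniteType.trans (S := S) inferInstance inferInstance
  haveI : IsNoetherianRing T := Algebra.FiniteType.isNoetherianRing k T
  haveI : IsNoetherianRing S := Algebra.FiniteType.isNoetherianRing k S
  haveI : Algebra.FinitePresentation S R := Algebra.FinitePresentation.of_finiteType.1 inferInstance
  let P₀ := Algebra.TensorProduct.productMap (IsScalarTower.toAlgHom S₀ S R) (IsScalarTower.toAlgHom S₀ R₀ R)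
  haveI : IsScalarTower k S₀ R := IsScalarTower.of_algebraMap_eq fun c => by
    rw [IsScalarTower.algebraMap_apply S₀ S R, ← IsScalarTower.algebraMap_apply k S₀ S,
      ← IsScalarTower.algebraMap_apply k S R]
  let P : T →ₐ[k] R := P₀.restrictScalars k
  have hP : ∀ s r, P (s ⊗ₜ[S₀] r) = algebraMap S R s * algebraMap R₀ R r := fun s r => rfl
  have hmulT : ∀ (s : S) (r : R₀), s ⊗ₜ[S₀] r = algebraMap S T s * ((1 : S) ⊗ₜ[S₀] r) := fun s r => by
    rw [Algebra.TensorProduct.algebraMap_apply, Algebra.algebraMap_self, RingHom.id_apply,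
      Algebra.TensorProduct.tmul_mul_tmul, mul_one, one_mul]
  have hPS : ∀ s, P (algebraMap S T s) = algebraMap S R s := fun s => by
    rw [Algebra.TensorProduct.algebraMap_apply, Algebra.algebraMap_self, RingHom.id_apply, hP, map_one, mul_one]
  let θT := IsScalarTower.toAlgHom k S T
  have hθT : Hoch.IsComodHom A θT.toLinearMap := LinearMap.ext fun s => hl s
  have hPc : Hoch.IsComodHom A P.toLinearMap := isComodHom_productMap hθ cT hcT hl hr hR₀ P hP
  let τ : T →ₐ[k] k := x.comp P
  let θ := IsScalarTower.toAlgHom k S R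
  let y := x.comp θ
  have hyc : GLin.IsClosedOrbit k A y :=
    isClosedOrbit_comp hθ ((RingHom.Finite.to_isIntegral (RingHom.finite_algebraMap.2 inferInstance))) x hx
  have hτS : τ.comp θT = y := AlgHom.ext fun s => congrArg x (hPS s)
  have hτc : GLin.IsClosedOrbit k A τ := isClosedOrbit_of_comp hθT τ (by rw [hτS]; exact hyc)
  let t : Ideal T := RingHom.ker τ.toRingHom
  haveI : t.IsMaximal :=
    RingHom.ker_isMaximal_of_surjective τ.toRingHom fun c => ⟨algebraMap k T c, by simp⟩
  have ht : ∀ z, z ∈ t ↔ x (P z) = 0 := fun z => RingHom.mem_ker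
  have hPt : t.map P.toRingHom ≤ m := Ideal.map_le_iff_le_comap.2 fun z hz => (hm' _).2 ((ht z).1 hz)
  let n := m.comap (algebraMap S R)
  let nT := n.map (algebraMap S T)
  set m₀ := m.comap (algebraMap R₀ R) with hm₀
  -- `t ≤ nT + t ^ 2`
  have ht2 : t ≤ nT ⊔ t ^ 2 := by
    have hdec : ∀ z : T, ∃ c : R₀, z - (1 : S) ⊗ₜ[S₀] c ∈ nT := by
      intro z
      induction z using TensorProduct.induction_on with
      | zero => exact ⟨0, by simp⟩
      | add p q hp hq =>
        obtain ⟨c, hc⟩ := hp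
        obtain ⟨d, hd⟩ := hq
        exact ⟨c + d, by rw [TensorProduct.tmul_add, add_sub_add_comm]; exact add_mem hc hd⟩
      | tmul s r =>
        refine ⟨algebraMap k R₀ (y s) * r, ?_⟩
        rw [show s ⊗ₜ[S₀] r - (1 : S) ⊗ₜ[S₀] (algebraMap k R₀ (y s) * r) =
          algebraMap S T (s - algebraMap k S (y s)) * ((1 : S) ⊗ₜ[S₀] r) from ?_]
        · refine Ideal.mul_mem_right _ _ (Ideal.mem_map_of_mem _ ((hm' _).2 ?_))
          rw [map_sub, map_sub, ← IsScalarTower.algebraMap_apply k S R]
          simp [y, θ]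
        · rw [Algebra.TensorProduct.algebraMap_apply, Algebra.algebraMap_self, RingHom.id_apply,
            Algebra.TensorProduct.tmul_mul_tmul, mul_one, one_mul, TensorProduct.sub_tmul,
            IsScalarTower.algebraMap_apply k S₀ R₀, IsScalarTower.algebraMap_apply k S₀ S, ← Algebra.smul_def,
            ← TensorProduct.smul_tmul, Algebra.smul_def, mul_one]
    have hm₀map : m₀.map (Algebra.TensorProduct.includeRight : R₀ →ₐ[S₀] T) ≤ t := by
      refine Ideal.map_le_iff_le_comap.2 fun c hc => (ht _).2 ?_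
      rw [Algebra.TensorProduct.includeRight_apply, hP, map_one, one_mul]
      exact (hm' _).1 hc
    intro z hz
    obtain ⟨c, hc⟩ := hdec z
    have hnT : nT ≤ t := by
      refine Ideal.map_le_iff_le_comap.2 fun s hs => (ht _).2 ?_
      rw [hPS]
      exact (hm' _).1 hs
    have hc0 : c ∈ m₀ := by
      have h := (ht _).1 (sub_mem hz (hnT hc))
      rw [sub_sub_cancel, hP, map_one, one_mul] at h
      exact (hm' _).2 h
    rw [← sub_add_cancel z ((1 : S) ⊗ₜ[S₀] c)]
    refine add_mem (Submodule.mem_sup_left hc) ?_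
    have h1 := Ideal.mem_map_of_mem (Algebra.TensorProduct.includeRight : R₀ →ₐ[S₀] T) (hkey hc0)
    rw [Ideal.map_sup, Ideal.map_pow] at h1
    refine SetLike.le_def.1 (sup_le_sup ?_ (Ideal.pow_right_mono hm₀map 2)) h1
    refine Ideal.map_le_iff_le_comap.2 (Ideal.map_le_iff_le_comap.2 fun d hd => ?_)
    change (1 : S) ⊗ₜ[S₀] algebraMap S₀ R₀ d ∈ nT
    rw [show (1 : S) ⊗ₜ[S₀] algebraMap S₀ R₀ d = algebraMap S T (algebraMap S₀ S d) by
      rw [Algebra.algebraMap_eq_smul_one, ← TensorProduct.smul_tmul, ← Algebra.algebraMap_eq_smul_one]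
      rfl]
    refine Ideal.mem_map_of_mem _ ((hm' _).2 ?_)
    rw [← IsScalarTower.algebraMap_apply S₀ S R, IsScalarTower.algebraMap_apply S₀ R₀ R]
    exact (hm' _).1 hd
  -- approximation by the base
  have happ : ∀ (N : ℕ) (z : T), ∃ s : S, z - algebraMap S T s ∈ t ^ N := by
    intro N
    induction N with
    | zero => exact fun z => ⟨0, by simp⟩
    | succ N ih =>
      intro z
      obtain ⟨s, hs⟩ := ih z
      obtain ⟨p, hp, q, hq, hpq⟩ := Submodule.mem_sup.1 (le_map_sup_pow ht2 N N hs)
      have hgen : ∀ w ∈ nT ^ N, ∃ s' : S, w - algebraMap S T s' ∈ t ^ (N + 1) := by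
        intro w hw
        rw [← Ideal.map_pow] at hw
        induction hw using Submodule.span_induction with
        | mem a ha =>
          obtain ⟨s', -, rfl⟩ := ha
          exact ⟨s', by rw [sub_self]; exact zero_mem _⟩
        | zero => exact ⟨0, by simp⟩
        | add a b _ _ ha hb =>
          obtain ⟨s', hs'⟩ := ha
          obtain ⟨s'', hs''⟩ := hb
          exact ⟨s' + s'', by rw [map_add, add_sub_add_comm]; exact add_mem hs' hs''⟩
        | smul d a ha' ha =>
          obtain ⟨s', hs'⟩ := ha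
          refine ⟨algebraMap k S (τ d) * s', ?_⟩
          rw [show d • a - algebraMap S T (algebraMap k S (τ d) * s') =
            (d - algebraMap k T (τ d)) * a + algebraMap k T (τ d) * (a - algebraMap S T s') by
              rw [map_mul, ← IsScalarTower.algebraMap_apply k S T, smul_eq_mul]; ring]
          refine add_mem ?_ (Ideal.mul_mem_left _ _ hs')
          rw [pow_succ']
          refine Ideal.mul_mem_mul ((RingHom.mem_ker).2 (by simp)) ?_
          have hnT : nT ≤ t := Ideal.map_le_iff_le_comap.2 fun u hu => (ht _).2 (by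
            rw [hPS]; exact (hm' _).1 hu)
          exact (Ideal.map_pow _ _ _).trans_le (Ideal.pow_right_mono hnT N) ha'
      obtain ⟨s', hs'⟩ := hgen p hp
      refine ⟨s + s', ?_⟩
      rw [map_add, ← sub_sub, ← hpq, show p + q - algebraMap S T s' = (p - algebraMap S T s') + q by ring]
      exact add_mem hs' hq
  -- the kernel vanishes at `τ`
  let Rm := Localization.AtPrime m
  let Tt := Localization.AtPrime t
  haveI : m.LiesOver n := ⟨rfl⟩
  letI := Localization.AtPrime.algebraOfLiesOver n m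
  haveI : Algebra.EssFiniteType S R := inferInstance
  have hnm : n.map (algebraMap S Rm) = IsLocalRing.maximalIdeal Rm := by
    haveI : Algebra.FormallyUnramified S Rm := inferInstance
    exact ((Algebra.isUnramifiedAt_iff_map_eq S n m).1 ‹_›).2
  have hzero : ∀ z : T, P z = 0 → algebraMap T Tt z = 0 := by
    intro z hz
    refine (Ideal.mem_bot).1 (le_of_le_sup_pow (I := IsLocalRing.maximalIdeal Tt) (E := ⊥)
      (IsLocalRing.maximalIdeal.isMaximal Tt).ne_top fun N => Submodule.mem_sup_right ?_)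
    obtain ⟨s, hs⟩ := happ N z
    have h1 : algebraMap S R s ∈ m ^ N := by
      have h := Ideal.pow_right_mono hPt N ((Ideal.map_pow P.toRingHom t N) ▸ Ideal.mem_map_of_mem P.toRingHom hs)
      rw [map_sub, show P.toRingHom z = 0 from hz, zero_sub, neg_mem_iff] at h
      rwa [show P.toRingHom (algebraMap S T s) = algebraMap S R s from hPS s] at h
    have h2 : algebraMap S Rm s ∈ (n ^ N).map (algebraMap S Rm) := by
      rw [Ideal.map_pow, hnm, IsScalarTower.algebraMap_apply S R Rm, ← Localization.AtPrime.map_eq_maximalIdeal,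
        ← Ideal.map_pow]
      exact Ideal.mem_map_of_mem _ h1
    obtain ⟨u, hu, hus⟩ := LunaAlg.exists_mul_mem_of_map_mem m (n ^ N) h2
    have hnT : (n ^ N).map (algebraMap S T) ≤ t ^ N := by
      rw [Ideal.map_pow]
      have hnT0 : n.map (algebraMap S T) ≤ t := Ideal.map_le_iff_le_comap.2 fun u hu => (ht _).2 (by
        rw [hPS]; exact (hm' _).1 hu)
      exact Ideal.pow_right_mono hnT0 N
    have h3 : algebraMap S T u * z ∈ t ^ N := by
      rw [show algebraMap S T u * z = algebraMap S T u * (z - algebraMap S T s) + algebraMap S T (u * s) by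
        rw [map_mul]; ring]
      exact add_mem (Ideal.mul_mem_left _ _ hs) (hnT (Ideal.mem_map_of_mem _ hus))
    have hut : algebraMap S T u ∈ t.primeCompl := fun h => hu ((hm' _).2 (by
      have h' := (ht _).1 h
      rwa [hPS] at h'))
    have h4 := Ideal.mem_map_of_mem (algebraMap T Tt) h3
    rw [Ideal.map_pow, Localization.AtPrime.map_eq_maximalIdeal, map_mul] at h4
    exact (Ideal.unit_mul_mem_iff_mem _ (IsLocalization.map_units Tt (⟨_, hut⟩ : t.primeCompl))).1 h4
  -- the annihilator of the kernel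
  let K : Ideal T := RingHom.ker P
  have hK : HopfRep.IsSubcomod (k := k) (A := A) (K.restrictScalars k) := by
    have h := isSubcomod_ker hPc
    exact h
  have hbot : HopfRep.IsSubcomod (k := k) (A := A) ((⊥ : Ideal T).restrictScalars k) := by
    intro w hw
    rw [Submodule.restrictScalars_mem, Ideal.mem_bot] at hw
    rw [hw, map_zero]
    exact zero_mem _
  let N : Ideal T :=
    { carrier := {a | ∀ z ∈ K, a * z ∈ (⊥ : Ideal T)}
      zero_mem' := fun z _ => by simp
      add_mem' := fun {a b} ha hb z hz => by rw [add_mul]; exact add_mem (ha z hz) (hb z hz)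
      smul_mem' := fun c a ha z hz => by rw [smul_eq_mul, mul_assoc]; exact Ideal.mul_mem_left _ _ (ha z hz) }
  have hN := LunaStable.isSubcomod_colon (N := N) hK hbot fun _ => Iff.rfl
  obtain ⟨G, hG⟩ := (IsNoetherian.noetherian K : Submodule.FG K)
  have hden : ∀ z ∈ K, ∃ v ∈ t.primeCompl, v * z = 0 := fun z hz => by
    obtain ⟨⟨v, hv⟩, h⟩ := (IsLocalization.map_eq_zero_iff t.primeCompl Tt z).1 (hzero z hz)
    exact ⟨v, hv, h⟩
  choose den hdent hden using hden
  let v : T := ∏ c ∈ G.attach, den c (hG ▸ Submodule.subset_span c.2)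
  have hvt : v ∉ t := fun h => by
    obtain ⟨c, -, hc⟩ := (Ideal.IsPrime.prod_mem_iff (p := t)).1 h
    exact hdent _ _ hc
  have hvN : v ∈ N := by
    intro z hz
    rw [Ideal.mem_bot]
    have hz' : z ∈ Submodule.span T (G : Set T) := hG.symm ▸ hz
    clear hz
    induction hz' using Submodule.span_induction with
    | mem c hc =>
      rw [show v = (∏ d ∈ G.attach.erase ⟨c, hc⟩, den d (hG ▸ Submodule.subset_span d.2)) * den c _ from
        (Finset.prod_erase_mul _ _ (Finset.mem_attach _ _)).symm, mul_assoc, hden, mul_zero]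
    | zero => simp
    | add a b _ _ ha hb => rw [mul_add, ha, hb, add_zero]
    | smul c a _ ha => rw [smul_eq_mul, mul_left_comm, ha, mul_zero]
  obtain ⟨w, hwN, hwfix, hw0⟩ := LunaStable.exists_fixed_mem hα τ hτc hN hvN fun h => hvt ((ht v).2 h)
  -- invariants of the fibre product
  have hfix : ∀ q : T, ∃ c : R₀, avg α q = (1 : S) ⊗ₜ[S₀] c := by
    intro q
    induction q using TensorProduct.induction_on with
    | zero => exact ⟨0, by simp⟩
    | add a b ha hb =>
      obtain ⟨c, hc⟩ := ha
      obtain ⟨d, hd⟩ := hb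
      exact ⟨c + d, by rw [map_add, hc, hd, TensorProduct.tmul_add]⟩
    | tmul s r =>
      obtain ⟨c, hc⟩ : avg α s ∈ (IsScalarTower.toAlgHom k S₀ S).range := by rw [hS₀]; exact avg_mem hα s
      refine ⟨c • r, ?_⟩
      rw [show s ⊗ₜ[S₀] r = θT s * ((1 : S) ⊗ₜ[S₀] r) from hmulT s r,
        avg_mul_fixed α _ (show (1 : S) ⊗ₜ[S₀] r ∈ HopfRep.fixedPts k A T from hr r),
        show avg α (θT s) = θT (avg α s) from (map_avg α hθT s).symm, ← TensorProduct.smul_tmul,
        ← Algebra.algebraMap_eq_smul_one, show algebraMap S₀ S c = avg α s from hc]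
      exact (hmulT _ r).symm
  obtain ⟨c, hc⟩ := hfix w
  rw [avg_eq_self hα hwfix] at hc
  refine ⟨c, ?_, fun z hz => ?_⟩
  · have : x (P w) ≠ 0 := hw0
    rwa [hc, hP, map_one, one_mul] at this
  · rw [← hc]
    exact Ideal.mem_bot.1 (hwN z hz)

set_option maxHeartbeats 800000 in
/-- the fibre product over the quotient generates the algebra near the fibre -/
theorem exists_mul_mem_range {α : A →ₗ[k] k} (hα : IsIntegral k α)
    (hθ : Hoch.IsComodHom A (IsScalarTower.toAlgHom k S R).toLinearMap)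
    (hR₀ : (IsScalarTower.toAlgHom k R₀ R).range = GLin.invariants k A R)
    (x : R →ₐ[k] k) (hx : GLin.IsClosedOrbit k A x) (m : Ideal R) [m.IsMaximal] (hm : m = RingHom.ker x.toRingHom)
    (het : Algebra.IsEtaleAt S m)
    (hinj : ∀ g : A →ₐ[k] k, GLin.actPt k g (x.comp (IsScalarTower.toAlgHom k S R)) =
      x.comp (IsScalarTower.toAlgHom k S R) → GLin.actPt k g x = x) :
    ∃ w : R₀, x (algebraMap R₀ R w) ≠ 0 ∧ ∀ r : R, ∃ z : S ⊗[S₀] R₀,
      Algebra.TensorProduct.productMap (IsScalarTower.toAlgHom S₀ S R) (IsScalarTower.toAlgHom S₀ R₀ R) z =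
        algebraMap R₀ R w * r := by
  classical
  have hm' : ∀ r, r ∈ m ↔ x r = 0 := fun r => by subst hm; exact RingHom.mem_ker
  have hmem : ∀ e : R₀, algebraMap R₀ R e ∈ HopfRep.fixedPts k A R := fun e =>
    (hR₀ ▸ (⟨e, rfl⟩ : algebraMap R₀ R e ∈ (IsScalarTower.toAlgHom k R₀ R).range) :
      algebraMap R₀ R e ∈ GLin.invariants k A R)
  have hlift : ∀ r ∈ HopfRep.fixedPts k A R, ∃ e : R₀, algebraMap R₀ R e = r := fun r hr => by
    have : r ∈ (IsScalarTower.toAlgHom k R₀ R).range := by rw [hR₀]; exact hr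
    exact this
  let C : Subalgebra S R := Algebra.adjoin S (Set.range (algebraMap R₀ R))
  have hrange : ∀ c ∈ C, ∃ z : S ⊗[S₀] R₀,
      Algebra.TensorProduct.productMap (IsScalarTower.toAlgHom S₀ S R) (IsScalarTower.toAlgHom S₀ R₀ R) z = c := by
    intro c hc
    induction hc using Algebra.adjoin_induction with
    | mem v hv =>
      obtain ⟨e, rfl⟩ := hv
      exact ⟨(1 : S) ⊗ₜ[S₀] e, by simp⟩
    | algebraMap s => exact ⟨s ⊗ₜ[S₀] (1 : R₀), by simp⟩
    | add a b _ _ ha hb =>
      obtain ⟨p, rfl⟩ := ha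
      obtain ⟨q, rfl⟩ := hb
      exact ⟨p + q, map_add _ _ _⟩
    | mul a b _ _ ha hb =>
      obtain ⟨p, rfl⟩ := ha
      obtain ⟨q, rfl⟩ := hb
      exact ⟨p * q, map_mul _ _ _⟩
  let V : Submodule k R := Subalgebra.toSubmodule (IsScalarTower.toAlgHom k R₀ R).range
  have hV : HopfRep.IsSubcomod (k := k) (A := A) V := by
    rintro _ ⟨e, rfl⟩
    exact ⟨(⟨algebraMap R₀ R e, ⟨e, rfl⟩⟩ : V) ⊗ₜ[k] 1, (hmem e).symm⟩
  have hC : HopfRep.IsSubcomod (k := k) (A := A) (Subalgebra.toSubmodule (C.restrictScalars k)) :=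
    EquivZMT.isSubcomod_adjoin (fun s => LinearMap.congr_fun hθ s) hV (C.restrictScalars k) fun b => by
      rw [show ((V : Set R)) = Set.range (algebraMap R₀ R) from rfl]
      exact Iff.rfl
  -- the fibre over the point of `C` is the point
  haveI : Module.Finite C R := Module.Finite.of_restrictScalars_finite S C R
  haveI : IsNoetherianRing R := Algebra.FiniteType.isNoetherianRing k R
  let t : Ideal C := m.comap (algebraMap C R)
  let Q : Ideal R := t.map (algebraMap C R)
  let θ := IsScalarTower.toAlgHom k S R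
  let y := x.comp θ
  have hyc : GLin.IsClosedOrbit k A y :=
    isClosedOrbit_comp hθ ((RingHom.Finite.to_isIntegral (RingHom.finite_algebraMap.2 inferInstance))) x hx
  have hpt : ∀ M : Ideal R, M.IsMaximal → Q ≤ M → M = m := by
    intro M hM hQM
    obtain ⟨z, hz⟩ := exists_point (k := k) M
    have hzC : ∀ c : C, z (c : R) = x (c : R) := fun c => by
      have h : c - algebraMap S C (algebraMap k S (x (c : R))) ∈ t := by
        change ((c - algebraMap S C (algebraMap k S (x (c : R))) : C) : R) ∈ m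
        rw [hm']
        change x ((c : R) - algebraMap S R (algebraMap k S (x (c : R)))) = 0
        rw [← IsScalarTower.algebraMap_apply k S R]
        simp
      have h2 := (hz _).2 (hQM (Ideal.mem_map_of_mem (algebraMap C R) h))
      change z ((c : R) - algebraMap S R (algebraMap k S (x (c : R)))) = 0 at h2
      rw [← IsScalarTower.algebraMap_apply k S R, map_sub, AlgHom.commutes, sub_eq_zero] at h2
      simpa using h2
    have hzy : z.comp θ = y := AlgHom.ext fun s => hzC (algebraMap S C s)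
    have hzc : GLin.IsClosedOrbit k A z := isClosedOrbit_of_comp hθ z (by rw [hzy]; exact hyc)
    obtain ⟨g, hg⟩ := exists_actPt_eq_of_invariants hα x z hx hzc fun w hw => by
      obtain ⟨e, rfl⟩ := hlift w hw
      exact (hzC ⟨algebraMap R₀ R e, Algebra.subset_adjoin ⟨e, rfl⟩⟩).symm
    have hgy : GLin.actPt k g y = y := by
      refine AlgHom.ext fun s => ?_
      change g (GLin.orbitHom k A y s) = x (algebraMap S R s)
      conv_rhs => rw [← hg]
      rw [← hzy]
      exact congrArg g (orbitHom_comp hθ z s).symm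
    have hgx := hinj g hgy
    have hzx : z = x := by
      have h1 := congrArg (GLin.actPt k (g.comp (HopfAlgebra.antipodeAlgHom k A))) hg
      have h2 := congrArg (GLin.actPt k (g.comp (HopfAlgebra.antipodeAlgHom k A))) hgx
      rw [actPt_antipode'] at h1 h2
      rw [h1, ← h2]
    refine Ideal.ext fun r => ?_
    rw [← hz, hm', hzx]
  let Rm := Localization.AtPrime m
  haveI : IsNoetherianRing S := Algebra.FiniteType.isNoetherianRing k S
  let n := m.comap (algebraMap S R)
  haveI : m.LiesOver n := ⟨rfl⟩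
  letI := Localization.AtPrime.algebraOfLiesOver n m
  haveI : Algebra.EssFiniteType S R := inferInstance
  have hnm : n.map (algebraMap S Rm) = IsLocalRing.maximalIdeal Rm := by
    haveI : Algebra.FormallyUnramified S Rm := inferInstance
    exact ((Algebra.isUnramifiedAt_iff_map_eq S n m).1 ‹_›).2
  have hnQ : n.map (algebraMap S R) ≤ Q := by
    refine Ideal.map_le_iff_le_comap.2 fun s hs => ?_
    exact Ideal.mem_map_of_mem (algebraMap C R) (show algebraMap S C s ∈ t from hs)
  have hmQ : m ≤ Q := by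
    intro r hr
    let N : Ideal R :=
      { carrier := {a | a * r ∈ Q}
        zero_mem' := by simp
        add_mem' := fun {a b} ha hb => by rw [Set.mem_ofPred_eq, add_mul]; exact add_mem ha hb
        smul_mem' := fun d a ha => by rw [Set.mem_ofPred_eq, smul_eq_mul, mul_assoc]; exact Q.mul_mem_left _ ha }
    suffices h : N = ⊤ by
      have := (h ▸ Submodule.mem_top : (1 : R) ∈ N)
      simpa [N] using this
    by_contra hne
    obtain ⟨M, hM, hNM⟩ := Ideal.exists_le_maximal N hne
    have hMm : M = m := hpt M hM fun q hq => hNM (show q * r ∈ Q from Q.mul_mem_right _ hq)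
    have h1 : algebraMap R Rm r ∈ Q.map (algebraMap R Rm) := by
      refine Ideal.map_mono hnQ ?_
      rw [Ideal.map_map, ← IsScalarTower.algebraMap_eq, hnm, ← Localization.AtPrime.map_eq_maximalIdeal]
      exact Ideal.mem_map_of_mem _ hr
    obtain ⟨v, hv, hvr⟩ := (IsLocalization.algebraMap_mem_map_algebraMap_iff m.primeCompl Rm Q r).1 h1
    exact hv (hMm ▸ hNM (show v * r ∈ Q from hvr))
  -- Nakayama over `C`
  let W : Submodule C R := LinearMap.range (Algebra.linearMap C R)
  have hle : (⊤ : Submodule C R) ≤ W ⊔ t • ⊤ := by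
    intro r _
    rw [Ideal.smul_top_eq_map]
    have h1 : r - algebraMap k R (x r) ∈ Q := hmQ ((hm' _).2 (by simp))
    rw [show r = algebraMap k R (x r) + (r - algebraMap k R (x r)) by ring]
    refine Submodule.add_mem_sup ⟨algebraMap S C (algebraMap k S (x r)), ?_⟩ h1
    change algebraMap S R (algebraMap k S (x r)) = _
    rw [← IsScalarTower.algebraMap_apply k S R]
  obtain ⟨c, hc1, hc⟩ := Submodule.exists_sub_one_mem_and_smul_le_of_fg_of_le_sup
    (Module.Finite.fg_top (R := C) (M := R)) le_rfl hle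
  have hcR : ∀ r : R, (c : R) * r ∈ C := fun r => by
    obtain ⟨d, hd⟩ := hc (Submodule.smul_mem_pointwise_smul r c ⊤ trivial)
    have : (c : R) * r = (d : R) := by
      rw [show (c : R) * r = c • r from rfl]
      exact hd.symm
    rw [this]
    exact d.2
  have hc0 : x (c : R) ≠ 0 := by
    intro h
    have h1 := (hm' _).1 (show ((c - 1 : C) : R) ∈ m from hc1)
    simp [h] at h1
  -- the conductor
  let Cond : Ideal R :=
    { carrier := {a | ∀ v : R, a * v ∈ C}
      zero_mem' := fun v => by rw [zero_mul]; exact C.zero_mem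
      add_mem' := fun {a b} ha hb v => by rw [add_mul]; exact C.add_mem (ha v) (hb v)
      smul_mem' := fun d a ha v => by rw [smul_eq_mul, mul_comm d a, mul_assoc]; exact ha (d * v) }
  have htop : HopfRep.IsSubcomod (k := k) (A := A) (⊤ : Submodule k R) := fun w _ => by
    obtain ⟨w', hw'⟩ : ∃ w', w' = HopfRep.Comod.coact (k := k) (A := A) w := ⟨_, rfl⟩
    rw [← hw']
    clear hw'
    induction w' using TensorProduct.induction_on with
    | zero => simp
    | add p q hp hq => exact add_mem hp hq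
    | tmul p a => exact ⟨(⟨p, trivial⟩ : (⊤ : Submodule k R)) ⊗ₜ[k] a, rfl⟩
  have hCond : HopfRep.IsSubcomod (k := k) (A := A) (Cond.restrictScalars k) :=
    isSubcomod_of_slice Cond fun ψ a ha v => slice_mul_mem htop hC ψ (fun v' _ => ha v') (y := v) trivial
  obtain ⟨w, hw, hwfix, hw0⟩ := LunaStable.exists_fixed_mem hα x hx hCond (t := (c : R)) hcR hc0
  obtain ⟨e, rfl⟩ := hlift w hwfix
  exact ⟨e, hw0, fun r => hrange _ (hw r)⟩

set_option maxHeartbeats 800000 in
/-- Luna's fundamental lemma for a finite morphism -/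
theorem exists_strongly_etale {α : A →ₗ[k] k} (hα : IsIntegral k α)
    (hθ : Hoch.IsComodHom A (IsScalarTower.toAlgHom k S R).toLinearMap)
    (hS₀i : Function.Injective (algebraMap S₀ S))
    (hS₀ : (IsScalarTower.toAlgHom k S₀ S).range = GLin.invariants k A S)
    (hR₀i : Function.Injective (algebraMap R₀ R))
    (hR₀ : (IsScalarTower.toAlgHom k R₀ R).range = GLin.invariants k A R)
    (x : R →ₐ[k] k) (hx : GLin.IsClosedOrbit k A x) (m : Ideal R) [m.IsMaximal] (hm : m = RingHom.ker x.toRingHom)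
    (het : Algebra.IsEtaleAt S m)
    (hinj : ∀ g : A →ₐ[k] k, GLin.actPt k g (x.comp (IsScalarTower.toAlgHom k S R)) =
      x.comp (IsScalarTower.toAlgHom k S R) → GLin.actPt k g x = x) :
    ∃ w : R₀, x (algebraMap R₀ R w) ≠ 0 ∧ Algebra.Etale S₀ (Localization.Away w) ∧
      (∀ z : S ⊗[S₀] R₀,
        Algebra.TensorProduct.productMap (IsScalarTower.toAlgHom S₀ S R) (IsScalarTower.toAlgHom S₀ R₀ R) z = 0 →
          ((1 : S) ⊗ₜ[S₀] w) * z = 0) ∧
      ∀ r : R, ∃ z : S ⊗[S₀] R₀,
        Algebra.TensorProduct.productMap (IsScalarTower.toAlgHom S₀ S R) (IsScalarTower.toAlgHom S₀ R₀ R) z =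
          algebraMap R₀ R w * r := by
  obtain ⟨⟨f, hf, hfet⟩, hkey⟩ := exists_etale_invariants hα hθ hS₀i hS₀ hR₀i hR₀ x hx m hm het hinj
  obtain ⟨w₁, hw₁, hker⟩ := exists_mul_ker_eq_zero hα hθ hS₀ hR₀i hR₀ x hx m hm het hkey
  obtain ⟨w₂, hw₂, hsur⟩ := exists_mul_mem_range (S₀ := S₀) hα hθ hR₀ x hx m hm het hinj
  have := isScalarTower_invariants (k := k) (S := S) (R := R) (S₀ := S₀) hR₀i
  have := finite_invariants hα hθ hS₀ hR₀i hR₀
  haveI : Algebra.FinitePresentation S₀ R₀ := by
    let eS : S₀ ≃ₐ[k] GLin.invariants k A S :=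
      (AlgEquiv.ofInjective (IsScalarTower.toAlgHom k S₀ S) hS₀i).trans (Subalgebra.equivOfEq _ _ hS₀)
    have : Algebra.FiniteType k (GLin.invariants k A S) := invariants_finiteType hα
    have : Algebra.FiniteType k S₀ := Algebra.FiniteType.equiv inferInstance eS.symm
    have : IsNoetherianRing S₀ := Algebra.FiniteType.isNoetherianRing k S₀
    exact Algebra.FinitePresentation.of_finiteType.1 inferInstance
  refine ⟨f * w₁ * w₂, ?_, ?_, fun z hz => ?_, fun r => ?_⟩
  · simp only [map_mul]
    exact mul_ne_zero (mul_ne_zero hf hw₁) hw₂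
  · refine Algebra.basicOpen_subset_etaleLocus_iff_etale.1 fun p hp => ?_
    refine Algebra.basicOpen_subset_etaleLocus_iff_etale.2 hfet ?_
    rw [SetLike.mem_coe, PrimeSpectrum.mem_basicOpen] at hp ⊢
    exact fun h => hp (Ideal.mul_mem_right _ _ (Ideal.mul_mem_right _ _ h))
  · rw [show ((1 : S) ⊗ₜ[S₀] (f * w₁ * w₂)) = ((1 : S) ⊗ₜ[S₀] (f * w₂)) * ((1 : S) ⊗ₜ[S₀] w₁) by
      rw [Algebra.TensorProduct.tmul_mul_tmul, one_mul, mul_right_comm], mul_assoc, hker z hz, mul_zero]
  · obtain ⟨z, hz⟩ := hsur r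
    refine ⟨((1 : S) ⊗ₜ[S₀] (f * w₁)) * z, ?_⟩
    rw [map_mul, hz, Algebra.TensorProduct.productMap_apply_tmul, map_one, one_mul,
      IsScalarTower.coe_toAlgHom', map_mul, map_mul, map_mul]
    ring

end Finite

end Groth.Agent.Comod.LunaFund
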