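import Groth.Agent.Comod.LunaFund

/-!
# Reduction of Luna's fundamental lemma to finite morphisms
-/

set_option autoImplicit false
set_option linter.style.haveILetI false
set_option linter.unusedSectionVars false

universe u

noncomputable section

open TensorProduct

namespace Groth.Agent.Comod.LunaReduce

variable {k : Type u} [Field k] {A : Type u} [CommRing A] [HopfAlgebra k A]
  {S : Type u} [CommRing S] [Algebra k S] [HopfRep.Comod k A S] [GLin.IsCoactAlg k A S]
  {R : Type u} [CommRing R] [Algebra k R] [HopfRep.Comod k A R] [GLin.IsCoactAlg k A R]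
  [Algebra S R] [IsScalarTower k S R]

/-- Zariski's main theorem, equivariantly, at one point -/
theorem exists_factorization_at [CharZero k] [Algebra.FiniteType k A] [Algebra.FiniteType k S]
    [Algebra.FiniteType k R]
    (hequiv : ∀ s : S, HopfRep.Comod.coact (k := k) (A := A) (algebraMap S R s) =
      Algebra.TensorProduct.map (IsScalarTower.toAlgHom k S R) (AlgHom.id k A) (HopfRep.Comod.coact (k := k) (A := A) s))
    (m : Ideal R) [m.IsPrime] [Algebra.WeaklyQuasiFiniteAt S m] :
    ∃ B : Subalgebra S R, Module.Finite S B ∧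
      HopfRep.IsSubcomod (k := k) (A := A) (Subalgebra.toSubmodule (B.restrictScalars k)) ∧
      ∃ b : R, b ∈ B ∧ b ∉ m ∧ ∀ z : R, ∃ n : ℕ, b ^ n * z ∈ B := by
  classical
  haveI := smooth_of_charZero k A
  haveI : Algebra.FiniteType S R := Algebra.FiniteType.of_restrictScalars_finiteType k S R
  obtain ⟨S', hfg, r, hr, hbij⟩ :=
    Algebra.QuasiFiniteAt.exists_fg_and_exists_notMem_and_awayMap_bijective (R := S) m
  obtain ⟨G, hG⟩ := hfg
  have hint : ∀ z ∈ S', _root_.IsIntegral S z := fun z hz =>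
    _root_.IsIntegral.of_mem_of_fg _ ⟨G, hG⟩ z hz
  let C : Submodule k R := Subalgebra.toSubmodule ((integralClosure S R).restrictScalars k)
  have hC : HopfRep.IsSubcomod (k := k) (A := A) C := fun c hc => EquivZMT.coact_mem_integralClosure hequiv hc
  let F : Finset R := insert (r : R) G
  have hFC : (F : Set R) ⊆ C := by
    intro z hz
    rcases Finset.mem_insert.1 hz with rfl | hz
    · exact hint _ r.2
    · exact hint z (show z ∈ S'.toSubmodule from hG ▸ Submodule.subset_span hz)
  obtain ⟨U, hUfin, hFU, hU⟩ := exists_finite_subcomod (k := k) (A := A) F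
  let V : Submodule k R := U ⊓ C
  haveI : Module.Finite k V :=
    Module.Finite.of_injective (Submodule.inclusion inf_le_left) (Submodule.inclusion_injective _)
  let B : Subalgebra S R := Algebra.adjoin S (V : Set R)
  have hVB : (F : Set R) ⊆ B := fun z hz => Algebra.subset_adjoin (show z ∈ V from ⟨hFU hz, hFC hz⟩)
  have hS'B : S' ≤ B := by
    intro z hz
    have : z ∈ Submodule.span S (G : Set R) := by rw [hG]; exact hz
    exact Submodule.span_le (p := B.toSubmodule).2 (fun w hw => hVB (Finset.mem_insert_of_mem hw)) this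
  refine ⟨B, ?_, EquivZMT.isSubcomod_adjoin hequiv (isSubcomod_inf hU hC) (B.restrictScalars k) fun _ => Iff.rfl,
    (r : R), hS'B r.2, hr, fun z => ?_⟩
  · obtain ⟨g, hg⟩ := Module.Finite.fg_top (R := k) (M := V)
    have hB : B = Algebra.adjoin S ((Subtype.val : V → R) '' (g : Set V)) := by
      refine le_antisymm (Algebra.adjoin_le fun v hv => ?_) (Algebra.adjoin_mono ?_)
      · have h1 : (⟨v, hv⟩ : V) ∈ Submodule.span k (g : Set V) := hg ▸ Submodule.mem_top
        have h2 := Submodule.apply_mem_span_image_of_mem_span V.subtype h1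
        exact Submodule.span_le (p := Subalgebra.toSubmodule ((Algebra.adjoin S
          ((Subtype.val : V → R) '' (g : Set V))).restrictScalars k)).2
          (fun w hw => Algebra.subset_adjoin hw) h2
      · rintro _ ⟨v, -, rfl⟩
        exact v.2
    refine (Module.Finite.iff_fg (N := Subalgebra.toSubmodule B)).2 ?_
    change B.toSubmodule.FG
    rw [hB]
    exact fg_adjoin_of_finite (g.finite_toSet.image _) (by rintro _ ⟨v, -, rfl⟩; exact v.2.2)
  · obtain ⟨w, hw⟩ := hbij.2 (algebraMap R _ z)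
    obtain ⟨a, ⟨_, n, rfl⟩, rfl⟩ := IsLocalization.exists_mk'_eq (Submonoid.powers r) w
    simp only [Localization.awayMap, IsLocalization.Away.map, IsLocalization.map_mk'] at hw
    rw [IsLocalization.mk'_eq_iff_eq_mul, ← map_mul,
      IsLocalization.eq_iff_exists (Submonoid.powers (S'.val.toRingHom r))] at hw
    obtain ⟨⟨_, l, rfl⟩, hl⟩ := hw
    simp only [AlgHom.toRingHom_eq_coe, RingHom.coe_coe, Subalgebra.coe_val, map_pow] at hl
    refine ⟨l + n, ?_⟩
    rw [pow_add, mul_assoc, mul_comm ((r : R) ^ n) z, ← hl]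
    exact B.mul_mem (pow_mem (hS'B r.2) l) (hS'B a.2)

omit [Algebra k R] [HopfRep.Comod k A R] [GLin.IsCoactAlg k A R] [Algebra k S] [HopfRep.Comod k A S]
  [GLin.IsCoactAlg k A S] [IsScalarTower k S R] in
/-- étaleness descends to a subalgebra with the same localisation -/
theorem isEtaleAt_subalgebra (B : Subalgebra S R) (m : Ideal R) [m.IsPrime] [Algebra.IsEtaleAt S m]
    {b : R} (hb : b ∈ B) (hbm : b ∉ m) (hloc : ∀ z : R, ∃ n : ℕ, b ^ n * z ∈ B) :
    Algebra.IsEtaleAt S (m.comap (algebraMap B R)) := by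
  let m' := m.comap (algebraMap B R)
  let Rm := Localization.AtPrime m
  haveI : IsLocalization m'.primeCompl Rm := by
    constructor
    constructor
    · rintro ⟨c, hc⟩
      exact IsLocalization.map_units Rm (⟨(c : R), hc⟩ : m.primeCompl)
    · intro z
      obtain ⟨⟨a, v, hv⟩, rfl⟩ := IsLocalization.mk'_surjective m.primeCompl z
      obtain ⟨n, hn⟩ := hloc a
      obtain ⟨l, hl⟩ := hloc v
      refine ⟨⟨⟨b ^ l * (b ^ n * a), B.mul_mem (pow_mem hb l) hn⟩, ⟨⟨b ^ n * (b ^ l * v),
        B.mul_mem (pow_mem hb n) hl⟩, fun h => ?_⟩⟩, ?_⟩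
      · rcases Ideal.IsPrime.mem_or_mem ‹m.IsPrime› (show b ^ n * (b ^ l * v) ∈ m from h) with h | h
        · exact hbm (Ideal.IsPrime.mem_of_pow_mem ‹m.IsPrime› n h)
        · rcases Ideal.IsPrime.mem_or_mem ‹m.IsPrime› h with h | h
          · exact hbm (Ideal.IsPrime.mem_of_pow_mem ‹m.IsPrime› l h)
          · exact hv h
      · change IsLocalization.mk' Rm a (⟨v, hv⟩ : m.primeCompl) * algebraMap R Rm (b ^ n * (b ^ l * v)) =
          algebraMap R Rm (b ^ l * (b ^ n * a))
        rw [mul_comm, IsLocalization.mul_mk'_eq_mk'_of_mul, IsLocalization.mk'_eq_iff_eq_mul, ← map_mul]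
        refine congrArg _ ?_
        ring
    · intro p q h
      change algebraMap R Rm (p : R) = algebraMap R Rm (q : R) at h
      obtain ⟨⟨v, hv⟩, hvpq⟩ := (IsLocalization.eq_iff_exists m.primeCompl Rm).1 h
      obtain ⟨l, hl⟩ := hloc v
      refine ⟨⟨⟨b ^ l * v, hl⟩, fun h => ?_⟩, Subtype.ext ?_⟩
      · rcases Ideal.IsPrime.mem_or_mem ‹m.IsPrime› (show b ^ l * v ∈ m from h) with h | h
        · exact hbm (Ideal.IsPrime.mem_of_pow_mem ‹m.IsPrime› l h)
        · exact hv h
      · change b ^ l * v * (p : R) = b ^ l * v * (q : R)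
        rw [mul_assoc, mul_assoc]
        exact congrArg (b ^ l * ·) hvpq
  let e : Localization.AtPrime m' ≃ₐ[S] Rm :=
    (IsLocalization.algEquiv m'.primeCompl (Localization.AtPrime m') Rm).restrictScalars S
  exact Algebra.FormallyEtale.of_equiv e.symm

/-- an equivariant étale map is a localisation of a finite one near the point -/
theorem exists_model [CharZero k] [Algebra.FiniteType k A] [Algebra.FiniteType k S] [Algebra.FiniteType k R]
    (hequiv : ∀ s : S, HopfRep.Comod.coact (k := k) (A := A) (algebraMap S R s) =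
      Algebra.TensorProduct.map (IsScalarTower.toAlgHom k S R) (AlgHom.id k A) (HopfRep.Comod.coact (k := k) (A := A) s))
    (m : Ideal R) [m.IsPrime] [Algebra.IsEtaleAt S m] :
    ∃ (B : Type u) (_ : CommRing B) (_ : Algebra k B) (_ : Algebra S B) (_ : IsScalarTower k S B)
      (_ : HopfRep.Comod k A B) (_ : GLin.IsCoactAlg k A B) (i : B →ₐ[S] R),
      Module.Finite S B ∧ Algebra.FiniteType k B ∧ Function.Injective i ∧
      Hoch.IsComodHom A (IsScalarTower.toAlgHom k S B).toLinearMap ∧
      Hoch.IsComodHom A (i.restrictScalars k).toLinearMap ∧ Algebra.IsEtaleAt S (m.comap i.toRingHom) ∧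
      ∃ b : B, i b ∉ m ∧ ∀ z : R, ∃ (n : ℕ) (c : B), i c = i b ^ n * z := by
  haveI : Algebra.FiniteType S R := Algebra.FiniteType.of_restrictScalars_finiteType k S R
  haveI : Algebra.FormallyUnramified S (Localization.AtPrime m) := inferInstance
  haveI : Algebra.EssFiniteType S (Localization.AtPrime m) := .comp S R _
  haveI : Algebra.QuasiFiniteAt S m := (inferInstance : Algebra.QuasiFinite S (Localization.AtPrime m))
  obtain ⟨B, hfin, hsub, b, hb, hbm, hloc⟩ := exists_factorization_at hequiv m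
  obtain ⟨c, hca, hc⟩ := EquivZMT.exists_restr (B.restrictScalars k) hsub
  let c' : HopfRep.Comod k A B := c
  letI := c'
  haveI hca' : GLin.IsCoactAlg k A B := hca
  have hinj : Function.Injective (Algebra.TensorProduct.map (B.val.restrictScalars k) (AlgHom.id k A)) :=
    Module.Flat.rTensor_preserves_injective_linearMap (M := A) (B.val.restrictScalars k).toLinearMap
      Subtype.val_injective
  have hval : ∀ w : B ⊗[k] A, (B.val.restrictScalars k).toLinearMap.rTensor A w =
      Algebra.TensorProduct.map (B.val.restrictScalars k) (AlgHom.id k A) w := by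
    intro w
    induction w using TensorProduct.induction_on with
    | zero => simp
    | add p q hp hq => simp only [map_add, hp, hq]
    | tmul p a => simp
  have hi : Hoch.IsComodHom A (B.val.restrictScalars k).toLinearMap := LinearMap.ext fun z =>
    (hc z).trans (hval _).symm
  haveI : Algebra.FiniteType S B := Module.Finite.finiteType _
  refine ⟨B, inferInstance, inferInstance, inferInstance, inferInstance, c', hca', B.val, hfin,
    Algebra.FiniteType.trans (S := S) inferInstance inferInstance, Subtype.val_injective, ?_, hi,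
    isEtaleAt_subalgebra B m hb hbm hloc, ⟨b, hb⟩, hbm, fun z => ?_⟩
  · refine LinearMap.ext fun s => hinj ?_
    rw [← hval, ← hval]
    refine (LinearMap.congr_fun hi _).symm.trans ?_
    simp only [LinearMap.comp_apply, ← LinearMap.rTensor_comp_apply]
    change HopfRep.Comod.coact (k := k) (A := A) (algebraMap S R s) = _
    rw [hequiv]
    induction HopfRep.Comod.coact (k := k) (A := A) s using TensorProduct.induction_on with
    | zero => simp
    | add p q hp hq => simp only [map_add, hp, hq]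
    | tmul p a => simp
  · obtain ⟨n, hn⟩ := hloc z
    exact ⟨n, ⟨_, hn⟩, rfl⟩

variable [IsAlgClosed k] [CharZero k] [IsDomain A] [Algebra.FiniteType k A] [Algebra.FiniteType k S]
  [Algebra.FiniteType k R]
  {S₀ : Type u} [CommRing S₀] [Algebra k S₀] [Algebra S₀ S] [IsScalarTower k S₀ S]
  {R₀ : Type u} [CommRing R₀] [Algebra k R₀] [Algebra R₀ R] [IsScalarTower k R₀ R]
  [Algebra S₀ R₀] [Algebra S₀ R] [IsScalarTower S₀ S R] [IsScalarTower S₀ R₀ R]

omit [Algebra.FiniteType k S] [Algebra.FiniteType k R] [IsDomain A] [IsAlgClosed k] [CharZero k]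
  [Algebra.FiniteType k A] in
theorem fixed_of_map {B : Type u} [CommRing B] [Algebra k B] [HopfRep.Comod k A B] {i : B →ₗ[k] R}
    (hinj : Function.Injective i) (hi : Hoch.IsComodHom A i) {b : B}
    (hb : i b ∈ HopfRep.fixedPts k A R) : b ∈ HopfRep.fixedPts k A B := by
  refine Module.Flat.rTensor_preserves_injective_linearMap (M := A) i hinj ?_
  rw [LinearMap.rTensor_tmul, ← show HopfRep.Comod.coact (k := k) (A := A) (i b) = i.rTensor A _ from
    LinearMap.congr_fun hi b]
  exact hb

set_option maxHeartbeats 1600000 in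
/-- Luna's fundamental lemma, near the point -/
theorem exists_local {α : A →ₗ[k] k} (hα : IsIntegral k α)
    (hequiv : ∀ s : S, HopfRep.Comod.coact (k := k) (A := A) (algebraMap S R s) =
      Algebra.TensorProduct.map (IsScalarTower.toAlgHom k S R) (AlgHom.id k A) (HopfRep.Comod.coact (k := k) (A := A) s))
    (hS₀i : Function.Injective (algebraMap S₀ S))
    (hS₀ : (IsScalarTower.toAlgHom k S₀ S).range = GLin.invariants k A S)
    (hR₀i : Function.Injective (algebraMap R₀ R))
    (hR₀ : (IsScalarTower.toAlgHom k R₀ R).range = GLin.invariants k A R)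
    (x : R →ₐ[k] k) (m : Ideal R) [m.IsMaximal] (hm : m = RingHom.ker x.toRingHom) (het : Algebra.IsEtaleAt S m)
    (hy : GLin.IsClosedOrbit k A (x.comp (IsScalarTower.toAlgHom k S R)))
    (hinj : ∀ g : A →ₐ[k] k, GLin.actPt k g (x.comp (IsScalarTower.toAlgHom k S R)) =
      x.comp (IsScalarTower.toAlgHom k S R) → GLin.actPt k g x = x) :
    ∃ f : R₀, x (algebraMap R₀ R f) ≠ 0 ∧ Algebra.Etale S₀ (Localization.Away f) ∧
      (∀ z : S ⊗[S₀] R₀,
        Algebra.TensorProduct.productMap (IsScalarTower.toAlgHom S₀ S R) (IsScalarTower.toAlgHom S₀ R₀ R) z = 0 →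
          ∃ n : ℕ, ((1 : S) ⊗ₜ[S₀] f) ^ n * z = 0) ∧
      ∀ r : R, ∃ (n : ℕ) (z : S ⊗[S₀] R₀),
        Algebra.TensorProduct.productMap (IsScalarTower.toAlgHom S₀ S R) (IsScalarTower.toAlgHom S₀ R₀ R) z =
          algebraMap R₀ R f ^ n * r := by
  classical
  haveI : m.IsPrime := Ideal.IsMaximal.isPrime inferInstance
  obtain ⟨B, _, _, _, _, _, _, i, hfin, hft, hii, hθB, hi, hetB, b, hbm, hloc⟩ :=
    exists_model (A := A) hequiv m
  let ik : B →ₐ[k] R := i.restrictScalars k
  let θB := IsScalarTower.toAlgHom k S B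
  have hm' : ∀ r, r ∈ m ↔ x r = 0 := fun r => by subst hm; exact RingHom.mem_ker
  let x' : B →ₐ[k] k := x.comp ik
  have hx'θ : x'.comp θB = x.comp (IsScalarTower.toAlgHom k S R) := AlgHom.ext fun s => congrArg x (i.commutes s)
  have hx'c : GLin.IsClosedOrbit k A x' := isClosedOrbit_of_comp hθB x' (by rw [hx'θ]; exact hy)
  let m' : Ideal B := m.comap i.toRingHom
  have hm'B : m' = RingHom.ker x'.toRingHom := Ideal.ext fun c => hm' _
  haveI : m'.IsMaximal := by
    rw [hm'B]
    exact RingHom.ker_isMaximal_of_surjective _ fun c => ⟨algebraMap k B c, by simp⟩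
  have hinj' : ∀ g : A →ₐ[k] k, GLin.actPt k g (x'.comp θB) = x'.comp θB → GLin.actPt k g x' = x' := by
    intro g hg
    rw [hx'θ] at hg
    refine AlgHom.ext fun c => ?_
    change g (GLin.orbitHom k A (x.comp ik) c) = x (ik c)
    rw [← orbitHom_comp (θ := ik) hi x c]
    exact AlgHom.congr_fun (hinj g hg) (ik c)
  -- invariants of the model
  let B₀ := GLin.invariants k A B
  have hfixS : ∀ c : S₀, algebraMap S₀ S c ∈ HopfRep.fixedPts k A S := fun c =>
    (hS₀ ▸ (⟨c, rfl⟩ : algebraMap S₀ S c ∈ (IsScalarTower.toAlgHom k S₀ S).range) :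
      algebraMap S₀ S c ∈ GLin.invariants k A S)
  have hfixR : ∀ e : R₀, algebraMap R₀ R e ∈ HopfRep.fixedPts k A R := fun e =>
    (hR₀ ▸ (⟨e, rfl⟩ : algebraMap R₀ R e ∈ (IsScalarTower.toAlgHom k R₀ R).range) :
      algebraMap R₀ R e ∈ GLin.invariants k A R)
  have hlift : ∀ r ∈ HopfRep.fixedPts k A R, ∃ e : R₀, algebraMap R₀ R e = r := fun r hr => by
    have : r ∈ (IsScalarTower.toAlgHom k R₀ R).range := by rw [hR₀]; exact hr
    exact this
  have hmapfix : ∀ c : B, c ∈ HopfRep.fixedPts k A B → i c ∈ HopfRep.fixedPts k A R := fun c hc => by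
    change _ = _
    have h := LinearMap.congr_fun hi c
    simp only [LinearMap.comp_apply] at h
    rw [show HopfRep.Comod.coact (k := k) (A := A) c = c ⊗ₜ[k] (1 : A) from hc, LinearMap.rTensor_tmul] at h
    exact h
  have hSB : ∀ c : S₀, algebraMap S B (algebraMap S₀ S c) ∈ B₀ := fun c => by
    refine fixed_of_map (i := ik.toLinearMap) hii hi ?_
    change i (algebraMap S B (algebraMap S₀ S c)) ∈ _
    rw [i.commutes, ← IsScalarTower.algebraMap_apply S₀ S R, IsScalarTower.algebraMap_apply S₀ R₀ R]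
    exact hfixR _
  letI : Algebra S₀ B := ((algebraMap S B).comp (algebraMap S₀ S)).toAlgebra
  haveI : IsScalarTower S₀ S B := IsScalarTower.of_algebraMap_eq fun c => rfl
  letI : Algebra S₀ B₀ := (((algebraMap S B).comp (algebraMap S₀ S)).codRestrict B₀ hSB).toAlgebra
  haveI : IsScalarTower S₀ B₀ B := IsScalarTower.of_algebraMap_eq fun c => rfl
  have hB₀ : (IsScalarTower.toAlgHom k B₀ B).range = GLin.invariants k A B := by
    refine SetLike.ext fun c => ⟨fun h => ?_, fun hc => (AlgHom.mem_range _).2 ⟨⟨c, hc⟩, rfl⟩⟩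
    obtain ⟨e, rfl⟩ := (AlgHom.mem_range _).1 h
    exact e.2
  have hB₀i : Function.Injective (algebraMap B₀ B) := Subtype.val_injective
  haveI : IsScalarTower k S₀ B₀ :=
    LunaFund.isScalarTower_invariants (k := k) (S := S) (R := B) (S₀ := S₀) hB₀i
  obtain ⟨w, hw0, hwet, hwker, hwsur⟩ :=
    LunaFund.exists_strongly_etale (R := B) (R₀ := B₀) hα hθB hS₀i hS₀ hB₀i hB₀ x' hx'c m' hm'B hetB hinj'
  -- the conductor
  obtain ⟨G, hG⟩ := Algebra.FiniteType.out (R := k) (A := R)
  obtain ⟨V, hVfin, hGV, hV⟩ := exists_finite_subcomod (k := k) (A := A) G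
  let J : Submodule k R := LinearMap.range ik.toLinearMap
  have hJ : HopfRep.IsSubcomod (k := k) (A := A) J := isSubcomod_range hi
  let N : Ideal B :=
    { carrier := {c | ∀ v ∈ V, i c * v ∈ J}
      zero_mem' := fun v _ => by simp
      add_mem' := fun {c d} hc hd v hv => by rw [map_add, add_mul]; exact add_mem (hc v hv) (hd v hv)
      smul_mem' := fun e c hc v hv => by
        obtain ⟨q, hq⟩ := hc v hv
        refine ⟨e * q, ?_⟩
        change i (e * q) = i (e • c) * v
        rw [map_mul, smul_eq_mul, map_mul, mul_assoc, show i q = i c * v from hq] }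
  have hN : HopfRep.IsSubcomod (k := k) (A := A) (N.restrictScalars k) := by
    refine isSubcomod_of_slice N fun ψ c hc v hv => ?_
    have h : i (slice ψ (HopfRep.Comod.coact (k := k) (A := A) c)) =
        slice ψ (HopfRep.Comod.coact (k := k) (A := A) (i c)) := by
      rw [show HopfRep.Comod.coact (k := k) (A := A) (i c) = ik.toLinearMap.rTensor A _ from
        LinearMap.congr_fun hi c, slice_rTensor]
      rfl
    rw [h]
    exact LunaFund.slice_mul_mem hV hJ ψ (fun v' hv' => hc v' hv') hv
  obtain ⟨u, hu0, huN⟩ : ∃ u : B, x' u ≠ 0 ∧ u ∈ N := by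
    haveI : Module.Finite k V := hVfin
    obtain ⟨g, hg⟩ := Module.Finite.fg_top (R := k) (M := V)
    choose n c hc using fun v : V => hloc (v : R)
    let M := g.sup n
    refine ⟨b ^ M, ?_, fun v hv => ?_⟩
    · rw [map_pow]
      exact pow_ne_zero _ fun h => hbm ((hm' _).2 h)
    · have h1 : (⟨v, hv⟩ : V) ∈ Submodule.span k (g : Set V) := hg ▸ Submodule.mem_top
      have h2 := Submodule.apply_mem_span_image_of_mem_span (V.subtype) h1
      refine Submodule.span_le (p := J.comap (LinearMap.mulLeft k (i (b ^ M)))).2 ?_ h2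
      rintro _ ⟨p, hp, rfl⟩
      refine ⟨b ^ (M - n p) * c p, ?_⟩
      change i (b ^ (M - n p) * c p) = i (b ^ M) * (p : R)
      rw [map_mul, hc, map_pow, map_pow, ← mul_assoc, ← pow_add,
        Nat.sub_add_cancel (Finset.le_sup (f := n) hp)]
  obtain ⟨v, hvN, hvfix, hv0⟩ := LunaStable.exists_fixed_mem hα x' hx'c hN huN hu0
  let u' : B₀ := ⟨v, hvfix⟩
  have hloc' : ∀ z : R, ∃ (n : ℕ) (c : B), i c = i v ^ n * z := by
    intro z
    have hz : z ∈ Algebra.adjoin k (G : Set R) := hG ▸ Algebra.mem_top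
    induction hz using Algebra.adjoin_induction with
    | mem p hp =>
      obtain ⟨c, hc⟩ := hvN p (hGV hp)
      exact ⟨1, c, by rw [pow_one]; exact hc⟩
    | algebraMap e => exact ⟨0, algebraMap k B e, by rw [pow_zero, one_mul]; exact ik.commutes e⟩
    | add p q _ _ hp hq =>
      obtain ⟨n, c, hc⟩ := hp
      obtain ⟨l, d, hd⟩ := hq
      exact ⟨n + l, v ^ l * c + v ^ n * d, by rw [map_add, map_mul, map_mul, map_pow, map_pow, hc, hd]; ring⟩
    | mul p q _ _ hp hq =>
      obtain ⟨n, c, hc⟩ := hp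
      obtain ⟨l, d, hd⟩ := hq
      exact ⟨n + l, c * d, by rw [map_mul, hc, hd]; ring⟩
  -- comparison of the invariants
  choose π₀ hπ₀ using fun c : B₀ => hlift _ (hmapfix c c.2)
  let π : B₀ →ₐ[S₀] R₀ :=
    { toFun := π₀
      map_one' := hR₀i (by rw [hπ₀, map_one, OneMemClass.coe_one, map_one])
      map_mul' := fun c d => hR₀i (by rw [map_mul, hπ₀, hπ₀, hπ₀, MulMemClass.coe_mul, map_mul])
      map_zero' := hR₀i (by rw [hπ₀, map_zero, ZeroMemClass.coe_zero, map_zero])
      map_add' := fun c d => hR₀i (by rw [map_add, hπ₀, hπ₀, hπ₀, AddMemClass.coe_add, map_add])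
      commutes' := fun c => hR₀i (by
        rw [hπ₀, ← IsScalarTower.algebraMap_apply S₀ R₀ R, IsScalarTower.algebraMap_apply S₀ S R]
        exact i.commutes _) }
  have hπ : ∀ c : B₀, algebraMap R₀ R (π c) = i c := hπ₀
  have hπi : Function.Injective π := fun c d h => Subtype.ext (hii (by rw [← hπ, ← hπ, h]))
  have hloc0 : ∀ r : R₀, ∃ (n : ℕ) (c : B₀), π c = π u' ^ n * r := by
    intro r
    obtain ⟨n, c, hc⟩ := hloc' (algebraMap R₀ R r)
    have hcfix : c ∈ HopfRep.fixedPts k A B := fixed_of_map (i := ik.toLinearMap) hii hi (by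
      change i c ∈ _
      rw [hc, ← hπ u', ← map_pow, ← map_mul]
      exact hfixR _)
    exact ⟨n, ⟨c, hcfix⟩, hR₀i (by rw [hπ, map_mul, map_pow, hπ]; exact hc)⟩
  refine ⟨π (w * u'), ?_, ?_, ?_, ?_⟩
  · rw [hπ, MulMemClass.coe_mul, map_mul, map_mul]
    exact mul_ne_zero hw0 hv0
  · let f := π (w * u')
    letI : Algebra B₀ (Localization.Away f) := ((algebraMap R₀ (Localization.Away f)).comp π.toRingHom).toAlgebra
    haveI : IsScalarTower S₀ B₀ (Localization.Away f) := IsScalarTower.of_algebraMap_eq fun c => by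
      change _ = algebraMap R₀ (Localization.Away f) (π (algebraMap S₀ B₀ c))
      rw [π.commutes, ← IsScalarTower.algebraMap_apply]
    haveI : IsLocalization (Submonoid.powers (w * u')) (Localization.Away f) := by
      constructor
      constructor
      · rintro ⟨_, n, rfl⟩
        change IsUnit (algebraMap R₀ (Localization.Away f) (π ((w * u') ^ n)))
        rw [map_pow, map_pow]
        exact (IsLocalization.Away.algebraMap_isUnit f).pow n
      · intro z
        obtain ⟨r, ⟨_, n, rfl⟩, rfl⟩ := IsLocalization.exists_mk'_eq (Submonoid.powers f) z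
        obtain ⟨l, c, hc⟩ := hloc0 r
        refine ⟨⟨w ^ l * c, ⟨(w * u') ^ (n + l), n + l, rfl⟩⟩, ?_⟩
        change IsLocalization.mk' _ r _ * algebraMap R₀ (Localization.Away f) (π ((w * u') ^ (n + l))) =
          algebraMap R₀ (Localization.Away f) (π (w ^ l * c))
        rw [mul_comm, IsLocalization.mul_mk'_eq_mk'_of_mul, IsLocalization.mk'_eq_iff_eq_mul, ← map_mul]
        refine congrArg _ ?_
        simp only [map_mul, map_pow, hc, f]
        ring
      · intro p q h
        change algebraMap R₀ (Localization.Away f) (π p) = algebraMap R₀ (Localization.Away f) (π q) at h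
        obtain ⟨⟨_, n, rfl⟩, hn⟩ := (IsLocalization.eq_iff_exists (Submonoid.powers f) _).1 h
        refine ⟨⟨(w * u') ^ n, n, rfl⟩, hπi ?_⟩
        change π ((w * u') ^ n * p) = π ((w * u') ^ n * q)
        rw [map_mul, map_mul, map_pow]
        exact hn
    haveI : Module.Finite S₀ B₀ := LunaFund.finite_invariants hα hθB hS₀ hB₀i hB₀
    haveI : Algebra.FinitePresentation S₀ B₀ := by
      let eS : S₀ ≃ₐ[k] GLin.invariants k A S :=
        (AlgEquiv.ofInjective (IsScalarTower.toAlgHom k S₀ S) hS₀i).trans (Subalgebra.equivOfEq _ _ hS₀)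
      have : Algebra.FiniteType k (GLin.invariants k A S) := invariants_finiteType hα
      have : Algebra.FiniteType k S₀ := Algebra.FiniteType.equiv inferInstance eS.symm
      have : IsNoetherianRing S₀ := Algebra.FiniteType.isNoetherianRing k S₀
      exact Algebra.FinitePresentation.of_finiteType.1 inferInstance
    haveI : Algebra.Etale S₀ (Localization.Away (w * u')) := by
      refine Algebra.basicOpen_subset_etaleLocus_iff_etale.1 fun p hp => ?_
      refine Algebra.basicOpen_subset_etaleLocus_iff_etale.2 hwet ?_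
      rw [SetLike.mem_coe, PrimeSpectrum.mem_basicOpen] at hp ⊢
      exact fun h => hp (Ideal.mul_mem_right _ _ h)
    exact Algebra.Etale.of_equiv
      ((IsLocalization.algEquiv (Submonoid.powers (w * u')) (Localization.Away (w * u'))
        (Localization.Away f)).restrictScalars S₀)
  · intro z hz
    let μ : S ⊗[S₀] B₀ →ₐ[S₀] S ⊗[S₀] R₀ := Algebra.TensorProduct.map (AlgHom.id S₀ S) π
    let P' := Algebra.TensorProduct.productMap (IsScalarTower.toAlgHom S₀ S B) (IsScalarTower.toAlgHom S₀ B₀ B)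
    let P := Algebra.TensorProduct.productMap (IsScalarTower.toAlgHom S₀ S R) (IsScalarTower.toAlgHom S₀ R₀ R)
    have hμ : ∀ q, P (μ q) = i (P' q) := by
      intro q
      induction q using TensorProduct.induction_on with
      | zero => simp
      | add p q hp hq => simp only [map_add, hp, hq]
      | tmul s c =>
        simp only [μ, P, P', Algebra.TensorProduct.map_tmul, AlgHom.id_apply,
          Algebra.TensorProduct.productMap_apply_tmul, IsScalarTower.coe_toAlgHom', map_mul, hπ, i.commutes]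
        rfl
    have hclear : ∀ z : S ⊗[S₀] R₀, ∃ (n : ℕ) (q : S ⊗[S₀] B₀), μ q = ((1 : S) ⊗ₜ[S₀] π u') ^ n * z := by
      intro z
      induction z using TensorProduct.induction_on with
      | zero => exact ⟨0, 0, by simp⟩
      | tmul s r =>
        obtain ⟨n, c, hc⟩ := hloc0 r
        refine ⟨n, s ⊗ₜ[S₀] c, ?_⟩
        simp only [μ, Algebra.TensorProduct.map_tmul, AlgHom.id_apply, hc, Algebra.TensorProduct.tmul_pow,
          one_pow, Algebra.TensorProduct.tmul_mul_tmul, one_mul]
      | add p q hp hq =>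
        obtain ⟨n, c, hc⟩ := hp
        obtain ⟨l, d, hd⟩ := hq
        have hU : μ ((1 : S) ⊗ₜ[S₀] u') = (1 : S) ⊗ₜ[S₀] π u' := rfl
        refine ⟨n + l, ((1 : S) ⊗ₜ[S₀] u') ^ l * c + ((1 : S) ⊗ₜ[S₀] u') ^ n * d, ?_⟩
        rw [map_add, map_mul, map_mul, map_pow, map_pow, hU, hc, hd]
        ring
    obtain ⟨n, q, hq⟩ := hclear z
    have h0 : P' q = 0 := hii (by rw [← hμ, hq, map_mul, show P z = 0 from hz, mul_zero, map_zero])
    have h1 := congrArg μ (hwker q h0)
    rw [map_mul, map_zero, hq] at h1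
    refine ⟨n + 1, ?_⟩
    have e : ((1 : S) ⊗ₜ[S₀] π (w * u')) ^ (n + 1) * z =
        (((1 : S) ⊗ₜ[S₀] π w) ^ n * ((1 : S) ⊗ₜ[S₀] π u')) *
          (μ ((1 : S) ⊗ₜ[S₀] w) * (((1 : S) ⊗ₜ[S₀] π u') ^ n * z)) := by
      rw [show μ ((1 : S) ⊗ₜ[S₀] w) = (1 : S) ⊗ₜ[S₀] π w from rfl,
        show (1 : S) ⊗ₜ[S₀] π (w * u') = ((1 : S) ⊗ₜ[S₀] π w) * ((1 : S) ⊗ₜ[S₀] π u') by
          rw [Algebra.TensorProduct.tmul_mul_tmul, one_mul, map_mul]]
      ring
    rw [e, h1, mul_zero]
  · intro r
    obtain ⟨n, c, hc⟩ := hloc' r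
    obtain ⟨q, hq⟩ := hwsur c
    let μ : S ⊗[S₀] B₀ →ₐ[S₀] S ⊗[S₀] R₀ := Algebra.TensorProduct.map (AlgHom.id S₀ S) π
    refine ⟨n + 1, (((1 : S) ⊗ₜ[S₀] π w) ^ n * ((1 : S) ⊗ₜ[S₀] π u')) * μ q, ?_⟩
    have hμq : Algebra.TensorProduct.productMap (IsScalarTower.toAlgHom S₀ S R) (IsScalarTower.toAlgHom S₀ R₀ R) (μ q) =
        i (Algebra.TensorProduct.productMap (IsScalarTower.toAlgHom S₀ S B) (IsScalarTower.toAlgHom S₀ B₀ B) q) := by
      clear hq
      induction q using TensorProduct.induction_on with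
      | zero => simp
      | add p q hp hq => simp only [map_add, hp, hq]
      | tmul s c =>
        simp only [μ, Algebra.TensorProduct.map_tmul, AlgHom.id_apply,
          Algebra.TensorProduct.productMap_apply_tmul, IsScalarTower.coe_toAlgHom', map_mul, hπ, i.commutes]
        rfl
    rw [map_mul, map_mul, map_pow, hμq, hq]
    simp only [Algebra.TensorProduct.productMap_apply_tmul, IsScalarTower.coe_toAlgHom', map_one, one_mul,
      map_mul, hπ, hc, show (algebraMap B₀ B w : B) = (w : B) from rfl]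
    change i w ^ n * i v * (i w * (i v ^ n * r)) = (i w * i v) ^ (n + 1) * r
    ring

end Groth.Agent.Comod.LunaReduce
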