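import Groth.Agent.Comod.Orbit
import Groth.Agent.Comod.Luna
import Mathlib.RingTheory.Etale.Locus
import Mathlib.RingTheory.Smooth.Flat
import Mathlib.RingTheory.Ideal.GoingDown
import Mathlib.RingTheory.Spectrum.Prime.Chevalley
import Mathlib.RingTheory.Localization.BaseChange

/-!
# Spreading out a strongly étale chart
-/

set_option autoImplicit false
set_option linter.style.haveILetI false
set_option linter.unusedSectionVars false

universe u

noncomputable section

open TensorProduct

namespace Groth.Agent.Comod.LunaSpread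

/-- a map which is bijective up to powers of an element is bijective after inverting it -/
theorem bijective_awayMap {T R : Type u} [CommRing T] [CommRing R] (P : T →+* R) (c : T)
    (hker : ∀ z, P z = 0 → ∃ n : ℕ, c ^ n * z = 0) (hsur : ∀ r, ∃ (n : ℕ) (z : T), P z = P c ^ n * r) :
    Function.Bijective (Localization.awayMap P c) := by
  refine ⟨(injective_iff_map_eq_zero _).2 fun z hz => ?_, fun y => ?_⟩
  · obtain ⟨a, ⟨_, l, rfl⟩, rfl⟩ := IsLocalization.exists_mk'_eq (Submonoid.powers c) z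
    simp only [Localization.awayMap, IsLocalization.Away.map, IsLocalization.map_mk'] at hz
    obtain ⟨⟨_, n, rfl⟩, hn⟩ := (IsLocalization.mk'_eq_zero_iff _ _).1 hz
    change P c ^ n * P a = 0 at hn
    rw [← map_pow, ← map_mul] at hn
    obtain ⟨m, hm⟩ := hker _ hn
    refine (IsLocalization.mk'_eq_zero_iff _ _).2 ⟨⟨c ^ (m + n), m + n, rfl⟩, ?_⟩
    change c ^ (m + n) * a = 0
    rw [pow_add, mul_assoc, hm]
  · obtain ⟨r, ⟨_, l, rfl⟩, rfl⟩ := IsLocalization.exists_mk'_eq (Submonoid.powers (P c)) y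
    obtain ⟨n, z, hz⟩ := hsur r
    refine ⟨IsLocalization.mk' _ z (⟨c ^ (n + l), n + l, rfl⟩ : Submonoid.powers c), ?_⟩
    simp only [Localization.awayMap, IsLocalization.Away.map, IsLocalization.map_mk']
    rw [IsLocalization.mk'_eq_iff_eq]
    refine congrArg _ ?_
    simp only [hz, map_pow]
    ring

/-- a tensor product of two fields over a field has a prime -/
theorem exists_prime_over {S₀ S R' : Type u} [CommRing S₀] [CommRing S] [CommRing R'] [Algebra S₀ S] [Algebra S₀ R']
    (P : Ideal S) [P.IsPrime] (q : Ideal R') [q.IsPrime]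
    (h : q.comap (algebraMap S₀ R') = P.comap (algebraMap S₀ S)) :
    ∃ M : Ideal (S ⊗[S₀] R'), M.IsPrime ∧ M.comap (algebraMap S (S ⊗[S₀] R')) = P := by
  let P₀ := P.comap (algebraMap S₀ S)
  haveI : P.LiesOver P₀ := ⟨rfl⟩
  haveI : q.LiesOver P₀ := ⟨h.symm⟩
  letI := Localization.AtPrime.algebraOfLiesOver P₀ P
  letI := Localization.AtPrime.algebraOfLiesOver P₀ q
  let L := P.ResidueField ⊗[P₀.ResidueField] q.ResidueField
  haveI : Nontrivial L := Module.FaithfullyFlat.lTensor_nontrivial P₀.ResidueField P.ResidueField q.ResidueField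
  obtain ⟨N, hN⟩ := Ideal.exists_maximal L
  let a : S →ₐ[S₀] L :=
    ((Algebra.TensorProduct.includeLeft : P.ResidueField →ₐ[P₀.ResidueField] L).restrictScalars S₀).comp
      (IsScalarTower.toAlgHom S₀ S P.ResidueField)
  let b : R' →ₐ[S₀] L :=
    ((Algebra.TensorProduct.includeRight : q.ResidueField →ₐ[P₀.ResidueField] L).restrictScalars S₀).comp
      (IsScalarTower.toAlgHom S₀ R' q.ResidueField)
  let φ := Algebra.TensorProduct.lift a b fun _ _ => Commute.all _ _
  refine ⟨N.comap φ.toRingHom, Ideal.IsPrime.comap (hK := hN.isPrime) _, Ideal.ext fun s => ?_⟩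
  change φ (s ⊗ₜ[S₀] (1 : R')) ∈ N ↔ s ∈ P
  rw [Algebra.TensorProduct.lift_tmul, map_one, mul_one]
  change algebraMap S P.ResidueField s ∈
    N.comap (Algebra.TensorProduct.includeLeft : P.ResidueField →ₐ[P₀.ResidueField] L).toRingHom ↔ _
  haveI : (N.comap (Algebra.TensorProduct.includeLeft : P.ResidueField →ₐ[P₀.ResidueField] L).toRingHom).IsPrime :=
    Ideal.IsPrime.comap (hK := hN.isPrime) _
  rw [Ideal.eq_bot_of_prime
    (N.comap (Algebra.TensorProduct.includeLeft : P.ResidueField →ₐ[P₀.ResidueField] L).toRingHom), Ideal.mem_bot,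
    Ideal.algebraMap_residueField_eq_zero]

variable {k : Type u} [Field k] {A : Type u} [CommRing A] [HopfAlgebra k A]
  {S : Type u} [CommRing S] [Algebra k S] [HopfRep.Comod k A S] [GLin.IsCoactAlg k A S]
  {R : Type u} [CommRing R] [Algebra k R] [HopfRep.Comod k A R] [GLin.IsCoactAlg k A R]
  [Algebra S R] [IsScalarTower k S R]
  {S₀ : Type u} [CommRing S₀] [Algebra S₀ S]
  {R₀ : Type u} [CommRing R₀] [Algebra R₀ R]
  [Algebra S₀ R₀] [Algebra S₀ R] [IsScalarTower S₀ S R] [IsScalarTower S₀ R₀ R]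

/-- closed orbits in a chart map to closed orbits -/
theorem isClosedOrbit_image (hθ : Hoch.IsComodHom A (IsScalarTower.toAlgHom k S R).toLinearMap) (c : R₀)
    (hfix : ∀ e : R₀, algebraMap R₀ R e ∈ HopfRep.fixedPts k A R)
    (hsur : ∀ r : R, ∃ (n : ℕ) (z : S ⊗[S₀] R₀),
      Algebra.TensorProduct.productMap (IsScalarTower.toAlgHom S₀ S R) (IsScalarTower.toAlgHom S₀ R₀ R) z =
        algebraMap R₀ R c ^ n * r)
    (x : R →ₐ[k] k) (hxc : x (algebraMap R₀ R c) ≠ 0) (hx : GLin.IsClosedOrbit k A x) :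
    GLin.IsClosedOrbit k A (x.comp (IsScalarTower.toAlgHom k S R)) := by
  set θ := IsScalarTower.toAlgHom k S R
  set o := GLin.orbitHom k A x with ho
  have hrange : ∀ r : R, ∃ s : S, o (θ s) = o r := by
    intro r
    obtain ⟨n, z, hz⟩ := hsur r
    have h1 : ∃ s : S, o (θ s) = o (Algebra.TensorProduct.productMap (IsScalarTower.toAlgHom S₀ S R)
        (IsScalarTower.toAlgHom S₀ R₀ R) z) := by
      clear hz
      induction z using TensorProduct.induction_on with
      | zero => exact ⟨0, by simp⟩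
      | add p q hp hq =>
        obtain ⟨s, hs⟩ := hp
        obtain ⟨t, ht⟩ := hq
        exact ⟨s + t, by rw [map_add, map_add, map_add, map_add, hs, ht]⟩
      | tmul s e =>
        refine ⟨x (algebraMap R₀ R e) • s, ?_⟩
        simp only [Algebra.TensorProduct.productMap_apply_tmul, θ, IsScalarTower.coe_toAlgHom', map_mul]
        rw [ho, orbit_of_fixed x (hfix e), mul_smul_comm, mul_one, ← map_smul]
        refine congrArg _ ?_
        exact (IsScalarTower.toAlgHom k S R).toLinearMap.map_smul _ _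
    obtain ⟨s, hs⟩ := h1
    rw [hz, map_mul, map_pow, ho, orbit_of_fixed x (hfix c), ← ho, smul_pow, one_pow, smul_mul_assoc,
      one_mul] at hs
    refine ⟨(x (algebraMap R₀ R c) ^ n)⁻¹ • s, ?_⟩
    rw [map_smul, map_smul, hs, inv_smul_smul₀ (pow_ne_zero n hxc)]
  let mk : R →+* R ⧸ RingHom.ker o.toRingHom := Ideal.Quotient.mk _
  let obar : R ⧸ RingHom.ker o.toRingHom →+* A := Ideal.Quotient.lift _ o.toRingHom fun r hr => hr
  have hmk : obar.comp mk = o.toRingHom := RingHom.ext fun r => rfl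
  have hsurj : Function.Surjective (mk.comp θ.toRingHom) := fun q => by
    obtain ⟨r, rfl⟩ := Ideal.Quotient.mk_surjective q
    obtain ⟨s, hs⟩ := hrange r
    refine ⟨s, Ideal.Quotient.eq.2 ?_⟩
    rw [RingHom.mem_ker, map_sub, sub_eq_zero]
    exact hs
  have hbar : IsClosed (Set.range (PrimeSpectrum.comap obar)) := by
    have e : Set.range (PrimeSpectrum.comap obar) =
        PrimeSpectrum.comap mk ⁻¹' Set.range (PrimeSpectrum.comap o.toRingHom) := by
      have h : Set.range (PrimeSpectrum.comap o.toRingHom) =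
          PrimeSpectrum.comap mk '' Set.range (PrimeSpectrum.comap obar) := by
        rw [← Set.range_comp, ← PrimeSpectrum.comap_comp]
        exact congrArg (fun φ => Set.range (PrimeSpectrum.comap φ)) hmk.symm
      rw [h, Set.preimage_image_eq _ (PrimeSpectrum.comap_injective_of_surjective mk Ideal.Quotient.mk_surjective)]
    rw [e]
    exact IsClosed.preimage (PrimeSpectrum.continuous_comap mk) hx
  have he : (GLin.orbitHom k A (x.comp θ)).toRingHom = obar.comp (mk.comp θ.toRingHom) :=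
    RingHom.ext fun s => (orbitHom_comp hθ x s).symm
  change IsClosed (Set.range (PrimeSpectrum.comap (GLin.orbitHom k A (x.comp θ)).toRingHom))
  rw [he, PrimeSpectrum.comap_comp, Set.range_comp]
  exact (PrimeSpectrum.isClosedEmbedding_comap_of_surjective _ _ hsurj).isClosedMap _ hbar

set_option maxHeartbeats 800000 in
omit [HopfRep.Comod k A S] [GLin.IsCoactAlg k A S] [HopfRep.Comod k A R] [GLin.IsCoactAlg k A R] [IsScalarTower k S R]
  [Algebra k S] [Algebra k R] in
/-- an étale chart over the quotient spreads out to an étale surjection onto a saturated open -/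
theorem exists_base (f : R₀) (q₀ : PrimeSpectrum R₀) (hf : f ∉ q₀.asIdeal)
    (hfet : Algebra.Etale S₀ (Localization.Away f))
    (hker : ∀ z : S ⊗[S₀] R₀,
      Algebra.TensorProduct.productMap (IsScalarTower.toAlgHom S₀ S R) (IsScalarTower.toAlgHom S₀ R₀ R) z = 0 →
        ∃ n : ℕ, ((1 : S) ⊗ₜ[S₀] f) ^ n * z = 0)
    (hsur : ∀ r : R, ∃ (n : ℕ) (z : S ⊗[S₀] R₀),
      Algebra.TensorProduct.productMap (IsScalarTower.toAlgHom S₀ S R) (IsScalarTower.toAlgHom S₀ R₀ R) z =
        algebraMap R₀ R f ^ n * r)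
    [Algebra.FinitePresentation S₀ R₀] [Algebra.FinitePresentation S R] :
    ∃ g : S₀, g ∉ q₀.asIdeal.comap (algebraMap S₀ R₀) ∧
      (∀ P : Ideal S, P.IsPrime → algebraMap S₀ S g ∉ P →
        ∃ Q : Ideal R, Q.IsPrime ∧ algebraMap R₀ R (f * algebraMap S₀ R₀ g) ∉ Q ∧ Q.comap (algebraMap S R) = P) ∧
      (∀ (Q : Ideal R) [Q.IsPrime], algebraMap R₀ R (f * algebraMap S₀ R₀ g) ∉ Q → Algebra.IsEtaleAt S Q) ∧
      (∀ (q : Ideal R₀) [q.IsPrime], f * algebraMap S₀ R₀ g ∉ q → Algebra.IsEtaleAt S₀ q) ∧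
      (∀ z : S ⊗[S₀] R₀,
        Algebra.TensorProduct.productMap (IsScalarTower.toAlgHom S₀ S R) (IsScalarTower.toAlgHom S₀ R₀ R) z = 0 →
          ∃ n : ℕ, ((1 : S) ⊗ₜ[S₀] (f * algebraMap S₀ R₀ g)) ^ n * z = 0) ∧
      (∀ r : R, ∃ (n : ℕ) (z : S ⊗[S₀] R₀),
        Algebra.TensorProduct.productMap (IsScalarTower.toAlgHom S₀ S R) (IsScalarTower.toAlgHom S₀ R₀ R) z =
          algebraMap R₀ R (f * algebraMap S₀ R₀ g) ^ n * r) := by
  classical
  haveI := hfet
  have hloc := fun q (hq : f ∉ (q : PrimeSpectrum R₀).asIdeal) =>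
    (Algebra.basicOpen_subset_etaleLocus_iff_etale.2 hfet) (show q ∈ PrimeSpectrum.basicOpen f from hq)
  haveI : Module.Flat S₀ (Localization.Away f) := Algebra.Smooth.flat _ _
  haveI : Algebra.FinitePresentation S₀ (Localization.Away f) := inferInstance
  have hopen : IsOpen (Set.range (PrimeSpectrum.comap (algebraMap S₀ (Localization.Away f)))) :=
    PrimeSpectrum.isOpenMap_comap_of_hasGoingDown_of_finitePresentation.isOpen_range
  have hrange : ∀ p : PrimeSpectrum S₀, p ∈ Set.range (PrimeSpectrum.comap (algebraMap S₀ (Localization.Away f))) ↔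
      ∃ q : PrimeSpectrum R₀, f ∉ q.asIdeal ∧ PrimeSpectrum.comap (algebraMap S₀ R₀) q = p := by
    intro p
    rw [IsScalarTower.algebraMap_eq S₀ R₀ (Localization.Away f), PrimeSpectrum.comap_comp, Set.range_comp,
      PrimeSpectrum.localization_away_comap_range (Localization.Away f) f]
    exact Iff.rfl
  obtain ⟨_, ⟨g, rfl⟩, hn₀, hsub⟩ := PrimeSpectrum.isTopologicalBasis_basic_opens.exists_subset_of_mem_open
    ((hrange _).2 ⟨q₀, hf, rfl⟩) hopen
  refine ⟨g, hn₀, ?_⟩
  set c := f * algebraMap S₀ R₀ g with hc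
  have hker' : ∀ z : S ⊗[S₀] R₀,
      Algebra.TensorProduct.productMap (IsScalarTower.toAlgHom S₀ S R) (IsScalarTower.toAlgHom S₀ R₀ R) z = 0 →
        ∃ n : ℕ, ((1 : S) ⊗ₜ[S₀] c) ^ n * z = 0 := by
    intro z hz
    obtain ⟨n, hn⟩ := hker z hz
    refine ⟨n, ?_⟩
    rw [hc, show (1 : S) ⊗ₜ[S₀] (f * algebraMap S₀ R₀ g) =
      ((1 : S) ⊗ₜ[S₀] algebraMap S₀ R₀ g) * ((1 : S) ⊗ₜ[S₀] f) by
        rw [Algebra.TensorProduct.tmul_mul_tmul, one_mul, mul_comm f], mul_pow, mul_assoc, hn, mul_zero]
  have hsur' : ∀ r : R, ∃ (n : ℕ) (z : S ⊗[S₀] R₀),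
      Algebra.TensorProduct.productMap (IsScalarTower.toAlgHom S₀ S R) (IsScalarTower.toAlgHom S₀ R₀ R) z =
        algebraMap R₀ R c ^ n * r := by
    intro r
    obtain ⟨n, z, hz⟩ := hsur r
    refine ⟨n, ((1 : S) ⊗ₜ[S₀] algebraMap S₀ R₀ g) ^ n * z, ?_⟩
    rw [map_mul, map_pow, hz, Algebra.TensorProduct.productMap_apply_tmul, map_one, one_mul,
      IsScalarTower.coe_toAlgHom', hc, map_mul]
    ring
  let T := S ⊗[S₀] R₀
  let cT : T := (1 : S) ⊗ₜ[S₀] c
  let P₁ : T →ₐ[S] R :=
    Algebra.TensorProduct.lift (Algebra.ofId S R) (IsScalarTower.toAlgHom S₀ R₀ R) fun _ _ => Commute.all _ _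
  have hP₁ : ∀ z, P₁ z =
      Algebra.TensorProduct.productMap (IsScalarTower.toAlgHom S₀ S R) (IsScalarTower.toAlgHom S₀ R₀ R) z := by
    intro z
    induction z using TensorProduct.induction_on with
    | zero => simp
    | add p q hp hq => simp only [map_add, hp, hq]
    | tmul s e => rfl
  have hPc : P₁ cT = algebraMap R₀ R c := by
    change algebraMap S R 1 * algebraMap R₀ R c = _
    rw [map_one, one_mul]
  have hbij : Function.Bijective (Localization.awayMap P₁.toRingHom cT) := by
    refine bijective_awayMap _ _ (fun z hz => hker' z ((hP₁ z).symm.trans hz)) fun r => ?_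
    obtain ⟨n, z, hz⟩ := hsur' r
    exact ⟨n, z, by rw [show P₁.toRingHom cT = algebraMap R₀ R c from hPc]; exact (hP₁ z).trans hz⟩
  let e₁ := IsLocalization.Away.tensorProductEquivTMulRight S₀ S c (Localization.Away c)
  let aw : Localization.Away cT →ₐ[S] Localization.Away (P₁.toRingHom cT) :=
    { Localization.awayMap P₁.toRingHom cT with
      commutes' := fun s => by
        change Localization.awayMap P₁.toRingHom cT (algebraMap S (Localization.Away cT) s) = _
        rw [IsScalarTower.algebraMap_apply S T (Localization.Away cT), Localization.awayMap,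
          IsLocalization.Away.map, IsLocalization.map_eq,
          show P₁.toRingHom (algebraMap S T s) = algebraMap S R s from P₁.commutes s,
          ← IsScalarTower.algebraMap_apply] }
  let e : S ⊗[S₀] Localization.Away c ≃ₐ[S] Localization.Away (P₁.toRingHom cT) :=
    e₁.trans (AlgEquiv.ofBijective aw hbij)
  haveI hcet : Algebra.Etale S₀ (Localization.Away c) := by
    refine Algebra.basicOpen_subset_etaleLocus_iff_etale.1 fun p hp => hloc p fun h => ?_
    exact (PrimeSpectrum.mem_basicOpen c p).1 hp (Ideal.mul_mem_right _ _ h)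
  have hRet : Algebra.Etale S (Localization.Away (P₁.toRingHom cT)) := Algebra.Etale.of_equiv e
  refine ⟨fun P hP hgP => ?_, fun Q hQ hcQ => ?_, fun q hq hcq => ?_, hker', hsur'⟩
  · obtain ⟨q, hfq, hqP⟩ := (hrange (PrimeSpectrum.comap (algebraMap S₀ S) ⟨P, hP⟩)).1 (hsub hgP)
    have hcq : c ∉ q.asIdeal := fun h => by
      rcases Ideal.IsPrime.mem_or_mem q.isPrime h with h | h
      · exact hfq h
      · exact hgP (show g ∈ (PrimeSpectrum.comap (algebraMap S₀ S) ⟨P, hP⟩).asIdeal from hqP ▸ h)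
    obtain ⟨q', hq'⟩ : q ∈ Set.range (PrimeSpectrum.comap (algebraMap R₀ (Localization.Away c))) := by
      rw [PrimeSpectrum.localization_away_comap_range (Localization.Away c) c]
      exact hcq
    have hq'P : q'.asIdeal.comap (algebraMap S₀ (Localization.Away c)) = P.comap (algebraMap S₀ S) := by
      rw [IsScalarTower.algebraMap_eq S₀ R₀ (Localization.Away c), ← Ideal.comap_comap,
        show q'.asIdeal.comap (algebraMap R₀ (Localization.Away c)) = q.asIdeal from
          congrArg PrimeSpectrum.asIdeal hq']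
      exact congrArg PrimeSpectrum.asIdeal hqP
    haveI := hP
    obtain ⟨M, hM, hMP⟩ := exists_prime_over P q'.asIdeal hq'P
    let M' := M.comap e.symm.toRingEquiv.toRingHom
    have hM' : M'.IsPrime := Ideal.IsPrime.comap (hK := hM) _
    refine ⟨M'.comap (algebraMap R (Localization.Away (P₁.toRingHom cT))), Ideal.IsPrime.comap (hK := hM') _,
      fun h => ?_, ?_⟩
    · refine hM'.ne_top (Ideal.eq_top_of_isUnit_mem _ h ?_)
      rw [← hPc]
      exact IsLocalization.Away.algebraMap_isUnit (P₁.toRingHom cT)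
    · rw [← hMP, Ideal.comap_comap, ← IsScalarTower.algebraMap_eq]
      refine Ideal.ext fun s => ?_
      change e.symm (algebraMap S _ s) ∈ M ↔ algebraMap S _ s ∈ M
      rw [AlgEquiv.commutes]
  · exact (Algebra.basicOpen_subset_etaleLocus_iff_etale.2 hRet)
      (show (⟨Q, hQ⟩ : PrimeSpectrum R) ∈ PrimeSpectrum.basicOpen (P₁.toRingHom cT) from by
        rw [show P₁.toRingHom cT = algebraMap R₀ R c from hPc]; exact hcQ)
  · exact hloc ⟨q, hq⟩ fun h => hcq (Ideal.mul_mem_right _ _ h)

end Groth.Agent.Comod.LunaSpread
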