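import Groth.Agent.Comod.ExactSeq

/-!
# Subgroups with affine quotient of linearly reductive groups are linearly reductive
-/

set_option autoImplicit false
set_option linter.style.haveILetI false

universe u

noncomputable section

open TensorProduct WithConv

namespace Groth.Agent.Comod.RelInd

open ExactSeq (rho)

variable {k : Type u} [Field k] {AQ AG AK : Type u} [CommRing AQ] [Algebra k AQ]
  [CommRing AG] [HopfAlgebra k AG] [CommRing AK] [HopfAlgebra k AK]
  [Algebra AQ AG] [IsScalarTower k AQ AG]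

/-- `a ↦ S a₁ ⊗ a₂` -/
def theta₀ : AG →ₐ[k] AG ⊗[AQ] AG :=
  (toConv ((Algebra.TensorProduct.includeLeft : AG →ₐ[k] AG ⊗[AQ] AG).comp (HopfAlgebra.antipodeAlgHom k AG)) *
    toConv ((Algebra.TensorProduct.includeRight : AG →ₐ[AQ] AG ⊗[AQ] AG).restrictScalars k)).ofConv

variable (ψ : AG →ₐc[k] AK) (hψ : Function.Surjective ψ)
  (hρ : ∀ q : AQ, rho ψ (algebraMap AQ AG q) = algebraMap AQ AG q ⊗ₜ[k] (1 : AK))
  (θ : AK →ₐ[k] AG ⊗[AQ] AG) (hθ : θ.comp (ψ : AG →ₐ[k] AK) = theta₀ (k := k) (AQ := AQ))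

/-- `rho` over the quotient ring -/
def rhoQ : AG →ₐ[AQ] AG ⊗[k] AK :=
  { (rho ψ).toRingHom with commutes' := fun q => hρ q }

@[simp] theorem rhoQ_apply (a : AG) : rhoQ ψ hρ a = rho ψ a := rfl

include hψ in
omit [Algebra AQ AG] [IsScalarTower k AQ AG] in
theorem algHom_ext {C : Type u} [CommRing C] [Algebra k C] {f g : AK →ₐ[k] C}
    (h : f.comp (ψ : AG →ₐ[k] AK) = g.comp (ψ : AG →ₐ[k] AK)) : f = g :=
  AlgHom.ext fun x => by
    obtain ⟨a, rfl⟩ := hψ x
    exact DFunLike.congr_fun h a

include hψ hθ in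
/-- `(1 ⊗ ρ) (θ x) = θ x₁ ⊗ x₂` -/
theorem map_rho_theta :
    ((Algebra.TensorProduct.map (AlgHom.id AQ AG) (rhoQ ψ hρ)).restrictScalars k).comp
        (θ) =
      (toConv (((Algebra.TensorProduct.map (AlgHom.id AQ AG)
          (Algebra.TensorProduct.includeLeft : AG →ₐ[AQ] AG ⊗[k] AK)).restrictScalars k).comp
            (θ)) *
        toConv (((Algebra.TensorProduct.includeRight : AG ⊗[k] AK →ₐ[AQ] AG ⊗[AQ] (AG ⊗[k] AK)).restrictScalars k).comp
          (Algebra.TensorProduct.includeRight : AK →ₐ[k] AG ⊗[k] AK))).ofConv := by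
  apply algHom_ext ψ hψ
  rw [AlgHom.convMul_comp_bialgHom_distrib, AlgHom.comp_assoc, hθ]
  simp only [ofConv_toConv, AlgHom.comp_assoc, hθ]
  simp only [theta₀, AlgHom.comp_convMul_distrib, ofConv_toConv]
  let I : AG →ₐ[k] AG ⊗[AQ] (AG ⊗[k] AK) := Algebra.TensorProduct.includeLeft
  let J : AG ⊗[k] AK →ₐ[k] AG ⊗[AQ] (AG ⊗[k] AK) :=
    (Algebra.TensorProduct.includeRight : AG ⊗[k] AK →ₐ[AQ] AG ⊗[AQ] (AG ⊗[k] AK)).restrictScalars k
  let M := (Algebra.TensorProduct.map (AlgHom.id AQ AG) (rhoQ ψ hρ)).restrictScalars k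
  let N := (Algebra.TensorProduct.map (AlgHom.id AQ AG)
          (Algebra.TensorProduct.includeLeft : AG →ₐ[AQ] AG ⊗[k] AK)).restrictScalars k
  let iL : AG →ₐ[k] AG ⊗[AQ] AG := Algebra.TensorProduct.includeLeft
  let iR : AG →ₐ[k] AG ⊗[AQ] AG := (Algebra.TensorProduct.includeRight : AG →ₐ[AQ] AG ⊗[AQ] AG).restrictScalars k
  let S := HopfAlgebra.antipodeAlgHom k AG
  let L2 : AG →ₐ[k] AG ⊗[k] AK := Algebra.TensorProduct.includeLeft
  let R2 : AG →ₐ[k] AG ⊗[k] AK := (Algebra.TensorProduct.includeRight : AK →ₐ[k] AG ⊗[k] AK).comp (ψ : AG →ₐ[k] AK)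
  show (toConv (M.comp (iL.comp S)) * toConv (M.comp iR)).ofConv =
    (toConv ((toConv (N.comp (iL.comp S)) * toConv (N.comp iR)).ofConv) * toConv (J.comp R2)).ofConv
  have hMR : M.comp iR = J.comp (rho ψ) := AlgHom.ext fun a => by simp [M, iR, J]
  have hML : M.comp (iL.comp S) = I.comp S := AlgHom.ext fun a => by simp [M, iL, I]
  have hNR : N.comp iR = J.comp L2 := AlgHom.ext fun a => by simp [N, iR, J, L2]
  have hNL : N.comp (iL.comp S) = I.comp S := AlgHom.ext fun a => by
    simp [N, iL, I, Algebra.TensorProduct.one_def]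
  rw [hMR, hML, hNR, hNL]
  show _ = (toConv (I.comp S) * toConv (J.comp L2) * toConv (J.comp R2)).ofConv
  refine congrArg WithConv.ofConv ?_
  refine Eq.trans ?_ (mul_assoc (G := WithConv (AG →ₐ[k] AG ⊗[AQ] (AG ⊗[k] AK))) _ _ _).symm
  refine congrArg (toConv (I.comp S) * ·) ?_
  apply WithConv.ofConv_injective
  rw [ofConv_toConv, show rho ψ = (toConv L2 * toConv R2).ofConv from congrArg WithConv.ofConv (ExactSeq.toConv_rho ψ),
    AlgHom.comp_convMul_distrib]

variable [Module.FaithfullyFlat AQ AG]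

include hψ hρ hθ in
/-- a `K`-equivariant map from `G` to a representation of `K`, normalised by an invariant form -/
theorem exists_equivariant {n : ℕ} {m : Fin n → Fin n → AK} (hm : IsMat k m) (π c : Fin n → k)
    (hπ : ∀ j, ∑ i, π i • m i j = π j • (1 : AK)) (hc : ∑ i, π i * c i = 1) :
    ∃ f : Fin n → AG, ∑ j, π j • f j = 1 ∧
      ∀ i, ∑ j, ((1 : AG) ⊗ₜ[k] m i j) * rho ψ (f j) = f i ⊗ₜ[k] (1 : AK) := by
  classical
  let rQ := rhoQ ψ hρ
  let L : Fin n → Fin n → AG →ₗ[AQ] AG ⊗[k] AK := fun i j =>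
    LinearMap.mulLeft AQ ((1 : AG) ⊗ₜ[k] m i j) ∘ₗ rQ.toLinearMap -
      if i = j then (Algebra.TensorProduct.includeLeft : AG →ₐ[AQ] AG ⊗[k] AK).toLinearMap else 0
  let p : Fin n → AG →ₗ[AQ] AG := fun j => LinearMap.mulLeft AQ (algebraMap k AG (π j))
  let Φ : (Fin n → AG) →ₗ[AQ] (Fin n → AG ⊗[k] AK) × AG :=
    (LinearMap.pi fun i => ∑ j, L i j ∘ₗ LinearMap.proj j).prod (∑ j, p j ∘ₗ LinearMap.proj j)
  suffices h : ((0, 1) : (Fin n → AG ⊗[k] AK) × AG) ∈ LinearMap.range Φ by
    obtain ⟨f, hf⟩ := h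
    refine ⟨f, ?_, fun i => ?_⟩
    · simpa [Φ, p, Algebra.smul_def] using congrArg Prod.snd hf
    · have := congrFun (congrArg Prod.fst hf) i
      simp only [Φ, L, LinearMap.prod_apply, Function.prod, LinearMap.pi_apply, LinearMap.coe_sum,
        Finset.sum_apply, LinearMap.comp_apply, LinearMap.proj_apply, LinearMap.sub_apply, Pi.zero_apply,
        Finset.sum_sub_distrib, sub_eq_zero] at this
      refine this.trans ?_
      rw [Finset.sum_eq_single i]
      · simp
      · intro j _ hj; simp [Ne.symm hj]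
      · simp
  rw [← Submodule.Quotient.mk_eq_zero]
  refine (Module.FaithfullyFlat.one_tmul_eq_zero_iff AQ _ (A := AG) _).1 ?_
  let th := θ
  let e : Fin n → AK := fun j => ∑ l, c l • HopfAlgebra.antipode k (m j l)
  have he : ∀ j, Coalgebra.comul (R := k) (e j) =
      ∑ l, ∑ q, c l • (HopfAlgebra.antipode k (m q l) ⊗ₜ[k] HopfAlgebra.antipode k (m j q)) := by
    intro j
    simp [e, comul_antipode, hm.comul, Finset.smul_sum]
  have hsum : ∑ j, π j • e j = 1 := by
    have h1 : ∀ l, ∑ j, π j • HopfAlgebra.antipode k (m j l) = π l • (1 : AK) := by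
      intro l
      have h2 := congrArg (HopfAlgebra.antipode k) (hπ l)
      simpa using h2
    simp only [e, Finset.smul_sum]
    rw [Finset.sum_comm]
    calc ∑ l, ∑ j, π j • c l • HopfAlgebra.antipode k (m j l)
        = ∑ l, c l • ∑ j, π j • HopfAlgebra.antipode k (m j l) := by
          simp only [Finset.smul_sum, smul_comm (π _) (c _)]
      _ = 1 := by simp only [h1, smul_smul, ← Finset.sum_smul, mul_comm (c _), hc, one_smul]
  let N := (Algebra.TensorProduct.map (AlgHom.id AQ AG)
          (Algebra.TensorProduct.includeLeft : AG →ₐ[AQ] AG ⊗[k] AK)).restrictScalars k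
  let κ : AK →ₐ[k] AG ⊗[AQ] (AG ⊗[k] AK) :=
    ((Algebra.TensorProduct.includeRight : AG ⊗[k] AK →ₐ[AQ] AG ⊗[AQ] (AG ⊗[k] AK)).restrictScalars k).comp
      (Algebra.TensorProduct.includeRight : AK →ₐ[k] AG ⊗[k] AK)
  have hM : ∀ j, (rQ.toLinearMap).lTensor AG (th (e j)) =
      ∑ l, ∑ q, c l • (N (th (HopfAlgebra.antipode k (m q l))) * κ (HopfAlgebra.antipode k (m j q))) := by
    intro j
    have := DFunLike.congr_fun (map_rho_theta ψ hψ hρ θ hθ) (e j)
    refine Eq.trans ?_ (this.trans ?_)
    · rw [AlgHom.comp_apply, AlgHom.restrictScalars_apply]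
      induction th (e j) using TensorProduct.induction_on with
      | zero => simp
      | tmul x y => simp [rQ]
      | add x y hx hy => simp only [map_add, hx, hy]
    · change (toConv (N.comp th) * toConv κ) (e j) = _
      rw [AlgHom.convMul_apply, he j]
      simp [map_sum, map_smul]
  have hmul : ∀ (i j : Fin n) (x : AG ⊗[AQ] AG), (L i j).lTensor AG x =
      κ (m i j) * (rQ.toLinearMap).lTensor AG x - if i = j then N x else 0 := by
    intro i j x
    have h1 : ∀ y : AG ⊗[AQ] AG,
        (LinearMap.mulLeft AQ ((1 : AG) ⊗ₜ[k] m i j) ∘ₗ rQ.toLinearMap).lTensor AG y =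
          κ (m i j) * (rQ.toLinearMap).lTensor AG y := by
      intro y
      induction y using TensorProduct.induction_on with
      | zero => simp
      | tmul a b => simp [κ]
      | add a b ha hb => simp only [map_add, ha, hb, mul_add]
    rw [show L i j = _ from rfl, LinearMap.lTensor_sub, LinearMap.sub_apply, h1]
    congr 1
    split_ifs
    · induction x using TensorProduct.induction_on with
      | zero => simp
      | tmul a b => simp [N]
      | add a b ha hb => simp only [map_add, ha, hb]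
    · simp
  have hzero : ∀ i, ∑ j, (L i j).lTensor AG (th (e j)) = 0 := by
    intro i
    simp only [hmul, Finset.sum_sub_distrib, Finset.sum_ite_eq, Finset.mem_univ, if_true, sub_eq_zero, hM,
      Finset.mul_sum, mul_smul_comm]
    calc ∑ j, ∑ l, ∑ q, c l • (κ (m i j) * (N (th (HopfAlgebra.antipode k (m q l))) * κ (HopfAlgebra.antipode k (m j q))))
        = ∑ l, ∑ q, c l • (N (th (HopfAlgebra.antipode k (m q l))) *
            κ (∑ j, m i j * HopfAlgebra.antipode k (m j q))) := by
          rw [Finset.sum_comm]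
          refine Finset.sum_congr rfl fun l _ => ?_
          rw [Finset.sum_comm]
          refine Finset.sum_congr rfl fun q _ => ?_
          simp only [map_sum, map_mul, Finset.mul_sum, Finset.smul_sum]
          exact Finset.sum_congr rfl fun j _ => by rw [mul_left_comm]
      _ = ∑ l, c l • N (th (HopfAlgebra.antipode k (m i l))) := by
          simp only [mul_antipode_mat hm, apply_ite κ, map_one, map_zero, mul_ite, mul_one, mul_zero, smul_ite,
            smul_zero, Finset.sum_ite_eq, Finset.mem_univ, if_true]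
      _ = N (th (e i)) := by simp only [e, map_sum, map_smul]
  have hp : ∀ (j : Fin n) (x : AG ⊗[AQ] AG), (p j).lTensor AG x = π j • x := by
    intro j x
    induction x using TensorProduct.induction_on with
    | zero => simp
    | tmul a b =>
      rw [LinearMap.lTensor_tmul, show p j b = π j • b from (Algebra.smul_def _ _).symm,
        TensorProduct.tmul_smul]
    | add a b ha hb => simp only [map_add, ha, hb, smul_add]
  let u : AG ⊗[AQ] (Fin n → AG) :=
    ∑ j, (LinearMap.single AQ (fun _ : Fin n => AG) j).lTensor AG (th (e j))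
  have hu : Φ.lTensor AG u = (1 : AG) ⊗ₜ[AQ] ((0, 1) : (Fin n → AG ⊗[k] AK) × AG) := by
    have hsingle : ∀ j, Φ ∘ₗ LinearMap.single AQ (fun _ : Fin n => AG) j =
        LinearMap.inl AQ (Fin n → AG ⊗[k] AK) AG ∘ₗ
          (∑ i, LinearMap.single AQ (fun _ : Fin n => AG ⊗[k] AK) i ∘ₗ L i j) +
        LinearMap.inr AQ (Fin n → AG ⊗[k] AK) AG ∘ₗ p j := by
      intro j
      refine LinearMap.ext fun a => ?_
      refine Prod.ext (funext fun i => ?_) ?_
      · simp [Φ, LinearMap.coe_sum, Finset.sum_apply, Pi.single_apply, apply_ite, Finset.sum_ite_eq']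
      · simp [Φ, LinearMap.coe_sum, Finset.sum_apply, Pi.single_apply, apply_ite, Finset.sum_ite_eq']
    simp only [u, map_sum, ← LinearMap.comp_apply, ← LinearMap.lTensor_comp, hsingle]
    simp only [LinearMap.lTensor_add, LinearMap.lTensor_comp, LinearMap.add_apply, LinearMap.comp_apply,
      Finset.sum_add_distrib]
    rw [← map_sum, ← map_sum]
    simp only [hp]
    have h0 : ∑ j, (∑ i, LinearMap.single AQ (fun _ : Fin n => AG ⊗[k] AK) i ∘ₗ L i j).lTensor AG (th (e j)) = 0 := by
      simp only [show ∀ f : Fin n → AG →ₗ[AQ] (Fin n → AG ⊗[k] AK), (∑ i, f i).lTensor AG = ∑ i, (f i).lTensor AG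
        from fun f => map_sum (LinearMap.lTensorHom AG) f Finset.univ, LinearMap.coe_sum, Finset.sum_apply,
        LinearMap.lTensor_comp, LinearMap.comp_apply]
      rw [Finset.sum_comm]
      simp only [← map_sum, hzero, map_zero, Finset.sum_const_zero]
    rw [h0, map_zero, zero_add, show ∑ j, π j • th (e j) = (1 : AG ⊗[AQ] AG) by
      simp only [← map_smul, ← map_sum, hsum, map_one],
      Algebra.TensorProduct.one_def, LinearMap.lTensor_tmul]
    rfl
  have h := congrArg ((LinearMap.range Φ).mkQ.lTensor AG) hu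
  rw [← LinearMap.comp_apply, ← LinearMap.lTensor_comp, LinearMap.range_mkQ_comp, LinearMap.lTensor_zero,
    LinearMap.zero_apply, LinearMap.lTensor_tmul] at h
  exact h.symm

include hψ hρ hθ in
/-- the kernel of a linearly reductive group is linearly reductive -/
theorem linRed_kernel (hG : HopfRep.IsLinearlyReductive k AG) : HopfRep.IsLinearlyReductive k AK := by
  classical
  obtain ⟨α, hα⟩ := exists_integral_of_linRed hG
  refine linRed_of_liftCrit fun V _ _ _ _ π hπ hinv => ?_
  let b := Module.finBasis k V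
  let m := mat AK b
  have hm : IsMat k m := isMat_mat b
  have hπm : ∀ j, ∑ i, π (b i) • m i j = π (b j) • (1 : AK) := by
    intro j
    have h := congrArg (TensorProduct.lid k AK) (LinearMap.congr_fun hinv (b j))
    simpa [coact_basis, map_sum] using h
  obtain ⟨v₀, hv₀⟩ := hπ 1
  have hc : ∑ i, π (b i) * b.repr v₀ i = 1 := by
    rw [← hv₀]
    conv_rhs => rw [← b.sum_repr v₀, map_sum]
    exact Finset.sum_congr rfl fun i _ => by rw [map_smul, smul_eq_mul, mul_comm]
  obtain ⟨f, hf1, hf⟩ := exists_equivariant ψ hψ hρ θ hθ hm (fun i => π (b i)) (fun i => b.repr v₀ i) hπm hc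
  refine ⟨∑ j, α (f j) • b j, ?_, ?_⟩
  · show HopfRep.Comod.coact (k := k) (A := AK) _ = _
    rw [coact_sum, TensorProduct.sum_tmul]
    refine Finset.sum_congr rfl fun i _ => ?_
    rw [TensorProduct.smul_tmul]
    congr 1
    have h := congrArg (sliceL (V := AG) (A := AK) α) (hf i)
    rw [map_sum, sliceL_tmul] at h
    refine Eq.trans (Finset.sum_congr rfl fun j _ => ?_) h
    have hmul : ∀ z : AG ⊗[k] AK, sliceL α (((1 : AG) ⊗ₜ[k] m i j) * z) = m i j * sliceL α z := by
      intro z
      induction z using TensorProduct.induction_on with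
      | zero => simp
      | tmul x y => simp [mul_smul_comm]
      | add x y hx hy => simp only [mul_add, map_add, hx, hy]
    have hrho : ∀ z : AG ⊗[k] AG, sliceL α (Algebra.TensorProduct.map (AlgHom.id k AG) (ψ : AG →ₐ[k] AK) z) =
        ψ (sliceL α z) := by
      intro z
      induction z using TensorProduct.induction_on with
      | zero => simp
      | tmul x y => simp
      | add x y hx hy => simp only [map_add, hx, hy]
    rw [hmul, ExactSeq.rho, AlgHom.comp_apply, Bialgebra.comulAlgHom_apply, hrho, hα.sliceL_comul, map_smul, map_one,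
      mul_smul_comm, mul_one]
  · rw [map_sum]
    simp only [map_smul, smul_eq_mul]
    have := congrArg α hf1
    simp only [map_sum, map_smul, smul_eq_mul, hα.map_one] at this
    rw [show ∑ j, α (f j) * π (b j) = 1 from Eq.trans (Finset.sum_congr rfl fun j _ => mul_comm _ _) this]
    exact one_ne_zero


end Groth.Agent.Comod.RelInd
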