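import Groth.Agent.Comod.Invariants
import Groth.Prelude.Def_GLin
import Mathlib.FieldTheory.IntermediateField.Adjoin.Algebra
import Mathlib.FieldTheory.IsAlgClosed.Basic
import Mathlib.RingTheory.Jacobson.Ring
import Mathlib.RingTheory.Spectrum.Prime.Topology
import Mathlib.RingTheory.Localization.FractionRing
import Mathlib.RingTheory.HopfAlgebra.GroupLike

/-!
# Twisted comodules, semi-invariants, characters on closed orbits
-/

universe u v w

noncomputable section

open TensorProduct

namespace Groth.Agent.Comod

section Twist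

variable {k : Type u} [CommRing k] {A : Type v} [CommRing A] [Bialgebra k A]
variable {V : Type w} [AddCommGroup V] [Module k V] {W : Type*} [AddCommGroup W] [Module k W]

/-- the coaction of `V ⊗ (line of weight χ)` -/
@[implicit_reducible]
def twist (χ : A) (hχ : IsGroupLikeElem k χ) (c : HopfRep.Comod k A V) : HopfRep.Comod k A V where
  coact := (LinearMap.mulRight k χ).lTensor V ∘ₗ c.coact
  coassoc := by
    refine LinearMap.ext fun v => ?_
    have h := LinearMap.congr_fun c.coassoc v
    simp only [LinearMap.comp_apply, LinearEquiv.coe_coe] at h ⊢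
    have e1 : ∀ z : V ⊗[k] A, TensorProduct.assoc k V A A
        (((LinearMap.mulRight k χ).lTensor V ∘ₗ c.coact).rTensor A ((LinearMap.mulRight k χ).lTensor V z)) =
        (TensorProduct.map (LinearMap.mulRight k χ) (LinearMap.mulRight k χ)).lTensor V
          (TensorProduct.assoc k V A A (c.coact.rTensor A z)) := by
      intro z
      induction z using TensorProduct.induction_on with
      | zero => simp
      | add y z hy hz => simp only [map_add, hy, hz]
      | tmul a b =>
        simp only [LinearMap.lTensor_tmul, LinearMap.rTensor_tmul, LinearMap.comp_apply]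
        induction c.coact a using TensorProduct.induction_on with
        | zero => simp
        | tmul p q => simp
        | add y z hy hz => simp only [map_add, TensorProduct.add_tmul, hy, hz]
    have e2 : ∀ a : A, Coalgebra.comul (R := k) (a * χ) =
        TensorProduct.map (LinearMap.mulRight k χ) (LinearMap.mulRight k χ) (Coalgebra.comul (R := k) a) := by
      intro a
      rw [Bialgebra.comul_mul, hχ.comul_eq_tmul_self]
      induction Coalgebra.comul (R := k) a using TensorProduct.induction_on with
      | zero => simp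
      | tmul p q => simp
      | add y z hy hz => simp only [map_add, add_mul, hy, hz]
    rw [e1, h, ← LinearMap.lTensor_comp_apply, ← LinearMap.lTensor_comp_apply]
    congr 2
    exact LinearMap.ext fun a => (e2 a).symm
  counit_comp := by
    refine LinearMap.ext fun v => ?_
    have h := LinearMap.congr_fun c.counit_comp v
    simp only [LinearMap.comp_apply] at h ⊢
    rw [← LinearMap.lTensor_comp_apply, ← h]
    congr 2
    exact LinearMap.ext fun a => by simp [Bialgebra.counit_mul, hχ.counit_eq_one]

theorem isComodHom_twist [cV : HopfRep.Comod k A V] [cW : HopfRep.Comod k A W] (χ : A) (hχ : IsGroupLikeElem k χ)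
    {f : V →ₗ[k] W} (hf : Hoch.IsComodHom A f) :
    @Hoch.IsComodHom k _ A _ _ _ V _ _ (twist χ hχ cV) W _ _ (twist χ hχ cW) f := by
  refine LinearMap.ext fun v => ?_
  have h := LinearMap.congr_fun hf v
  simp only [LinearMap.comp_apply] at h ⊢
  change (LinearMap.mulRight k χ).lTensor W (cW.coact (f v)) =
    f.rTensor A ((LinearMap.mulRight k χ).lTensor V (cV.coact v))
  rw [h]
  induction cV.coact v using TensorProduct.induction_on with
  | zero => simp
  | tmul a b => simp
  | add y z hy hz => simp only [map_add, hy, hz]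

theorem coact_eq_of_fixed_twist [cV : HopfRep.Comod k A V] {χ χ' : A} (hχ' : IsGroupLikeElem k χ')
    (h : χ' * χ = 1) {v : V}
    (hv : v ∈ @HopfRep.fixedPts k A _ _ _ V _ _ (twist χ' hχ' cV)) :
    HopfRep.Comod.coact (k := k) (A := A) v = v ⊗ₜ[k] χ := by
  have h' : (LinearMap.mulRight k χ').lTensor V (cV.coact v) = v ⊗ₜ[k] (1 : A) := hv
  have := congrArg ((LinearMap.mulRight k χ).lTensor V) h'
  rw [← LinearMap.lTensor_comp_apply, show LinearMap.mulRight k χ ∘ₗ LinearMap.mulRight k χ' = LinearMap.id from
    LinearMap.ext fun a => by simp [mul_assoc, h], LinearMap.lTensor_id, LinearMap.id_apply] at this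
  simpa using this

end Twist

section Orbit

variable {k : Type u} [Field k] {A : Type v} [CommRing A] [HopfAlgebra k A]
variable {R : Type w} [CommRing R] [Algebra k R] [HopfRep.Comod k A R] [GLin.IsCoactAlg k A R]

theorem orbitHom_apply_eq (x : R →ₐ[k] k) (r : R) :
    GLin.orbitHom k A x r = TensorProduct.lid k A (x.toLinearMap.rTensor A (HopfRep.Comod.coact (k := k) (A := A) r)) := by
  rfl

theorem counit_orbitHom (x : R →ₐ[k] k) (r : R) :
    Coalgebra.counit (R := k) (GLin.orbitHom k A x r) = x r := by
  have h := LinearMap.congr_fun (HopfRep.Comod.counit_comp (k := k) (A := A) (V := R)) r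
  simp only [LinearMap.comp_apply, LinearMap.flip_apply, TensorProduct.mk_apply] at h
  have e : ∀ z : R ⊗[k] A, Coalgebra.counit (R := k) (TensorProduct.lid k A (x.toLinearMap.rTensor A z)) =
      x.toLinearMap (TensorProduct.rid k R ((Coalgebra.counit (R := k) (A := A)).lTensor R z)) := by
    intro z
    induction z using TensorProduct.induction_on with
    | zero => simp
    | tmul a b => simp [mul_comm]
    | add y z hy hz => simp only [map_add, hy, hz]
  rw [orbitHom_apply_eq, e, h]
  simp

theorem comul_orbitHom (x : R →ₐ[k] k) (r : R) :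
    Coalgebra.comul (R := k) (GLin.orbitHom k A x r) =
      (GLin.orbitHom k A x).toLinearMap.rTensor A (HopfRep.Comod.coact (k := k) (A := A) r) := by
  have h := LinearMap.congr_fun (HopfRep.Comod.coassoc (k := k) (A := A) (V := R)) r
  simp only [LinearMap.comp_apply, LinearEquiv.coe_coe] at h
  have e : ∀ z : R ⊗[k] A, Coalgebra.comul (R := k) (TensorProduct.lid k A (x.toLinearMap.rTensor A z)) =
      TensorProduct.lid k (A ⊗[k] A) (x.toLinearMap.rTensor (A ⊗[k] A)
        ((Coalgebra.comul (R := k) (A := A)).lTensor R z)) := by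
    intro z
    induction z using TensorProduct.induction_on with
    | zero => simp
    | tmul a b => simp
    | add y z hy hz => simp only [map_add, hy, hz]
  rw [orbitHom_apply_eq, e, ← h]
  induction HopfRep.Comod.coact (k := k) (A := A) r using TensorProduct.induction_on with
  | zero => simp
  | add y z hy hz => simp only [map_add, hy, hz]
  | tmul a b =>
    simp only [LinearMap.rTensor_tmul, AlgHom.toLinearMap_apply, orbitHom_apply_eq]
    induction HopfRep.Comod.coact (k := k) (A := A) a using TensorProduct.induction_on with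
    | zero => simp
    | tmul p q => simp [TensorProduct.smul_tmul']
    | add y z hy hz => simp only [map_add, TensorProduct.add_tmul, hy, hz]

theorem isComodHom_orbitHom (x : R →ₐ[k] k) : Hoch.IsComodHom A (GLin.orbitHom k A x).toLinearMap :=
  LinearMap.ext fun r => comul_orbitHom x r

/-- a character trivial on the stabilizer is, on a closed orbit of a domain, a function on the orbit -/
theorem mem_range_orbitHom [IsAlgClosed k] [IsDomain A] [Algebra.FiniteType k A] (x : R →ₐ[k] k)
    (hx : GLin.IsClosedOrbit k A x) {χ : A} (hχ : IsGroupLikeElem k χ)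
    (h : χ - 1 ∈ GLin.stabIdeal k A x) : χ ∈ (GLin.orbitHom k A x).range := by
  set o := GLin.orbitHom k A x with ho
  set B := o.range with hB
  have hinv : χ * HopfAlgebra.antipode k χ = 1 := IsGroupLikeElem.mul_antipode_cancel hχ
  -- in the fraction fields
  let L := FractionRing A
  let j : A →ₐ[k] L := IsScalarTower.toAlgHom k A L
  have hj : Function.Injective j := IsFractionRing.injective A L
  let K : IntermediateField k L := IntermediateField.adjoin k ((B.map j : Subalgebra k L) : Set L)
  let Ψ : A ⊗[k] A →ₐ[k] L ⊗[K] L :=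
    Algebra.TensorProduct.lift
      (((Algebra.TensorProduct.includeLeft : L →ₐ[K] L ⊗[K] L).restrictScalars k).comp j)
      (((Algebra.TensorProduct.includeRight : L →ₐ[K] L ⊗[K] L).restrictScalars k).comp
        (j.comp (HopfAlgebra.antipodeAlgHom k A)))
      (fun _ _ => Commute.all _ _)
  let Φ : A →ₐ[k] L ⊗[K] L := Ψ.comp (Bialgebra.comulAlgHom k A)
  have hΨ : ∀ a b : A, Ψ (a ⊗ₜ[k] b) = j a ⊗ₜ[K] j (HopfAlgebra.antipode k b) := fun a b => by
    simp [Ψ]
  have hΦ : ∀ r : R, Φ (o r) = algebraMap k (L ⊗[K] L) (x r) := by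
    intro r
    have h1 : o r * 1 = o r := mul_one _
    change Ψ (Coalgebra.comul (R := k) (o r)) = _
    rw [← counit_orbitHom (A := A) x r, comul_orbitHom, ← ho]
    have e : ∀ z : R ⊗[k] A, Ψ (o.toLinearMap.rTensor A z) =
      (1 : L) ⊗ₜ[K] j (LinearMap.mul' k A ((HopfAlgebra.antipode k).lTensor A (o.toLinearMap.rTensor A z))) := by
      intro z
      induction z using TensorProduct.induction_on with
      | zero => simp
      | add y z hy hz => simp only [map_add, TensorProduct.tmul_add, hy, hz]
      | tmul a b =>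
        have hmem : j (o a) ∈ K := IntermediateField.subset_adjoin k _ ⟨o a, ⟨a, rfl⟩, rfl⟩
        simp only [LinearMap.rTensor_tmul, LinearMap.lTensor_tmul, LinearMap.mul'_apply, map_mul, hΨ,
          AlgHom.toLinearMap_apply]
        rw [show j (o a) = (⟨j (o a), hmem⟩ : K) • (1 : L) from (mul_one _).symm, TensorProduct.smul_tmul]
        simp [IntermediateField.smul_def]
    rw [e, ← comul_orbitHom, HopfAlgebra.mul_antipode_lTensor_comul_apply, AlgHom.commutes,
      IsScalarTower.algebraMap_apply k L (L ⊗[K] L), Algebra.algebraMap_eq_smul_one,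
      Algebra.algebraMap_eq_smul_one, Algebra.TensorProduct.one_def, TensorProduct.smul_tmul']
    simp [TensorProduct.tmul_smul, TensorProduct.smul_tmul']
  have hker : GLin.stabIdeal k A x ≤ RingHom.ker Φ := by
    refine Ideal.map_le_iff_le_comap.2 fun r hr => ?_
    rw [RingHom.mem_ker] at hr
    simpa [hr] using hΦ r
  have h2 := hker h
  rw [RingHom.mem_ker, map_sub, map_one, sub_eq_zero] at h2
  have h3 : Φ χ = j χ ⊗ₜ[K] j (HopfAlgebra.antipode k χ) := by
    change Ψ (Coalgebra.comul (R := k) χ) = _
    rw [hχ.comul_eq_tmul_self, hΨ]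
  rw [h3] at h2
  have h4 : j χ ⊗ₜ[K] (1 : L) = (1 : L) ⊗ₜ[K] j χ := by
    have := congrArg (· * ((1 : L) ⊗ₜ[K] j χ)) h2
    simp only [Algebra.TensorProduct.tmul_mul_tmul, mul_one, one_mul, ← map_mul] at this
    rwa [mul_comm, hinv, map_one] at this
  obtain ⟨φ, hφ⟩ : ∃ φ : L →ₗ[K] K, φ 1 = 1 := by
    obtain ⟨φ, hφ⟩ := (Algebra.linearMap K L).exists_leftInverse_of_injective
      (LinearMap.ker_eq_bot.2 (algebraMap K L).injective)
    exact ⟨φ, by simpa using LinearMap.congr_fun hφ 1⟩
  have h5 := congrArg (fun z => TensorProduct.rid K L (φ.lTensor L z)) h4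
  simp only [LinearMap.lTensor_tmul, TensorProduct.rid_tmul, hφ, one_smul] at h5
  have hK : j χ ∈ K := by
    rw [h5, IntermediateField.smul_def, smul_eq_mul, mul_one]
    exact (φ (j χ)).2
  obtain ⟨a, ha, b, hb, hab⟩ := IntermediateField.mem_adjoin_iff_div.1 hK
  rw [Algebra.adjoin_eq] at ha hb
  obtain ⟨_, ⟨a, rfl⟩, rfl⟩ := ha
  obtain ⟨_, ⟨b, rfl⟩, rfl⟩ := hb
  have hb0 : j (o b) ≠ 0 := fun h0 => by
    change j χ = j (o a) / j (o b) at hab
    rw [h0, div_zero, map_eq_zero_iff _ hj] at hab
    simp [hab] at hinv
  have hab' : o b * χ = o a := hj (by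
    change j χ = j (o a) / j (o b) at hab
    rw [map_mul, hab, mul_comm, div_mul_cancel₀ _ hb0])
  -- the conductor
  let N : Ideal R :=
    { carrier := {r | o r * χ ∈ B}
      zero_mem' := by simp [B.zero_mem]
      add_mem' := fun {p q} hp hq => by
        simp only [Set.mem_ofPred_eq, map_add, add_mul] at hp hq ⊢
        exact B.add_mem hp hq
      smul_mem' := fun c p hp => by
        simp only [Set.mem_ofPred_eq, smul_eq_mul, map_mul, mul_assoc] at hp ⊢
        exact B.mul_mem ⟨c, rfl⟩ hp }
  by_contra hne
  have htop : N ≠ ⊤ := fun h0 => hne (by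
    have : (1 : R) ∈ N := h0 ▸ Submodule.mem_top
    change o 1 * χ ∈ B at this
    rwa [map_one, one_mul] at this)
  obtain ⟨P, hP, hNP⟩ := Ideal.exists_le_maximal N htop
  have hkP : RingHom.ker o.toRingHom ≤ P := fun r hr => hNP (show o r * χ ∈ B by
    rw [show o r = 0 from hr, zero_mul]; exact B.zero_mem)
  obtain ⟨p, hp⟩ : (⟨P, hP.isPrime⟩ : PrimeSpectrum R) ∈ Set.range (PrimeSpectrum.comap o.toRingHom) := by
    rw [← IsClosed.closure_eq hx, PrimeSpectrum.closure_range_comap]
    exact hkP
  obtain ⟨M, hM, hpM⟩ := Ideal.exists_le_maximal p.asIdeal p.isPrime.ne_top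
  have hPM : P ≤ M.comap o.toRingHom := fun r hr => by
    have : r ∈ p.asIdeal.comap o.toRingHom := by
      rw [← PrimeSpectrum.comap_asIdeal, hp]
      exact hr
    exact hpM this
  let _ : Field (A ⧸ M) := Ideal.Quotient.field M
  have : Module.Finite k (A ⧸ M) := finite_of_finite_type_of_isJacobsonRing k (A ⧸ M)
  let e : k ≃ₐ[k] A ⧸ M := AlgEquiv.ofBijective (Algebra.ofId k _)
    IsAlgClosed.algebraMap_bijective_of_isIntegral
  let g : A →ₐ[k] k := e.symm.toAlgHom.comp (Ideal.Quotient.mkₐ k M)
  have hg : ∀ r ∈ N, g (o r) = 0 := fun r hr => by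
    have : Ideal.Quotient.mk M (o r) = 0 := Ideal.Quotient.eq_zero_iff_mem.2 (hPM (hNP hr))
    change e.symm _ = 0
    exact (congrArg e.symm this).trans (map_zero _)
  -- translation by `g` kills `o b`
  let T : A →ₗ[k] A := (TensorProduct.lid k A).toLinearMap ∘ₗ g.toLinearMap.rTensor A ∘ₗ Coalgebra.comul
  let T' : A →ₗ[k] A := (TensorProduct.lid k A).toLinearMap ∘ₗ
    (g.comp (HopfAlgebra.antipodeAlgHom k A)).toLinearMap.rTensor A ∘ₗ Coalgebra.comul
  have hT' : ∀ a, T' (T a) = a := by
    intro a
    let U : A ⊗[k] (A ⊗[k] A) →ₗ[k] A :=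
      (TensorProduct.lid k A).toLinearMap ∘ₗ TensorProduct.map g.toLinearMap
        ((TensorProduct.lid k A).toLinearMap ∘ₗ
          (g.comp (HopfAlgebra.antipodeAlgHom k A)).toLinearMap.rTensor A)
    have e1 : ∀ z : A ⊗[k] A, T' (TensorProduct.lid k A (g.toLinearMap.rTensor A z)) =
        U ((Coalgebra.comul (R := k) (A := A)).lTensor A z) := by
      intro z
      induction z using TensorProduct.induction_on with
      | zero => simp
      | tmul p q => simp [T', U]
      | add y z hy hz => simp only [map_add, hy, hz]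
    have e2 : ∀ z : A ⊗[k] A, U (TensorProduct.assoc k A A A ((Coalgebra.comul (R := k) (A := A)).rTensor A z)) =
        TensorProduct.lid k A ((Coalgebra.counit (R := k) (A := A)).rTensor A z) := by
      intro z
      induction z using TensorProduct.induction_on with
      | zero => simp
      | add y z hy hz => simp only [map_add, hy, hz]
      | tmul p q =>
        have e3 : ∀ y : A ⊗[k] A, U (TensorProduct.assoc k A A A (y ⊗ₜ[k] q)) =
            g (LinearMap.mul' k A ((HopfAlgebra.antipode k).lTensor A y)) • q := by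
          intro y
          induction y using TensorProduct.induction_on with
          | zero => simp
          | tmul s t => simp [U, smul_smul, mul_comm]
          | add y z hy hz => simp only [TensorProduct.add_tmul, map_add, add_smul, hy, hz]
        simp only [LinearMap.rTensor_tmul, e3, HopfAlgebra.mul_antipode_lTensor_comul_apply]
        simp
    change T' (TensorProduct.lid k A (g.toLinearMap.rTensor A (Coalgebra.comul (R := k) a))) = a
    rw [e1, ← Coalgebra.coassoc_apply, e2, Coalgebra.rTensor_counit_comul]
    simp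
  have hψ : ∀ ψ : A →ₗ[k] k, ψ (T (o b)) = 0 := by
    intro ψ
    let s : R := slice ψ (HopfRep.Comod.coact (k := k) (A := A) b)
    have hs : ∀ φ : A →ₗ[k] A, φ (o s) =
        slice ψ ((φ ∘ₗ o.toLinearMap).rTensor A (HopfRep.Comod.coact (k := k) (A := A) b)) := by
      intro φ
      rw [slice_rTensor]
      rfl
    have hsN : s ∈ N := by
      change o s * χ ∈ B
      rw [show o s * χ = LinearMap.mulRight k χ (o s) from rfl, hs]
      refine slice_mem_of_mem_range ψ (Subalgebra.toSubmodule B) ?_
      have hba : Coalgebra.comul (R := k) (o a) = Coalgebra.comul (R := k) (o b) * (χ ⊗ₜ[k] χ) := by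
        rw [← hab', Bialgebra.comul_mul, hχ.comul_eq_tmul_self]
      have key : (LinearMap.mulRight k χ ∘ₗ o.toLinearMap).rTensor A (HopfRep.Comod.coact (k := k) (A := A) b) =
          Coalgebra.comul (R := k) (o a) * ((1 : A) ⊗ₜ[k] HopfAlgebra.antipode k χ) := by
        rw [hba, mul_assoc, Algebra.TensorProduct.tmul_mul_tmul, hinv, mul_one, comul_orbitHom, ← ho,
          LinearMap.rTensor_comp_apply]
        induction o.toLinearMap.rTensor A (HopfRep.Comod.coact (k := k) (A := A) b) using TensorProduct.induction_on with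
        | zero => simp
        | tmul p q => simp
        | add y z hy hz => simp only [map_add, add_mul, hy, hz]
      rw [key, comul_orbitHom, ← ho]
      induction HopfRep.Comod.coact (k := k) (A := A) a using TensorProduct.induction_on with
      | zero => simp
      | add y z hy hz =>
        simp only [map_add, add_mul]
        exact Submodule.add_mem _ hy hz
      | tmul p q => exact ⟨(⟨o p, p, rfl⟩ : Subalgebra.toSubmodule B) ⊗ₜ[k] (q * HopfAlgebra.antipode k χ), by simp⟩
    have := hg s hsN
    calc ψ (T (o b)) = g (o s) := by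
          change ψ (TensorProduct.lid k A (g.toLinearMap.rTensor A (Coalgebra.comul (R := k) (o b)))) =
            g (o (slice ψ (HopfRep.Comod.coact (k := k) (A := A) b)))
          rw [comul_orbitHom, ← ho]
          induction HopfRep.Comod.coact (k := k) (A := A) b using TensorProduct.induction_on with
          | zero => simp
          | tmul p q => simp [slice, mul_comm]
          | add y z hy hz => simp only [map_add, hy, hz]
      _ = 0 := this
  have hTb : T (o b) = 0 := (Module.forall_dual_apply_eq_zero_iff k _).1 hψ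
  have := hT' (o b)
  rw [hTb, map_zero] at this
  exact hb0 (by rw [← this, map_zero])

/-- twisted Reynolds operator: a semi-invariant lifting a character on the orbit -/
theorem exists_semiInvariant {α : A →ₗ[k] k} (hα : IsIntegral k α) (x : R →ₐ[k] k) {θ θ' : A}
    (hθ : IsGroupLikeElem k θ) (hθ' : IsGroupLikeElem k θ') (hmul : θ' * θ = 1)
    (hmem : θ ∈ (GLin.orbitHom k A x).range) :
    ∃ s : R, HopfRep.Comod.coact (k := k) (A := A) s = s ⊗ₜ[k] θ ∧ x s = 1 := by
  obtain ⟨r, hr⟩ := hmem
  have hhom : @Hoch.IsComodHom k _ A _ _ _ R _ _ (twist θ' hθ' (inferInstance : HopfRep.Comod k A R)) A _ _ (twist θ' hθ' (HopfRep.Comod.regular k A)) (GLin.orbitHom k A x).toLinearMap :=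
    isComodHom_twist θ' hθ' (isComodHom_orbitHom x)
  have hfix : θ ∈ @HopfRep.fixedPts k A _ _ _ A _ _ (twist θ' hθ' (HopfRep.Comod.regular k A)) := by
    change (LinearMap.mulRight k θ').lTensor A (Coalgebra.comul (R := k) θ) = θ ⊗ₜ[k] (1 : A)
    rw [hθ.comul_eq_tmul_self, LinearMap.lTensor_tmul, LinearMap.mulRight_apply, mul_comm, hmul]
  have key := @map_avg _ _ _ _ _ R _ _ (twist θ' hθ' (inferInstance : HopfRep.Comod k A R)) A _ _ (twist θ' hθ' (HopfRep.Comod.regular k A)) α _ hhom r
  rw [show (GLin.orbitHom k A x).toLinearMap r = θ from hr,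
    @avg_eq_self _ _ _ _ _ A _ _ (twist θ' hθ' (HopfRep.Comod.regular k A)) α hα θ hfix] at key
  refine ⟨@avg _ _ _ _ _ R _ _ (twist θ' hθ' (inferInstance : HopfRep.Comod k A R)) α r,
    coact_eq_of_fixed_twist hθ' hmul (@avg_mem _ _ _ _ _ R _ _ (twist θ' hθ' (inferInstance : HopfRep.Comod k A R)) α hα r), ?_⟩
  rw [← counit_orbitHom (A := A) x]
  exact (congrArg _ key).trans hθ.counit_eq_one

end Orbit

end Groth.Agent.Comod
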