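import Groth.Agent.Comod.LunaFund
import Mathlib.RingTheory.Smooth.Field
import Mathlib.RingTheory.Smooth.Locus

/-!
# Preparations for the slice at a closed orbit
-/

set_option autoImplicit false
set_option linter.style.haveILetI false
set_option linter.unusedSectionVars false

universe u

noncomputable section

open TensorProduct

namespace Groth.Agent.Comod.SliceBase

variable {k : Type u} [Field k] {A : Type u} [CommRing A] [HopfAlgebra k A]
  {R : Type u} [CommRing R] [Algebra k R] [HopfRep.Comod k A R] [GLin.IsCoactAlg k A R]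

theorem exists_quot (E : Ideal R) (hE : HopfRep.IsSubcomod (k := k) (A := A) (E.restrictScalars k)) :
    ∃ c : HopfRep.Comod k A (R ⧸ E), @GLin.IsCoactAlg k _ A _ _ (R ⧸ E) _ _ c ∧
      @Hoch.IsComodHom k _ A _ _ _ R _ _ ‹HopfRep.Comod k A R› (R ⧸ E) _ _ c (Ideal.Quotient.mkₐ k E).toLinearMap := by
  let c : HopfRep.Comod k A (R ⧸ E) := ComodSub.Comod.quot ‹HopfRep.Comod k A R› (E.restrictScalars k) hE
  have hm : ∀ r : R, c.coact (Ideal.Quotient.mk E r) =
      Algebra.TensorProduct.map (Ideal.Quotient.mkₐ k E) (AlgHom.id k A) (GLin.coactAlgHom k A R r) := by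
    intro r
    refine (ComodSub.quot_coact_mk ‹HopfRep.Comod k A R› (E.restrictScalars k) hE r).trans ?_
    rw [GLin.coactAlgHom_apply]
    induction HopfRep.Comod.coact (k := k) (A := A) r using TensorProduct.induction_on with
    | zero =>
      rw [map_zero, map_zero]
      rfl
    | add p q hp hq =>
      rw [map_add, map_add, ← hp, ← hq]
      rfl
    | tmul p a =>
      rw [LinearMap.rTensor_tmul, Algebra.TensorProduct.map_tmul]
      rfl
  refine ⟨c, @GLin.IsCoactAlg.mk k _ A _ _ (R ⧸ E) _ _ c ?_ fun f g => ?_, ?_⟩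
  · rw [← map_one (Ideal.Quotient.mk E), hm, map_one, map_one]
  · obtain ⟨f, rfl⟩ := Ideal.Quotient.mk_surjective f
    obtain ⟨g, rfl⟩ := Ideal.Quotient.mk_surjective g
    rw [← map_mul, hm, hm, hm, map_mul, map_mul]
  · refine LinearMap.ext fun r => (hm r).trans ?_
    rw [GLin.coactAlgHom_apply]
    change _ = (Ideal.Quotient.mkₐ k E).toLinearMap.rTensor A (HopfRep.Comod.coact (k := k) (A := A) r)
    induction HopfRep.Comod.coact (k := k) (A := A) r using TensorProduct.induction_on with
    | zero => simp
    | add p q hp hq => simp only [map_add, hp, hq]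
    | tmul p a => simp

/-- the retraction attached to an integral is linear over the algebra -/
theorem lam_coact_mul (α : A →ₗ[k] k) (c : R) (z : R ⊗[k] A) :
    lam α (HopfRep.Comod.coact (k := k) (A := A) c * z) = c * lam α z := by
  induction z using TensorProduct.induction_on with
  | zero => simp
  | add p q hp hq => simp only [mul_add, map_add, hp, hq]
  | tmul u a =>
    have e1 : ∀ w : R ⊗[k] A, lam α (w * u ⊗ₜ[k] a) = smulL (B := k) ((kap α).lTensor R (TensorProduct.assoc k R A A
        (((HopfRep.Comod.coact (k := k) (A := A) (V := R)).rTensor A w) *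
          (HopfRep.Comod.coact (k := k) (A := A) u ⊗ₜ[k] a)))) := by
      intro w
      induction w using TensorProduct.induction_on with
      | zero => simp
      | add p q hp hq => simp only [add_mul, map_add, hp, hq]
      | tmul p b =>
        simp only [Algebra.TensorProduct.tmul_mul_tmul, lam, LinearMap.comp_apply, LinearEquiv.coe_coe,
          LinearMap.rTensor_tmul, GLin.IsCoactAlg.coact_mul]
    have hlam : lam α (u ⊗ₜ[k] a) = smulL (B := k) ((kap α).lTensor R (TensorProduct.assoc k R A A
        (HopfRep.Comod.coact (k := k) (A := A) u ⊗ₜ[k] a))) := by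
      simp only [lam, LinearMap.comp_apply, LinearEquiv.coe_coe, LinearMap.rTensor_tmul]
    rw [e1, hlam]
    have h := LinearMap.congr_fun (HopfRep.Comod.coassoc (k := k) (A := A) (V := R)) c
    simp only [LinearMap.comp_apply, LinearEquiv.coe_coe] at h
    rw [show (HopfRep.Comod.coact (k := k) (A := A) (V := R)).rTensor A (HopfRep.Comod.coact (k := k) (A := A) c) =
      (TensorProduct.assoc k R A A).symm ((Coalgebra.comul (R := k) (A := A)).lTensor R
        (HopfRep.Comod.coact (k := k) (A := A) c)) from by rw [← h, LinearEquiv.symm_apply_apply]]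
    have hc := LinearMap.congr_fun (HopfRep.Comod.counit_comp (k := k) (A := A) (V := R)) c
    simp only [LinearMap.comp_apply, LinearMap.flip_apply, TensorProduct.mk_apply] at hc
    have e2 : ∀ (w : R ⊗[k] A) (v : R ⊗[k] A), smulL (B := k) ((kap α).lTensor R (TensorProduct.assoc k R A A
        ((TensorProduct.assoc k R A A).symm ((Coalgebra.comul (R := k) (A := A)).lTensor R w) * (v ⊗ₜ[k] a)))) =
        TensorProduct.rid k R ((Coalgebra.counit (R := k) (A := A)).lTensor R w) *
          smulL (B := k) ((kap α).lTensor R (TensorProduct.assoc k R A A (v ⊗ₜ[k] a))) := by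
      intro w v
      induction w using TensorProduct.induction_on with
      | zero => simp
      | add p q hp hq => simp only [map_add, add_mul, hp, hq]
      | tmul p b =>
        induction v using TensorProduct.induction_on with
        | zero => simp
        | add y y' hy hy' => simp only [TensorProduct.add_tmul, map_add, mul_add, hy, hy']
        | tmul q e =>
          simp only [LinearMap.lTensor_tmul, TensorProduct.assoc_tmul, smulL_tmul, kap_tmul, TensorProduct.rid_tmul]
          have e3 : ∀ y : A ⊗[k] A, smulL (B := k) ((kap α).lTensor R (TensorProduct.assoc k R A A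
              ((TensorProduct.assoc k R A A).symm (p ⊗ₜ[k] y) * ((q ⊗ₜ[k] e) ⊗ₜ[k] a)))) =
              α (LinearMap.mul' k A ((HopfAlgebra.antipode k).rTensor A y) * (HopfAlgebra.antipode k e * a)) •
                (p * q) := by
            intro y
            induction y using TensorProduct.induction_on with
            | zero => simp
            | add y y' hy hy' => simp only [TensorProduct.tmul_add, map_add, add_mul, add_smul, hy, hy']
            | tmul y y' =>
              simp only [TensorProduct.assoc_symm_tmul, Algebra.TensorProduct.tmul_mul_tmul,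
                TensorProduct.assoc_tmul, LinearMap.lTensor_tmul, smulL_tmul, kap_tmul, LinearMap.rTensor_tmul,
                LinearMap.mul'_apply, HopfAlgebra.antipode_mul]
              congr 2
              ring
          rw [e3, HopfAlgebra.mul_antipode_rTensor_comul_apply, ← Algebra.smul_def, map_smul, smul_eq_mul,
            Algebra.smul_mul_assoc, mul_smul_comm, mul_comm, mul_smul, smul_comm]
    rw [e2, hc, TensorProduct.rid_tmul, one_smul]

/-- an equivariant linear projection modulo a stable submodule -/
theorem exists_retraction_linear {α : A →ₗ[k] k} (hα : IsIntegral k α) {C : Type u} [CommRing C] [Algebra k C]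
    [HopfRep.Comod k A C] [GLin.IsCoactAlg k A C] [Algebra C R] [IsScalarTower k C R]
    (hCR : Hoch.IsComodHom A (IsScalarTower.toAlgHom k C R).toLinearMap) (F K : Submodule C R)
    (hF : HopfRep.IsSubcomod (k := k) (A := A) (F.restrictScalars k))
    (hK : HopfRep.IsSubcomod (k := k) (A := A) (K.restrictScalars k))
    (π₀ : R →ₗ[C] R) (h0 : ∀ w ∈ K, π₀ w = 0) (h1 : ∀ w ∈ F, π₀ w - w ∈ K) :
    ∃ π : R →ₗ[C] R, Hoch.IsComodHom A (π.restrictScalars k) ∧ (∀ w ∈ K, π w = 0) ∧ ∀ w ∈ F, π w - w ∈ K := by
  letI := HopfRep.Comod.trivial k A k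
  haveI := isHopfMod_base (k := k) (A := A) (V := R)
  let p : R →ₗ[k] R := π₀.restrictScalars k
  let r : R →ₗ[k] R := (lam α ∘ₗ (Hoch.Ind.equiv k A R).symm.toLinearMap) ∘ₗ
    (((Hoch.Ind.equiv k A R).toLinearMap ∘ₗ p.rTensor A ∘ₗ (Hoch.Ind.equiv k A R).symm.toLinearMap) ∘ₗ
      Hoch.toInd k A R)
  have hr : Hoch.IsComodHom A r :=
    isComodHom_comp (isComodHom_lam hα.isComodHom) (isComodHom_comp (isComodHom_ind_map p) isComodHom_toInd)
  have hr_apply : ∀ w, r w = lam α (p.rTensor A (HopfRep.Comod.coact (k := k) (A := A) w)) := fun w => rfl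
  have hlin : ∀ (c : C) (w : R), r (c • w) = c • r w := by
    intro c w
    rw [hr_apply, hr_apply, Algebra.smul_def, Algebra.smul_def, GLin.IsCoactAlg.coact_mul, ← lam_coact_mul]
    refine congrArg _ ?_
    rw [show HopfRep.Comod.coact (k := k) (A := A) (algebraMap C R c) =
      (IsScalarTower.toAlgHom k C R).toLinearMap.rTensor A (HopfRep.Comod.coact (k := k) (A := A) c) from
        LinearMap.congr_fun hCR c]
    induction HopfRep.Comod.coact (k := k) (A := A) c using TensorProduct.induction_on with
    | zero => simp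
    | add y z hy hz => simp only [map_add, add_mul, hy, hz]
    | tmul c' a =>
      induction HopfRep.Comod.coact (k := k) (A := A) w using TensorProduct.induction_on with
      | zero => simp
      | add y z hy hz => simp only [map_add, mul_add, hy, hz]
      | tmul v b =>
        simp only [p, LinearMap.rTensor_tmul, AlgHom.toLinearMap_apply, IsScalarTower.coe_toAlgHom',
          Algebra.TensorProduct.tmul_mul_tmul, LinearMap.coe_restrictScalars, ← Algebra.smul_def, map_smul]
  have hlamK : ∀ z : R ⊗[k] A, z ∈ LinearMap.range ((K.restrictScalars k).subtype.rTensor A) → lam α z ∈ K := by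
    rintro _ ⟨t, rfl⟩
    induction t using TensorProduct.induction_on with
    | zero => simp
    | add y z hy hz => simp only [map_add]; exact add_mem hy hz
    | tmul v a =>
      obtain ⟨t', ht'⟩ := hK v v.2
      simp only [LinearMap.rTensor_tmul, Submodule.coe_subtype, lam, LinearMap.comp_apply, LinearEquiv.coe_coe]
      rw [← ht']
      clear ht'
      induction t' using TensorProduct.induction_on with
      | zero => simp
      | add y z hy hz => simp only [TensorProduct.add_tmul, map_add]; exact add_mem hy hz
      | tmul v' b =>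
        simp only [LinearMap.rTensor_tmul, Submodule.coe_subtype, TensorProduct.assoc_tmul, LinearMap.lTensor_tmul,
          smulL_tmul]
        exact (K.restrictScalars k).smul_mem _ v'.2
  refine ⟨{ toFun := r, map_add' := map_add r, map_smul' := hlin }, hr, fun w hw => ?_, fun w hw => ?_⟩
  · change r w = 0
    rw [hr_apply]
    obtain ⟨t, ht⟩ := hK w hw
    rw [← ht, ← LinearMap.rTensor_comp_apply,
      show p ∘ₗ (K.restrictScalars k).subtype = 0 from LinearMap.ext fun v => h0 v v.2]
    simp
  · change r w - w ∈ K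
    rw [hr_apply]
    conv in (occs := 2) w => rw [← lam_coact hα.map_one w]
    rw [← map_sub]
    refine hlamK _ ?_
    obtain ⟨t, ht⟩ := hF w hw
    rw [← ht]
    clear ht
    induction t using TensorProduct.induction_on with
    | zero => simp
    | add y z hy hz => simp only [map_add, add_sub_add_comm]; exact add_mem hy hz
    | tmul v a =>
      refine ⟨(⟨π₀ v - v, h1 v v.2⟩ : K.restrictScalars k) ⊗ₜ[k] a, ?_⟩
      simp [p, TensorProduct.sub_tmul]

variable [IsAlgClosed k] [CharZero k] [IsDomain A] [Algebra.FiniteType k A] [Algebra.FiniteType k R]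

/-- the ring of a closed orbit is smooth -/
theorem smooth_orbitRing (x : R →ₐ[k] k) (hx : GLin.IsClosedOrbit k A x) :
    Algebra.Smooth k (R ⧸ RingHom.ker (GLin.orbitHom k A x)) := by
  classical
  set o := GLin.orbitHom k A x with ho
  set I := RingHom.ker o with hI
  have hIp : I.IsPrime := RingHom.ker_isPrime o
  haveI : IsDomain (R ⧸ I) := (Ideal.Quotient.isDomain_iff_prime I).2 hIp
  haveI : IsNoetherianRing (R ⧸ I) := Algebra.FiniteType.isNoetherianRing k _
  haveI : Algebra.FinitePresentation k (R ⧸ I) := Algebra.FinitePresentation.of_finiteType.1 inferInstance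
  haveI : IsJacobsonRing (R ⧸ I) := isJacobsonRing_of_finiteType (A := k)
  let C := R ⧸ I
  -- smooth somewhere
  have hbot : (⟨⊥, Ideal.isPrime_bot⟩ : PrimeSpectrum C) ∈ Algebra.smoothLocus k C := by
    change Algebra.FormallySmooth k (Localization.AtPrime (⊥ : Ideal C))
    haveI : IsFractionRing C (Localization.AtPrime (⊥ : Ideal C)) := by
      change IsLocalization (nonZeroDivisors C) (Localization.AtPrime (⊥ : Ideal C))
      have e : (⊥ : Ideal C).primeCompl = nonZeroDivisors C := by
        ext c
        simp [mem_nonZeroDivisors_iff_ne_zero]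
      rw [← e]
      infer_instance
    let e : FractionRing C ≃ₐ[k] Localization.AtPrime (⊥ : Ideal C) :=
      (IsLocalization.algEquiv (nonZeroDivisors C) (FractionRing C) _).restrictScalars k
    haveI : Algebra.EssFiniteType C (FractionRing C) := Algebra.EssFiniteType.of_isLocalization _ (nonZeroDivisors C)
    haveI : Algebra.EssFiniteType k (FractionRing C) := .comp k C _
    haveI : Algebra.FormallySmooth k (FractionRing C) := inferInstance
    exact Algebra.FormallySmooth.of_equiv e
  obtain ⟨M₀, hM₀, hM₀s⟩ : ∃ M : Ideal C, ∃ h : M.IsMaximal,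
      (⟨M, h.isPrime⟩ : PrimeSpectrum C) ∈ Algebra.smoothLocus k C := by
    obtain ⟨_, ⟨f, rfl⟩, hf, hsub⟩ :=
      PrimeSpectrum.isTopologicalBasis_basic_opens.exists_subset_of_mem_open hbot Algebra.isOpen_smoothLocus
    by_contra hcon
    push Not at hcon
    refine hf (Ideal.mem_bot.2 ?_)
    have : f ∈ (⊥ : Ideal C).jacobson := Ideal.mem_sInf.2 fun {M} hM => by
      by_contra hfM
      exact hcon M hM.2 (hsub hfM)
    rwa [IsJacobsonRing.out' ⊥ (Ideal.isPrime_bot.isRadical), Ideal.mem_bot] at this
  -- translations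
  have hpt : ∀ (M : Ideal C), M.IsMaximal → ∃ g : A →ₐ[k] k, ∀ r : R, Ideal.Quotient.mk I r ∈ M ↔ g (o r) = 0 := by
    intro M hM
    haveI := hM
    obtain ⟨z, hz⟩ := LunaFund.exists_point (k := k) M
    obtain ⟨g, hg⟩ := exists_point_of_closedOrbit x hx (z.comp (Ideal.Quotient.mkₐ k I)) fun r hr => by
      change z (Ideal.Quotient.mk I r) = 0
      rw [Ideal.Quotient.eq_zero_iff_mem.2 hr, map_zero]
    exact ⟨g, fun r => by rw [← hz, ho, hg]; rfl⟩
  have hactI : ∀ (g : A →ₐ[k] k), ∀ r ∈ I, actAlg g r ∈ I := by
    intro g r hr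
    have h := InvQLib.orbitIdeal (R := R) k A x
    have hrad : InvQLib.orbitIdeal k A x = I := hIp.isRadical.radical
    rw [← hrad] at hr ⊢
    exact actAlg_mem g hr
  let τ : (A →ₐ[k] k) → C →ₐ[k] C := fun g =>
    Ideal.quotientMapₐ I (actAlg (R := R) g) fun r hr => hactI g r hr
  have hτ : ∀ g r, τ g (Ideal.Quotient.mk I r) = Ideal.Quotient.mk I (actAlg g r) := fun g r => rfl
  have hτinv : ∀ g c, τ g (τ (InvQLib.pinv g) c) = c := fun g c => by
    obtain ⟨r, rfl⟩ := Ideal.Quotient.mk_surjective c
    rw [hτ, hτ, actAlg_pinv]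
  have hall : ∀ M : Ideal C, ∀ hM : M.IsMaximal, (⟨M, hM.isPrime⟩ : PrimeSpectrum C) ∈ Algebra.smoothLocus k C := by
    intro M hM
    obtain ⟨g₀, hg₀⟩ := hpt M₀ hM₀
    obtain ⟨g, hg⟩ := hpt M hM
    let h := InvQLib.pmul (InvQLib.pinv g₀) g
    let e : C ≃ₐ[k] C := AlgEquiv.ofBijective (τ h) ⟨fun a b hab => by
      have := congrArg (τ (InvQLib.pinv h)) hab
      have e' := fun c => hτinv (InvQLib.pinv h) c
      simp only [pinv_pinv] at e'
      rwa [e', e'] at this, fun c => ⟨τ (InvQLib.pinv h) c, hτinv h c⟩⟩
    have hMe : M = M₀.comap e.toRingEquiv.toRingHom := by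
      refine Ideal.ext fun c => ?_
      obtain ⟨r, rfl⟩ := Ideal.Quotient.mk_surjective c
      change _ ↔ τ h (Ideal.Quotient.mk I r) ∈ M₀
      rw [hτ, hg, hg₀]
      have hcomp : g₀ (o (actAlg h r)) = g (o r) := by
        have h1 : g₀ (o (actAlg h r)) = InvQLib.move g₀ x (actAlg h r) := rfl
        have h2 : g (o r) = InvQLib.move g x r := rfl
        have h3 : InvQLib.pmul g₀ h = g := by
          simp only [h, InvQLib.pmul, InvQLib.pinv, WithConv.toConv_ofConv, ← mul_assoc, conv_comp_antipode, one_mul]
        rw [h1, h2, point_actAlg, InvQLib.move_move, h3]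
      rw [hcomp]
    haveI := hM₀.isPrime
    haveI := hM.isPrime
    have hmap : Submonoid.map (e : C →* C) M.primeCompl = M₀.primeCompl := by
      refine SetLike.ext fun c => ⟨fun hc hc' => ?_, fun hc => Submonoid.mem_map.2 ⟨e.symm c, fun hd => ?_, e.apply_symm_apply c⟩⟩
      · obtain ⟨d, hd, rfl⟩ := Submonoid.mem_map.1 hc
        exact hd (by rw [hMe]; exact hc')
      · rw [hMe] at hd
        exact hc (by simpa using (Ideal.mem_comap.1 hd))
    let eL : Localization.AtPrime M ≃ₐ[k] Localization.AtPrime M₀ :=
      IsLocalization.algEquivOfAlgEquiv (Localization.AtPrime M) (Localization.AtPrime M₀) e hmap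
    haveI : Algebra.FormallySmooth k (Localization.AtPrime M₀) := hM₀s
    exact Algebra.FormallySmooth.of_equiv eL.symm
  have huniv : Algebra.smoothLocus k C = Set.univ := by
    by_contra hne
    obtain ⟨p, hp⟩ := (Set.ne_univ_iff_exists_notMem _).1 hne
    obtain ⟨M, hM, hpM⟩ := Ideal.exists_le_maximal p.asIdeal p.isPrime.ne_top
    exact hp (IsOpen.stableUnderGeneralization Algebra.isOpen_smoothLocus
      ((PrimeSpectrum.le_iff_specializes p ⟨M, hM.isPrime⟩).1 hpM) (hall M hM))
  exact ⟨Algebra.smoothLocus_eq_univ_iff.1 huniv, inferInstance⟩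

end Groth.Agent.Comod.SliceBase
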