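import Groth.Agent.Comod.LunaAlg
import Groth.Agent.RegLoc.Basic
import Mathlib.RingTheory.Smooth.Basic
import Mathlib.Algebra.TrivSqZeroExt.Basic
import Mathlib.RingTheory.Kaehler.Basic
import Mathlib.Algebra.MvPolynomial.Eval

/-!
# The tubular neighbourhood of a smooth subvariety of affine space
-/

set_option autoImplicit false
set_option linter.style.haveILetI false
set_option linter.unusedSectionVars false

universe u

noncomputable section

open MvPolynomial

namespace Groth.Agent.Comod.SliceEtale

variable {k : Type u} [Field k] {ι : Type u} [Fintype ι] {C : Type u} [CommRing C] [Algebra k C] (p : ι → C)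

/-- the linear equations of the diagonal -/
def Y (j : ι) : MvPolynomial ι C := X j - MvPolynomial.C (p j)

/-- evaluation on the diagonal -/
def ev : MvPolynomial ι C →ₐ[C] C := MvPolynomial.aeval p

/-- change of coefficients -/
def toT : MvPolynomial ι k →ₐ[k] MvPolynomial ι C := MvPolynomial.aeval (X : ι → MvPolynomial ι C)

/-- the free module on the equations -/
def F : Submodule C (MvPolynomial ι C) := Submodule.span C (Set.range (Y p))

/-- the ideal of the diagonal -/
def Δ : Ideal (MvPolynomial ι C) := Ideal.span (Set.range (Y p))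

/-- relations and squares -/
def J : Ideal (MvPolynomial ι C) :=
  (RingHom.ker (MvPolynomial.aeval (R := k) p)).map (toT (k := k) (ι := ι) (C := C)) ⊔ Δ p * Δ p

/-- the equations which are trivial to first order along the subvariety -/
def K : Submodule C (MvPolynomial ι C) := F p ⊓ (J (k := k) p).restrictScalars C

theorem toT_X (j : ι) : toT (k := k) (C := C) (X j) = X j := MvPolynomial.aeval_X _ _

theorem ev_Y (j : ι) : ev p (Y p j) = 0 := by
  simp [ev, Y]

theorem ev_toT (G : MvPolynomial ι k) : ev p (toT G) = MvPolynomial.aeval p G :=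
  AlgHom.congr_fun (MvPolynomial.algHom_ext (f := ((ev p).restrictScalars k).comp toT)
    (g := MvPolynomial.aeval p) fun j => by
    change ev p (toT (X j)) = _
    rw [toT_X, ev, MvPolynomial.aeval_X, MvPolynomial.aeval_X]) G

theorem F_le : ∀ v ∈ F p, v ∈ Δ p := fun v hv =>
  (Submodule.span_le (p := (Δ p).restrictScalars C)).2 (fun _ hw => Ideal.subset_span hw) hv

theorem ev_eq_zero {f : MvPolynomial ι C} (hf : f ∈ Δ p) : ev p f = 0 := by
  induction hf using Submodule.span_induction with
  | mem a ha => obtain ⟨j, rfl⟩ := ha; exact ev_Y p j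
  | zero => simp
  | add a b _ _ ha hb => rw [map_add, ha, hb, add_zero]
  | smul g a _ ha => rw [smul_eq_mul, map_mul, ha, mul_zero]

theorem sub_ev_mem (f : MvPolynomial ι C) : f - MvPolynomial.C (ev p f) ∈ Δ p := by
  induction f using MvPolynomial.induction_on with
  | C a => simp [ev]
  | add f g hf hg => rw [map_add, map_add, add_sub_add_comm]; exact add_mem hf hg
  | mul_X f i hf =>
    rw [map_mul, map_mul, show ev p (X i) = p i from MvPolynomial.aeval_X _ _,
      show f * X i - MvPolynomial.C (ev p f) * MvPolynomial.C (p i) =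
        (f - MvPolynomial.C (ev p f)) * X i + MvPolynomial.C (ev p f) * Y p i by rw [Y]; ring]
    exact add_mem (Ideal.mul_mem_right _ _ hf) (Ideal.mul_mem_left _ _ (Ideal.subset_span ⟨i, rfl⟩))

theorem exists_linear {f : MvPolynomial ι C} (hf : f ∈ Δ p) : ∃ v ∈ F p, f - v ∈ Δ p * Δ p := by
  induction hf using Submodule.span_induction with
  | mem a ha => exact ⟨a, Submodule.subset_span ha, by simp⟩
  | zero => exact ⟨0, zero_mem _, by simp⟩
  | add a b _ _ ha hb =>
    obtain ⟨v, hv, hva⟩ := ha
    obtain ⟨w, hw, hwb⟩ := hb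
    exact ⟨v + w, add_mem hv hw, by rw [add_sub_add_comm]; exact add_mem hva hwb⟩
  | smul g a ha' ha =>
    obtain ⟨v, hv, hva⟩ := ha
    refine ⟨ev p g • v, Submodule.smul_mem _ _ hv, ?_⟩
    rw [MvPolynomial.smul_eq_C_mul, smul_eq_mul, show g * a - MvPolynomial.C (ev p g) * v =
      (g - MvPolynomial.C (ev p g)) * a + MvPolynomial.C (ev p g) * (a - v) by ring]
    exact add_mem (Ideal.mul_mem_mul (sub_ev_mem p g) ha') (Ideal.mul_mem_left _ _ hva)

/-- a map vanishing on squares and on first order relations vanishes on relations -/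
theorem map_relation_eq_zero {Q : Type u} [CommRing Q] (Ξ : MvPolynomial ι C →+* Q)
    (hΔ : ∀ f ∈ Δ p * Δ p, Ξ f = 0) (hK : ∀ v ∈ K (k := k) p, Ξ v = 0) {G : MvPolynomial ι k}
    (hG : MvPolynomial.aeval p G = 0) : Ξ (toT G) = 0 := by
  have h1 : toT G ∈ Δ p := by
    have := sub_ev_mem p (toT G)
    rwa [ev_toT, hG, map_zero, sub_zero] at this
  obtain ⟨v, hv, hd⟩ := exists_linear p h1
  have hvK : v ∈ K (k := k) p := by
    refine ⟨hv, ?_⟩
    change v ∈ J (k := k) p
    rw [show v = toT G - (toT G - v) by ring]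
    exact sub_mem (Submodule.mem_sup_left (Ideal.mem_map_of_mem _ (RingHom.mem_ker.2 hG)))
      (Submodule.mem_sup_right hd)
  rw [← sub_add_cancel (toT G) v, map_add, hΔ _ hd, hK v hvK, add_zero]

theorem exists_desc (hp : Function.Surjective (MvPolynomial.aeval (R := k) p)) {Q : Type u} [CommRing Q]
    [Algebra k Q] (f : MvPolynomial ι k →ₐ[k] Q) (hf : ∀ G, MvPolynomial.aeval p G = 0 → f G = 0) :
    ∃ q : C →ₐ[k] Q, ∀ G, q (MvPolynomial.aeval p G) = f G := by
  let e := Ideal.quotientKerAlgEquivOfSurjective hp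
  refine ⟨(Ideal.Quotient.liftₐ _ f fun G hG => hf G (RingHom.mem_ker.1 hG)).comp e.symm.toAlgHom, fun G => ?_⟩
  rw [show MvPolynomial.aeval p G = e (Ideal.Quotient.mk _ G) from rfl, AlgHom.comp_apply,
    AlgEquiv.coe_toAlgHom, AlgEquiv.symm_apply_apply]
  rfl

/-- a derivation as a map into a trivial square zero extension -/
theorem exists_ofDerivation {M : Type u} [AddCommGroup M] [Module C M] [Module Cᵐᵒᵖ M] [IsCentralScalar C M]
    [Module k M] [IsScalarTower k C M] (D : Derivation k C M) :
    ∃ ψ : C →ₐ[k] TrivSqZeroExt C M, ∀ c, ψ c = TrivSqZeroExt.inl c + TrivSqZeroExt.inr (D c) := by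
  refine ⟨{ toFun := fun c => TrivSqZeroExt.inl c + TrivSqZeroExt.inr (D c)
            map_one' := by simp
            map_mul' := fun a b => by
              refine TrivSqZeroExt.ext ?_ ?_
              · simp
              · simp [add_comm]
            map_zero' := by simp
            map_add' := fun a b => by
              refine TrivSqZeroExt.ext ?_ ?_ <;> simp
            commutes' := fun c => by
              refine TrivSqZeroExt.ext ?_ ?_ <;> simp [TrivSqZeroExt.algebraMap_eq_inl'] }, fun c => rfl⟩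

set_option maxHeartbeats 800000 in
/-- for a smooth subvariety the first order relations split off -/
theorem exists_projection [Algebra.FormallySmooth k C] (hp : Function.Surjective (MvPolynomial.aeval (R := k) p)) :
    ∃ π₀ : MvPolynomial ι C →ₗ[C] MvPolynomial ι C, (∀ w ∈ K (k := k) p, π₀ w = 0) ∧
      ∀ w ∈ F p, π₀ w - w ∈ K (k := k) p := by
  classical
  let K' : Submodule C (F p) := (K (k := k) p).comap (F p).subtype
  let M := (F p) ⧸ K'
  haveI : IsCentralScalar C M := inferInstance
  letI : Module Cᵐᵒᵖ (Ω[C⁄k]) := Module.compHom _ ((RingHom.id C).fromOpposite mul_comm)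
  haveI : IsCentralScalar C (Ω[C⁄k]) := ⟨fun c m => rfl⟩
  let Yc : ι → F p := fun j => ⟨Y p j, Submodule.subset_span ⟨j, rfl⟩⟩
  let cl : F p →ₗ[C] M := K'.mkQ
  -- the derivation into the quotient
  let Ξ : MvPolynomial ι C →ₐ[C] TrivSqZeroExt C M :=
    MvPolynomial.aeval fun j => TrivSqZeroExt.inl (p j) + TrivSqZeroExt.inr (cl (Yc j))
  have hfst : ∀ f, (Ξ f).fst = ev p f := fun f =>
    AlgHom.congr_fun (MvPolynomial.algHom_ext (f := (TrivSqZeroExt.fstHom C C M).comp Ξ) (g := ev p) fun j => by
      simp [Ξ, ev]) f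
  have hΞF : ∀ v : F p, Ξ v = TrivSqZeroExt.inr (cl v) := by
    rintro ⟨v, hv⟩
    induction hv using Submodule.span_induction with
    | mem a ha =>
      obtain ⟨j, rfl⟩ := ha
      refine TrivSqZeroExt.ext ?_ ?_ <;> simp [Ξ, Y, Yc, TrivSqZeroExt.algebraMap_eq_inl]
    | zero => exact (map_zero Ξ).trans (by rw [show (⟨0, _⟩ : F p) = 0 from rfl, map_zero, TrivSqZeroExt.inr_zero])
    | add a b ha' hb' ha hb =>
      rw [show (⟨a + b, _⟩ : F p) = ⟨a, ha'⟩ + ⟨b, hb'⟩ from rfl, map_add cl, TrivSqZeroExt.inr_add, ← ha, ← hb]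
      exact map_add Ξ a b
    | smul c a ha' ha =>
      rw [show (⟨c • a, _⟩ : F p) = c • (⟨a, ha'⟩ : F p) from rfl, map_smul cl, TrivSqZeroExt.inr_smul, ← ha]
      exact map_smul Ξ c a
  have hΔ0 : ∀ f ∈ Δ p * Δ p, Ξ f = 0 := by
    intro f hf
    induction hf using Submodule.mul_induction_on' with
    | mem_mul_mem a ha b hb =>
      refine TrivSqZeroExt.ext ?_ ?_ <;>
        simp [hfst, ev_eq_zero p ha, ev_eq_zero p hb]
    | add a _ b _ ha hb => rw [map_add, ha, hb, add_zero]
  obtain ⟨q, hq⟩ := exists_desc p hp ((Ξ.restrictScalars k).comp toT) fun G hG =>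
    map_relation_eq_zero p Ξ.toRingHom hΔ0 (fun v hv => by
      change Ξ v = 0
      rw [show Ξ v = Ξ ((⟨v, hv.1⟩ : F p) : MvPolynomial ι C) from rfl, hΞF,
        show cl ⟨v, hv.1⟩ = 0 from (Submodule.Quotient.mk_eq_zero K').2 hv, TrivSqZeroExt.inr_zero]) hG
  have hq1 : ∀ c, (q c).fst = c := fun c => by
    obtain ⟨G, rfl⟩ := hp c
    rw [hq]
    exact (hfst _).trans (ev_toT p G)
  let D : Derivation k C M :=
    Derivation.mk' ((TrivSqZeroExt.sndHom C M).restrictScalars k ∘ₗ q.toLinearMap) fun a b => by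
      simp [hq1, add_comm]
  let L : Ω[C⁄k] →ₗ[C] M := D.liftKaehlerDifferential
  have hL : ∀ j, L (KaehlerDifferential.D k C (p j)) = cl (Yc j) := by
    intro j
    rw [show L (KaehlerDifferential.D k C (p j)) = D (p j) from D.liftKaehlerDifferential_comp_D (p j)]
    change (q (p j)).snd = _
    rw [← show MvPolynomial.aeval p (X j : MvPolynomial ι k) = p j from MvPolynomial.aeval_X _ _, hq]
    simp [toT_X, Ξ]
  -- the map to the differentials
  obtain ⟨ψ, hψ⟩ := exists_ofDerivation (KaehlerDifferential.D k C)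
  let Ξ' : MvPolynomial ι C →ₐ[C] TrivSqZeroExt C (Ω[C⁄k]) :=
    MvPolynomial.aeval fun j => ψ (p j)
  have hfst' : ∀ f, (Ξ' f).fst = ev p f := fun f =>
    AlgHom.congr_fun (MvPolynomial.algHom_ext (f := (TrivSqZeroExt.fstHom C C (Ω[C⁄k])).comp Ξ') (g := ev p)
      fun j => by simp [Ξ', ev, hψ]) f
  have hJ : ∀ f ∈ J (k := k) p, Ξ' f = 0 := by
    intro f hf
    have hle : J (k := k) p ≤ RingHom.ker Ξ' := by
      refine sup_le (Ideal.map_le_iff_le_comap.2 fun G hG => ?_) (Ideal.mul_le.2 fun a ha b hb => ?_)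
      · change Ξ' (toT G) = 0
        have e : (Ξ'.restrictScalars k).comp toT = ψ.comp (MvPolynomial.aeval p) :=
          MvPolynomial.algHom_ext fun j => by simp [toT_X, Ξ']
        have := AlgHom.congr_fun e G
        simp only [AlgHom.comp_apply, AlgHom.restrictScalars_apply] at this
        rw [this, RingHom.mem_ker.1 hG, map_zero]
      · rw [RingHom.mem_ker]
        refine TrivSqZeroExt.ext ?_ ?_ <;> simp [hfst', ev_eq_zero p ha, ev_eq_zero p hb]
    exact hle hf
  let Θ₀ : F p →ₗ[C] Ω[C⁄k] := (TrivSqZeroExt.sndHom C _) ∘ₗ Ξ'.toLinearMap ∘ₗ (F p).subtype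
  let Θ : M →ₗ[C] Ω[C⁄k] := K'.liftQ Θ₀ fun v hv => by
    rw [LinearMap.mem_ker]
    change (Ξ' (v : MvPolynomial ι C)).snd = 0
    exact (congrArg TrivSqZeroExt.snd (hJ _ hv.2)).trans TrivSqZeroExt.snd_zero
  have hspan : Submodule.span C (Set.range Yc) = ⊤ := by
    refine eq_top_iff.2 fun v _ => ?_
    have h : (v : MvPolynomial ι C) ∈ Submodule.span C (Set.range (Y p)) := v.2
    rw [Submodule.mem_span_range_iff_exists_fun] at h
    obtain ⟨c, hc⟩ := h
    exact (Submodule.mem_span_range_iff_exists_fun C).2 ⟨c, Subtype.ext (by simpa [Yc] using hc)⟩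
  have hLΘ : L ∘ₗ Θ = LinearMap.id := by
    refine Submodule.linearMap_qext _ (LinearMap.ext_on_range hspan fun j => ?_)
    simp only [LinearMap.comp_apply, LinearMap.id_apply, Submodule.mkQ_apply, Θ, Submodule.liftQ_apply, Θ₀]
    change L (Ξ' (Y p j)).snd = _
    rw [show (Ξ' (Y p j)).snd = KaehlerDifferential.D k C (p j) by
      simp [Ξ', Y, hψ, TrivSqZeroExt.algebraMap_eq_inl], hL]
    rfl
  haveI : Module.Projective C M := Module.Projective.of_split Θ L hLΘ
  obtain ⟨s, hs⟩ := Module.projective_lifting_property cl LinearMap.id K'.mkQ_surjective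
  let pr : MvPolynomial ι C →ₗ[C] F p :=
    ∑ j, (MvPolynomial.lcoeff C (Finsupp.single j 1)).smulRight (Yc j)
  have hpr : ∀ v : F p, pr v = v := by
    refine fun v => LinearMap.congr_fun (f := pr ∘ₗ (F p).subtype) (g := LinearMap.id)
      (LinearMap.ext_on_range hspan fun j => ?_) v
    simp only [LinearMap.comp_apply, LinearMap.id_apply, pr, Submodule.subtype_apply, LinearMap.sum_apply,
      LinearMap.smulRight_apply, MvPolynomial.lcoeff_apply]
    have h0 : ∀ i : ι, (0 : ι →₀ ℕ) ≠ Finsupp.single i 1 := fun i => (Finsupp.single_ne_zero.2 one_ne_zero).symm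
    rw [Finset.sum_eq_single j]
    · simp [Yc, Y, MvPolynomial.coeff_C, h0 j]
    · intro i _ hij
      have h1 : (Finsupp.single j 1 : ι →₀ ℕ) ≠ Finsupp.single i 1 := fun h =>
        hij (Finsupp.single_left_injective one_ne_zero h).symm
      simp [Yc, Y, MvPolynomial.coeff_C, h0 i, h1, MvPolynomial.coeff_X]
    · simp
  refine ⟨(F p).subtype ∘ₗ s ∘ₗ cl ∘ₗ pr, fun w hw => ?_, fun w hw => ?_⟩
  · change ((s (cl (pr w)) : F p) : MvPolynomial ι C) = 0
    rw [show pr w = ⟨w, hw.1⟩ from hpr ⟨w, hw.1⟩,
      show cl ⟨w, hw.1⟩ = 0 from (Submodule.Quotient.mk_eq_zero K').2 hw, map_zero, Submodule.coe_zero]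
  · change ((s (cl (pr w)) : F p) : MvPolynomial ι C) - w ∈ K (k := k) p
    rw [show pr w = ⟨w, hw⟩ from hpr ⟨w, hw⟩]
    have h : s (cl ⟨w, hw⟩) - ⟨w, hw⟩ ∈ K' :=
      (Submodule.Quotient.eq K').1 (LinearMap.congr_fun hs (cl ⟨w, hw⟩))
    exact h

section Etale

variable [Algebra.FormallySmooth k C] (hp : Function.Surjective (MvPolynomial.aeval (R := k) p))
  (π : MvPolynomial ι C →ₗ[C] MvPolynomial ι C) (hπK : ∀ w ∈ K (k := k) p, π w = 0)
  (hπF : ∀ w ∈ F p, π w - w ∈ K (k := k) p) (x : C →ₐ[k] k)

include hp hπK hπF in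
set_option maxHeartbeats 1600000 in
/-- points of the tubular neighbourhood over infinitesimal neighbourhoods of the point -/
theorem exists_section (n : Ideal (MvPolynomial ι k)) (hn : n = RingHom.ker (MvPolynomial.aeval fun j => x (p j))) :
    ∀ N : ℕ, ∃ q : C →ₐ[k] MvPolynomial ι k ⧸ n ^ (N + 1),
      (∀ c, q c - algebraMap k _ (x c) ∈ n.map (Ideal.Quotient.mk (n ^ (N + 1)))) ∧
      ∀ j, MvPolynomial.eval₂Hom q.toRingHom (fun i => Ideal.Quotient.mk (n ^ (N + 1)) (X i)) (π (Y p j)) = 0 := by
  classical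
  have hXn : ∀ i, X i - MvPolynomial.C (x (p i)) ∈ n := fun i => by
    rw [hn, RingHom.mem_ker]
    simp
  have hsmul : ∀ {Q : Type u} [CommRing Q] (Φ : MvPolynomial ι C →+* Q) (c : C) (v : MvPolynomial ι C),
      Φ (c • v) = Φ (MvPolynomial.C c) * Φ v := fun Φ c v => by rw [MvPolynomial.smul_eq_C_mul, map_mul]
  intro N
  induction N with
  | zero =>
    refine ⟨(Algebra.ofId k _).comp x, fun c => by simp [Algebra.ofId_apply], fun j => ?_⟩
    let Φ := MvPolynomial.eval₂Hom ((Algebra.ofId k (MvPolynomial ι k ⧸ n ^ (0 + 1))).comp x).toRingHom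
      (fun i => Ideal.Quotient.mk (n ^ (0 + 1)) (X i))
    have hY : ∀ i, Φ (Y p i) = 0 := fun i => by
      have : Φ (Y p i) = Ideal.Quotient.mk (n ^ (0 + 1)) (X i - MvPolynomial.C (x (p i))) := by
        simp [Φ, Y, Algebra.ofId_apply]
        rfl
      rw [this, Ideal.Quotient.eq_zero_iff_mem, zero_add, pow_one]
      exact hXn i
    have hv : π (Y p j) ∈ F p := by
      rw [← sub_add_cancel (π (Y p j)) (Y p j)]
      exact add_mem (hπF _ (Submodule.subset_span ⟨j, rfl⟩)).1 (Submodule.subset_span ⟨j, rfl⟩)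
    change Φ (π (Y p j)) = 0
    generalize π (Y p j) = v at hv ⊢
    induction hv using Submodule.span_induction with
    | mem a ha => obtain ⟨i, rfl⟩ := ha; exact hY i
    | zero => simp
    | add a b _ _ ha hb => rw [map_add, ha, hb, add_zero]
    | smul c a _ ha => rw [hsmul, ha, mul_zero]
  | succ N ih =>
    obtain ⟨q, hqres, hq⟩ := ih
    let B := MvPolynomial ι k ⧸ n ^ (N + 1 + 1)
    let mkB : MvPolynomial ι k →+* B := Ideal.Quotient.mk _
    let g : B →ₐ[k] MvPolynomial ι k ⧸ n ^ (N + 1) := Ideal.Quotient.factorₐ k (Ideal.pow_le_pow_right (Nat.le_succ (N + 1)))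
    have hg : Function.Surjective g :=
      Ideal.Quotient.factor_surjective (Ideal.pow_le_pow_right (Nat.le_succ (N + 1)))
    have hgmk : ∀ s, g (mkB s) = Ideal.Quotient.mk _ s := fun s => rfl
    have hker : ∀ b, g b = 0 → b ∈ (n ^ (N + 1)).map mkB := fun b hb => by
      obtain ⟨s, rfl⟩ := Ideal.Quotient.mk_surjective b
      rw [show g (Ideal.Quotient.mk _ s) = Ideal.Quotient.mk _ s from rfl, Ideal.Quotient.eq_zero_iff_mem] at hb
      exact Ideal.mem_map_of_mem mkB hb
    have hzero : ∀ a b : B, a ∈ (n ^ (N + 1)).map mkB → b ∈ n.map mkB → a * b = 0 := fun a b ha hb => by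
      have h := Ideal.mul_mem_mul ha hb
      rw [← Ideal.map_mul, ← pow_succ, show (n ^ (N + 1 + 1)).map mkB = ⊥ from Ideal.map_quotient_self _] at h
      exact Ideal.mem_bot.1 h
    have hle : (n ^ (N + 1)).map mkB ≤ n.map mkB := Ideal.map_mono (Ideal.pow_le_self (Nat.succ_ne_zero N))
    have hnil : IsNilpotent (RingHom.ker g) := by
      refine ⟨2, le_bot_iff.1 ?_⟩
      refine (pow_two (RingHom.ker g)).trans_le (Ideal.mul_le.2 fun a ha b hb => Ideal.mem_bot.2 ?_)
      exact hzero a b (hker a (RingHom.mem_ker.1 ha)) (hle (hker b (RingHom.mem_ker.1 hb)))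
    let qt : C →ₐ[k] B := Algebra.FormallySmooth.liftOfSurjective q g hg hnil
    have hqt : ∀ c, g (qt c) = q c := Algebra.FormallySmooth.liftOfSurjective_apply q g hg hnil
    have hres : ∀ c, qt c - algebraMap k B (x c) ∈ n.map mkB := by
      intro c
      obtain ⟨s, hs, hsc⟩ := (Ideal.mem_map_iff_of_surjective (Ideal.Quotient.mk (n ^ (N + 1)))
        Ideal.Quotient.mk_surjective).1 (hqres c)
      rw [show qt c - algebraMap k B (x c) = (qt c - algebraMap k B (x c) - mkB s) + mkB s by ring]
      refine add_mem (hle (hker _ ?_)) (Ideal.mem_map_of_mem _ hs)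
      rw [map_sub, map_sub, hqt, AlgHom.commutes, hgmk, hsc, sub_self]
    let Φ := MvPolynomial.eval₂Hom qt.toRingHom (fun i => mkB (X i))
    have hΦg : ∀ f, g (Φ f) = MvPolynomial.eval₂Hom q.toRingHom (fun i => Ideal.Quotient.mk _ (X i)) f := by
      intro f
      refine RingHom.congr_fun (MvPolynomial.ringHom_ext (f := g.toRingHom.comp Φ)
        (g := MvPolynomial.eval₂Hom q.toRingHom (fun i => Ideal.Quotient.mk _ (X i))) (fun c => ?_) fun i => ?_) f
      · simp [Φ, hqt]
      · simp [Φ, hgmk]
    let e : ι → B := fun i => Φ (π (Y p i))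
    have he : ∀ i, e i ∈ (n ^ (N + 1)).map mkB := fun i => hker _ (by rw [hΦg]; exact hq i)
    let Ψ := MvPolynomial.eval₂Hom qt.toRingHom (fun i => qt (p i) + e i)
    have hΨY : ∀ i, Ψ (Y p i) = e i := fun i => by simp [Ψ, Y]
    have hΨC : ∀ c, Ψ (MvPolynomial.C c) = qt c := fun c => by simp [Ψ]
    have hΦC : ∀ c, Φ (MvPolynomial.C c) = qt c := fun c => by simp [Φ]
    have hΨF : ∀ v ∈ F p, Ψ v = Φ (π v) := by
      intro v hv
      induction hv using Submodule.span_induction with
      | mem a ha => obtain ⟨i, rfl⟩ := ha; exact hΨY i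
      | zero => simp
      | add a b _ _ ha hb => simp only [map_add, ha, hb]
      | smul c a _ ha => rw [hsmul, hΨC, ha, map_smul, hsmul, hΦC]
    have hΨΔ : ∀ f ∈ Δ p, Ψ f ∈ (n ^ (N + 1)).map mkB := by
      intro f hf
      induction hf using Submodule.span_induction with
      | mem a ha => obtain ⟨i, rfl⟩ := ha; rw [hΨY]; exact he i
      | zero => simp
      | add a b _ _ ha hb => rw [map_add]; exact add_mem ha hb
      | smul c a _ ha => rw [smul_eq_mul, map_mul]; exact Ideal.mul_mem_left _ _ ha
    obtain ⟨q', hq'⟩ := exists_desc p hp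
      (MvPolynomial.aeval (R := k) fun i => qt (p i) + e i) fun G hG => by
      have h1 : Ψ (toT G) = MvPolynomial.aeval (R := k) (fun i => qt (p i) + e i) G := by
        refine RingHom.congr_fun (MvPolynomial.ringHom_ext (f := Ψ.comp toT.toRingHom)
          (g := (MvPolynomial.aeval (R := k) fun i => qt (p i) + e i).toRingHom) (fun c => ?_) fun i => ?_) G
        · simp [Ψ, toT, IsScalarTower.algebraMap_apply k C (MvPolynomial ι C)]
        · simp [Ψ, toT_X]
      rw [← h1]
      refine map_relation_eq_zero p Ψ (fun f hf => ?_) (fun v hv => ?_) hG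
      · induction hf using Submodule.mul_induction_on' with
        | mem_mul_mem a ha b hb => rw [map_mul]; exact hzero _ _ (hΨΔ a ha) (hle (hΨΔ b hb))
        | add a _ b _ ha hb => rw [map_add, ha, hb, add_zero]
      · rw [hΨF v hv.1, hπK v hv, map_zero]
    have hq'p : ∀ i, q' (p i) = qt (p i) + e i := fun i => by
      have := hq' (X i)
      rwa [MvPolynomial.aeval_X, MvPolynomial.aeval_X] at this
    have hdiff : ∀ c, q' c - qt c ∈ (n ^ (N + 1)).map mkB := by
      intro c
      obtain ⟨G, rfl⟩ := hp c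
      induction G using MvPolynomial.induction_on with
      | C a => simp
      | add G H hG hH => simp only [map_add, add_sub_add_comm]; exact add_mem hG hH
      | mul_X G i hG =>
        simp only [map_mul, MvPolynomial.aeval_X, hq'p]
        rw [show q' (MvPolynomial.aeval p G) * (qt (p i) + e i) - qt (MvPolynomial.aeval p G) * qt (p i) =
          (q' (MvPolynomial.aeval p G) - qt (MvPolynomial.aeval p G)) * qt (p i) +
            q' (MvPolynomial.aeval p G) * e i by ring]
        exact add_mem (Ideal.mul_mem_right _ _ hG) (Ideal.mul_mem_left _ _ (he i))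
    have hres' : ∀ c, q' c - algebraMap k B (x c) ∈ n.map mkB := fun c => by
      rw [show q' c - algebraMap k B (x c) = (q' c - qt c) + (qt c - algebraMap k B (x c)) by ring]
      exact add_mem (hle (hdiff c)) (hres c)
    refine ⟨q', hres', fun j => ?_⟩
    let Φ' := MvPolynomial.eval₂Hom q'.toRingHom (fun i => mkB (X i))
    have hΦ'C : ∀ c, Φ' (MvPolynomial.C c) = q' c := fun c => by simp [Φ']
    have hnv : ∀ v ∈ F p, Φ' v ∈ n.map mkB := by
      intro v hv
      induction hv using Submodule.span_induction with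
      | mem a ha =>
        obtain ⟨i, rfl⟩ := ha
        have : Φ' (Y p i) = mkB (X i - MvPolynomial.C (x (p i))) - (q' (p i) - algebraMap k B (x (p i))) := by
          simp [Φ', Y, mkB]
          rw [show algebraMap k B (x (p i)) = Ideal.Quotient.mk _ (MvPolynomial.C (x (p i))) from rfl]
          ring
        rw [this]
        exact sub_mem (Ideal.mem_map_of_mem _ (hXn i)) (hres' _)
      | zero => simp
      | add a b _ _ ha hb => rw [map_add]; exact add_mem ha hb
      | smul c a _ ha => rw [hsmul]; exact Ideal.mul_mem_left _ _ ha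
    have hcorr : ∀ v ∈ F p, Φ' v = Φ v - Φ (π v) := by
      intro v hv
      induction hv using Submodule.span_induction with
      | mem a ha =>
        obtain ⟨i, rfl⟩ := ha
        change Φ' (Y p i) = Φ (Y p i) - e i
        simp [Φ', Φ, Y, hq'p]
        ring
      | zero => simp
      | add a b _ _ ha hb => simp only [map_add, ha, hb]; ring
      | smul c a ha' ha =>
        have h0 := hzero _ _ (hdiff c) (hnv a ha')
        rw [hsmul, hΦ'C, hsmul, hΦC, map_smul, hsmul, hΦC, ← mul_sub, ← ha]
        rw [← sub_eq_zero, ← sub_mul, h0]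
    have hYF : Y p j ∈ F p := Submodule.subset_span ⟨j, rfl⟩
    have hw : π (Y p j) ∈ F p := by
      rw [← sub_add_cancel (π (Y p j)) (Y p j)]
      exact add_mem (hπF _ hYF).1 hYF
    have hidem : π (π (Y p j)) = π (Y p j) := by
      have := hπK _ (hπF _ hYF)
      rwa [map_sub, sub_eq_zero] at this
    change Φ' (π (Y p j)) = 0
    rw [hcorr _ hw, hidem, sub_self]

variable {R : Type u} [CommRing R] [Algebra k R] [Algebra (MvPolynomial ι k) R]
  [IsScalarTower k (MvPolynomial ι k) R]

include hp hπK hπF in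
set_option maxHeartbeats 1600000 in
/-- the tubular neighbourhood is étale over affine space at the point -/
theorem isEtaleAt_point [Algebra.FiniteType k R] (mk : MvPolynomial ι C →ₐ[k] R) (hmk : Function.Surjective mk)
    (hker : RingHom.ker mk = Ideal.span (Set.range fun j => π (Y p j)))
    (hcompat : ∀ j, algebraMap (MvPolynomial ι k) R (X j) = mk (X j))
    (z : R →ₐ[k] k) (hz : ∀ c, z (mk (MvPolynomial.C c)) = x c) (hzX : ∀ j, z (mk (X j)) = x (p j))
    (m : Ideal R) [m.IsMaximal] (hm : m = RingHom.ker z.toRingHom) :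
    Algebra.IsEtaleAt (MvPolynomial ι k) m := by
  classical
  let S := MvPolynomial ι k
  let n := m.comap (algebraMap S R)
  haveI : IsNoetherianRing R := Algebra.FiniteType.isNoetherianRing k R
  haveI : Algebra.FiniteType S R := Algebra.FiniteType.of_restrictScalars_finiteType k S R
  have hm' : ∀ r, r ∈ m ↔ z r = 0 := fun r => by subst hm; exact RingHom.mem_ker
  let y : S →ₐ[k] k := MvPolynomial.aeval fun j => x (p j)
  have hy : ∀ s, z (algebraMap S R s) = y s := fun s =>
    AlgHom.congr_fun (MvPolynomial.algHom_ext (f := z.comp (IsScalarTower.toAlgHom k S R)) (g := y) fun j => by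
      change z (algebraMap S R (X j)) = _
      rw [hcompat, hzX]
      exact (MvPolynomial.aeval_X (fun j => x (p j)) j).symm) s
  have hn : n = RingHom.ker y := Ideal.ext fun s => by rw [Ideal.mem_comap, hm', hy]; rfl
  haveI : n.IsMaximal := by
    rw [hn]
    exact RingHom.ker_isMaximal_of_surjective y.toRingHom fun c => ⟨algebraMap k S c, by simp⟩
  -- unramified
  let Q : Ideal R := n.map (algebraMap S R) ⊔ m ^ 2
  let ι₀ : C →ₐ[k] R := mk.comp (IsScalarTower.toAlgHom k C (MvPolynomial ι C))
  have hι₀ : ∀ c, ι₀ c = mk (MvPolynomial.C c) := fun c => rfl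
  have hX : ∀ j, mk (X j) - algebraMap k R (x (p j)) ∈ Q := fun j => by
    refine Submodule.mem_sup_left ?_
    rw [← hcompat, IsScalarTower.algebraMap_apply k S R, ← map_sub]
    refine Ideal.mem_map_of_mem _ ?_
    rw [hn, RingHom.mem_ker, map_sub, AlgHom.commutes]
    exact sub_eq_zero.2 (MvPolynomial.aeval_X (fun j => x (p j)) j)
  let χ : MvPolynomial ι C →+* C :=
    MvPolynomial.eval₂Hom ((algebraMap k C).comp x.toRingHom) p
  let m₁ : Ideal C := RingHom.ker x.toRingHom
  have hχJ : ∀ f ∈ J (k := k) p, χ f ∈ m₁ * m₁ := by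
    intro f hf
    have hle : J (k := k) p ≤ (m₁ * m₁).comap χ := by
      refine sup_le (Ideal.map_le_iff_le_comap.2 fun G hG => ?_) (Ideal.mul_le.2 fun a ha b hb => ?_)
      · change χ (toT G) ∈ m₁ * m₁
        have e : χ.comp toT.toRingHom = (MvPolynomial.aeval (R := k) p).toRingHom :=
          MvPolynomial.ringHom_ext (fun c => by simp [χ, toT, IsScalarTower.algebraMap_apply k C (MvPolynomial ι C)])
            fun i => by simp [χ, toT_X]
        have := RingHom.congr_fun e G
        simp only [RingHom.comp_apply, AlgHom.toRingHom_eq_coe, RingHom.coe_coe] at this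
        rw [this, RingHom.mem_ker.1 hG]
        exact zero_mem _
      · rw [Ideal.mem_comap, map_mul]
        have hΔ : ∀ a ∈ Δ p, χ a ∈ m₁ := by
          intro a ha
          induction ha using Submodule.span_induction with
          | mem w hw =>
            obtain ⟨i, rfl⟩ := hw
            rw [RingHom.mem_ker]
            simp [χ, Y]
          | zero => simp
          | add u v _ _ hu hv => rw [map_add]; exact add_mem hu hv
          | smul c u _ hu => rw [smul_eq_mul, map_mul]; exact Ideal.mul_mem_left _ _ hu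
        exact Ideal.mul_mem_mul (hΔ a ha) (hΔ b hb)
    exact hle hf
  have hι₀m : m₁.map ι₀.toRingHom ≤ m := Ideal.map_le_iff_le_comap.2 fun c hc => by
    rw [Ideal.mem_comap, hm']
    exact (hz c).trans (RingHom.mem_ker.1 hc)
  have hmY : ∀ i, mk (Y p i) ∈ m := fun i => by
    rw [hm', Y, map_sub, map_sub, hzX, hz, sub_self]
  have hlin : ∀ v ∈ F p, mk v + ι₀ (χ v) ∈ Q := by
    intro v hv
    induction hv using Submodule.span_induction with
    | mem a ha =>
      obtain ⟨i, rfl⟩ := ha
      rw [show mk (Y p i) + ι₀ (χ (Y p i)) = mk (X i) - algebraMap k R (x (p i)) by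
        rw [Y, map_sub, map_sub, show χ (X i) = p i by simp [χ],
          show χ (MvPolynomial.C (p i)) = algebraMap k C (x (p i)) by simp [χ], map_sub, AlgHom.commutes, hι₀]
        ring]
      exact hX i
    | zero => simp
    | add a b _ _ ha hb =>
      rw [map_add, map_add, map_add, add_add_add_comm]
      exact add_mem ha hb
    | smul c a ha' ha =>
      have hmv : mk a ∈ m :=
        (Ideal.span_le (I := m.comap mk.toRingHom)).2 (by rintro _ ⟨i, rfl⟩; exact hmY i) (F_le p a ha')
      rw [MvPolynomial.smul_eq_C_mul, map_mul, map_mul, map_mul,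
        show χ (MvPolynomial.C c) = algebraMap k C (x c) by simp [χ], AlgHom.commutes, ← hι₀,
        show ι₀ c * mk a + algebraMap k R (x c) * ι₀ (χ a) =
          (ι₀ c - algebraMap k R (x c)) * mk a + algebraMap k R (x c) * (mk a + ι₀ (χ a)) by ring]
      refine add_mem (Submodule.mem_sup_right ?_) (Ideal.mul_mem_left _ _ ha)
      rw [pow_two]
      exact Ideal.mul_mem_mul ((hm' _).2 (by rw [map_sub, AlgHom.commutes, hι₀, hz]; simp)) hmv
  have hp' : ∀ i, ι₀ (p i) - algebraMap k R (x (p i)) ∈ Q := by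
    intro i
    have hYF : Y p i ∈ F p := Submodule.subset_span ⟨i, rfl⟩
    have hK := hπF _ hYF
    have h1 := hlin _ hK.1
    have h2 : ι₀ (χ (π (Y p i) - Y p i)) ∈ Q := Submodule.mem_sup_right (by
      have h3 := Ideal.mem_map_of_mem ι₀.toRingHom (hχJ _ hK.2)
      rw [Ideal.map_mul] at h3
      rw [pow_two]
      exact Ideal.mul_mono hι₀m hι₀m h3)
    have h4 : mk (π (Y p i)) = 0 := RingHom.mem_ker.1 (by rw [hker]; exact Ideal.subset_span ⟨i, rfl⟩)
    have h5 : mk (Y p i) ∈ Q := by
      have := sub_mem h1 h2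
      rwa [add_sub_cancel_right, map_sub, h4, zero_sub, neg_mem_iff] at this
    rw [show ι₀ (p i) - algebraMap k R (x (p i)) = (mk (X i) - algebraMap k R (x (p i))) - mk (Y p i) by
      rw [Y, map_sub, hι₀]; ring]
    exact sub_mem (hX i) h5
  let W : Subalgebra k R :=
    { carrier := {r | r - algebraMap k R (z r) ∈ Q}
      mul_mem' := fun {a b} ha hb => by
        rw [Set.mem_ofPred_eq, map_mul, map_mul, show a * b - algebraMap k R (z a) * algebraMap k R (z b) =
          a * (b - algebraMap k R (z b)) + algebraMap k R (z b) * (a - algebraMap k R (z a)) by ring]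
        exact add_mem (Ideal.mul_mem_left _ _ hb) (Ideal.mul_mem_left _ _ ha)
      add_mem' := fun {a b} ha hb => by
        rw [Set.mem_ofPred_eq, map_add, map_add, add_sub_add_comm]
        exact add_mem ha hb
      algebraMap_mem' := fun c => by simp }
  have hW : ∀ r, r ∈ W := by
    intro r
    obtain ⟨f, rfl⟩ := hmk r
    induction f using MvPolynomial.induction_on with
    | C c =>
      obtain ⟨G, rfl⟩ := hp c
      rw [← hι₀]
      induction G using MvPolynomial.induction_on with
      | C a => simp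
      | add G H hG hH => simp only [map_add]; exact add_mem hG hH
      | mul_X G i hG =>
        simp only [map_mul, MvPolynomial.aeval_X]
        refine mul_mem hG ?_
        change ι₀ (p i) - algebraMap k R (z (ι₀ (p i))) ∈ Q
        rw [show z (ι₀ (p i)) = x (p i) from hz _]
        exact hp' i
    | add f g hf hg => rw [map_add]; exact add_mem hf hg
    | mul_X f i hf =>
      rw [map_mul]
      refine mul_mem hf ?_
      change mk (X i) - algebraMap k R (z (mk (X i))) ∈ Q
      rw [hzX]
      exact hX i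
  have hkey : m ≤ n.map (algebraMap S R) ⊔ m ^ 2 := fun r hr => by
    have h : r - algebraMap k R (z r) ∈ Q := hW r
    rwa [(hm' r).1 hr, map_zero, sub_zero] at h
  haveI : m.LiesOver n := ⟨rfl⟩
  letI := Localization.AtPrime.algebraOfLiesOver n m
  haveI : Algebra.EssFiniteType S R := inferInstance
  have hres : ∀ r : R, ∃ s : S, r - algebraMap S R s ∈ m := fun r =>
    ⟨algebraMap k S (z r), by rw [hm', map_sub, ← IsScalarTower.algebraMap_apply k S R]; simp⟩
  haveI : Algebra.IsUnramifiedAt S m := by
    refine (Algebra.isUnramifiedAt_iff_map_eq S n m).2 ⟨?_, ?_⟩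
    · have hs : Function.Surjective (algebraMap n.ResidueField m.ResidueField) := by
        intro w
        obtain ⟨r, rfl⟩ := m.algebraMap_residueField_surjective w
        obtain ⟨s, hs⟩ := hres r
        refine ⟨algebraMap S n.ResidueField s, ?_⟩
        rw [← IsScalarTower.algebraMap_apply S n.ResidueField m.ResidueField,
          IsScalarTower.algebraMap_apply S R m.ResidueField]
        have := Ideal.algebraMap_residueField_eq_zero.2 hs
        rw [map_sub, sub_eq_zero] at this
        exact this.symm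
      exact AlgEquiv.Algebra.isSeparable (AlgEquiv.ofBijective (Algebra.ofId n.ResidueField m.ResidueField)
        ⟨(algebraMap n.ResidueField m.ResidueField).injective, hs⟩)
    · refine RegLoc.eq_maximalIdeal_of_le_sup_sq ?_ ?_
      · rw [← Localization.AtPrime.map_eq_maximalIdeal, IsScalarTower.algebraMap_eq S R, ← Ideal.map_map]
        exact Ideal.map_mono Ideal.map_comap_le
      · have h := Ideal.map_mono (f := algebraMap R (Localization.AtPrime m)) hkey
        rwa [Ideal.map_sup, Ideal.map_pow, Localization.AtPrime.map_eq_maximalIdeal, Ideal.map_map,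
          ← IsScalarTower.algebraMap_eq] at h
  refine LunaAlg.isEtaleAt_of_pow_comap m hres fun N s hs => ⟨1, ?_, ?_⟩
  · exact fun h => ‹n.IsMaximal›.ne_top ((Ideal.eq_top_iff_one _).2 h)
  rw [one_mul]
  cases N with
  | zero => simp
  | succ N =>
    obtain ⟨q, hq, hqπ⟩ := exists_section p hp π hπK hπF x n hn N
    let B := S ⧸ n ^ (N + 1)
    let Φ : MvPolynomial ι C →+* B :=
      MvPolynomial.eval₂Hom q.toRingHom (fun i => Ideal.Quotient.mk (n ^ (N + 1)) (X i))
    have hΦk : RingHom.ker mk ≤ RingHom.ker Φ := by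
      rw [hker, Ideal.span_le]
      rintro _ ⟨j, rfl⟩
      exact hqπ j
    let σ : R →+* B := mk.toRingHom.liftOfSurjective hmk ⟨Φ, hΦk⟩
    have hσ : ∀ f, σ (mk f) = Φ f := fun f =>
      RingHom.liftOfRightInverse_comp_apply mk.toRingHom _ (Function.rightInverse_surjInv hmk) ⟨Φ, hΦk⟩ f
    have hσS : ∀ s, σ (algebraMap S R s) = Ideal.Quotient.mk _ s := fun s => by
      refine RingHom.congr_fun (MvPolynomial.ringHom_ext (f := σ.comp (algebraMap S R))
        (g := Ideal.Quotient.mk (n ^ (N + 1))) (fun c => ?_) fun j => ?_) s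
      · rw [RingHom.comp_apply, ← MvPolynomial.algebraMap_eq, ← IsScalarTower.algebraMap_apply,
          ← mk.commutes c, hσ, IsScalarTower.algebraMap_apply k C (MvPolynomial ι C), MvPolynomial.algebraMap_eq]
        simp only [Φ, MvPolynomial.eval₂Hom_C, AlgHom.toRingHom_eq_coe, RingHom.coe_coe, AlgHom.commutes]
        rfl
      · rw [RingHom.comp_apply, hcompat, hσ]
        simp [Φ]
    have hσm : m.map σ ≤ n.map (Ideal.Quotient.mk (n ^ (N + 1))) := by
      refine Ideal.map_le_iff_le_comap.2 fun r hr => ?_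
      obtain ⟨f, rfl⟩ := hmk r
      rw [Ideal.mem_comap, hσ]
      have key : ∀ f, Φ f - algebraMap k B (z (mk f)) ∈ n.map (Ideal.Quotient.mk (n ^ (N + 1))) := by
        intro f
        induction f using MvPolynomial.induction_on with
        | C c => rw [hz]; simpa [Φ] using hq c
        | add f g hf hg => simp only [map_add, add_sub_add_comm]; exact add_mem hf hg
        | mul_X f i hf =>
          simp only [map_mul, hzX]
          rw [show Φ f * Φ (X i) - algebraMap k B (z (mk f)) * algebraMap k B (x (p i)) =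
            Φ f * (Φ (X i) - algebraMap k B (x (p i))) + algebraMap k B (x (p i)) * (Φ f - algebraMap k B (z (mk f)))
              by ring]
          refine add_mem (Ideal.mul_mem_left _ _ ?_) (Ideal.mul_mem_left _ _ hf)
          rw [show Φ (X i) - algebraMap k B (x (p i)) =
            Ideal.Quotient.mk (n ^ (N + 1)) (X i - algebraMap k S (x (p i))) by simp [Φ]; rfl]
          refine Ideal.mem_map_of_mem _ ?_
          rw [hn, RingHom.mem_ker, map_sub, AlgHom.commutes]
          exact sub_eq_zero.2 (MvPolynomial.aeval_X (fun j => x (p j)) i)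
      have h := key f
      rwa [(hm' _).1 hr, map_zero, sub_zero] at h
    have h1 : Ideal.Quotient.mk (n ^ (N + 1)) s ∈ (n.map (Ideal.Quotient.mk (n ^ (N + 1)))) ^ (N + 1) := by
      rw [← hσS]
      have h := Ideal.mem_map_of_mem σ hs
      rw [Ideal.map_pow] at h
      exact Ideal.pow_right_mono hσm (N + 1) h
    rwa [← Ideal.map_pow, Ideal.map_quotient_self, Ideal.mem_bot, Ideal.Quotient.eq_zero_iff_mem] at h1

end Etale

end Groth.Agent.Comod.SliceEtale
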