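import Groth.Agent.Comod.SliceBase
import Groth.Agent.Comod.SliceEtale
import Groth.Agent.Comod.LunaReduce
import Groth.Agent.Comod.LunaSpread

/-!
# Luna's slice for a closed orbit in a representation
-/

set_option autoImplicit false
set_option linter.style.haveILetI false
set_option linter.unusedSectionVars false

universe u

noncomputable section

open TensorProduct MvPolynomial

namespace Groth.Agent.Comod.SliceMain

variable {k : Type u} [Field k] {A : Type u} [CommRing A] [HopfAlgebra k A]

/-- products preserve stable submodules over an algebra -/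
theorem mul_mem_range_module {C R : Type u} [CommRing C] [Algebra k C] [CommRing R] [Algebra k R] [Algebra C R]
    [IsScalarTower k C R] (F : Submodule C R) (w : C ⊗[k] A) {q : R ⊗[k] A}
    (hq : q ∈ LinearMap.range ((F.restrictScalars k).subtype.rTensor A)) :
    (IsScalarTower.toAlgHom k C R).toLinearMap.rTensor A w * q ∈
      LinearMap.range ((F.restrictScalars k).subtype.rTensor A) := by
  obtain ⟨t, rfl⟩ := hq
  induction t using TensorProduct.induction_on with
  | zero => simp
  | add y z hy hz => rw [map_add, mul_add]; exact add_mem hy hz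
  | tmul y b =>
    induction w using TensorProduct.induction_on with
    | zero => simp
    | add p q hp hq => rw [map_add, add_mul]; exact add_mem hp hq
    | tmul c a =>
      exact ⟨(⟨c • (y : R), F.smul_mem c y.2⟩ : F.restrictScalars k) ⊗ₜ[k] (a * b), by simp [Algebra.smul_def]⟩

variable [IsAlgClosed k] [CharZero k] [IsDomain A] [Algebra.FiniteType k A] {ι : Type u} [Fintype ι] [DecidableEq ι]
  [HopfRep.Comod k A (MvPolynomial ι k)] [GLin.IsCoactAlg k A (MvPolynomial ι k)]

/-- in an étale chart, values on the orbit come from below -/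
theorem exists_orbit_eq {S R : Type u} [CommRing S] [Algebra k S] [HopfRep.Comod k A S] [GLin.IsCoactAlg k A S]
    [CommRing R] [Algebra k R] [HopfRep.Comod k A R] [GLin.IsCoactAlg k A R] [Algebra S R] [IsScalarTower k S R]
    {S₀ R₀ : Type u} [CommRing S₀] [Algebra S₀ S] [CommRing R₀] [Algebra R₀ R]
    [Algebra S₀ R₀] [Algebra S₀ R] [IsScalarTower S₀ S R] [IsScalarTower S₀ R₀ R] (c : R₀)
    (hfix : ∀ e : R₀, algebraMap R₀ R e ∈ HopfRep.fixedPts k A R)
    (hsur : ∀ r : R, ∃ (n : ℕ) (z : S ⊗[S₀] R₀),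
      Algebra.TensorProduct.productMap (IsScalarTower.toAlgHom S₀ S R) (IsScalarTower.toAlgHom S₀ R₀ R) z =
        algebraMap R₀ R c ^ n * r)
    (x : R →ₐ[k] k) (hxc : x (algebraMap R₀ R c) ≠ 0) (r : R) :
    ∃ s : S, GLin.orbitHom k A x (algebraMap S R s) = GLin.orbitHom k A x r := by
  set θ := IsScalarTower.toAlgHom k S R
  set o := GLin.orbitHom k A x with ho
  obtain ⟨n, z, hz⟩ := hsur r
  have h1 : ∃ s : S, o (θ s) = o (Algebra.TensorProduct.productMap (IsScalarTower.toAlgHom S₀ S R)
      (IsScalarTower.toAlgHom S₀ R₀ R) z) := by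
    clear hz
    induction z using TensorProduct.induction_on with
    | zero => exact ⟨0, by simp⟩
    | add p q hp hq =>
      obtain ⟨s, hs⟩ := hp
      obtain ⟨t, ht⟩ := hq
      exact ⟨s + t, by rw [map_add, map_add, map_add, map_add, hs, ht]⟩
    | tmul s e =>
      refine ⟨x (algebraMap R₀ R e) • s, ?_⟩
      simp only [Algebra.TensorProduct.productMap_apply_tmul, θ, IsScalarTower.coe_toAlgHom', map_mul]
      rw [ho, orbit_of_fixed x (hfix e), mul_smul_comm, mul_one, ← map_smul]
      refine congrArg _ ?_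
      exact (IsScalarTower.toAlgHom k S R).toLinearMap.map_smul _ _
  obtain ⟨s, hs⟩ := h1
  rw [hz, map_mul, map_pow, ho, orbit_of_fixed x (hfix c), ← ho, smul_pow, one_pow, smul_mul_assoc,
    one_mul] at hs
  refine ⟨(x (algebraMap R₀ R c) ^ n)⁻¹ • s, ?_⟩
  change o (θ _) = o r
  rw [map_smul, map_smul, hs, inv_smul_smul₀ (pow_ne_zero n hxc)]

set_option maxHeartbeats 1600000 in
set_option synthInstance.maxHeartbeats 200000 in
theorem exists_nhd_aux {α : A →ₗ[k] k} (hα : IsIntegral k α) {a : ι → ι → A} (ha : IsMat k a)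
    (hX : ∀ j, HopfRep.Comod.coact (k := k) (A := A) (X j : MvPolynomial ι k) =
      ∑ i, (X i : MvPolynomial ι k) ⊗ₜ[k] a i j)
    (x : MvPolynomial ι k →ₐ[k] k) (hx : GLin.IsClosedOrbit k A x)
    (C : Type u) [CommRing C] [Algebra k C] [HopfRep.Comod k A C] [GLin.IsCoactAlg k A C] [Algebra.FiniteType k C]
    [Algebra.FormallySmooth k C] (mkI : MvPolynomial ι k →ₐ[k] C) (hsurj : Function.Surjective mkI)
    (hπC : Hoch.IsComodHom A mkI.toLinearMap) (hkerI : ∀ G, mkI G = 0 ↔ G ∈ RingHom.ker (GLin.orbitHom k A x)) :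
    ∃ g ∈ GLin.invariants k A (MvPolynomial ι k), x g ≠ 0 ∧
      ∀ v : MvPolynomial ι k →ₐ[k] k, v g ≠ 0 →
        ∃ b : A →ₐ[k] k, GLin.stabIdeal k A x ≤ GLin.stabIdeal k A (GLin.actPt k b v) := by
  classical
  let S := MvPolynomial ι k
  let I : Ideal S := RingHom.ker (GLin.orbitHom k A x)
  let p : ι → C := fun j => mkI (X j)
  have haev : MvPolynomial.aeval p = mkI := MvPolynomial.algHom_ext fun j => MvPolynomial.aeval_X p j
  have hp : Function.Surjective (MvPolynomial.aeval (R := k) p) := by
    rw [haev]; exact hsurj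
  have hxker : RingHom.ker mkI ≤ RingHom.ker x := fun G hG => by
    rw [RingHom.mem_ker, ← counit_orbitHom (A := A) x,
      RingHom.mem_ker.1 ((hkerI G).1 (RingHom.mem_ker.1 hG)), map_zero]
  let xC : C →ₐ[k] k := (Ideal.Quotient.liftₐ (RingHom.ker mkI) x fun G hG => hxker hG).comp
    (Ideal.quotientKerAlgEquivOfSurjective hsurj).symm.toAlgHom
  have hxC : ∀ G, xC (mkI G) = x G := fun G => by
    change Ideal.Quotient.liftₐ (RingHom.ker mkI) x (fun G hG => hxker hG)
      ((Ideal.quotientKerAlgEquivOfSurjective hsurj).symm (mkI G)) = x G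
    rw [show mkI G = Ideal.quotientKerAlgEquivOfSurjective hsurj (Ideal.Quotient.mk _ G) from rfl,
      AlgEquiv.symm_apply_apply]
    rfl
  -- the coaction on the ambient bundle
  letI cT : HopfRep.Comod k A (MvPolynomial ι C) := polyComod C ha
  haveI : GLin.IsCoactAlg k A (MvPolynomial ι C) := ⟨map_one (polyCoact C a), map_mul (polyCoact C a)⟩
  let jC : C →ₐ[k] (MvPolynomial ι C) := IsScalarTower.toAlgHom k C (MvPolynomial ι C)
  have hcoactT : ∀ f : (MvPolynomial ι C), HopfRep.Comod.coact (k := k) (A := A) f = polyCoact C a f := fun f => rfl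
  have hmap : ∀ {P Q : Type u} [CommRing P] [CommRing Q] [Algebra k P] [Algebra k Q] (φ : P →ₐ[k] Q) (w : P ⊗[k] A),
      Algebra.TensorProduct.map φ (AlgHom.id k A) w = φ.toLinearMap.rTensor A w := by
    intro P Q _ _ _ _ φ w
    induction w using TensorProduct.induction_on with
    | zero => simp
    | add y z hy hz => simp only [map_add, hy, hz]
    | tmul y b => simp
  have hjC : Hoch.IsComodHom A jC.toLinearMap := LinearMap.ext fun c => by
    change polyCoact C a (MvPolynomial.C c) = jC.toLinearMap.rTensor A (HopfRep.Comod.coact (k := k) (A := A) c)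
    rw [polyCoact_C, hmap]
  have hp_coact : ∀ j, HopfRep.Comod.coact (k := k) (A := A) (p j) = ∑ i, p i ⊗ₜ[k] a i j := fun j => by
    have h := LinearMap.congr_fun hπC (X j)
    simp only [LinearMap.comp_apply, AlgHom.toLinearMap_apply, hX, map_sum, LinearMap.rTensor_tmul] at h
    exact h
  have hY : ∀ j, HopfRep.Comod.coact (k := k) (A := A) (SliceEtale.Y p j) = ∑ i, SliceEtale.Y p i ⊗ₜ[k] a i j := by
    intro j
    have h := LinearMap.congr_fun hjC (p j)
    simp only [LinearMap.comp_apply, AlgHom.toLinearMap_apply, hp_coact, map_sum, LinearMap.rTensor_tmul] at h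
    simp only [SliceEtale.Y, map_sub, TensorProduct.sub_tmul, Finset.sum_sub_distrib]
    refine congrArg₂ (· - ·) ?_ h
    rw [hcoactT, polyCoact_X]
  have hev : Hoch.IsComodHom A ((SliceEtale.ev p).restrictScalars k).toLinearMap := by
    have key : ((GLin.coactAlgHom k A C).comp ((SliceEtale.ev p).restrictScalars k)).toRingHom =
        ((Algebra.TensorProduct.map ((SliceEtale.ev p).restrictScalars k) (AlgHom.id k A)).comp
          (polyCoact C a)).toRingHom := by
      refine MvPolynomial.ringHom_ext (fun c => ?_) fun j => ?_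
      · simp only [AlgHom.toRingHom_eq_coe, RingHom.coe_coe, AlgHom.comp_apply, GLin.coactAlgHom_apply,
          AlgHom.restrictScalars_apply, SliceEtale.ev, MvPolynomial.aeval_C, polyCoact_C, Algebra.algebraMap_self,
          RingHom.id_apply]
        induction HopfRep.Comod.coact (k := k) (A := A) c using TensorProduct.induction_on with
        | zero => simp
        | add y z hy hz => simp only [map_add, ← hy, ← hz]
        | tmul y b => simp
      · simp [SliceEtale.ev, hp_coact]
    exact LinearMap.ext fun f => (RingHom.congr_fun key f).trans (hmap _ _)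
  have htoT : Hoch.IsComodHom A (SliceEtale.toT (k := k) (C := C) (ι := ι)).toLinearMap := by
    have key : (GLin.coactAlgHom k A (MvPolynomial ι C)).comp SliceEtale.toT =
        (Algebra.TensorProduct.map (SliceEtale.toT (k := k) (C := C) (ι := ι)) (AlgHom.id k A)).comp
          (GLin.coactAlgHom k A S) := by
      refine MvPolynomial.algHom_ext fun j => ?_
      rw [AlgHom.comp_apply, AlgHom.comp_apply, GLin.coactAlgHom_apply, GLin.coactAlgHom_apply,
        SliceEtale.toT_X, hcoactT, polyCoact_X,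
        show HopfRep.Comod.coact (k := k) (A := A) (X j : S) = _ from hX j, map_sum]
      refine Finset.sum_congr rfl fun i _ => ?_
      rw [Algebra.TensorProduct.map_tmul, SliceEtale.toT_X]
      rfl
    exact LinearMap.ext fun G => (AlgHom.congr_fun key G).trans (hmap _ _)
  have hF : HopfRep.IsSubcomod (k := k) (A := A) ((SliceEtale.F p).restrictScalars k) := by
    intro v hv
    induction hv using Submodule.span_induction with
    | mem w hw =>
      obtain ⟨j, rfl⟩ := hw
      rw [hY]
      refine Submodule.sum_mem _ fun i _ => ?_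
      exact ⟨(⟨SliceEtale.Y p i, Submodule.subset_span ⟨i, rfl⟩⟩ :
        (SliceEtale.F p).restrictScalars k) ⊗ₜ[k] a i j, rfl⟩
    | zero => simp
    | add u w _ _ hu hw => rw [map_add]; exact add_mem hu hw
    | smul c u _ hu =>
      rw [MvPolynomial.smul_eq_C_mul, GLin.IsCoactAlg.coact_mul, show HopfRep.Comod.coact (k := k) (A := A) (MvPolynomial.C c : MvPolynomial ι C) =
        jC.toLinearMap.rTensor A (HopfRep.Comod.coact (k := k) (A := A) c) from LinearMap.congr_fun hjC c]
      exact mul_mem_range_module _ _ hu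
  have hΔ : HopfRep.IsSubcomod (k := k) (A := A) ((SliceEtale.Δ p).restrictScalars k) := by
    have h := isSubcomod_ker hev
    have e : LinearMap.ker ((SliceEtale.ev p).restrictScalars k).toLinearMap = (SliceEtale.Δ p).restrictScalars k := by
      refine Submodule.ext fun f => ⟨fun hf => ?_, fun hf => SliceEtale.ev_eq_zero p hf⟩
      have h0 : SliceEtale.ev p f = 0 := hf
      have := SliceEtale.sub_ev_mem p f
      rwa [h0, map_zero, sub_zero] at this
    rwa [e] at h
  have hJ : HopfRep.IsSubcomod (k := k) (A := A) ((SliceEtale.J (k := k) p).restrictScalars k) := by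
    have h1 : HopfRep.IsSubcomod (k := k) (A := A)
        (((RingHom.ker (MvPolynomial.aeval (R := k) p)).map (SliceEtale.toT (k := k) (ι := ι) (C := C))).restrictScalars k) := by
      intro w hw
      induction hw using Submodule.span_induction with
      | mem b hb =>
        obtain ⟨G, hG, rfl⟩ := hb
        have hGI : G ∈ I := by
          rw [SetLike.mem_coe, RingHom.mem_ker, haev] at hG
          exact (hkerI G).1 hG
        rw [show HopfRep.Comod.coact (k := k) (A := A) (SliceEtale.toT G) =
          SliceEtale.toT.toLinearMap.rTensor A (HopfRep.Comod.coact (k := k) (A := A) G) from LinearMap.congr_fun htoT G]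
        obtain ⟨t, ht⟩ := isSubcomod_ker_orbit (A := A) x G hGI
        rw [← ht]
        clear ht
        induction t using TensorProduct.induction_on with
        | zero => simp
        | add y z hy hz => simp only [map_add]; exact add_mem hy hz
        | tmul y b =>
          refine ⟨(⟨SliceEtale.toT (y : S), Ideal.mem_map_of_mem _ (RingHom.mem_ker.2 ?_)⟩ :
            ((RingHom.ker (MvPolynomial.aeval (R := k) p)).map (SliceEtale.toT (k := k) (ι := ι) (C := C))).restrictScalars k)
              ⊗ₜ[k] b, rfl⟩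
          rw [haev]
          exact (hkerI _).2 y.2
      | zero => simp
      | add u v _ _ hu hv => rw [map_add]; exact add_mem hu hv
      | smul c u _ hu => rw [smul_eq_mul, GLin.IsCoactAlg.coact_mul]; exact mul_mem_range _ _ hu
    have h := isSubcomod_sup h1 (isSubcomod_mul hΔ hΔ)
    rwa [← Submodule.restrictScalars_sup] at h
  have hK : HopfRep.IsSubcomod (k := k) (A := A) ((SliceEtale.K (k := k) p).restrictScalars k) :=
    isSubcomod_inf hF hJ
  obtain ⟨π₀, hπ₀K, hπ₀F⟩ := SliceEtale.exists_projection p hp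
  obtain ⟨π, hπc, hπK, hπF⟩ := SliceBase.exists_retraction_linear hα hjC (SliceEtale.F p) (SliceEtale.K (k := k) p)
    hF hK π₀ hπ₀K hπ₀F
  have hπY : ∀ j, π (SliceEtale.Y p j) ∈ SliceEtale.F p := fun j => by
    rw [← sub_add_cancel (π (SliceEtale.Y p j)) (SliceEtale.Y p j)]
    exact add_mem (hπF _ (Submodule.subset_span ⟨j, rfl⟩)).1 (Submodule.subset_span ⟨j, rfl⟩)
  -- the bundle
  let E : Ideal (MvPolynomial ι C) := Ideal.span (Set.range fun j => π (SliceEtale.Y p j))
  have hE : HopfRep.IsSubcomod (k := k) (A := A) (E.restrictScalars k) := by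
    intro w hw
    induction hw using Submodule.span_induction with
    | mem b hb =>
      obtain ⟨j, rfl⟩ := hb
      have h := LinearMap.congr_fun hπc (SliceEtale.Y p j)
      simp only [LinearMap.comp_apply, LinearMap.coe_restrictScalars, hY, map_sum, LinearMap.rTensor_tmul] at h
      rw [h]
      exact Submodule.sum_mem _ fun i _ =>
        ⟨(⟨π (SliceEtale.Y p i), Ideal.subset_span ⟨i, rfl⟩⟩ : E.restrictScalars k) ⊗ₜ[k] a i j, rfl⟩
    | zero => simp
    | add u v _ _ hu hv => rw [map_add]; exact add_mem hu hv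
    | smul c u _ hu => rw [smul_eq_mul, GLin.IsCoactAlg.coact_mul]; exact mul_mem_range _ _ hu
  obtain ⟨cR, hcR, hmkc⟩ := SliceBase.exists_quot E hE
  let R := (MvPolynomial ι C) ⧸ E
  letI : HopfRep.Comod k A R := cR
  haveI : GLin.IsCoactAlg k A R := hcR
  let mk : (MvPolynomial ι C) →ₐ[k] R := Ideal.Quotient.mkₐ k E
  let θ : S →ₐ[k] R := mk.comp SliceEtale.toT
  letI : Algebra S R := θ.toRingHom.toAlgebra
  haveI : IsScalarTower k S R := IsScalarTower.of_algebraMap_eq fun c => (θ.commutes c).symm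
  haveI : Algebra.FiniteType k (MvPolynomial ι C) := Algebra.FiniteType.trans (S := C) inferInstance inferInstance
  haveI : Algebra.FiniteType k R := inferInstance
  let θ₂ : S →ₐ[k] R := mk.comp (jC.comp mkI)
  have hθ : Hoch.IsComodHom A θ.toLinearMap := isComodHom_comp hmkc htoT
  have hθ₂ : Hoch.IsComodHom A θ₂.toLinearMap := isComodHom_comp hmkc (isComodHom_comp hjC hπC)
  let z : R →ₐ[k] k := Ideal.Quotient.liftₐ E (xC.comp ((SliceEtale.ev p).restrictScalars k)) fun f hf => by
    have h : E ≤ RingHom.ker (xC.comp ((SliceEtale.ev p).restrictScalars k)).toRingHom := by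
      rw [Ideal.span_le]
      rintro _ ⟨j, rfl⟩
      rw [SetLike.mem_coe, RingHom.mem_ker]
      change xC (SliceEtale.ev p (π (SliceEtale.Y p j))) = 0
      rw [SliceEtale.ev_eq_zero p (SliceEtale.F_le p _ (hπY j)), map_zero]
    exact h hf
  have hz : ∀ f, z (mk f) = xC (SliceEtale.ev p f) := fun f => rfl
  have hzC : ∀ c, z (mk (MvPolynomial.C c)) = xC c := fun c => by
    rw [hz, SliceEtale.ev, MvPolynomial.aeval_C]; rfl
  have hzX : ∀ j, z (mk (X j)) = xC (p j) := fun j => by
    rw [hz, SliceEtale.ev, MvPolynomial.aeval_X]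
  have hzθ : z.comp θ = x := MvPolynomial.algHom_ext fun j => by
    change z (mk (SliceEtale.toT (X j))) = _
    rw [SliceEtale.toT_X, hzX]
    exact hxC _
  have hzθ₂ : z.comp θ₂ = x := AlgHom.ext fun G => (hzC (mkI G)).trans (hxC G)
  let m : Ideal R := RingHom.ker z.toRingHom
  haveI : m.IsMaximal := RingHom.ker_isMaximal_of_surjective z.toRingHom fun c => ⟨algebraMap k R c, by simp⟩
  have het : Algebra.IsEtaleAt S m :=
    SliceEtale.isEtaleAt_point p hp π hπK hπF xC mk Ideal.Quotient.mk_surjective Ideal.mk_ker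
      (fun j => by
        change mk (SliceEtale.toT (X j)) = _
        rw [SliceEtale.toT_X]) z hzC hzX m rfl
  have hθS : (IsScalarTower.toAlgHom k S R) = θ := AlgHom.ext fun s => rfl
  have hequiv : ∀ s : S, HopfRep.Comod.coact (k := k) (A := A) (algebraMap S R s) =
      Algebra.TensorProduct.map (IsScalarTower.toAlgHom k S R) (AlgHom.id k A)
        (HopfRep.Comod.coact (k := k) (A := A) s) := fun s => by
    rw [hmap, hθS]
    exact LinearMap.congr_fun hθ s
  have hinj : ∀ b : A →ₐ[k] k, GLin.actPt k b (z.comp θ) = z.comp θ → GLin.actPt k b z = z := by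
    intro b hb
    rw [hzθ] at hb
    have h : ∀ f : (MvPolynomial ι C), GLin.actPt k b z (mk f) = z (mk f) := fun f => by
      refine RingHom.congr_fun (MvPolynomial.ringHom_ext (f := ((GLin.actPt k b z).comp mk).toRingHom)
        (g := (z.comp mk).toRingHom) (fun c => ?_) fun j => ?_) f
      · obtain ⟨G, rfl⟩ := hsurj c
        change b (GLin.orbitHom k A z (θ₂ G)) = z (θ₂ G)
        rw [orbitHom_comp hθ₂, hzθ₂, show z (θ₂ G) = x G from AlgHom.congr_fun hzθ₂ G]
        exact AlgHom.congr_fun hb G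
      · change b (GLin.orbitHom k A z (mk (X j))) = z (mk (X j))
        rw [← SliceEtale.toT_X (k := k) (C := C) j]
        change b (GLin.orbitHom k A z (θ (X j))) = z (θ (X j))
        rw [orbitHom_comp hθ, hzθ, show z (θ (X j)) = x (X j) from AlgHom.congr_fun hzθ (X j)]
        exact AlgHom.congr_fun hb (X j)
    refine AlgHom.ext fun r => ?_
    obtain ⟨f, rfl⟩ := Ideal.Quotient.mk_surjective r
    exact h f
  -- invariants
  let S₀ := GLin.invariants k A S
  let R₀ := GLin.invariants k A R
  have hSR : ∀ c : S₀, θ (c : S) ∈ R₀ := fun c => by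
    have h := LinearMap.congr_fun hθ (c : S)
    simp only [LinearMap.comp_apply, AlgHom.toLinearMap_apply] at h
    rw [GLin.mem_invariants_iff, h, show HopfRep.Comod.coact (k := k) (A := A) (c : S) = (c : S) ⊗ₜ[k] (1 : A) from c.2,
      LinearMap.rTensor_tmul]
    rfl
  letI : Algebra S₀ R₀ := ((θ.toRingHom.comp S₀.val.toRingHom).codRestrict R₀ hSR).toAlgebra
  haveI : IsScalarTower S₀ S R := inferInstance
  haveI : IsScalarTower S₀ R₀ R := ⟨fun c e r => by
    change (θ (c : S) * (e : R)) * r = (c : S) • ((e : R) * r)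
    rw [Algebra.smul_def, mul_assoc]
    rfl⟩
  have hS₀ : (IsScalarTower.toAlgHom k S₀ S).range = GLin.invariants k A S := by
    refine SetLike.ext fun c => ⟨fun h => ?_, fun hc => (AlgHom.mem_range _).2 ⟨⟨c, hc⟩, rfl⟩⟩
    obtain ⟨e, rfl⟩ := (AlgHom.mem_range _).1 h
    exact e.2
  have hR₀ : (IsScalarTower.toAlgHom k R₀ R).range = GLin.invariants k A R := by
    refine SetLike.ext fun c => ⟨fun h => ?_, fun hc => (AlgHom.mem_range _).2 ⟨⟨c, hc⟩, rfl⟩⟩
    obtain ⟨e, rfl⟩ := (AlgHom.mem_range _).1 h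
    exact e.2
  obtain ⟨f, hf, hfet, hker, hsur⟩ :=
    LunaReduce.exists_local (S₀ := S₀) (R₀ := R₀) hα hequiv Subtype.val_injective hS₀ Subtype.val_injective hR₀
      z m rfl het (by rw [hθS, hzθ]; exact hx) (by rw [hθS]; exact hinj)
  haveI := LunaFund.isScalarTower_invariants (k := k) (S := S) (R := R) (S₀ := S₀) (R₀ := R₀) Subtype.val_injective
  haveI : Algebra.FiniteType k S₀ := invariants_finiteType hα
  haveI : Algebra.FiniteType k R₀ := invariants_finiteType hα
  haveI : Algebra.FiniteType S₀ R₀ := Algebra.FiniteType.of_restrictScalars_finiteType k S₀ R₀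
  haveI : Algebra.FiniteType S R := Algebra.FiniteType.of_restrictScalars_finiteType k S R
  haveI : IsNoetherianRing S₀ := Algebra.FiniteType.isNoetherianRing k S₀
  haveI : Algebra.FinitePresentation S₀ R₀ := Algebra.FinitePresentation.of_finiteType.1 inferInstance
  haveI : Algebra.FinitePresentation S R := Algebra.FinitePresentation.of_finiteType.1 inferInstance
  let q₀ : PrimeSpectrum R₀ :=
    ⟨RingHom.ker (z.comp (IsScalarTower.toAlgHom k R₀ R)).toRingHom, RingHom.ker_isPrime _⟩
  obtain ⟨g, hg, h1, -, -, -, h6⟩ :=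
    LunaSpread.exists_base f q₀ (fun h => hf (RingHom.mem_ker.1 h)) hfet hker hsur
  refine ⟨(g : S), g.2, fun h => hg (RingHom.mem_ker.2 ?_), fun v hv => ?_⟩
  · change z (θ (g : S)) = 0
    rw [show z (θ (g : S)) = x (g : S) from AlgHom.congr_fun hzθ _]
    exact h
  let c := f * algebraMap S₀ R₀ g
  obtain ⟨Q, hQ, hcQ, hQv⟩ := h1 (RingHom.ker v.toRingHom) (RingHom.ker_isPrime _) fun h => hv (RingHom.mem_ker.1 h)
  haveI : IsJacobsonRing R := isJacobsonRing_of_finiteType (A := k)
  obtain ⟨M, hQM, hM, hcM⟩ : ∃ M : Ideal R, Q ≤ M ∧ M.IsMaximal ∧ algebraMap R₀ R c ∉ M := by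
    by_contra hcon
    push Not at hcon
    refine hcQ ?_
    rw [← IsJacobsonRing.out' Q hQ.isRadical, Ideal.jacobson, Ideal.mem_sInf]
    rintro M ⟨hle, hM⟩
    exact hcon M hle hM
  haveI := hM
  obtain ⟨z', hz'⟩ := LunaFund.exists_point (k := k) M
  have hz'v : z'.comp θ = v := by
    refine AlgHom.ext fun s => ?_
    have hs : algebraMap S R (s - algebraMap k S (v s)) ∈ M := hQM (by
      rw [← Ideal.mem_comap, hQv, RingHom.mem_ker]
      simp)
    have h := (hz' _).2 hs
    rw [map_sub, map_sub, ← IsScalarTower.algebraMap_apply k S R, AlgHom.commutes, sub_eq_zero] at h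
    exact h
  obtain ⟨b₀, hb₀⟩ := exists_point_of_closedOrbit x hx (z'.comp θ₂) fun G hG => by
    change z' (mk (jC (mkI G))) = 0
    rw [show mkI G = 0 from (hkerI G).2 hG, map_zero, map_zero, map_zero]
  let b := b₀.comp (HopfAlgebra.antipodeAlgHom k A)
  refine ⟨b, ?_⟩
  let z'' := GLin.actPt k b z'
  have hmove : ∀ {θ' : S →ₐ[k] R}, Hoch.IsComodHom A θ'.toLinearMap → z''.comp θ' = GLin.actPt k b (z'.comp θ') :=
    fun {θ'} h => AlgHom.ext fun s => congrArg b (orbitHom_comp h z' s)
  have hz''θ₂ : z''.comp θ₂ = x := by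
    rw [hmove hθ₂, ← show GLin.actPt k b₀ x = z'.comp θ₂ from AlgHom.ext hb₀, actPt_antipode']
  have hz''θ : z''.comp θ = GLin.actPt k b v := by rw [hmove hθ, hz'v]
  have hfix : ∀ e : R₀, algebraMap R₀ R e ∈ HopfRep.fixedPts k A R := fun e => e.2
  have hc'' : z'' (algebraMap R₀ R c) ≠ 0 := by
    change b (GLin.orbitHom k A z' (algebraMap R₀ R c)) ≠ 0
    rw [orbit_of_fixed z' (hfix c), map_smul, map_one, smul_eq_mul, mul_one]
    exact fun h => hcM ((hz' _).1 h)
  refine Ideal.map_le_iff_le_comap.2 fun G hG => ?_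
  obtain ⟨s, hs⟩ := exists_orbit_eq c hfix h6 z'' hc'' (θ₂ G)
  rw [Ideal.mem_comap, show GLin.orbitHom k A x G = GLin.orbitHom k A z'' (θ₂ G) by rw [orbitHom_comp hθ₂, hz''θ₂],
    ← hs, show GLin.orbitHom k A z'' (algebraMap S R s) = GLin.orbitHom k A (GLin.actPt k b v) s by
      rw [← hz''θ]; exact orbitHom_comp hθ z'' s]
  refine Ideal.mem_map_of_mem _ (RingHom.mem_ker.2 ?_)
  have h2 := congrArg (Coalgebra.counit (R := k)) hs
  rw [counit_orbitHom, counit_orbitHom, show z'' (θ₂ G) = x G from AlgHom.congr_fun hz''θ₂ G,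
    RingHom.mem_ker.1 hG] at h2
  rw [← hz''θ]
  exact h2

/-- stabilisers near a closed orbit in a representation -/
theorem exists_nhd {α : A →ₗ[k] k} (hα : IsIntegral k α) {a : ι → ι → A} (ha : IsMat k a)
    (hX : ∀ j, HopfRep.Comod.coact (k := k) (A := A) (X j : MvPolynomial ι k) =
      ∑ i, (X i : MvPolynomial ι k) ⊗ₜ[k] a i j)
    (x : MvPolynomial ι k →ₐ[k] k) (hx : GLin.IsClosedOrbit k A x) :
    ∃ g ∈ GLin.invariants k A (MvPolynomial ι k), x g ≠ 0 ∧
      ∀ v : MvPolynomial ι k →ₐ[k] k, v g ≠ 0 →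
        ∃ b : A →ₐ[k] k, GLin.stabIdeal k A x ≤ GLin.stabIdeal k A (GLin.actPt k b v) := by
  obtain ⟨cC, hcC, hπC⟩ :=
    SliceBase.exists_quot (RingHom.ker (GLin.orbitHom k A x)) (isSubcomod_ker_orbit (A := A) x)
  letI : HopfRep.Comod k A (MvPolynomial ι k ⧸ RingHom.ker (GLin.orbitHom k A x)) := cC
  haveI : GLin.IsCoactAlg k A (MvPolynomial ι k ⧸ RingHom.ker (GLin.orbitHom k A x)) := hcC
  haveI : Algebra.Smooth k (MvPolynomial ι k ⧸ RingHom.ker (GLin.orbitHom k A x)) :=
    SliceBase.smooth_orbitRing x hx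
  exact exists_nhd_aux hα ha hX x hx _ (Ideal.Quotient.mkₐ k _) Ideal.Quotient.mk_surjective hπC
    fun G => Ideal.Quotient.eq_zero_iff_mem

end Groth.Agent.Comod.SliceMain
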