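import Groth.Agent.Comod.Image2
import Mathlib.RingTheory.DiscreteValuationRing.Basic
import Mathlib.LinearAlgebra.TensorProduct.Quotient
import Mathlib.RingTheory.Flat.TorsionFree

/-!
# Special fibres of trigonalizable and unipotent groups over a discrete valuation ring
-/

set_option autoImplicit false
set_option linter.style.haveILetI false

universe u

noncomputable section

open TensorProduct

namespace Groth.Agent.Comod.SpecialFibre

open HopfRep

variable {O : Type u} [CommRing O] [IsDomain O] [IsDiscreteValuationRing O]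
  {K : Type u} [Field K] [Algebra O K] [IsFractionRing O K]
  {H : Type u} [CommRing H] [HopfAlgebra O H] [Module.Flat O H]

local notation "κ" => IsLocalRing.ResidueField O

/-- `x ↦ 1 ⊗ x` into the generic fibre -/
abbrev gen : H →ₗ[O] K ⊗[O] H := TensorProduct.mk O K H 1

/-- `x ↦ 1 ⊗ x` into the special fibre -/
abbrev red : H →ₗ[O] κ ⊗[O] H := TensorProduct.mk O κ H 1

theorem gen_injective : Function.Injective (gen (O := O) (K := K) (H := H)) :=
  Algebra.TensorProduct.includeRight_injective (R := O) (A := K) (B := H) (IsFractionRing.injective O K)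

theorem exists_of_red_eq_zero {π : O} (hπ : Irreducible π) {x : H} (hx : red (O := O) x = 0) :
    ∃ y, x = π • y := by
  have hm := hπ.maximalIdeal_eq
  have hx' : (Ideal.Quotient.mk (IsLocalRing.maximalIdeal O) (1 : O)) ⊗ₜ[O] x =
    (0 : (O ⧸ IsLocalRing.maximalIdeal O) ⊗[O] H) := hx
  have h : TensorProduct.quotTensorEquivQuotSMul H (IsLocalRing.maximalIdeal O)
    (Ideal.Quotient.mk _ (1 : O) ⊗ₜ[O] x) = 0 := by rw [hx', map_zero]
  rw [TensorProduct.quotTensorEquivQuotSMul_mk_tmul, one_smul, Submodule.Quotient.mk_eq_zero, hm,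
    Submodule.ideal_span_singleton_smul, ← SetLike.mem_coe, Submodule.coe_pointwise_smul] at h
  obtain ⟨y, -, hy⟩ := h
  exact ⟨y, hy.symm⟩

theorem exists_pow_smul {π : O} (hπ : Irreducible π) (g : K ⊗[O] H) :
    ∃ (n : ℕ) (h : H), (π ^ n) • g = gen (O := O) (K := K) h := by
  induction g using TensorProduct.induction_on with
  | zero => exact ⟨0, 0, by simp⟩
  | tmul c x =>
    obtain ⟨⟨a, s, hs⟩, hc⟩ := IsLocalization.surj (nonZeroDivisors O) c
    obtain ⟨n, hn⟩ := IsDiscreteValuationRing.associated_pow_irreducible (nonZeroDivisors.ne_zero hs) hπ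
    obtain ⟨w, hw⟩ := hn
    refine ⟨n, ((w : O) * a) • x, ?_⟩
    rw [show gen (O := O) (K := K) (((w : O) * a) • x) = (((w : O) * a) • (1 : K)) ⊗ₜ[O] x from
      (TensorProduct.smul_tmul _ _ _).symm, TensorProduct.smul_tmul', ← hw]
    congr 1
    rw [Algebra.smul_def, Algebra.smul_def, mul_one, map_mul, map_mul, ← hc]
    ring
  | add p q hp hq =>
    obtain ⟨m, x, hx⟩ := hp
    obtain ⟨n, y, hy⟩ := hq
    refine ⟨m + n, (π ^ n) • x + (π ^ m) • y, ?_⟩
    rw [map_add, map_smul, map_smul, ← hx, ← hy, smul_add, smul_smul, smul_smul, ← pow_add, ← pow_add, add_comm n m]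

section Step

variable (M : Submodule K (K ⊗[O] H))

/-- the lattice of a subspace of the generic fibre -/
abbrev lat : Submodule O H := (M.restrictScalars O).comap (gen (O := O) (K := K))

/-- the reduction of a subspace of the generic fibre -/
def R : Submodule κ (κ ⊗[O] H) := Submodule.span κ (red (O := O) '' (lat M : Set H))

theorem red_mem_R {x : H} (hx : gen (O := O) (K := K) x ∈ M) : red (O := O) x ∈ R M :=
  Submodule.subset_span ⟨x, hx, rfl⟩

theorem mem_R {w : κ ⊗[O] H} (hw : w ∈ R M) : ∃ x, gen (O := O) (K := K) x ∈ M ∧ red (O := O) x = w := by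
  induction hw using Submodule.span_induction with
  | mem w hw => obtain ⟨x, hx, rfl⟩ := hw; exact ⟨x, hx, rfl⟩
  | zero => exact ⟨0, by simp, by simp⟩
  | add p q _ _ hp hq =>
    obtain ⟨x, hx, rfl⟩ := hp
    obtain ⟨y, hy, rfl⟩ := hq
    exact ⟨x + y, by rw [map_add]; exact add_mem hx hy, map_add _ _ _⟩
  | smul r p _ hp =>
    obtain ⟨x, hx, rfl⟩ := hp
    obtain ⟨c, rfl⟩ := IsLocalRing.residue_surjective r
    refine ⟨c • x, by rw [map_smul]; exact Submodule.smul_of_tower_mem M c hx, ?_⟩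
    rw [map_smul]
    exact (IsScalarTower.algebraMap_smul κ c _).symm

/-- `H ⧸ lattice` into the quotient of the generic fibre -/
def j : (H ⧸ lat M) →ₗ[O] ((K ⊗[O] H) ⧸ M) :=
  (lat M).liftQ (M.mkQ.restrictScalars O ∘ₗ gen (O := O) (K := K)) fun x hx => by
    simpa using hx

theorem j_injective : Function.Injective (j M) := by
  rw [← LinearMap.ker_eq_bot, eq_bot_iff]
  intro z hz
  obtain ⟨x, rfl⟩ := (lat M).mkQ_surjective z
  rw [LinearMap.mem_ker] at hz
  change M.mkQ (gen (O := O) (K := K) x) = 0 at hz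
  rw [Submodule.mkQ_apply, Submodule.Quotient.mk_eq_zero] at hz
  exact (Submodule.Quotient.mk_eq_zero (lat M)).2 hz

/-- `(q ⊗ h) ↦ j q ⊗ (1 ⊗ h)` -/
def J : (H ⧸ lat M) ⊗[O] H →ₗ[O] ((K ⊗[O] H) ⧸ M) ⊗[K] (K ⊗[O] H) :=
  (TensorProduct.AlgebraTensorModule.cancelBaseChange O K K ((K ⊗[O] H) ⧸ M) H).symm.toLinearMap.restrictScalars O ∘ₗ
    (j M).rTensor H

theorem J_tmul (x h : H) :
    J M ((lat M).mkQ x ⊗ₜ[O] h) = M.mkQ (gen (O := O) (K := K) x) ⊗ₜ[K] gen (O := O) (K := K) h := rfl

theorem J_injective : Function.Injective (J M) :=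
  (TensorProduct.AlgebraTensorModule.cancelBaseChange O K K ((K ⊗[O] H) ⧸ M) H).symm.injective.comp
    (Module.Flat.rTensor_preserves_injective_linearMap (j M) (j_injective M))

/-- the reduction of the quotient -/
def Rq : (H ⧸ lat M) →ₗ[O] ((κ ⊗[O] H) ⧸ R M) :=
  (lat M).liftQ ((R M).mkQ.restrictScalars O ∘ₗ red (O := O)) fun x hx => by
    simp only [LinearMap.mem_ker, LinearMap.comp_apply, LinearMap.restrictScalars_apply, Submodule.mkQ_apply,
      Submodule.Quotient.mk_eq_zero]
    exact red_mem_R M hx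

theorem Rq_mkQ (x : H) : Rq M ((lat M).mkQ x) = (R M).mkQ (red (O := O) x) := rfl

theorem comul_red (φ : κ ⊗[O] H →ₗ[κ] κ) (x : H) :
    (R M).mkQ (contract φ (red (O := O) x)) =
      (TensorProduct.lift (LinearMap.mk₂ O (fun q h => φ (red (O := O) h) • Rq M q)
        (fun q q' h => by rw [map_add, smul_add]) (fun c q h => by rw [map_smul, smul_comm])
        (fun q h h' => by rw [map_add, map_add, add_smul])
        (fun c q h => by rw [map_smul, LinearMap.map_smul_of_tower, smul_assoc])))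
        ((lat M).mkQ.rTensor H (Coalgebra.comul (R := O) x)) := by
  rw [contract_apply]
  change (R M).mkQ (slice φ (Coalgebra.comul (R := κ) ((1 : κ) ⊗ₜ[O] x))) = _
  rw [TensorProduct.comul_tmul]
  induction Coalgebra.comul (R := O) x using TensorProduct.induction_on with
  | zero => simp
  | tmul y z => simp [Algebra.TensorProduct.one_def, Rq]
  | add y z hy hz => simp only [TensorProduct.tmul_add, map_add, hy, hz]

theorem comul_gen (ψ : K ⊗[O] H →ₗ[K] K) (x : H) :
    slice ψ (J M ((lat M).mkQ.rTensor H (Coalgebra.comul (R := O) x))) =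
      M.mkQ (contract ψ (gen (O := O) (K := K) x)) := by
  rw [contract_apply]
  change _ = M.mkQ (slice ψ (Coalgebra.comul (R := K) ((1 : K) ⊗ₜ[O] x)))
  rw [TensorProduct.comul_tmul]
  induction Coalgebra.comul (R := O) x using TensorProduct.induction_on with
  | zero => simp
  | tmul y z => simp [Algebra.TensorProduct.one_def, J, j]
  | add y z hy hz => simp only [TensorProduct.tmul_add, map_add, hy, hz]

theorem step {x : H} {g : K ⊗[O] H}
    (hx : ∀ ψ : K ⊗[O] H →ₗ[K] K, contract ψ (gen (O := O) (K := K) x) - ψ g • gen (O := O) (K := K) x ∈ M) :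
    red (O := O) x ∈ R M ∨ ∃ h : H, gen (O := O) (K := K) h = g ∧
      ∀ φ : κ ⊗[O] H →ₗ[κ] κ, contract φ (red (O := O) x) - φ (red (O := O) h) • red (O := O) x ∈ R M := by
  classical
  obtain ⟨π, hπ⟩ := IsDiscreteValuationRing.exists_irreducible O
  set z := (lat M).mkQ.rTensor H (Coalgebra.comul (R := O) x) with hz
  have hJ : J M z = M.mkQ (gen (O := O) (K := K) x) ⊗ₜ[K] g := by
    rw [← sub_eq_zero]
    refine eq_zero_of_slice _ fun ψ => ?_
    rw [map_sub, hz, comul_gen, slice_tmul, ← map_smul, ← map_sub]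
    exact (Submodule.Quotient.mk_eq_zero M).2 (hx ψ)
  have hex := exists_pow_smul (K := K) hπ g
  obtain ⟨h, hh⟩ := Nat.find_spec hex
  rcases hn : Nat.find hex with _ | m
  · rw [hn, pow_zero, one_smul] at hh
    refine Or.inr ⟨h, hh.symm, fun φ => ?_⟩
    have hzh : z = (lat M).mkQ x ⊗ₜ[O] h := J_injective M (by rw [hJ, J_tmul, hh])
    refine (Submodule.Quotient.eq (R M)).1 ?_
    show (R M).mkQ (contract φ (red (O := O) x)) = (R M).mkQ (φ (red (O := O) h) • red (O := O) x)
    rw [comul_red, ← hz, hzh, map_smul]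
    rfl
  · rw [hn] at hh
    have hzh : (π ^ (m + 1)) • z = (lat M).mkQ x ⊗ₜ[O] h := J_injective M (by
      rw [map_smul, hJ, J_tmul, ← hh, TensorProduct.tmul_smul])
    have hπ0 : (IsLocalRing.residue O) (π ^ (m + 1)) = 0 := by
      rw [IsLocalRing.residue_eq_zero_iff]
      exact Ideal.pow_mem_of_mem _ (hπ.maximalIdeal_eq ▸ Ideal.mem_span_singleton_self π) _ m.succ_pos
    have hredh : red (O := O) h ≠ 0 := by
      intro h0
      obtain ⟨y, rfl⟩ := exists_of_red_eq_zero hπ h0
      refine Nat.find_min hex (by rw [hn]; exact Nat.lt_succ_self m) ⟨y, ?_⟩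
      rw [map_smul, pow_succ, mul_comm, mul_smul] at hh
      have hπK : algebraMap O K π ≠ 0 := fun h0 => hπ.ne_zero ((map_eq_zero_iff _ (IsFractionRing.injective O K)).1 h0)
      have := congrArg ((algebraMap O K π)⁻¹ • ·) hh
      simp only [← IsScalarTower.algebraMap_smul K π, inv_smul_smul₀ hπK] at this
      exact this
    obtain ⟨φ, hφ⟩ : ∃ φ : κ ⊗[O] H →ₗ[κ] κ, φ (red (O := O) h) ≠ 0 := by
      by_contra! h0
      exact hredh (Module.forall_dual_apply_eq_zero_iff κ _ |>.1 h0)
    refine Or.inl ((Submodule.Quotient.mk_eq_zero (R M)).1 ?_)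
    have h2 : (0 : (κ ⊗[O] H) ⧸ R M) = φ (red (O := O) h) • (R M).mkQ (red (O := O) x) := by
      have h1 := congrArg (TensorProduct.lift (LinearMap.mk₂ O (fun q h => φ (red (O := O) h) • Rq M q)
        (fun q q' h => by rw [map_add, smul_add]) (fun c q h => by rw [map_smul, smul_comm])
        (fun q h h' => by rw [map_add, map_add, add_smul])
        (fun c q h => by rw [map_smul, LinearMap.map_smul_of_tower, smul_assoc]))) hzh
      rw [map_smul, ← IsScalarTower.algebraMap_smul κ (π ^ (m + 1))] at h1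
      rw [show algebraMap O κ (π ^ (m + 1)) = 0 from hπ0, zero_smul] at h1
      exact h1
    exact (smul_eq_zero.1 h2.symm).resolve_left hφ

end Step

/-- flags descend to the special fibre -/
theorem flags {G : Set (K ⊗[O] H)} (hG : Image.Flags K (K ⊗[O] H) G) :
    Image.Flags κ (κ ⊗[O] H) (red (O := O) '' (gen (O := O) (K := K) ⁻¹' G)) := by
  classical
  intro N0 hN0fin hN0 N hle hne hN
  let b := Module.finBasis κ N0
  have hlift : ∀ i, ∃ x : H, red (O := O) x = (b i : κ ⊗[O] H) := fun i => by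
    induction (b i : κ ⊗[O] H) using TensorProduct.induction_on with
    | zero => exact ⟨0, map_zero _⟩
    | tmul r x =>
      obtain ⟨c, rfl⟩ := IsLocalRing.residue_surjective r
      refine ⟨c • x, ?_⟩
      show (1 : κ) ⊗ₜ[O] (c • x) = _
      rw [← TensorProduct.smul_tmul, Algebra.smul_def, mul_one]
      rfl
    | add p q hp hq =>
      obtain ⟨x, hx⟩ := hp
      obtain ⟨y, hy⟩ := hq
      exact ⟨x + y, by rw [map_add, hx, hy]⟩
  choose xs hxs using hlift
  obtain ⟨M0, hM0fin, hM0S, hM0⟩ := exists_finite_subcomod (k := K) (A := K ⊗[O] H) (V := K ⊗[O] H)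
    (Finset.univ.image fun i => gen (O := O) (K := K) (xs i))
  have hcover : ∀ w ∈ N0, w ∈ R M0 := by
    intro w hw
    have h' : w = ∑ i, b.repr ⟨w, hw⟩ i • (b i : κ ⊗[O] H) := by
      have := congrArg Subtype.val (b.sum_repr ⟨w, hw⟩)
      rw [Submodule.coe_sum] at this
      simpa using this.symm
    rw [h']
    refine Submodule.sum_mem _ fun i _ => Submodule.smul_mem _ _ ?_
    rw [← hxs i]
    exact red_mem_R M0 (hM0S (Finset.mem_coe.2 (Finset.mem_image.2 ⟨i, Finset.mem_univ i, rfl⟩)))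
  let P : ℕ → Prop := fun n => ∃ M : Submodule K (K ⊗[O] H), M ≤ M0 ∧ IsSubcomod (k := K) (A := K ⊗[O] H) M ∧
    (∀ w ∈ N0, w ∈ R M → w ∈ N) ∧ Module.finrank K M0 - Module.finrank K M = n
  have hP : ∃ n, P n := ⟨_, ⊥, bot_le, isSubcomod_bot, fun w _ h => by
    obtain ⟨x, hx, rfl⟩ := mem_R ⊥ h
    rw [Submodule.mem_bot] at hx
    rw [gen_injective (K := K) (hx.trans (map_zero _).symm), map_zero]
    exact zero_mem _, rfl⟩
  obtain ⟨M, hMle, hMs, hMN, hMn⟩ := Nat.find_spec hP
  have hMne : M ≠ M0 := fun e => hne (le_antisymm hle fun w hw => hMN w hw (e ▸ hcover w hw))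
  obtain ⟨v, hv0, hvM, hM', g, hg, hva⟩ := hG M0 hM0fin hM0 M hMle hMne hMs
  set M' := M ⊔ Submodule.span K {v}
  have hM'le : M' ≤ M0 := sup_le hMle ((Submodule.span_singleton_le_iff_mem _ _).2 hv0)
  haveI : Module.Finite K M' := Submodule.finiteDimensional_of_le hM'le
  have hlt : Module.finrank K M < Module.finrank K M' :=
    Submodule.finrank_lt_finrank_of_lt (lt_of_le_of_ne le_sup_left fun e => hvM
      (e ▸ Submodule.mem_sup_right (Submodule.mem_span_singleton_self _)))
  have hmeet : ∃ w ∈ N0, w ∈ R M' ∧ w ∉ N := by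
    by_contra! h
    have hle := Nat.find_min' hP ⟨M', hM'le, hM', h, rfl⟩
    rw [← hMn] at hle
    have := Submodule.finrank_mono hM'le
    omega
  obtain ⟨w, hw0, hwR, hwN⟩ := hmeet
  obtain ⟨x, hxM, rfl⟩ := mem_R M' hwR
  have hx : ∀ ψ : K ⊗[O] H →ₗ[K] K, contract ψ (gen (O := O) (K := K) x) - ψ g • gen (O := O) (K := K) x ∈ M := by
    intro ψ
    obtain ⟨p, hp, q, hq, hpq⟩ := Submodule.mem_sup.1 hxM
    obtain ⟨r, rfl⟩ := Submodule.mem_span_singleton.1 hq
    rw [← hpq, map_add, map_smul, smul_add, smul_comm (ψ g) r, add_sub_add_comm, ← smul_sub]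
    exact add_mem (sub_mem (contract_mem hMs ψ hp) (Submodule.smul_mem _ _ hp)) (Submodule.smul_mem _ _ (hva ψ))
  rcases step M hx with h | ⟨h, hh, heig⟩
  · exact absurd (hMN _ hw0 h) hwN
  have hev : ∀ φ : κ ⊗[O] H →ₗ[κ] κ, contract φ (red (O := O) x) - φ (red (O := O) h) • red (O := O) x ∈ N :=
    fun φ => hMN _ (sub_mem (contract_mem hN0 φ hw0) (Submodule.smul_mem _ _ hw0)) (heig φ)
  refine ⟨red (O := O) x, hw0, hwN, ?_, red (O := O) h, ⟨h, show gen (O := O) (K := K) h ∈ G from hh ▸ hg, rfl⟩, hev⟩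
  refine isSubcomod_iff.2 fun φ y hy => ?_
  obtain ⟨p, hp, q, hq, rfl⟩ := Submodule.mem_sup.1 hy
  obtain ⟨r, rfl⟩ := Submodule.mem_span_singleton.1 hq
  rw [map_add, map_smul, ← sub_add_cancel (contract φ (red (O := O) x)) (φ (red (O := O) h) • red (O := O) x)]
  exact add_mem (Submodule.mem_sup_left (contract_mem hN φ hp)) (Submodule.smul_mem _ _
    (add_mem (Submodule.mem_sup_left (hev φ))
      (Submodule.smul_mem _ _ (Submodule.mem_sup_right (Submodule.mem_span_singleton_self _)))))

theorem lam_id {F : Type u} [Field F] {C : Type u} [CommRing C] [HopfAlgebra F C] (χ : C →ₗ[F] F) (a : C) :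
    contract χ ((LinearMap.id : C →ₗ[F] C) a) =
      Image.lam (LinearMap.id : C →ₗ[F] C) χ (Coalgebra.comul (R := F) a) := by
  rw [LinearMap.id_apply, contract_apply]
  change slice χ (Coalgebra.comul (R := F) a) = _
  induction Coalgebra.comul (R := F) a using TensorProduct.induction_on with
  | zero => simp
  | tmul x y => simp
  | add x y hx hy => simp only [map_add, hx, hy]

theorem isUnipotent (hU : HopfRep.IsUnipotent K (K ⊗[O] H)) : HopfRep.IsUnipotent κ (κ ⊗[O] H) := by
  refine Image2.isUnipotent_image LinearMap.id lam_id (by simp) (flags (Image.flags_unip hU)) ?_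
  rintro _ ⟨h, hh, rfl⟩
  have : h = 1 := gen_injective (K := K) (show gen (O := O) (K := K) h = gen (O := O) (K := K) 1 from hh)
  subst this
  rfl

theorem isTrigonalizable (hT : HopfRep.IsTrigonalizable K (K ⊗[O] H)) :
    HopfRep.IsTrigonalizable κ (κ ⊗[O] H) := by
  intro V _ _ _ hfin hsimp
  haveI := hsimp.1
  obtain ⟨w, hw, a, -, hwa⟩ := Image.exists_eigen LinearMap.id lam_id (by simp) (flags (Image.flags_trig hT)) V
  have hline : IsSubcomod (k := κ) (A := κ ⊗[O] H) (Submodule.span κ {w}) := isSubcomod_iff.2 fun χ y hy => by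
    obtain ⟨r, rfl⟩ := Submodule.mem_span_singleton.1 hy
    rw [map_smul, hwa]
    exact Submodule.smul_mem _ _ (Submodule.smul_mem _ _ (Submodule.mem_span_singleton_self _))
  rcases hsimp.2 _ hline with h | h
  · exact absurd (Submodule.span_singleton_eq_bot.1 h) hw
  · exact finrank_eq_one w hw fun y => Submodule.mem_span_singleton.1 (h ▸ Submodule.mem_top)

end Groth.Agent.Comod.SpecialFibre
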