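import Groth.Agent.Comod.Basic
import Mathlib.RingTheory.HopfAlgebra.Quotient
import Mathlib.RingTheory.TensorProduct.Maps

/-!
# The stabiliser of a vector of a comodule is cut out by a Hopf ideal
-/

universe u v w

noncomputable section

open TensorProduct

namespace Groth.Agent.Comod

variable {k : Type u} [Field k] {A : Type v} [CommRing A] [HopfAlgebra k A]
variable {V : Type w} [AddCommGroup V] [Module k V] [HopfRep.Comod k A V]

variable (k A) in
/-- the ideal of the stabiliser of a vector -/
def stabVec (v : V) : Ideal A :=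
  Ideal.span (Set.range fun f : V →ₗ[k] k =>
    TensorProduct.lid k A (f.rTensor A (HopfRep.Comod.coact (k := k) (A := A) v)) - algebraMap k A (f v))

/-- being fixed modulo an ideal is containing the stabiliser ideal -/
theorem stabVec_le_iff (v : V) (I : Ideal A) :
    stabVec k A v ≤ I ↔ (Ideal.Quotient.mkₐ k I).toLinearMap.lTensor V
      (HopfRep.Comod.coact (k := k) (A := A) v) = v ⊗ₜ[k] (1 : A ⧸ I) := by
  have key : ∀ f : V →ₗ[k] k, ∀ y : V ⊗[k] A,
      TensorProduct.lid k (A ⧸ I) (f.rTensor (A ⧸ I) ((Ideal.Quotient.mkₐ k I).toLinearMap.lTensor V y)) =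
        Ideal.Quotient.mk I (TensorProduct.lid k A (f.rTensor A y)) := by
    intro f y
    induction y using TensorProduct.induction_on with
    | zero => simp
    | tmul w a => simp [Algebra.smul_def]
    | add p q hp hq => simp [map_add, hp, hq]
  constructor
  · intro h
    rw [← sub_eq_zero]
    set z := (Ideal.Quotient.mkₐ k I).toLinearMap.lTensor V
      (HopfRep.Comod.coact (k := k) (A := A) v) - v ⊗ₜ[k] (1 : A ⧸ I) with hz
    let b := Module.Free.chooseBasis k V
    apply (TensorProduct.equivFinsuppOfBasisLeft (R := k) (M := V) (N := A ⧸ I) b).injective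
    rw [map_zero]
    ext i
    have h1 : (TensorProduct.equivFinsuppOfBasisLeft b z) i =
        TensorProduct.lid k (A ⧸ I) ((b.coord i).rTensor (A ⧸ I) z) := by
      induction z using TensorProduct.induction_on with
      | zero => simp
      | tmul w a => simp
      | add p q hp hq => simp [map_add, hp, hq]
    rw [h1, hz, map_sub, map_sub, key]
    simp only [LinearMap.rTensor_tmul, lid_tmul, Finsupp.coe_zero, Pi.zero_apply]
    have := h (Ideal.subset_span ⟨b.coord i, rfl⟩)
    rw [← Ideal.Quotient.eq_zero_iff_mem, map_sub] at this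
    rw [sub_eq_zero] at this ⊢
    rw [this]
    simp [Algebra.algebraMap_eq_smul_one]
    rfl
  · intro h
    rw [stabVec, Ideal.span_le]
    rintro _ ⟨f, rfl⟩
    rw [SetLike.mem_coe, ← Ideal.Quotient.eq_zero_iff_mem, map_sub, ← key, h, sub_eq_zero]
    simp [Algebra.algebraMap_eq_smul_one]
    rfl

theorem stabVec_coact (v : V) : (Ideal.Quotient.mkₐ k (stabVec k A v)).toLinearMap.lTensor V
      (HopfRep.Comod.coact (k := k) (A := A) v) = v ⊗ₜ[k] (1 : A ⧸ stabVec k A v) :=
  (stabVec_le_iff v _).1 le_rfl

/-- `w ⊗ b ↦ Σ w₀ ⊗ S(w₁) b` -/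
def twistS (J : Ideal A) : V ⊗[k] (A ⧸ J) →ₗ[k] V ⊗[k] (A ⧸ J) :=
  (LinearMap.mul' k (A ⧸ J)).lTensor V ∘ₗ (TensorProduct.assoc k V (A ⧸ J) (A ⧸ J)).toLinearMap ∘ₗ
    (((Ideal.Quotient.mkₐ k J).toLinearMap ∘ₗ HopfAlgebra.antipode k).lTensor V ∘ₗ
      HopfRep.Comod.coact (k := k) (A := A)).rTensor (A ⧸ J)

theorem twistS_coact (J : Ideal A) (v : V) :
    twistS J ((Ideal.Quotient.mkₐ k J).toLinearMap.lTensor V (HopfRep.Comod.coact (k := k) (A := A) v)) =
      v ⊗ₜ[k] (1 : A ⧸ J) := by
  have hassoc := LinearMap.congr_fun (HopfRep.Comod.coassoc (k := k) (A := A) (V := V)) v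
  have hcu := LinearMap.congr_fun (HopfRep.Comod.counit_comp (k := k) (A := A) (V := V)) v
  simp only [LinearMap.comp_apply, LinearEquiv.coe_coe, LinearMap.flip_apply,
    TensorProduct.mk_apply] at hassoc hcu
  let g : A ⊗[k] A →ₗ[k] A ⧸ J := (Ideal.Quotient.mkₐ k J).toLinearMap ∘ₗ LinearMap.mul' k A ∘ₗ
    (HopfAlgebra.antipode k).rTensor A
  have h1 : ∀ y : V ⊗[k] A,
      twistS J ((Ideal.Quotient.mkₐ k J).toLinearMap.lTensor V y) =
        g.lTensor V (TensorProduct.assoc k V A A
          ((HopfRep.Comod.coact (k := k) (A := A)).rTensor A y)) := by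
    intro y
    induction y using TensorProduct.induction_on with
    | zero => simp
    | tmul w a =>
      simp only [twistS, LinearMap.comp_apply, LinearMap.lTensor_tmul, LinearMap.rTensor_tmul,
        LinearEquiv.coe_coe]
      induction HopfRep.Comod.coact (k := k) (A := A) w using TensorProduct.induction_on with
      | zero => simp
      | tmul x c => simp [g]
      | add p q hp hq => simp only [map_add, add_tmul, hp, hq]
    | add p q hp hq => simp only [map_add, hp, hq]
  have h2 : g ∘ₗ Coalgebra.comul (R := k) (A := A) =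
      (Algebra.linearMap k (A ⧸ J)) ∘ₗ Coalgebra.counit (R := k) (A := A) := by
    ext a
    simp only [g, LinearMap.comp_apply, Algebra.linearMap_apply]
    rw [HopfAlgebra.mul_antipode_rTensor_comul_apply]
    simp
  rw [h1, hassoc, ← LinearMap.comp_apply, ← LinearMap.lTensor_comp, h2, LinearMap.lTensor_comp,
    LinearMap.comp_apply, hcu]
  simp

theorem isHopfIdeal_stabVec (v : V) : (stabVec k A v).IsHopfIdeal k := by
  set J := stabVec k A v with hJ
  have hc := stabVec_coact (k := k) (A := A) v
  have hg : ∀ f : V →ₗ[k] k,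
      Ideal.Quotient.mk J (TensorProduct.lid k A (f.rTensor A (HopfRep.Comod.coact (k := k) (A := A) v))) =
        algebraMap k (A ⧸ J) (f v) := fun f => by
    have := Ideal.subset_span (α := A) ⟨f, rfl⟩ (s := Set.range fun f : V →ₗ[k] k =>
      TensorProduct.lid k A (f.rTensor A (HopfRep.Comod.coact (k := k) (A := A) v)) - algebraMap k A (f v))
    rw [SetLike.mem_coe] at this
    have h' := Ideal.Quotient.eq_zero_iff_mem.2 this
    rw [map_sub, sub_eq_zero] at h'
    exact h'
  refine { counit_eq_zero := fun x hx => ?_, map_mkQ_comul_eq_zero := fun x hx => ?_, antipode_mem := fun x hx => ?_ }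
  · have hle : J ≤ RingHom.ker (Bialgebra.counitAlgHom k A) := by
      refine Ideal.span_le.2 ?_
      rintro _ ⟨f, rfl⟩
      rw [SetLike.mem_coe, RingHom.mem_ker, map_sub, sub_eq_zero, AlgHom.commutes]
      have hcu := LinearMap.congr_fun (HopfRep.Comod.counit_comp (k := k) (A := A) (V := V)) v
      simp only [LinearMap.comp_apply, LinearMap.flip_apply, TensorProduct.mk_apply] at hcu
      have h' : ∀ y : V ⊗[k] A, Bialgebra.counitAlgHom k A (TensorProduct.lid k A (f.rTensor A y)) =
          TensorProduct.lid k k (f.rTensor k ((Coalgebra.counit (R := k) (A := A)).lTensor V y)) := by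
        intro y
        induction y using TensorProduct.induction_on with
        | zero => simp
        | tmul w a => simp
        | add p q hp hq => simp [map_add, hp, hq]
      rw [h', hcu]
      simp
    exact hle hx
  · let ψ : A →ₐ[k] (A ⧸ J) ⊗[k] (A ⧸ J) :=
      (Algebra.TensorProduct.map (Ideal.Quotient.mkₐ k J) (Ideal.Quotient.mkₐ k J)).comp
        (Bialgebra.comulAlgHom k A)
    have hle : J ≤ RingHom.ker ψ := by
      refine Ideal.span_le.2 ?_
      rintro _ ⟨f, rfl⟩
      rw [SetLike.mem_coe, RingHom.mem_ker, map_sub, sub_eq_zero, AlgHom.commutes]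
      have hassoc := LinearMap.congr_fun (HopfRep.Comod.coassoc (k := k) (A := A) (V := V)) v
      simp only [LinearMap.comp_apply, LinearEquiv.coe_coe] at hassoc
      let Φ : V ⊗[k] (A ⊗[k] A) →ₗ[k] (A ⧸ J) ⊗[k] (A ⧸ J) :=
        TensorProduct.map ((Ideal.Quotient.mkₐ k J).toLinearMap) ((Ideal.Quotient.mkₐ k J).toLinearMap) ∘ₗ
          (TensorProduct.lid k (A ⊗[k] A)).toLinearMap ∘ₗ f.rTensor (A ⊗[k] A)
      have h1 : ∀ y : V ⊗[k] A, ψ (TensorProduct.lid k A (f.rTensor A y)) =
          Φ ((Coalgebra.comul (R := k) (A := A)).lTensor V y) := by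
        intro y
        induction y using TensorProduct.induction_on with
        | zero => simp
        | tmul w a =>
          simp only [LinearMap.rTensor_tmul, lid_tmul, LinearMap.lTensor_tmul, Φ, LinearMap.comp_apply,
            LinearEquiv.coe_coe, map_smul]
          rfl
        | add p q hp hq => simp [map_add, hp, hq]
      let Θ : V ⊗[k] (A ⧸ J) →ₗ[k] (A ⧸ J) ⊗[k] (A ⧸ J) :=
        (((Ideal.Quotient.mkₐ k J).toLinearMap ∘ₗ (TensorProduct.lid k A).toLinearMap ∘ₗ f.rTensor A ∘ₗ
          HopfRep.Comod.coact (k := k) (A := A))).rTensor (A ⧸ J)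
      have h2 : ∀ y : V ⊗[k] A, Φ (TensorProduct.assoc k V A A
          ((HopfRep.Comod.coact (k := k) (A := A)).rTensor A y)) =
          Θ ((Ideal.Quotient.mkₐ k J).toLinearMap.lTensor V y) := by
        intro y
        induction y using TensorProduct.induction_on with
        | zero => simp
        | tmul w a =>
          simp only [LinearMap.rTensor_tmul, LinearMap.lTensor_tmul, Θ, LinearMap.comp_apply,
            LinearEquiv.coe_coe]
          induction HopfRep.Comod.coact (k := k) (A := A) w using TensorProduct.induction_on with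
          | zero => simp
          | tmul x c => simp [Φ, smul_tmul']
          | add p q hp hq => simp only [map_add, add_tmul, hp, hq]
        | add p q hp hq => simp only [map_add, hp, hq]
      rw [h1, ← hassoc, h2, hc]
      simp only [Θ, LinearMap.rTensor_tmul, LinearMap.comp_apply, LinearEquiv.coe_coe,
        AlgHom.toLinearMap_apply, Ideal.Quotient.mkₐ_eq_mk]
      rw [hg, Algebra.TensorProduct.algebraMap_apply]
    have := hle hx
    rw [RingHom.mem_ker] at this
    have h3 : ∀ y : A ⊗[k] A, TensorProduct.map (J.restrictScalars k).mkQ (J.restrictScalars k).mkQ y =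
        TensorProduct.map (LinearMap.id : (A ⧸ J) →ₗ[k] _) LinearMap.id
          (Algebra.TensorProduct.map (Ideal.Quotient.mkₐ k J) (Ideal.Quotient.mkₐ k J) y) := by
      intro y
      induction y using TensorProduct.induction_on with
      | zero => simp only [map_zero]; rfl
      | tmul w a => rfl
      | add p q hp hq => simp only [map_add, hp, hq]; rfl
    rw [h3]
    exact (congrArg _ this).trans (map_zero _)
  · let χ : A →ₐ[k] A ⧸ J := (Ideal.Quotient.mkₐ k J).comp (HopfAlgebra.antipodeAlgHom k A)
    have hle : J ≤ RingHom.ker χ := by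
      refine Ideal.span_le.2 ?_
      rintro _ ⟨f, rfl⟩
      rw [SetLike.mem_coe, RingHom.mem_ker, map_sub, sub_eq_zero, AlgHom.commutes]
      have h1 : ∀ y : V ⊗[k] A, χ (TensorProduct.lid k A (f.rTensor A y)) =
          TensorProduct.lid k (A ⧸ J) (f.rTensor (A ⧸ J)
            (((Ideal.Quotient.mkₐ k J).toLinearMap ∘ₗ HopfAlgebra.antipode k).lTensor V y)) := by
        intro y
        induction y using TensorProduct.induction_on with
        | zero => simp
        | tmul w a =>
          simp only [LinearMap.rTensor_tmul, lid_tmul, LinearMap.lTensor_tmul, map_smul, χ]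
          rfl
        | add p q hp hq => simp [map_add, hp, hq]
      have h2 := twistS_coact (k := k) J v
      rw [hc] at h2
      simp only [twistS, LinearMap.comp_apply, LinearMap.rTensor_tmul, LinearEquiv.coe_coe] at h2
      have h3 : ∀ y : V ⊗[k] (A ⧸ J), (LinearMap.mul' k (A ⧸ J)).lTensor V
          (TensorProduct.assoc k V (A ⧸ J) (A ⧸ J) (y ⊗ₜ[k] (1 : A ⧸ J))) = y := by
        intro y
        induction y using TensorProduct.induction_on with
        | zero => simp
        | tmul w a => simp
        | add p q hp hq => simp only [add_tmul, map_add, hp, hq]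
      rw [h3] at h2
      rw [h1, h2]
      simp [Algebra.algebraMap_eq_smul_one]
    have := hle hx
    rwa [RingHom.mem_ker, AlgHom.comp_apply, Ideal.Quotient.mkₐ_eq_mk, Ideal.Quotient.eq_zero_iff_mem] at this


end Groth.Agent.Comod
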