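import Groth.Agent.Comod.UnipFil
import Groth.Agent.Comod.Coalg
import Groth.Agent.Comod.Primitive

/-!
# Representations of a unipotent group in characteristic zero are determined infinitesimally
-/

universe u

noncomputable section

open TensorProduct

namespace Groth.Agent.Comod.UnipLie

open HopfRep

variable {k A : Type u} [Field k] [CommRing A] [HopfAlgebra k A]
variable {W : Type u} [AddCommGroup W] [Module k W]

/-- the identity `K k A → k` -/
def idK : LieHopf.K k A →ₗ[k] k where
  toFun x := x
  map_add' _ _ := rfl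
  map_smul' _ _ := rfl

theorem dlin_sliceL (ξ : LieHopf.Lie k A) (f : W →ₗ[k] k) (s : W ⊗[k] A) :
    LieHopf.dlin ξ (sliceL f s) = f (slice (LieHopf.dlin ξ) s) := by
  induction s using TensorProduct.induction_on with
  | zero => simp
  | tmul x c => simp [mul_comm]
  | add x y hx hy => simp only [map_add, hx, hy]

theorem slice_idK (ξ : LieHopf.Lie k A) (s : W ⊗[k] A) :
    slice (idK (k := k) (A := A)) (LinearMap.lTensor W (ξ.toLinearMap.restrictScalars k) s) =
      slice (LieHopf.dlin ξ) s := by
  induction s using TensorProduct.induction_on with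
  | zero => simp
  | tmul x c => rw [LinearMap.lTensor_tmul, slice_tmul, slice_tmul]; rfl
  | add x y hx hy => simp only [map_add, hx, hy]

theorem sliceL_assoc (f : W →ₗ[k] k) (s : W ⊗[k] A) (c : A) :
    sliceL f (TensorProduct.assoc k W A A (s ⊗ₜ c)) = sliceL f s ⊗ₜ c := by
  induction s using TensorProduct.induction_on with
  | zero => simp
  | tmul x d => simp [TensorProduct.smul_tmul']
  | add x y hx hy => simp only [TensorProduct.add_tmul, map_add, hx, hy]

theorem mem_range_iff_sliceL (U : Submodule k W) (z : W ⊗[k] A) :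
    z ∈ LinearMap.range (U.subtype.rTensor A) ↔
      ∀ f : W →ₗ[k] k, (∀ x ∈ U, f x = 0) → sliceL f z = 0 := by
  constructor
  · rintro ⟨y, rfl⟩ f hf
    rw [sliceL_rTensor]
    have : f ∘ₗ U.subtype = 0 := LinearMap.ext fun x => hf x x.2
    simp [sliceL, this]
  · intro h
    refine (rTensor_exact A (LinearMap.exact_subtype_mkQ U) U.mkQ_surjective z).1
      (eq_zero_of_sliceL _ fun f => ?_)
    rw [sliceL_rTensor]
    exact h _ fun x hx => by simp [(Submodule.Quotient.mk_eq_zero U).2 hx]

variable [HopfRep.Comod k A W]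

theorem sliceL_coact_of_mem {n : ℕ} {x : W} (hx : x ∈ fil k A W (n + 1)) (f : W →ₗ[k] k)
    (hf : ∀ w ∈ fil k A W n, f w = 0) :
    sliceL f (HopfRep.Comod.coact (k := k) (A := A) x) = f x • (1 : A) := by
  have h := (mem_range_iff_sliceL _ _).1 (mem_fil_succ.1 hx) f hf
  rwa [map_sub, sliceL_tmul, sub_eq_zero] at h

theorem exists_range_fil [Algebra.FiniteType k A] (hU : HopfRep.IsUnipotent k A) (z : W ⊗[k] A) :
    ∃ n, z ∈ LinearMap.range ((fil k A W n).subtype.rTensor A) := by
  induction z using TensorProduct.induction_on with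
  | zero => exact ⟨0, Submodule.zero_mem _⟩
  | tmul x c =>
    obtain ⟨n, hn⟩ := exists_mem_fil hU x
    exact ⟨n, ⟨x, hn⟩ ⊗ₜ c, rfl⟩
  | add x y hx hy =>
    obtain ⟨m, hm⟩ := hx
    obtain ⟨n, hn⟩ := hy
    refine ⟨max m n, (mem_range_iff_slice _ _).2 fun φ => ?_⟩
    rw [map_add]
    exact Submodule.add_mem _ (fil_mono (le_max_left m n) ((mem_range_iff_slice _ _).1 hm φ))
      (fil_mono (le_max_right m n) ((mem_range_iff_slice _ _).1 hn φ))

theorem comul_mc_of_mem (D : Submodule k W) (f : W →ₗ[k] k) (w : W) (hfw : f w = 0)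
    (hD : ∀ y ∈ D, mc A f y = f y • (1 : A))
    (hmem : ∀ ψ : A →ₗ[k] k, contract ψ w - ψ 1 • w ∈ D) :
    Coalgebra.comul (R := k) (mc A f w) = mc A f w ⊗ₜ[k] (1 : A) + (1 : A) ⊗ₜ[k] mc A f w := by
  have hmem' : HopfRep.Comod.coact (k := k) (A := A) w - w ⊗ₜ[k] (1 : A) ∈
      LinearMap.range (D.subtype.rTensor A) :=
    (mem_range_iff_slice D _).2 fun ψ => by rw [map_sub, slice_tmul, ← contract_apply]; exact hmem ψ
  obtain ⟨u, hu⟩ := hmem'
  have h0 : (mc A f - f.smulRight (1 : A)) ∘ₗ D.subtype = 0 := LinearMap.ext fun y => by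
    simp [hD y y.2]
  have h1 := congrArg ((mc A f - f.smulRight (1 : A)).rTensor A) hu
  have hsm : ∀ s : W ⊗[k] A, (f.smulRight (1 : A)).rTensor A s = (1 : A) ⊗ₜ[k] sliceL f s := by
    intro s
    induction s using TensorProduct.induction_on with
    | zero => simp
    | tmul a b => simp [TensorProduct.smul_tmul]
    | add a b ha hb => simp only [map_add, ha, hb, TensorProduct.tmul_add]
  rw [← LinearMap.rTensor_comp_apply, h0, LinearMap.rTensor_zero, LinearMap.zero_apply, map_sub,
    LinearMap.rTensor_tmul, eq_comm, sub_eq_zero] at h1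
  simp only [LinearMap.rTensor_sub, LinearMap.sub_apply, LinearMap.smulRight_apply,
    hfw, zero_smul, sub_zero, hsm, sub_eq_iff_eq_add] at h1
  rw [comul_mc]
  exact h1

variable [CharZero k] [IsAlgClosed k] [Algebra.FiniteType k A]

/-- a one-cocycle killed by the Lie algebra vanishes -/
theorem cocycle_eq_zero (hU : HopfRep.IsUnipotent k A) (z : W ⊗[k] A)
    (hz : (Coalgebra.comul (R := k) (A := A)).lTensor W z =
      TensorProduct.assoc k W A A ((HopfRep.Comod.coact (k := k) (A := A) (V := W)).rTensor A z) +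
        ((TensorProduct.mk k A A).flip 1).lTensor W z)
    (hξ : ∀ ξ : LieHopf.Lie k A, slice (LieHopf.dlin ξ) z = 0) : z = 0 := by
  obtain ⟨n, hn⟩ := exists_range_fil hU z
  induction n with
  | zero =>
    refine eq_zero_of_slice _ fun φ => ?_
    exact (Submodule.mem_bot k).1 ((mem_range_iff_slice _ _).1 hn φ)
  | succ n ih =>
    refine ih ((mem_range_iff_sliceL _ _).2 fun f hf => ?_)
    refine Primitive.eq_zero ?_ fun ξ => by rw [dlin_sliceL, hξ ξ, map_zero]
    obtain ⟨y, hy⟩ := hn
    have h := congrArg (sliceL f) hz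
    rw [map_add, sliceL_lTensor, sliceL_lTensor] at h
    rw [h, LinearMap.flip_apply, TensorProduct.mk_apply]
    rw [add_comm]
    congr 1
    subst hy
    clear h ih hz hξ
    induction y using TensorProduct.induction_on with
    | zero => simp
    | tmul x c =>
      rw [LinearMap.rTensor_tmul, LinearMap.rTensor_tmul, sliceL_assoc, sliceL_tmul, Submodule.coe_subtype,
        sliceL_coact_of_mem x.2 f hf, TensorProduct.smul_tmul]
    | add p q hp hq => simp only [map_add, hp, hq, TensorProduct.tmul_add]

/-- fixed vectors are those killed by the Lie algebra -/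
theorem mem_fixedPts_of_lie (hU : HopfRep.IsUnipotent k A) (v : W)
    (h : ∀ ξ : LieHopf.Lie k A, slice (LieHopf.dlin ξ) (HopfRep.Comod.coact (k := k) (A := A) v) = 0) :
    HopfRep.Comod.coact (k := k) (A := A) v = v ⊗ₜ[k] (1 : A) := by
  rw [← sub_eq_zero]
  refine cocycle_eq_zero hU _ ?_ fun ξ => by rw [map_sub, h ξ, slice_tmul, LieHopf.dlin_one, zero_smul, sub_zero]
  have hc := LinearMap.congr_fun (HopfRep.Comod.coassoc (k := k) (A := A) (V := W)) v
  simp only [LinearMap.comp_apply, LinearEquiv.coe_coe] at hc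
  have h1 : ∀ s : W ⊗[k] A, TensorProduct.assoc k W A A (s ⊗ₜ[k] (1 : A)) =
      ((TensorProduct.mk k A A).flip 1).lTensor W s := by
    intro s
    induction s using TensorProduct.induction_on with
    | zero => simp
    | tmul x d => simp
    | add x y hx hy => simp only [TensorProduct.add_tmul, map_add, hx, hy]
  simp only [map_sub, hc, LinearMap.lTensor_tmul, LinearMap.rTensor_tmul, h1, Bialgebra.comul_one,
    LinearMap.flip_apply, TensorProduct.mk_apply, Algebra.TensorProduct.one_def]
  abel

variable {W' : Type u} [AddCommGroup W'] [Module k W'] [HopfRep.Comod k A W']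

/-- a linear map commuting with the Lie algebra commutes with the group -/
theorem coact_comm_of_lie (hU : HopfRep.IsUnipotent k A) (e : W →ₗ[k] W')
    (h : ∀ (ξ : LieHopf.Lie k A) (x : W),
      slice (LieHopf.dlin ξ) (HopfRep.Comod.coact (k := k) (A := A) (e x)) =
        e (slice (LieHopf.dlin ξ) (HopfRep.Comod.coact (k := k) (A := A) x))) (x : W) :
    HopfRep.Comod.coact (k := k) (A := A) (e x) = e.rTensor A (HopfRep.Comod.coact (k := k) (A := A) x) := by
  let δ : W →ₗ[k] W' ⊗[k] A := HopfRep.Comod.coact (k := k) (A := A) ∘ₗ e -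
    e.rTensor A ∘ₗ HopfRep.Comod.coact (k := k) (A := A)
  suffices hδ : ∀ n, ∀ y ∈ fil k A W n, δ y = 0 by
    obtain ⟨n, hn⟩ := exists_mem_fil hU x
    exact sub_eq_zero.1 (hδ n x hn)
  intro n
  induction n with
  | zero => intro y hy; rw [(Submodule.mem_bot k).1 hy, map_zero]
  | succ n ih =>
    intro y hy
    have hkill : δ.rTensor A (HopfRep.Comod.coact (k := k) (A := A) y) = δ y ⊗ₜ[k] (1 : A) := by
      obtain ⟨u, hu⟩ := mem_fil_succ.1 hy
      have h0 : δ ∘ₗ (fil k A W n).subtype = 0 := LinearMap.ext fun z => ih z z.2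
      have := congrArg (δ.rTensor A) hu
      rw [← LinearMap.rTensor_comp_apply, h0, LinearMap.rTensor_zero, LinearMap.zero_apply, map_sub,
        LinearMap.rTensor_tmul, eq_comm, sub_eq_zero] at this
      exact this
    refine cocycle_eq_zero hU (δ y) ?_ fun ξ => ?_
    · have hc := LinearMap.congr_fun (HopfRep.Comod.coassoc (k := k) (A := A) (V := W)) y
      have hc' := LinearMap.congr_fun (HopfRep.Comod.coassoc (k := k) (A := A) (V := W')) (e y)
      simp only [LinearMap.comp_apply, LinearEquiv.coe_coe] at hc hc'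
      have hnat : ∀ s : (W ⊗[k] A) ⊗[k] A, e.rTensor (A ⊗[k] A) (TensorProduct.assoc k W A A s) =
          TensorProduct.assoc k W' A A ((e.rTensor A).rTensor A s) := by
        intro s
        induction s using TensorProduct.induction_on with
        | zero => simp
        | add p q hp hq => simp only [map_add, hp, hq]
        | tmul p c =>
          induction p using TensorProduct.induction_on with
          | zero => simp
          | tmul a b => simp
          | add p q hp hq => simp only [TensorProduct.add_tmul, map_add, hp, hq]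
      have hswap : (Coalgebra.comul (R := k) (A := A)).lTensor W'
          (e.rTensor A (HopfRep.Comod.coact (k := k) (A := A) y)) =
          e.rTensor (A ⊗[k] A) ((Coalgebra.comul (R := k) (A := A)).lTensor W
            (HopfRep.Comod.coact (k := k) (A := A) y)) := by
        induction HopfRep.Comod.coact (k := k) (A := A) y using TensorProduct.induction_on with
        | zero => simp
        | tmul a b => simp
        | add p q hp hq => simp only [map_add, hp, hq]
      have he : e.rTensor A ∘ₗ HopfRep.Comod.coact (k := k) (A := A) =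
          HopfRep.Comod.coact (k := k) (A := A) ∘ₗ e - δ := by simp [δ]
      have h1 : ∀ s : W' ⊗[k] A, TensorProduct.assoc k W' A A (s ⊗ₜ[k] (1 : A)) =
          ((TensorProduct.mk k A A).flip 1).lTensor W' s := by
        intro s
        induction s using TensorProduct.induction_on with
        | zero => simp
        | tmul a d => simp
        | add p q hp hq => simp only [TensorProduct.add_tmul, map_add, hp, hq]
      conv_lhs => simp only [δ, LinearMap.sub_apply, LinearMap.comp_apply, map_sub]
      rw [← hc', hswap, ← hc, hnat, ← LinearMap.rTensor_comp_apply, he, LinearMap.rTensor_sub,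
        LinearMap.sub_apply, map_sub, hkill, h1, LinearMap.rTensor_comp_apply]
      simp only [δ, LinearMap.sub_apply, LinearMap.comp_apply, map_sub]
      abel
    · simp only [δ, LinearMap.sub_apply, LinearMap.comp_apply, map_sub, slice_rTensor]
      rw [h, sub_self]

/-- a subspace stable under the Lie algebra is a subcomodule -/
theorem isSubcomod_of_lie (hU : HopfRep.IsUnipotent k A) (V : Submodule k W)
    (h : ∀ (ξ : LieHopf.Lie k A), ∀ v ∈ V, slice (LieHopf.dlin ξ) (HopfRep.Comod.coact (k := k) (A := A) v) ∈ V) :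
    IsSubcomod (k := k) (A := A) V := by
  intro v hv
  obtain ⟨N, hN⟩ := exists_mem_fil hU v
  let V' : Submodule k W := V ⊓ fil k A W N
  have hst : ∀ (ξ : LieHopf.Lie k A), ∀ w ∈ V',
      slice (LieHopf.dlin ξ) (HopfRep.Comod.coact (k := k) (A := A) w) ∈ V' :=
    fun ξ w hw => ⟨h ξ w hw.1, contract_mem (isSubcomod_fil N) _ hw.2⟩
  suffices hsub : ∀ j m, m + j = N → IsSubcomod (k := k) (A := A) (V' ⊔ fil k A W m) by
    have h0 := hsub N 0 (by omega)
    rw [show fil k A W 0 = ⊥ from rfl, sup_bot_eq] at h0
    exact (mem_range_iff_slice _ _).2 fun φ => (contract_mem h0 φ ⟨hv, hN⟩).1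
  intro j
  induction j with
  | zero =>
    intro m hm
    rw [add_zero] at hm
    subst hm
    rw [sup_eq_right.2 inf_le_right]
    exact isSubcomod_fil m
  | succ j ihj =>
    intro m hm
    have hnext := ihj (m + 1) (by omega)
    refine isSubcomod_iff.2 fun φ x hx => ?_
    obtain ⟨p, hp, q, hq, rfl⟩ := Submodule.mem_sup.1 hx
    rw [map_add]
    refine Submodule.add_mem _ ?_ (Submodule.mem_sup_right (contract_mem (isSubcomod_fil m) φ hq))
    refine slice_mem_of_mem_range φ (V' ⊔ fil k A W m) (x := HopfRep.Comod.coact (k := k) (A := A) p)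
      ((mem_range_iff_sliceL (V' ⊔ fil k A W m) (HopfRep.Comod.coact (k := k) (A := A) p)).2 fun f hf => ?_)
    have hfV : ∀ w ∈ V', f w = 0 := fun w hw => hf w (Submodule.mem_sup_left hw)
    have hfF : ∀ w ∈ fil k A W m, f w = 0 := fun w hw => hf w (Submodule.mem_sup_right hw)
    suffices key : ∀ i, ∀ w ∈ V', w ∈ fil k A W i → mc A f w = 0 from key N p hp hp.2
    intro i
    induction i with
    | zero => intro w _ hw; rw [(Submodule.mem_bot k).1 hw, map_zero]
    | succ i ihi =>
      intro w hwV hw
      have hD : ∀ y ∈ fil k A W i ⊓ (V' ⊔ fil k A W (m + 1)), mc A f y = f y • (1 : A) := by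
        intro y hy
        obtain ⟨hyi, hy⟩ := Submodule.mem_inf.1 hy
        rcases le_total i (m + 1) with hle | hle
        · exact sliceL_coact_of_mem (fil_mono hle hyi) f hfF
        · obtain ⟨a, ha, b, hb, rfl⟩ := Submodule.mem_sup.1 hy
          have hai : a ∈ fil k A W i := by
            have := Submodule.sub_mem _ hyi (fil_mono hle hb)
            rwa [add_sub_cancel_right] at this
          have hb' : mc A f b = f b • (1 : A) := sliceL_coact_of_mem hb f hfF
          rw [map_add, map_add, hb', ihi a ha hai, hfV a ha, zero_add, zero_add]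
      refine Primitive.eq_zero (comul_mc_of_mem _ f w (hfV w hwV) hD fun ψ => Submodule.mem_inf.2
        ⟨mem_fil_succ_iff.1 hw ψ, Submodule.sub_mem _ (contract_mem hnext ψ (Submodule.mem_sup_left hwV))
          (Submodule.smul_mem _ _ (Submodule.mem_sup_left hwV))⟩) fun ξ => ?_
      rw [mc, LinearMap.comp_apply, dlin_sliceL]
      exact hfV _ (hst ξ w hwV)

end Groth.Agent.Comod.UnipLie
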